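import Cfsg.Agent.Base
import Cfsg.Statements.S2064
import Cfsg.Agent.H72.Cent2

set_option autoImplicit false
open Cfsg

namespace Cfsg.Agent.S2064

open H72 MulAction
open scoped Pointwise

def u : ℕ := nat_lit 5858540332732579364789734734289463

def hs : List ℕ := [nat_lit 984818244535754528103549039458486304, nat_lit 983435072843990828779021698901151808, nat_lit 982051901153124072706648311500937312, nat_lit 969184212989482915311201746032266656, nat_lit 980668730378935070469623699575545984, nat_lit 973782968399780250007192978068752672, nat_lit 975166140090675008210365318152896768, nat_lit 962298451038133363011374430748423744, nat_lit 977903326592794432676351619257413824, nat_lit 965063883269089610517257152230401536, nat_lit 970567384681219435340729552166356352]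

theorem hin : AllIn M24 [gA, gQ, u] := allIn_M24 (by decide +kernel)

theorem hK : M24 = genBy [gA, gQ, u] :=
  eq_genBy_slp _ [(2, 2), (0, 0), (0, 0), (5, 0), (4, 4), (0, 0), (6, 0), (0, 0), (8, 0), (0, 0), (6, 0), (0, 7), (0, 2), (13, 15), (14, 0), (16, 0), (17, 0), (17, 0), (19, 0), (6, 0), (9, 10), (22, 22), (0, 0), (24, 0), (0, 0), (4, 0), (0, 22), (0, 17), (28, 12), (30, 0), (31, 0), (3, 0), (0, 0), (13, 0), (2, 0), (3, 0), (4, 0), (11, 12), (0, 28), (0, 14), (42, 26), (41, 0), (2, 0), (23, 23), (12, 0), (2, 0), (9, 0), (4, 4), (22, 38), (0, 24), (0, 25), (53, 35), (52, 0), (2, 0), (6, 0), (0, 35), (0, 0), (11, 11), (21, 0), (2, 0), (6, 6), (0, 18), (0, 8), (0, 9), (0, 10), (9, 0), (9, 1), (0, 9), (2, 0), (0, 3), (10, 23), (24, 0), (25, 0), (13, 0), (14, 0), (5, 0), (7, 8), (0, 9), (18, 12), (32, 0), (20, 0), (34, 0), (4, 0), (13, 17), (0, 16), (38, 11), (1, 0), (2, 21), (0, 14), (4, 21), (0, 18), (2, 0), (5, 9), (1, 0), (47, 26), (0, 29), (0, 28), (0, 31), (38, 27), (39, 0), (2, 0), (12, 0), (0, 13), (20, 16), (17, 0), (22, 0), (30, 0), (4, 0), (32, 25), (33,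 0), (4, 19), (10, 22), (0, 20), (5, 0), (0, 1), (21, 7), (8, 0)]
    [
  (23, [nat_lit 956302485175575353788796878166559809, nat_lit 5858540332732579364789734734289463]),
  (0, [nat_lit 963522212008466718274507422019463618, nat_lit 978067886388406388740727187628466573]),
  (1, [nat_lit 962299187768383339400670557596037696, nat_lit 969032254314191566684472095553064384]),
  (2, [nat_lit 974104952905886284855748043158560800, nat_lit 980196299889904938888484792109991968]),
  (3, [nat_lit 965221188096831045113969597922936864, nat_lit 962169125094743925107742869811365920, nat_lit 982210194077995055455057513613396000]),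
  (4, [nat_lit 972606645568131968584696805283956768, nat_lit 965128854020860192151391391390468128, nat_lit 964862721552653238424309835408443424]),
  (5, [nat_lit 976531636853126291160407323722221600])] hin (by decide +kernel) (by rw [card_M24]; decide +kernel)

theorem hle : M24 ≤ M24 := le_rfl

theorem hLx : AllIn M24 centA := allIn_M24 (by decide +kernel)

theorem key (α : MulAut M24) : ∃ g ∈ M24, ∃ h ∈ hs, valid h = true ∧
    ∀ y : M24, g * (α y : P24) * g⁻¹ = toPerm h * y * (toPerm h)⁻¹ :=
  aut_conj (p := 23) (m := 2) (n := 2) (Lq := centQ) (rels := [(6, 1, 6)]) (by norm_num)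
    (by rw [card_M24]; norm_num) hK hin hLx (fun c hc e => centA_spec c (hle hc) e)
    (fun c hc e => centQ_spec c hc e)
    (by decide +kernel) α

/-- The outer automorphism group of the Mathieu group M₂₄ (the automorphism group of the length-24 binary code) is trivial: every automorphism is inner. -/
theorem result : Nat.card (Cfsg.Out ↥Cfsg.M24) = 1 := by
  refine card_out_eq_one fun α => ?_
  obtain ⟨g, hg, h, hh, -, e⟩ := key α
  have : AllIn M24 hs := allIn_M24 (by decide +kernel)
  exact ⟨g, hg, _, (this h hh).2, e⟩

end Cfsg.Agent.S2064
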