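import Cfsg.Statements.S3764
import Cfsg.Agent.Base
import Cfsg.Agent.H22.HHExtra
import Cfsg.Agent.H78.XSMap

set_option autoImplicit false
open Cfsg

namespace Cfsg.Agent.S3764

/-- Let p, q, r be distinct primes and let X, Q, V be subgroups of a finite group with X of order r, Q an extraspecial q-group normalized by X with C_Q(X) = Z(Q), and V an elementary abelian p-group normalized by X and Q on which XQ acts faithfully ((X ⊔ Q) ∩ C(V) = 1). If C_V(X) = 1, then q = 2, r = 2^n + 1 for some n, and Q has order 2^(2n+1). -/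
theorem result {G : Type*} [Group G] [Finite G] {p q r : ℕ} (hp : p.Prime) (hq : q.Prime) (hr : r.Prime) (hpq : p ≠ q) (hpr : p ≠ r) (hqr : q ≠ r) (X Q V : Subgroup G) (hX : Nat.card X = r) (hQ : Cfsg.IsExtraspecial q ↥Q) (hXQ : X ≤ Subgroup.normalizer (Q : Set G)) (hCQ : Q ⊓ Subgroup.centralizer (X : Set G) = (Subgroup.center ↥Q).map Q.subtype) (hV : Cfsg.IsElementaryAbelian p V) (hXV : X ≤ Subgroup.normalizer (V : Set G)) (hQV : Q ≤ Subgroup.normalizer (V : Set G)) (hfaith : (X ⊔ Q) ⊓ Subgroup.centralizer (V : Set G) = ⊥) (hCV : V ⊓ Subgroup.centralizer (X : Set G) = ⊥) : q = 2 ∧ ∃ n : ℕ, r = 2 ^ n + 1 ∧ Nat.card Q = 2 ^ (2 * n + 1) := by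
  have := Fact.mk hp
  obtain ⟨x, rfl, hxo⟩ := H22.exists_zpowers_eq_of_card_prime hr X hX
  set H := Subgroup.normalizer (V : Set G)
  obtain ⟨W, _, _, _, ρ, ι, h1, h2, -⟩ := H22.exists_rep_elemAb V hV H le_rfl
  have hxH : x ∈ H := hXV (Subgroup.mem_zpowers x)
  let x' : H := ⟨x, hxH⟩
  have hxo' : orderOf x' = r := by rw [← hxo, ← Subgroup.orderOf_coe]
  have hfix : H22.fixSp ρ {x'} = ⊥ := by
    have := h2 {x'}
    rw [Set.image_singleton, ← H22.centralizer_zpowers_eq, hCV, Subgroup.card_bot] at this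
    have h3 := (Nat.pow_eq_one.1 this.symm).resolve_left hp.one_lt.ne'
    exact Submodule.finrank_eq_zero.1 h3
  let e : Q.subgroupOf H ≃* Q := Subgroup.subgroupOfEquivOfLe hQV
  have hQ' : Cfsg.IsExtraspecial q (Q.subgroupOf H) := H78.isExtraspecial_of_equiv e.symm hQ
  have hcen : ∀ t : Q.subgroupOf H, t ∈ Subgroup.center (Q.subgroupOf H) ↔
      ((t : H) : G) ∈ (Subgroup.center Q).map Q.subtype := by
    intro t
    constructor
    · intro ht
      refine ⟨e t, ?_, rfl⟩
      rw [SetLike.mem_coe, Subgroup.mem_center_iff] at *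
      intro s
      obtain ⟨s, rfl⟩ := e.surjective s
      rw [← map_mul, ← map_mul, ht]
    · rintro ⟨u, hu, hut⟩
      have : u = e t := Subtype.ext hut
      rw [SetLike.mem_coe, Subgroup.mem_center_iff] at *
      intro s
      apply e.injective
      rw [map_mul, map_mul, ← this, hu]
  obtain ⟨g0, g1⟩ := H22.natDegree_geom_sum_X (K := AlgebraicClosure (ZMod p)) r hr.pos
  obtain ⟨d, m, e1, e2, e3⟩ := H22.hh_extraspecial ρ hq
    (H22.natCast_ne_zero_algClosure (by rwa [Nat.prime_dvd_prime_iff_eq hp hq])) _ hQ'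
    (by
      have : Nontrivial (Subgroup.center (Q.subgroupOf H)) := by
        rw [← Finite.one_lt_card_iff_nontrivial, hQ'.2]; exact hq.one_lt
      obtain ⟨z, hz⟩ := exists_ne (1 : Subgroup.center (Q.subgroupOf H))
      refine ⟨z, z.2, fun h => hz ?_⟩
      have h3 : (z.1.1 : G) ∈ (Subgroup.zpowers x ⊔ Q) ⊓ Subgroup.centralizer (V : Set G) :=
        ⟨Subgroup.mem_sup_right z.1.2, (h1 _).1 h⟩
      rw [hfaith] at h3
      exact Subtype.ext (Subtype.ext (Subtype.ext h3)))
    x'
    (by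
      rw [Subgroup.mem_normalizer_iff]
      intro h
      exact (Subgroup.mem_normalizer_iff.1 (hXQ (Subgroup.mem_zpowers x))) h)
    (by rw [hxo']; exact (Nat.coprime_primes hr hq).2 hqr.symm)
    (by
      intro y hy hy1
      have := Fact.mk hr
      have h3 : Subgroup.zpowers y = Subgroup.zpowers x' := by
        refine Subgroup.eq_of_le_of_card_ge (Subgroup.zpowers_le.2 hy) ?_
        rw [Nat.card_zpowers, Nat.card_zpowers, hxo']
        have h4 : orderOf y ∣ r := hxo' ▸ orderOf_dvd_of_mem_zpowers hy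
        rcases (Nat.dvd_prime hr).1 h4 with h | h
        · exact absurd (orderOf_eq_one_iff.1 h) hy1
        · exact h.ge
      rw [← H22.centralizer_zpowers_eq, h3, H22.centralizer_zpowers_eq]
      ext t
      rw [H22.centralizer_zpowers_eq] at hCQ
      constructor
      · intro ht
        refine ⟨⟨t, ht.1⟩, (hcen _).2 ?_, rfl⟩
        rw [← hCQ]
        exact ⟨ht.1, Subgroup.mem_centralizer_singleton_iff.2 (congrArg Subtype.val
          (Subgroup.mem_centralizer_singleton_iff.1 ht.2))⟩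
      · rintro ⟨u, hu, rfl⟩
        have h5 := (hcen u).1 hu
        rw [← hCQ] at h5
        exact ⟨u.2, Subgroup.mem_centralizer_singleton_iff.2 (Subtype.ext
          (Subgroup.mem_centralizer_singleton_iff.1 h5.2))⟩)
    _ g0 (H22.aeval_geom_sum_eq_zero ρ x' r (by rw [← map_pow, ← hxo', pow_orderOf_eq_one, map_one])
      hfix)
  rw [hxo'] at e3
  have := Fact.mk hq
  obtain ⟨k, hk⟩ := IsPGroup.index hQ'.1.1 (Subgroup.center _)
  have hd2 : 2 ≤ d := by
    have h3 := H22.index_center_ne_one_of_isExtraspecial hq hQ'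
    have h4 := Subgroup.FiniteIndex.index_ne_zero (H := Subgroup.center (Q.subgroupOf H))
    rw [← e1] at h3 h4
    have h5 : d ≠ 0 := by rintro rfl; simp at h4
    have h6 : d ≠ 1 := by rintro rfl; simp at h3
    omega
  obtain ⟨h3, -⟩ := H22.hh_arith_lt r _ d m (by omega) hd2 e2 e3
  have h5 : d ∣ q ^ k := by rw [← hk, ← e1]; exact dvd_pow_self _ two_ne_zero
  obtain ⟨n, -, hn⟩ := (Nat.dvd_prime_pow hq).1 h5
  have hq2 : q = 2 := by
    by_contra h
    have h6 : Odd (q ^ n) := (hq.odd_of_ne_two h).pow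
    have h7 : r = 2 := hr.even_iff.1 (h3 ▸ hn ▸ h6.add_one)
    omega
  subst hq2
  refine ⟨rfl, n, by omega, ?_⟩
  rw [← Nat.card_congr e.toEquiv, H22.card_eq_of_isExtraspecial hQ', ← e1, hn]
  ring

end Cfsg.Agent.S3764
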