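import Cfsg.Statements.S2174
import Cfsg.Agent.H63.Inv4

set_option autoImplicit false
open Cfsg

namespace Cfsg.Agent.S2174

open Cfsg.Lie H63 H64 H65

def H : List (List ℕ × List ℕ × List ℕ) :=
  [([44, 29], [47, 44], [6]), ([47, 41], [47, 44], [18]), ([47, 44, 32], [44, 32], [42]), ([47,
    44, 37], [37, 47], [36]), ([37, 47, 42], [37, 47], [15]), ([44, 32, 36], [44, 32], [10])]

def C : List (List ℕ × List Mv) :=
  [([44], []),
  ([47], []),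
  ([44, 29], [.id 0]),
  ([44, 32], [.rf 34]),
  ([47, 37], [.pm [37, 47], .rf 26]),
  ([47, 41], [.id 1]),
  ([44, 29, 28], [.id 0, .pm [28, 44, 47], .rf 42, .rf 24, .id 0, .id 2, .rf 34]),
  ([44, 29, 30], [.id 0, .pm [30, 47, 44], .rf 36, .rf 33, .id 1, .id 3, .rf 26]),
  ([44, 32, 24], [.pm [32, 24, 44], .rf 42, .rf 41, .id 1, .pm [28, 44, 47], .rf 42, .rf 24, .id
    0, .id 2, .rf 34]),
  ([44, 32, 27], [.pm [44, 27, 32], .rf 26, .id 0, .pm [30, 47, 44], .rf 36, .rf 33, .id 1, .id 3,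
    .rf 26]),
  ([47, 37, 25], [.pm [47, 25, 37], .rf 34, .id 1, .pm [28, 44, 47], .rf 42, .rf 24, .id 0, .id 2,
    .rf 34]),
  ([47, 37, 33], [.pm [37, 33, 47], .rf 36, .rf 29, .id 0, .pm [30, 47, 44], .rf 36, .rf 33, .id
    1, .id 3, .rf 26]),
  ([47, 41, 28], [.id 1, .pm [28, 44, 47], .rf 42, .rf 24, .id 0, .id 2, .rf 34]),
  ([47, 41, 30], [.id 1, .pm [30, 47, 44], .rf 36, .rf 33, .id 1, .id 3, .rf 26]),
  ([44, 29, 28, 27], [.id 0, .pm [28, 44, 47, 27], .rf 42, .rf 24, .id 0, .pm [27, 44, 47, 32],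
    .rf 43, .rf 26, .id 0, .pm [30, 47, 44, 31], .rf 36, .rf 33, .id 1, .id 3, .id 4, .rf 26]),
  ([44, 29, 30, 25], [.id 0, .pm [30, 47, 44, 25], .rf 36, .rf 33, .id 1, .pm [25, 47, 44, 37],
    .rf 38, .rf 34, .id 1, .pm [28, 44, 47, 35], .rf 42, .rf 24, .id 0, .id 2, .id 5, .rf 34]),
  ([44, 32, 24, 27], [.pm [44, 27, 32, 24], .rf 26, .id 0, .pm [30, 47, 44, 22], .rf 36, .rf 33,
    .id 1, .pm [22, 47, 44, 37], .rf 39, .rf 35, .id 1, .pm [27, 44, 47, 34], .rf 43, .rf 26, .id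
    0, .rf 25, .id 2, .id 5, .rf 34]),
  ([47, 37, 25, 33], [.pm [37, 33, 47, 25], .rf 36, .rf 29, .id 0, .pm [30, 47, 44, 25], .rf 36,
    .rf 33, .id 1, .pm [25, 47, 44, 37], .rf 38, .rf 34, .id 1, .pm [28, 44, 47, 35], .rf 42, .rf
    24, .id 0, .id 2, .id 5, .rf 34]),
  ([47, 41, 28, 27], [.pm [28, 27, 47, 41], .rf 42, .rf 26, .id 0, .pm [30, 47, 44, 25], .rf 36,
    .rf 33, .id 1, .pm [25, 47, 44, 37], .rf 38, .rf 34, .id 1, .pm [28, 44, 47, 35], .rf 42, .rf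
    24, .id 0, .id 2, .id 5, .rf 34]),
  ([47, 41, 30, 25], [.id 1, .pm [30, 47, 44, 25], .rf 36, .rf 33, .id 1, .pm [25, 47, 44, 37],
    .rf 38, .rf 34, .id 1, .pm [28, 44, 47, 35], .rf 42, .rf 24, .id 0, .id 2, .id 5, .rf 34])]

def R : List (List ℕ × List ℕ) :=
  [([47], []), ([44], []), ([47, 44], []), ([39, 45], [40, 44, 46, 47])]

theorem c0 : ∀ i < chevF4.rank, ∀ s < chevF4.nroots, (chevF4.cartan i s).natAbs ≤ 2 := by
  decide +kernel

theorem c1 : ∀ A ∈ chs chevF4 chevF4.rank (List.range chevF4.rank),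
    A = [] ∨ ∃ e ∈ C, e.1.isPerm A := by decide +kernel

theorem c2 : ∀ e ∈ C, e.1.Pairwise (H68.cz chevF4 2 · ·) ∧
    ∃ B ∈ R, run chevF4 H e.2 e.1 = some B.1 := by decide +kernel

theorem c3 : ∀ B ∈ R, upc chevF4 B.1 B.2 ∧ B.1 ≠ [] ∧ B.1.Pairwise (H68.cz chevF4 2 · ·) := by
  decide +kernel

theorem c4 : R.Pairwise fun A B => noEmb chevF4 chevF4.isLong (A.1 ++ A.2)
    (par chevF4 B.1.reverse) B.1 [] := by decide +kernel

theorem hH {F : Type*} [Field F] [CharP F 2] : ∀ e ∈ H, (∀ r ∈ e.2.2, r < chevF4.nroots) ∧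
    chevF4.wordMat F ((e.2.2 ++ e.1).map (·, 1)) =
      chevF4.wordMat F ((e.2.1 ++ e.2.2).map (·, 1)) := by
  obtain ⟨_, _, _⟩ := of_mem (D := chevF4) (by simp)
  simp only [H, List.forall_mem_cons, List.not_mem_nil, false_imp_iff, implies_true, and_true]
  exact ⟨⟨by decide +kernel, eng1 packedF4 (by decide +kernel)⟩,
    ⟨by decide +kernel, eng1 packedF4 (by decide +kernel)⟩,
    ⟨by decide +kernel, eng1 packedF4 (by decide +kernel)⟩,
    ⟨by decide +kernel, eng1 packedF4 (by decide +kernel)⟩,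
    ⟨by decide +kernel, eng1 packedF4 (by decide +kernel)⟩,
    ⟨by decide +kernel, eng1 packedF4 (by decide +kernel)⟩⟩

/-- Conjugacy classes of involutions in the Chevalley group of type F₄ over a finite field F of characteristic two (the matrix group generated by the root elements x_r(t)). In this problem's root numbering for type F₄ (the Chevalley data module; fundamental roots p₁, p₂ short and p₃, p₄ long; roots indexed by their coefficient vectors in increasing order) let r = 47 be the highest root (2,4,3,2), s = 44 the highest short root (2,3,2,1), and α = 39 = (1,2,2,1), β = 45 = (2,4,2,1), an orthogonal short/long pair; consider the four elements x_r(1), x_s(1), x_r(1)x_s(1), x_α(1)x_β(1). Then: each invertible matrix equal to one of these four products lies in the group and has order 2; every element of order 2 of the group is conjugate in the group to one of them; and no two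 of them are conjugate in the group (so, the four matrices being distinct, the group has exactly four conjugacy classes of involutions). -/
theorem result {F : Type*} [Field F] [Fintype F] [CharP F 2] :
    (∀ y : GL Cfsg.Lie.chevF4.Idx F, ((y : GL Cfsg.Lie.chevF4.Idx F) : Matrix Cfsg.Lie.chevF4.Idx Cfsg.Lie.chevF4.Idx F) ∈ [Cfsg.Lie.chevF4.x F 47 1, Cfsg.Lie.chevF4.x F 44 1, Cfsg.Lie.chevF4.x F 47 1 * Cfsg.Lie.chevF4.x F 44 1, Cfsg.Lie.chevF4.x F 39 1 * Cfsg.Lie.chevF4.x F 45 1] → y ∈ Cfsg.Lie.chevF4.group F ∧ orderOf y = 2) ∧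
    (∀ g ∈ Cfsg.Lie.chevF4.group F, orderOf g = 2 → ∃ y ∈ Cfsg.Lie.chevF4.group F, ((y : GL Cfsg.Lie.chevF4.Idx F) : Matrix Cfsg.Lie.chevF4.Idx Cfsg.Lie.chevF4.Idx F) ∈ [Cfsg.Lie.chevF4.x F 47 1, Cfsg.Lie.chevF4.x F 44 1, Cfsg.Lie.chevF4.x F 47 1 * Cfsg.Lie.chevF4.x F 44 1, Cfsg.Lie.chevF4.x F 39 1 * Cfsg.Lie.chevF4.x F 45 1] ∧ ∃ h ∈ Cfsg.Lie.chevF4.group F, h * g * h⁻¹ = y) ∧
    (∀ y₁ ∈ Cfsg.Lie.chevF4.group F, ∀ y₂ ∈ Cfsg.Lie.chevF4.group F, ((y₁ : GL Cfsg.Lie.chevF4.Idx F) : Matrix Cfsg.Lie.chevF4.Idx Cfsg.Lie.chevF4.Idx F) ∈ [Cfsg.Lie.chevF4.x F 47 1, Cfsg.Lie.chevF4.x F 44 1, Cfsg.Lie.chevF4.x F 47 1 * Cfsg.Lie.chevF4.x F 44 1, Cfsg.Lie.chevF4.x F 39 1 * Cfsg.Lie.chevF4.x F 45 1] → ((y₂ : GL Cfsg.Lie.chevF4.Idx F) : Matrix Cfsg.Lie.chevF4.Idx Cfsg.Lie.chevF4.Idx F) ∈ [Cfsg.Lie.chevF4.x F 47 1, Cfsg.Lie.chevF4.x F 44 1, Cfsg.Lie.chevF4.x F 47 1 * Cfsg.Lie.chevF4.x F 44 1, Cfsg.Lie.chevF4.x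 F 39 1 * Cfsg.Lie.chevF4.x F 45 1] →
      (∃ h ∈ Cfsg.Lie.chevF4.group F, h * y₁ * h⁻¹ = y₂) → ((y₁ : GL Cfsg.Lie.chevF4.Idx F) : Matrix Cfsg.Lie.chevF4.Idx Cfsg.Lie.chevF4.Idx F) = ((y₂ : GL Cfsg.Lie.chevF4.Idx F) : Matrix Cfsg.Lie.chevF4.Idx Cfsg.Lie.chevF4.Idx F)) := by
  obtain ⟨_, _, _⟩ := of_mem (D := chevF4) (by simp)
  exact list_classes (R := R) (by simp [R, pr, x_eq_X, mul_assoc])
    (invol_classes one_ne_zero (cube_hyp c0) H C R (isLong_apply) hH c1 c2 c3 c4)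

end Cfsg.Agent.S2174
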