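import Cfsg.Statements.S0200
import Cfsg.Agent.Base
import Cfsg.Agent.H83.BaerSuzuki

set_option autoImplicit false
open Cfsg

namespace Cfsg.Agent.S0200

/-- An involution lying in no normal 2-subgroup of a finite group inverts a nontrivial element of odd order (a consequence of the Baer–Suzuki Theorem). -/
theorem result {G : Type*} [Group G] [Finite G] (t : G) (ht : orderOf t = 2) (hO : ∀ N : Subgroup G, N.Normal → IsPGroup 2 N → t ∉ N) : ∃ h : G, h ≠ 1 ∧ Odd (orderOf h) ∧ t * h * t⁻¹ = h⁻¹ := by
  obtain ⟨h, g, -, hp, h2, hinv⟩ := H83.exists_inverted_odd_prime (H83.mul_self_of_orderOf_two ht)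
    (fun hh => hO _ inferInstance hh (Subgroup.subset_normalClosure rfl))
  refine ⟨h, ?_, hp.odd_of_ne_two h2, hinv⟩
  rintro rfl
  simp only [orderOf_one] at hp
  exact Nat.not_prime_one hp

end Cfsg.Agent.S0200
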