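import Cfsg.Statements.S0519
import Cfsg.Agent.Base
import Cfsg.Agent.H3.NormalRankOne

set_option autoImplicit false
open Cfsg

namespace Cfsg.Agent.S0519

/-- Let P be a finite p-group in which every abelian normal subgroup is cyclic, but which has a non-cyclic abelian
subgroup. Then p = 2 and P is generalized quaternion, dihedral of order at least 16, or quasi-dihedral. -/
theorem result {P : Type*} [Group P] [Finite P] (p : ℕ) [Fact p.Prime]
    (hP : IsPGroup p P) (hn : ∀ A : Subgroup P, A.Normal → IsMulCommutative A → IsCyclic A)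
    (hm : ∃ B : Subgroup P, IsMulCommutative B ∧ ¬ IsCyclic B) :
    p = 2 ∧ ((∃ n : ℕ, Nonempty (P ≃* QuaternionGroup n)) ∨ (∃ n : ℕ, 8 ≤ n ∧ Nonempty (P ≃* DihedralGroup n)) ∨
      Cfsg.IsQuasiDihedral P) := by
  have hnc : ¬ IsCyclic P := by
    intro h
    obtain ⟨B, -, hB⟩ := hm
    exact hB inferInstance
  have hp : p = 2 := by
    by_contra hp
    exact hnc (H3.isCyclic_of_normal_abelian_cyclic_odd hp hP hn)
  subst hp
  refine ⟨rfl, ?_⟩
  obtain ⟨m, a, b, hcard, ho, hb, h | h | h⟩ := H3.classify_of_normal_abelian_cyclic_two hP hn hnc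
  · refine Or.inr (Or.inl ⟨2 ^ (m + 1), ?_,
      H3.nonempty_mulEquiv_dihedral_of_card ho h.2.1 h.2.2 hb (by rw [hcard]; ring)⟩)
    calc 8 = 2 ^ 3 := by norm_num
      _ ≤ 2 ^ (m + 1) := Nat.pow_le_pow_right (by norm_num) (by omega)
  · exact Or.inl ⟨2 ^ m, H3.nonempty_mulEquiv_quaternion_of_card (by rw [ho, pow_succ']) h.2.1
      h.2.2 hb (by rw [hcard]; ring)⟩
  · exact Or.inr (Or.inr ⟨m + 1, by omega, hcard, a, b, ho,
      orderOf_eq_prime h.2.1 (fun h1 => hb (h1 ▸ one_mem _)), h.2.2⟩)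

end Cfsg.Agent.S0519
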