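import Cfsg.Agent.Base
import Cfsg.Statements.S3380
import Cfsg.Agent.S0519
import Cfsg.Agent.H3.NonCyclic
import Cfsg.Agent.H9.PBasic

set_option autoImplicit false
open Cfsg

namespace Cfsg.Agent.S3380

open scoped commutatorElement in
theorem exists_pair {G : Type*} [Group G] [Finite G] {p : ℕ} [hp : Fact p.Prime] (hG : IsPGroup p G)
    (A : Subgroup G) [hA : A.Normal] (hc : IsMulCommutative A) (hn : ¬ IsCyclic A) :
    ∃ c a : G, c ∈ Subgroup.center G ∧ orderOf c = p ∧ a ^ p = 1 ∧ a ∉ Subgroup.zpowers c ∧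
      ∀ g, g * a * g⁻¹ * a⁻¹ ∈ Subgroup.zpowers c := by
  let E : Subgroup G :=
    { carrier := {x | x ∈ A ∧ x ^ p = 1}
      one_mem' := ⟨one_mem _, one_pow _⟩
      mul_mem' := fun {x y} hx hy => ⟨mul_mem hx.1 hy.1, by
        rw [Commute.mul_pow (setLike_mul_comm hx.1 hy.1), hx.2, hy.2, one_mul]⟩
      inv_mem' := fun {x} hx => ⟨inv_mem hx.1, by rw [inv_pow, hx.2, inv_one]⟩ }
  have hE : E.Normal := ⟨fun x hx g => ⟨hA.conj_mem x hx.1 g, by rw [conj_pow, hx.2]; simp⟩⟩
  obtain ⟨x, y, hx, hy, hxy⟩ := H3.exists_pair_of_comm_pgroup (hG.to_subgroup A) hn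
  have mE : ∀ x : A, orderOf x = p → (x : G) ∈ E := fun x hx =>
    ⟨x.2, by rw [← Subgroup.coe_pow, ← hx, pow_orderOf_eq_one, Subgroup.coe_one]⟩
  have hx1 : (x : G) ≠ 1 := fun e => hp.out.ne_one (by rw [← hx, show x = 1 from Subtype.ext e, orderOf_one])
  obtain ⟨c, hcE, hcZ, hco⟩ := H9.exists_mem_center_orderOf_eq hG (K := E)
    fun e => hx1 (Subgroup.mem_bot.1 (e ▸ mE x hx))
  have hlt : Subgroup.zpowers c < E := by
    refine lt_of_le_of_ne (Subgroup.zpowers_le.2 hcE) fun e => hxy ?_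
    have h1 := H3.eq_zpowers_of_card_eq_prime hp.out ((Nat.card_zpowers c).trans hco)
      (e.ge (mE x hx)) hx1
    obtain ⟨k, hk⟩ := h1.le (e.ge (mE y hy))
    exact ⟨k, Subtype.ext (by simpa using hk)⟩
  have : (Subgroup.zpowers c).Normal := ⟨fun x hx g => by
    rwa [Subgroup.mem_center_iff.1 (Subgroup.zpowers_le.2 hcZ hx) g, mul_inv_cancel_right]⟩
  obtain ⟨a, ha, h1, -, h2⟩ := H9.exists_central_step hG hlt.not_ge
  refine ⟨c, a, hcZ, hco, ha.2, h1, fun g => ?_⟩
  simpa [commutatorElement_def, mul_assoc] using inv_mem (h2 g)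

/-- Let a finite p-group G act faithfully and irreducibly on a non-trivial finite vector space V over the field with q elements (q prime), and suppose G is not cyclic, generalized quaternion, dihedral or semidihedral. Then G has a subgroup H of index p and V is the direct sum of p subspaces, each invariant under H, on none of which H acts faithfully, and which every element of G outside H permutes in a single p-cycle. -/
theorem result
    (q : ℕ) [Fact q.Prime] {V : Type*} [AddCommGroup V] [Module (ZMod q) V] [Finite V] [Nontrivial V]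
    {G : Type*} [Group G] [Finite G] (p : ℕ) [Fact p.Prime] (hG : IsPGroup p G)
    (ρ : G →* (V ≃ₗ[ZMod q] V)) (hρ : Function.Injective ρ)
    (hirr : ∀ W : Submodule (ZMod q) V, (∀ g : G, ∀ w ∈ W, ρ g w ∈ W) → W = ⊥ ∨ W = ⊤)
    (hnc : ¬ IsCyclic G) (hnq : ∀ n : ℕ, ¬ Nonempty (G ≃* QuaternionGroup n))
    (hnd : ∀ n : ℕ, ¬ Nonempty (G ≃* DihedralGroup n)) (hnsd : ¬ Cfsg.IsQuasiDihedral G) :
    ∃ (H : Subgroup G) (W : Fin p → Submodule (ZMod q) V), H.index = p ∧
      iSup W = ⊤ ∧ iSupIndep W ∧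
      (∀ h ∈ H, ∀ i, ∀ w ∈ W i, ρ h w ∈ W i) ∧
      (∀ i, ∃ h ∈ H, h ≠ 1 ∧ ∀ w ∈ W i, ρ h w = w) ∧
      ∀ g : G, g ∉ H → ∃ σ : Equiv.Perm (Fin p), orderOf σ = p ∧ ∀ i, (W i).map (ρ g : V →ₗ[ZMod q] V) = W (σ i) := by
  classical
  have hp : p.Prime := Fact.out
  have : NeZero p := ⟨hp.ne_zero⟩
  obtain ⟨A, hA, hc, hn⟩ : ∃ A : Subgroup G, A.Normal ∧ IsMulCommutative A ∧ ¬ IsCyclic A := by
    by_contra h
    push Not at h
    rcases H3.exists_pair_of_pgroup hG with h1 | ⟨-, n, h1⟩ | ⟨x, y, hx, hx', hy, hxy⟩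
    · exact hnc h1
    · exact hnq _ h1
    · have h2 := pow_orderOf_eq_one y
      rw [hy] at h2
      rcases (Cfsg.Agent.S0519.result p hG h ⟨_, (H3.isElementaryAbelian_sup_zpowers
        (Subgroup.mem_center_iff.1 hx y).symm (hx' ▸ pow_orderOf_eq_one x) h2).1,
        H3.not_isCyclic_of_pair (Subgroup.mem_sup_left (Subgroup.mem_zpowers x))
          (Subgroup.mem_sup_right (Subgroup.mem_zpowers y)) hx' h2 hxy⟩).2 with ⟨n, h⟩ | ⟨n, -, h⟩ | h
      exacts [hnq n h, hnd n h, hnsd h]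
  obtain ⟨c, a, hcZ, hco, hap, hac, hcomm⟩ := exists_pair hG A hc hn
  let C : G → Submodule (ZMod q) V := fun g => LinearMap.eqLocus (ρ g : V →ₗ[ZMod q] V) LinearMap.id
  have hC : ∀ g v, v ∈ C g ↔ ρ g v = v := fun g v => Iff.rfl
  have hm : ∀ g h v, ρ g (ρ h v) = ρ (g * h) v := fun g h v => by rw [map_mul]; rfl
  have hCm : ∀ g h v, v ∈ C h → ρ g v ∈ C (g * h * g⁻¹) := fun g h v hv => by
    rw [hC, hm, inv_mul_cancel_right, ← hm, (hC _ _).1 hv]
  have hZ : ∀ z ∈ Subgroup.center G, z ≠ 1 → ∀ v, ρ z v = v → v = 0 := by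
    intro z hz h1 v hv
    rcases hirr (C z) (fun g w hw => by
      have := hCm g z w hw
      rwa [Subgroup.mem_center_iff.1 hz g, mul_inv_cancel_right] at this) with h | h
    · exact (Submodule.mem_bot _).1 (h ▸ (hC z v).2 hv)
    · exact absurd (hρ (a₂ := 1) (by
        rw [map_one]; exact LinearEquiv.ext fun w => (hC z w).1 (h ▸ Submodule.mem_top))) h1
  have hc1 : ∀ k : ℕ, k < p → k ≠ 0 → c ^ k ≠ 1 := fun k h1 h2 => pow_ne_one_of_lt_orderOf h2 (hco ▸ h1)
  have hcc : ∀ g (k : ℕ), g * c ^ k = c ^ k * g := fun g k =>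
    Subgroup.mem_center_iff.1 (pow_mem hcZ k) g
  have hq : (p : ZMod q) ≠ 0 := by
    intro h
    obtain rfl : q = p := (Nat.prime_dvd_prime_iff_eq Fact.out hp).1 ((ZMod.natCast_eq_zero_iff p q).1 h)
    have : CharP (Module.End (ZMod q) V) q :=
      charP_of_injective_algebraMap (algebraMap (ZMod q) _).injective q
    have h1 := sub_pow_char_of_commute q (Commute.one_right (ρ c : Module.End (ZMod q) V))
    have h0 : (ρ c : Module.End (ZMod q) V) ^ q = 1 := by
      have := map_pow (LinearEquiv.automorphismGroup.toLinearMapMonoidHom.comp ρ) c q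
      rw [show c ^ q = 1 from hco ▸ pow_orderOf_eq_one c, map_one] at this
      exact this.symm
    rw [one_pow, h0, sub_self] at h1
    have h2 : Function.Injective (((ρ c : Module.End (ZMod q) V) - 1 : Module.End (ZMod q) V)) := by
      rw [injective_iff_map_eq_zero]
      intro v hv
      exact hZ c hcZ (by simpa using hc1 1 hp.one_lt one_ne_zero) v (sub_eq_zero.1 hv)
    obtain ⟨v, hv⟩ := exists_ne (0 : V)
    have h3 := Module.End.iterate_injective h2 q
    rw [h1] at h3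
    exact hv (h3 (by simp))
  let N : G → V →ₗ[ZMod q] V := fun x => ∑ j ∈ Finset.range p, (ρ (x ^ j) : V →ₗ[ZMod q] V)
  have hN : ∀ x v, N x v = ∑ j ∈ Finset.range p, ρ (x ^ j) v := fun x v => by simp [N]
  have hNC : ∀ x, x ^ p = 1 → ∀ v, N x v ∈ C x := fun x hx v => by
    have h1 := Finset.sum_range_succ (fun j => ρ (x ^ j) v) p
    rw [Finset.sum_range_succ', hx, pow_zero] at h1
    rw [hC, hN, map_sum, ← add_right_cancel h1]
    exact Finset.sum_congr rfl fun j _ => by rw [hm, pow_succ']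
  have hcp : c ^ p = 1 := hco ▸ pow_orderOf_eq_one c
  let b : Fin p → G := fun i => a * c ^ (i : ℕ)
  have hbj : ∀ i (j : ℕ), b i ^ j = a ^ j * (c ^ j) ^ (i : ℕ) := fun i j => by
    rw [Commute.mul_pow (hcc a i), ← pow_mul, ← pow_mul, mul_comm j]
  have hbp : ∀ i, b i ^ p = 1 := fun i => by rw [hbj, hap, hcp, one_pow, one_mul]
  have hsum : ∀ v, (p : ZMod q) • v = ∑ i, N (b i) v := fun v => by
    simp only [hN]
    rw [Finset.sum_comm, Finset.sum_eq_single 0]
    · simp [Nat.cast_smul_eq_nsmul]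
    · intro j hj hj0
      have h1 := hZ _ (pow_mem hcZ j) (hc1 j (Finset.mem_range.1 hj) hj0) _
        (hNC (c ^ j) (by rw [← pow_mul, mul_comm, pow_mul, hcp, one_pow]) v)
      rw [hN, Finset.sum_range] at h1
      simp only [hbj, ← hm]
      rw [← map_sum, h1, map_zero]
    · exact fun h => absurd (Finset.mem_range.2 hp.pos) h
  have htop : iSup (fun i => C (b i)) = ⊤ := by
    rw [eq_top_iff]
    intro v _
    rw [← one_smul (ZMod q) v, ← inv_mul_cancel₀ hq, mul_smul, hsum]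
    exact Submodule.smul_mem _ _ (Submodule.sum_mem _ fun i _ =>
      Submodule.mem_iSup_of_mem i (hNC _ (hbp i) v))
  have hbH : ∀ h ∈ Subgroup.centralizer {a}, ∀ i, h * b i * h⁻¹ = b i := fun h hh i => by
    simp only [b]
    rw [← mul_assoc, Subgroup.mem_centralizer_singleton_iff.1 hh, mul_assoc a, hcc,
      mul_assoc, mul_inv_cancel_right]
  have hb1 : ∀ i, b i ≠ 1 := fun i e => hac (by
    rw [eq_inv_of_mul_eq_one_left e]; exact inv_mem (pow_mem (Subgroup.mem_zpowers c) _))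
  have hbm : ∀ i, b i ∈ Subgroup.centralizer {a} := fun i =>
    Subgroup.mem_centralizer_singleton_iff.2 (by simp only [b]; rw [mul_assoc, hcc])
  refine ⟨Subgroup.centralizer {a}, fun i => C (b i), ?_, htop, fun i => ?_,
    fun h hh i w hw => by simpa only [hbH h hh i] using hCm h _ w hw, fun i => ⟨b i, hbm i, hb1 i, fun w hw => hw⟩,
    fun g hg => ?_⟩
  · have hcen : ∀ g x, x * (g * a * g⁻¹ * a⁻¹) = g * a * g⁻¹ * a⁻¹ * x := fun g =>
      Subgroup.mem_center_iff.1 (Subgroup.zpowers_le.2 hcZ (hcomm g))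
    let f : G →* G := MonoidHom.mk' (fun g => g * a * g⁻¹ * a⁻¹) fun g h => by
      calc g * h * a * (g * h)⁻¹ * a⁻¹ = g * (h * a * h⁻¹ * a⁻¹) * (a * g⁻¹ * a⁻¹) := by group
        _ = _ := by rw [mul_assoc, ← hcen h]; group
    have h1 : f.ker = Subgroup.centralizer {a} := by
      ext g
      rw [MonoidHom.mem_ker, Subgroup.mem_centralizer_singleton_iff, ← mul_inv_eq_iff_eq_mul,
        ← mul_inv_eq_one (b := a)]
      rfl
    have h2 : Nat.card f.range ∣ p := by
      rw [← hco, ← Nat.card_zpowers]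
      exact Subgroup.card_dvd_of_le (by rintro _ ⟨g, rfl⟩; exact hcomm g)
    rw [← h1, Subgroup.index_ker]
    refine ((Nat.dvd_prime hp).1 h2).resolve_left fun e => ?_
    rw [← Subgroup.index_ker, h1, Subgroup.index_eq_one] at e
    obtain ⟨v, hv⟩ := exists_ne (0 : V)
    refine hv ((smul_eq_zero.1 ?_).resolve_left hq)
    rw [hsum]
    exact Finset.sum_eq_zero fun i _ => hZ (b i) (Subgroup.mem_center_iff.2 fun g =>
      mul_inv_eq_iff_eq_mul.1 (hbH g (e ▸ Subgroup.mem_top g) i)) (hb1 i) _ (hNC _ (hbp i) v)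
  · have h1 : (⨆ j, ⨆ (_ : j ≠ i), C (b j)) ≤ LinearMap.ker (N (b i)) := by
      refine iSup₂_le fun j hj w hw => ?_
      have h2 : ρ (b j) (N (b i) w) = N (b i) w := by
        rw [hN, map_sum]
        refine Finset.sum_congr rfl fun k _ => ?_
        have h3 : Commute (b j) (b i) := mul_inv_eq_iff_eq_mul.1 (hbH _ (hbm j) i)
        rw [hm, (h3.pow_right k).eq, ← hm, (hC _ _).1 hw]
      refine hZ ((b i)⁻¹ * b j) ?_ (fun e => hj (Fin.ext ?_)) _ ?_
      · rw [show (b i)⁻¹ * b j = (c ^ (i : ℕ))⁻¹ * c ^ (j : ℕ) by simp only [b]; group]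
        exact mul_mem (inv_mem (pow_mem hcZ _)) (pow_mem hcZ _)
      · exact (pow_injOn_Iio_orderOf (hco ▸ i.2) (hco ▸ j.2)
          (mul_left_cancel (inv_mul_eq_one.1 e))).symm
      · rw [← hm, h2]
        conv_lhs => rw [← (hC _ _).1 (hNC _ (hbp i) w), hm, inv_mul_cancel, map_one]
        rfl
    rw [Submodule.disjoint_def]
    intro w hw hw'
    have h2 : N (b i) w = 0 := h1 hw'
    have h3 : ∀ k : ℕ, ρ (b i ^ k) w = w := fun k => by
      induction k with
      | zero => simp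
      | succ k ih => rw [pow_succ, ← hm, (hC _ _).1 hw, ih]
    simp only [hN, h3, Finset.sum_const, Finset.card_range, ← Nat.cast_smul_eq_nsmul (ZMod q)] at h2
    exact (smul_eq_zero.1 h2).resolve_left hq
  · obtain ⟨k, hk, e⟩ := Finset.mem_image.1 (mem_zpowers_iff_mem_range_orderOf.1 (hcomm g))
    rw [Finset.mem_range, hco] at hk
    have h1 : ∀ i, g * b i * g⁻¹ = b (i + ⟨k, hk⟩) := fun i => by
      simp only [b]
      have h0 := pow_mod_orderOf c (i + k)
      rw [hco] at h0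
      rw [Fin.val_add, h0, add_comm, pow_add, ← mul_assoc a, hcc a k, e,
        inv_mul_cancel_right, mul_assoc (g * a), hcc g⁻¹, mul_assoc g a, mul_assoc, mul_assoc]
    refine ⟨Equiv.addRight ⟨k, hk⟩, orderOf_eq_prime ?_ fun h => hg ?_, fun i => ?_⟩
    · have h0 : Fintype.card (Fin p) • (⟨k, hk⟩ : Fin p) = 0 := card_nsmul_eq_zero
      rw [Fintype.card_fin] at h0
      simp [h0]
    · have h2 : (0 : Fin p) + ⟨k, hk⟩ = 0 := DFunLike.congr_fun h 0
      have h3 := h1 0
      rw [h2] at h3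
      simpa [b, Subgroup.mem_centralizer_singleton_iff, mul_inv_eq_iff_eq_mul] using h3
    · refine le_antisymm ?_ fun w hw => ⟨ρ g⁻¹ w, ?_, ?_⟩
      · rintro _ ⟨w, hw, rfl⟩
        exact (h1 i ▸ hCm g _ w hw : ρ g w ∈ C (b (i + ⟨k, hk⟩)))
      · have := hCm g⁻¹ _ w hw
        rw [Equiv.coe_addRight, ← h1] at this
        simpa [mul_assoc] using this
      · simp

end Cfsg.Agent.S3380
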