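import Cfsg.Statements.S3126
import Cfsg.Agent.H51.R2Red
import Cfsg.Agent.H51.R2J2
import Cfsg.Agent.H52.R2T
import Cfsg.Agent.H52.R2C
import Cfsg.Agent.H1.R2One
import Cfsg.Agent.H1.R2F
import Cfsg.Agent.H70.R2S
import Cfsg.Agent.H70.R2L
import Cfsg.Agent.H92.R2U
import Cfsg.Agent.H9.RtD
import Cfsg.Agent.H9.RtE
import Cfsg.Agent.H26.R2H1
import Cfsg.Agent.H26.R2H2

set_option autoImplicit false
open Cfsg

namespace Cfsg.Agent.S3126

/-- Let G be a finite group with trivial centre and no nontrivial normal subgroup of odd order, generated by a conjugacy class D of involutions such that (a) for each x ∈ D the subgroup generated by the members of D commuting with x is a 2-group of nilpotency class at most 2, and (b) the product of any two distinct commuting members of D lies in D. Then G is isomorphic to one of: a projective special linear group of dimension 2 or 3, a projective special unitary group of dimension 3, a Suzuki group, or a triality-twisted group of type ³D₄, each over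 a field of characteristic 2; the Chevalley group of type G₂ over a field with 2^n elements, n > 1; the alternating group of degree 6; the projective special unitary group PSU₃(3) (q = 3, realised over the field with 9 elements); or the second Janko group. -/
theorem result {G : Type*} [Group G] [Finite G] (hZ : Subgroup.center G = ⊥) (hO : Cfsg.oddCore G = ⊥)
    (x₀ : G) (hx₀ : orderOf x₀ = 2) (hgen : Subgroup.closure {y : G | IsConj x₀ y} = ⊤)
    (ha : ∀ x : G, IsConj x₀ x → IsPGroup 2 ↥(Subgroup.closure {y : G | IsConj x₀ y ∧ Commute y x}) ∧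
      ⁅⁅Subgroup.closure {y : G | IsConj x₀ y ∧ Commute y x}, Subgroup.closure {y : G | IsConj x₀ y ∧ Commute y x}⁆,
        Subgroup.closure {y : G | IsConj x₀ y ∧ Commute y x}⁆ = ⊥)
    (hb : ∀ x y : G, IsConj x₀ x → IsConj x₀ y → x ≠ y → Commute x y → IsConj x₀ (x * y)) :
    (∃ (F : Type) (_ : Field F) (_ : Fintype F), ringChar F = 2 ∧
        (Nonempty (G ≃* Matrix.ProjectiveSpecialLinearGroup (Fin 2) F) ∨ Nonempty (G ≃* Matrix.ProjectiveSpecialLinearGroup (Fin 3) F))) ∨
      (∃ (F : Type) (_ : Field F) (_ : Fintype F) (q : ℕ), Even q ∧ Fintype.card F = q ^ 2 ∧ Nonempty (G ≃* Cfsg.PSU 3 F q)) ∨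
      Cfsg.Lie.IsoSuzuki G ∨
      (∃ (K : Type) (_ : Field K) (_ : Fintype K) (q : ℕ), Even q ∧ Fintype.card K = q ^ 3 ∧ Nonempty (G ≃* ↥(Cfsg.Lie.twistedD4 K q))) ∨
      (∃ (F : Type) (_ : Field F) (_ : Fintype F) (n : ℕ), 1 < n ∧ Fintype.card F = 2 ^ n ∧ Nonempty (G ≃* ↥(Cfsg.Lie.chevG2.group F))) ∨
      Nonempty (G ≃* ↥(alternatingGroup (Fin 6))) ∨
      (∃ (F : Type) (_ : Field F) (_ : Fintype F), Fintype.card F = 9 ∧ Nonempty (G ≃* Cfsg.PSU 3 F 3)) ∨ Cfsg.Spor.IsoJ2 G :=
  (H51.R2.red hZ hO x₀ hx₀ hgen ha hb).elim id (H51.R2.main H51.R2.jobA H51.R2.jobB H52.R2C.jobC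
    H52.R2T.jobT H1.R2.job1 H1.R2.job12 H70.R2.jobS H70.R2.jobL H9.RtD.jobD H9.RtE.jobE H9.RtE.jobI
    H92.R2.jobU H51.R2.jobJ H1.R2.jobF H26.R2.jobH1 H26.R2.jobH2)

end Cfsg.Agent.S3126
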