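import Cfsg.Statements.S0054
import Cfsg.Agent.H2.MinNormal
import Cfsg.Agent.H90.Trans

set_option autoImplicit false
open Cfsg

namespace Cfsg.Agent.S0054

/-- A regular normal subgroup of a finite 2-transitive group is elementary abelian: it is commutative and all its elements have order dividing one prime. -/
theorem result {G : Type*} [Group G] [Finite G]
    {X : Type*} [Nonempty X] [MulAction G X] (h2 : MulAction.IsMultiplyPretransitive G X 2)
    (N : Subgroup G) [N.Normal] (htrans : MulAction.IsPretransitive N X) (hreg : ∀ x : X, MulAction.stabilizer N x = ⊥) :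
    IsMulCommutative N ∧ ∃ p : ℕ, p.Prime ∧ ∀ n ∈ N, n ^ p = 1 := by
  obtain ⟨x⟩ := ‹Nonempty X›
  have hfix : ∀ n ∈ N, n • x = x → n = 1 := by
    intro n hn h
    have : (⟨n, hn⟩ : N) ∈ MulAction.stabilizer N x := h
    rw [hreg x, Subgroup.mem_bot] at this
    exact congrArg Subtype.val this
  have hconj : ∀ n ∈ N, ∀ m ∈ N, n ≠ 1 → m ≠ 1 → ∃ g : G, g * n * g⁻¹ = m := by
    intro n hn m hm hn1 hm1
    obtain ⟨g, hg1, hg2⟩ := H90.two_trans h2 (a := x) (b := n • x) (c := x) (d := m • x)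
      (fun h => hn1 (hfix n hn h.symm)) (fun h => hm1 (hfix m hm h.symm))
    refine ⟨g, ?_⟩
    have h3 : m⁻¹ * (g * n * g⁻¹) = 1 := by
      apply hfix _ (N.mul_mem (N.inv_mem hm) (Subgroup.Normal.conj_mem inferInstance n hn g))
      have : g⁻¹ • x = x := by rw [inv_smul_eq_iff, hg1]
      rw [mul_smul, mul_smul, mul_smul, this, hg2, inv_smul_smul]
    exact (inv_mul_eq_one.mp h3).symm
  by_cases hN : N = ⊥
  · subst hN
    exact ⟨inferInstance, 2, Nat.prime_two, fun n hn => by rw [Subgroup.mem_bot.mp hn, one_pow]⟩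
  have hmin : ∀ K : Subgroup G, K.Normal → K ≤ N → K = ⊥ ∨ K = N := by
    intro K hK hle
    by_cases hb : K = ⊥
    · exact Or.inl hb
    · refine Or.inr (le_antisymm hle fun m hm => ?_)
      obtain ⟨⟨n, hn⟩, hn1⟩ := Subgroup.ne_bot_iff_exists_ne_one.mp hb
      by_cases hm1 : m = 1
      · rw [hm1]; exact K.one_mem
      · obtain ⟨g, rfl⟩ := hconj n (hle hn) m hm (fun h => hn1 (Subtype.ext h)) hm1
        exact hK.conj_mem n hn g
  obtain ⟨p, hp, hd⟩ := Nat.exists_prime_and_dvd (mt Subgroup.card_eq_one.mp hN)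
  have := Fact.mk hp
  obtain ⟨y, hy⟩ := exists_prime_orderOf_dvd_card' (G := N) p hd
  have hy1 : (y : G) ≠ 1 := by
    intro h
    rw [show y = 1 from Subtype.ext h, orderOf_one] at hy
    exact hp.one_lt.ne hy
  have hyp : (y : G) ^ p = 1 := by
    rw [← Subgroup.coe_pow, ← hy, pow_orderOf_eq_one, Subgroup.coe_one]
  have hpow : ∀ n ∈ N, n ^ p = 1 := by
    intro m hm
    by_cases hm1 : m = 1
    · rw [hm1, one_pow]
    · obtain ⟨g, rfl⟩ := hconj y y.2 m hm hy1 hm1
      rw [conj_pow, hyp, mul_one, mul_inv_cancel]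
  have hP : IsPGroup p N := fun n => ⟨1, Subtype.ext (by simpa using hpow n n.2)⟩
  exact ⟨(H2.isElementaryAbelian_of_minimal_normal hP hmin).1, p, hp, hpow⟩

end Cfsg.Agent.S0054
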