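import Cfsg.Statements.S1258
import Cfsg.Agent.H14.Quasi

set_option autoImplicit false
open Cfsg

namespace Cfsg.Agent.S1258

/-- If the central quotient of a finite group X is non-abelian simple, then X = X' Z(X) and the commutator subgroup X' is quasisimple. -/
theorem result {X : Type*} [Group X] [Finite X] (hs : IsSimpleGroup (X ⧸ Subgroup.center X)) (hna : ¬ IsMulCommutative (X ⧸ Subgroup.center X)) : commutator X ⊔ Subgroup.center X = ⊤ ∧ Cfsg.IsQuasisimple ↥(commutator X) := by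
  have hq : IsQuasisimple (X ⧸ Subgroup.center X) := H14.quasi_of_simple hna
  have hmap : (commutator X).map (QuotientGroup.mk' (Subgroup.center X)) = ⊤ := by
    rw [commutator_def, Subgroup.map_commutator,
      Subgroup.map_top_of_surjective _ (QuotientGroup.mk'_surjective _)]
    exact hq.1.commutator_eq_top
  have h1 : commutator X ⊔ Subgroup.center X = ⊤ := by
    have := congrArg (Subgroup.comap (QuotientGroup.mk' (Subgroup.center X))) hmap
    rwa [Subgroup.comap_map_eq, QuotientGroup.ker_mk', Subgroup.comap_top] at this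
  refine ⟨h1, H14.quasi_of_map (QuotientGroup.mk' (Subgroup.center X)) ?_ ?_ ?_⟩
  · refine le_antisymm (Subgroup.commutator_le_self _) ?_
    rw [commutator_def, Subgroup.commutator_le]
    intro a _ b _
    have ha : a ∈ ((commutator X ⊔ Subgroup.center X : Subgroup X) : Set X) := by
      rw [h1]; trivial
    have hb : b ∈ ((commutator X ⊔ Subgroup.center X : Subgroup X) : Set X) := by
      rw [h1]; trivial
    rw [Subgroup.mul_normal] at ha hb
    obtain ⟨a1, ha1, a2, ha2, rfl⟩ := ha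
    obtain ⟨b1, hb1, b2, hb2, rfl⟩ := hb
    have e : (a1 * a2) * (b1 * b2) * (a1 * a2)⁻¹ * (b1 * b2)⁻¹ = a1 * b1 * a1⁻¹ * b1⁻¹ := by
      have h1 := Subgroup.mem_center_iff.mp ha2
      have h2 := Subgroup.mem_center_iff.mp hb2
      simp only [mul_inv_rev]
      calc a1 * a2 * (b1 * b2) * (a2⁻¹ * a1⁻¹) * (b2⁻¹ * b1⁻¹)
          = a1 * (a2 * (b1 * b2)) * a2⁻¹ * a1⁻¹ * b2⁻¹ * b1⁻¹ := by group
        _ = a1 * ((b1 * b2) * a2) * a2⁻¹ * a1⁻¹ * b2⁻¹ * b1⁻¹ := by rw [h1]
        _ = a1 * b1 * (b2 * a1⁻¹) * b2⁻¹ * b1⁻¹ := by group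
        _ = a1 * b1 * (a1⁻¹ * b2) * b2⁻¹ * b1⁻¹ := by rw [h2]
        _ = a1 * b1 * a1⁻¹ * b1⁻¹ := by group
    have := Subgroup.commutator_mem_commutator ha1 hb1
    rw [commutatorElement_def] at this ⊢
    change (a1 * a2) * (b1 * b2) * (a1 * a2)⁻¹ * (b1 * b2)⁻¹ ∈ _
    rw [e]; exact this
  · rw [QuotientGroup.ker_mk']
    exact H14.commutator_eq_bot_mono (Subgroup.commutator_center_left (H := commutator X))
      inf_le_left le_rfl
  · rw [hmap]; exact H14.quasi_top_iff.mpr hq

end Cfsg.Agent.S1258
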