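import Cfsg.Statements.S0981
import Cfsg.Agent.S0999
import Cfsg.Agent.H88.Moebius
import Cfsg.Agent.H55.Basic

set_option autoImplicit false
open Cfsg

namespace Cfsg.Agent.S0981

/-- A simple group of order 4080 is isomorphic to the projective special linear group of dimension 2 over the field with 16 elements. -/
theorem result {G : Type*} [Group G] [Finite G] [IsSimpleGroup G] (h : Nat.card G = 4080) {F : Type*} [Field F] [Fintype F] (hF : Fintype.card F = 16) : Nonempty (G ≃* Matrix.ProjectiveSpecialLinearGroup (Fin 2) F) := by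
  have hc := H87.not_isCyclic_of_nonabelian
    (H87.nonabelian_of_card_not_prime (G := G) (by rw [h]; norm_num))
  rcases Cfsg.Agent.S0999.result hc 17 (by norm_num) (by rw [h]; norm_num) (by rw [h]; norm_num) with
    ⟨K, _, _, h4, -, ⟨f⟩⟩ | ⟨m, K, _, _, h4, h5, -, ⟨f⟩⟩
  · have := H88.two_mul_card_psl_two (F := K) (by rw [h4]; decide)
    rw [← Nat.card_congr f.toEquiv, h, h4] at this
    norm_num at this
  · exact ⟨f.trans (H55.pslCongr (FiniteField.ringEquivOfCardEq (by omega)))⟩

end Cfsg.Agent.S0981
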