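import Cfsg.Statements.S2480
import Cfsg.Agent.H53.CGL

set_option autoImplicit false
open Cfsg

namespace Cfsg.Agent.S2480

/-- The number of conjugacy classes of PSL(n,q): for F a finite field with q elements, n ≥ 2 and d = gcd(n, q − 1), the number k of conjugacy classes of PSL(n,F) satisfies q^(n−1) ≤ d·k ≤ q^(n−1) + 5q^(n−2). -/
theorem result {F : Type*} [Field F] [Fintype F] (n : ℕ) (hn : 2 ≤ n) :
    Fintype.card F ^ (n - 1) ≤ Nat.gcd n (Fintype.card F - 1) * Nat.card (ConjClasses (Matrix.ProjectiveSpecialLinearGroup (Fin n) F)) ∧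
      Nat.gcd n (Fintype.card F - 1) * Nat.card (ConjClasses (Matrix.ProjectiveSpecialLinearGroup (Fin n) F)) ≤ Fintype.card F ^ (n - 1) + 5 * Fintype.card F ^ (n - 2) := by
  rw [← Nat.card_eq_fintype_card]
  have : Nonempty (Fin n) := ⟨⟨0, by omega⟩⟩
  have h1 := H57.card_center_sl (ι := Fin n) (F := F)
  rw [Fintype.card_fin] at h1
  refine ⟨(H53.lt_card_sl hn).le.trans (h1 ▸ H53.card_classes_le_mul _ le_rfl), ?_⟩
  obtain ⟨α, hα⟩ := Nat.exists_eq_add_one_of_ne_zero (Nat.card_pos (α := F)).ne'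
  have h0 : 0 < α := by have := Finite.one_lt_card (α := F); omega
  rw [hα, Nat.add_sub_cancel]
  refine Nat.le_of_mul_le_mul_left ?_ h0
  rcases hn.lt_or_eq with h | rfl
  · refine (H53.card_psl_le (by omega) hα fun e he => H53.SB_two h0 he h).trans ?_
    have h2 := Nat.mul_le_mul_right (2 * (α + 1) ^ (n - 2))
      ((Nat.sub_le _ 1).trans (Nat.gcd_le_right n h0))
    nlinarith [H53.SB_one h0 h]
  · refine (H53.card_psl_le two_pos hα fun e he => H53.SB_two_two he).trans ?_
    have h2 := Nat.mul_le_mul_right α (Nat.sub_le_sub_right (Nat.gcd_le_left α two_pos) 1)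
    have h3 := H53.SB_one_two h0
    split_ifs at h3 <;> simp at h2 ⊢ <;> nlinarith

end Cfsg.Agent.S2480
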