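import Cfsg.Statements.S5110
import Cfsg.Agent.H93.Bcglo
import Cfsg.Agent.H93.Wrap

set_option autoImplicit false
open Cfsg

namespace Cfsg.Agent.S5110

/-- Saturation criterion: let F be a fusion system over a finite p-group S and H a family of subgroups of S closed under conjugacy in F, such that every conjugacy class inside H contains a fully automized receptive member, F is the smallest fusion system over S containing all its maps with source in H, and every centric subgroup outside H is conjugate in F to some P for which Aut_S(P) ∩ O_p(Aut_F(P)) is not contained in Inn(P). Then F is saturated. -/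
theorem result {Ω : Type*} [Group Ω] {S : Subgroup Ω} [Finite S] (p : ℕ) [Fact p.Prime] (hS : IsPGroup p S) (F : Cfsg.FusionSystem S) (ℋ : Set (Subgroup Ω)) (hℋS : ∀ P ∈ ℋ, P ≤ S) (hℋconj : ∀ P ∈ ℋ, ∀ Q, F.IsConj P Q → Q ∈ ℋ) (hsat : ∀ P ∈ ℋ, ∃ Q, F.IsConj P Q ∧ F.IsFullyAutomized p Q ∧ F.IsReceptive Q) (hgen : ∀ E : Cfsg.FusionSystem S, (∀ P ∈ ℋ, F.Hom P ⊆ E.Hom P) → F ≤ E) (hstar : ∀ P : Subgroup Ω, F.IsCentric P → P ∉ ℋ → ∃ Q, F.IsConj P Q ∧ ¬ (Cfsg.autInducedBy S Q ⊓ (Cfsg.pCore p ↥(F.autGroup Q)).map (F.autGroup Q).subtype ≤ Cfsg.Inn Q)) : F.IsSaturated p := by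
  obtain ⟨a, b, S', hi, hA⟩ := H93.exists_good S
  obtain ⟨F', h⟩ := hi.exists_tr F
  have hG : H93.GA p S' := ⟨hA, hi.isPGroup hS⟩
  refine h.symm.isSaturated (hG.satA_of_classes (fun P => P ≤ S' ∧ H92.img P b ∈ ℋ) ?_ ?_ ?_ ?_).sat
  · exact fun P g hg hP => ⟨hg.cj_le, hℋconj _ hP.2 _ (h.symm.isConj hg.isConj)⟩
  · intro E' hE'
    obtain ⟨E, k⟩ := hi.symm.exists_tr E'
    have h1 : F' ≤ E' := k.symm.le_of_le h (hgen E fun P hP => H92.hom_subset_iff.2 fun f hf => by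
      obtain ⟨g, hg, e⟩ := hA.mor (h.fwd P f hf)
      have h2 := (H93.mor_iff_M e).2 (hE' _ g hg ⟨hg.le, by rwa [hi.img_img hf.le]⟩)
      exact (k.symm.mor_iff hf.le (fun x hx => hf.mem hx) fun x hx => by
        rw [hi.b_a x (hf.le hx)]).1 h2)
    exact fun Q g hg => H92.Mor.of_le h1 hg
  · intro P hP h0 _
    obtain ⟨Q, h1, h2, h3⟩ := hsat _ hP.2
    have := h.isConj h1
    rw [hi.symm.img_img hP.1] at this
    exact ⟨_, this, h.isFullyAutomized h2, h.isReceptive h3⟩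
  · intro P hP hn
    by_cases hc : F'.IsCentric P
    · obtain ⟨Q, h1, h2⟩ := hstar _ (h.symm.isCentric hc) fun h => hn ⟨hP, h⟩
      have h3 := h.isConj h1
      rw [hi.symm.img_img hP] at h3
      obtain ⟨g, hg, e⟩ := hA.isConj_iff.1 h3
      have hQ := H92.isConj_le_right h1
      refine ⟨g, hg, fun h4 => h2 fun α hα => ?_⟩
      rw [e] at h4
      have h5 := (hi.tr_mem_autInducedBy_iff hQ rfl le_rfl).2 hα.1
      obtain ⟨s, hs, e'⟩ := H92.mem_autInducedBy.1 h5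
      rw [hi.img_top] at hs
      have h6 : hi.tr hQ rfl α ∈ Cfsg.pCoreOf p (F'.autGroup (H92.img Q a)) := by
        rw [← h.map_tr_autGroup hQ rfl, ← H92.pCoreOf_map_equiv]
        exact ⟨α, hα.2, rfl⟩
      rw [H92.Inn_eq, ← hi.tr_mem_autInducedBy_iff hQ rfl hQ]
      exact H92.mem_autInducedBy.2 ⟨s, h4 ⟨hs, (H93.mem_lift_iff e').2 h6⟩, e'⟩
    · rw [hA.centric_iff] at hc
      push Not at hc
      obtain ⟨g, hg, h1⟩ := hc hP
      exact ⟨g, hg, fun h2 => h1 ((inf_le_inf_left _ (H93.Ct_le_OpA _ _)).trans h2)⟩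

end Cfsg.Agent.S5110
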