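import Cfsg.Statements.S5293
import Cfsg.Agent.H92.Cent2

set_option autoImplicit false
open Cfsg

namespace Cfsg.Agent.S5293
open H92 H93 Cfsg.FusionSystem

/-- Let F be a saturated fusion system over a finite p-group S, E a normal subsystem of F over T ≤ S, and C the join of the subgroups X ≤ C_S(T) such that E is contained in the centralizer system C_F(X). Then for the centralizer fusion system C_F(T) over C_S(T), the focal subgroup of C_F(T) is contained in C. -/
theorem result {Ω : Type*} [Group Ω] {S : Subgroup Ω} [Finite S] (p : ℕ) [Fact p.Prime] (hS : IsPGroup p S)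
    (F : Cfsg.FusionSystem S) (hF : F.IsSaturated p)
    {T : Subgroup Ω} (E : Cfsg.FusionSystem T) (hE : E.IsNormalIn F p)
    (C : Subgroup Ω)
    (hC : C = sSup {X : Subgroup Ω | X ≤ Cfsg.FusionSystem.centralizerIn S T ∧ ∀ P : Subgroup Ω, E.Hom P ⊆ F.centralizerHom X P})
    (D : Cfsg.FusionSystem (Cfsg.FusionSystem.centralizerIn S T)) (hD : F.IsCentralizerSystem T D) :
    D.focalSubgroup ≤ C := by
  obtain ⟨a, b, S', F', h, hA⟩ := exists_satA hS hF
  have hT := H94.le_of_isNormalIn hE
  obtain ⟨E', k⟩ := exists_tr_sub h hT E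
  have hN := nrA_of hA (h.isNormalIn k hE)
  have hT' := hN.inv.le
  have h1 := tr_cz h.symm k.symm hT' ((cz_iff_hom hA.amb hT').1 hN.cz_CE)
  obtain ⟨D', hD', h2⟩ := h.exists_centralizerSystem rfl hD
  have h3 := hN.foc_le_CE
  rw [show centT F' _ hT' = D' from (hA.amb.eq_kSys_Ct hT' h2).symm] at h3
  rw [hC, ← hD'.symm.img_focal]
  refine le_trans ?_ (le_sSup h1)
  exact (h.iso.symm.img_le_img_iff (h3.trans hN.sc_CE.1) hN.sc_CE.1).2 h3

end Cfsg.Agent.S5293
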