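import Cfsg.Statements.S5308
import Cfsg.Agent.H92.Layer

set_option autoImplicit false
open Cfsg

namespace Cfsg.Agent.S5308
open H92 H93 Cfsg.FusionSystem

/-- A saturated fusion system F over a finite p-group S has a generalized Fitting subsystem — a central product of the inner fusion system of O_p(F) (the largest subgroup of S normal in F) with a layer of F — and every generalized Fitting subsystem of F is a normal subsystem of F. -/
theorem result {Ω : Type*} [Group Ω] {S : Subgroup Ω} [Finite S] (p : ℕ) [Fact p.Prime] (hS : IsPGroup p S) (F : Cfsg.FusionSystem S) (hF : F.IsSaturated p) :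
    (∃ (U : Subgroup Ω) (D : Cfsg.FusionSystem U), D.IsGeneralizedFittingOf F p) ∧
      ∀ (U : Subgroup Ω) (D : Cfsg.FusionSystem U), D.IsGeneralizedFittingOf F p → D.IsNormalIn F p := by
  obtain ⟨a, b, S', F', h, hA⟩ := exists_satA hS hF
  constructor
  · obtain ⟨T, E, hE⟩ := SatA.exists_layer hA
    obtain ⟨D, hD⟩ := exists_cp_layer hA hE
    obtain ⟨D', k⟩ := exists_tr_sub h.symm
      (sup_le (isNormal_core F').1 (H94.le_of_isNormalIn hE.1)) D
    exact ⟨_, D', h.symm.isGeneralizedFittingOf k ⟨T, E, hE, hD.isCentralProductOf⟩⟩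
  · intro U D hD
    have hU : U ≤ S := by
      obtain ⟨T, E, hE, h1⟩ := hD
      have := finite_of_le (isNormal_core F).1
      have := finite_of_le (H94.le_of_isNormalIn hE.1)
      exact (cp_of h1).sup ▸ sup_le (isNormal_core F).1 (H94.le_of_isNormalIn hE.1)
    obtain ⟨D', k⟩ := exists_tr_sub h hU D
    exact h.symm.isNormalIn k.symm (nrA_fitting hA (h.isGeneralizedFittingOf k hD)).isNormalIn

end Cfsg.Agent.S5308
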