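import Cfsg.Statements.S5309
import Cfsg.Agent.H92.Fit

set_option autoImplicit false
open Cfsg

namespace Cfsg.Agent.S5309
open H92 H93 Cfsg.FusionSystem

/-- Self-centralizing property of the generalized Fitting subsystem. Let F be a saturated fusion system over a finite p-group S and D a generalized Fitting subsystem of F, over U. Then the centre of D is the largest subgroup Y of C_S(U) centralized by D in F, in the sense that every map of D extends to a map of F fixing Y elementwise: the centre of D is such a subgroup, and every such Y lies in the centre of D. -/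
theorem result {Ω : Type*} [Group Ω] {S : Subgroup Ω} [Finite S] (p : ℕ) [Fact p.Prime] (hS : IsPGroup p S) (F : Cfsg.FusionSystem S) (hF : F.IsSaturated p)
    {U : Subgroup Ω} (D : Cfsg.FusionSystem U) (hD : D.IsGeneralizedFittingOf F p) :
    (D.center ≤ Cfsg.FusionSystem.centralizerIn S U ∧ ∀ P : Subgroup Ω, D.Hom P ⊆ F.centralizerHom D.center P) ∧
      ∀ Y : Subgroup Ω, Y ≤ Cfsg.FusionSystem.centralizerIn S U →
        (∀ P : Subgroup Ω, D.Hom P ⊆ F.centralizerHom Y P) → Y ≤ D.center := by
  have hU : U ≤ S := by
    obtain ⟨T, E, hE, h1⟩ := hD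
    have := finite_of_le (isNormal_core F).1
    have := finite_of_le (H94.le_of_isNormalIn hE.1)
    exact (cp_of h1).sup ▸ sup_le (isNormal_core F).1 (H94.le_of_isNormalIn hE.1)
  obtain ⟨a, b, S', F', h, hA⟩ := exists_satA hS hF
  obtain ⟨D', k⟩ := exists_tr_sub h hU D
  have hD' := h.isGeneralizedFittingOf k hD
  have h1 := nrA_fitting hA hD'
  have := finite_of_le hU
  constructor
  · have := tr_cz h.symm k.symm h1.inv.le ((cz_iff_hom hA.amb h1.inv.le).1
      ((cz_of_central h1.satE.amb (isCentral_center D')).sub h1.inv.sub))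
    rwa [k.symm.img_center] at this
  · intro Y h2 h3
    have h4 := img_mono b (le_center_fitting hA hD' ((cz_iff_hom hA.amb h1.inv.le).2
      (tr_cz h k hU ⟨h2, h3⟩)))
    rwa [k.symm.img_center, h.iso.img_img (h2.trans inf_le_left)] at h4

end Cfsg.Agent.S5309
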