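import Cfsg.Agent.Base
import Cfsg.Statements.S0219
import Cfsg.Agent.H85.InvBasic
import Cfsg.Agent.H7.NPC

set_option autoImplicit false
open Cfsg

namespace Cfsg.Agent.S0219

/-- If a finite group has even order and a cyclic Sylow 2-subgroup, then it has a subgroup of index 2 (consider the parity of permutations in the regular representation). -/
theorem result {G : Type*} [Group G] [Finite G] (heven : Even (Nat.card G)) (T : Sylow 2 G) (hT : IsCyclic (T : Subgroup G)) : ∃ H : Subgroup G, H.index = 2 := by
  haveI : Fact (Nat.Prime 2) := ⟨Nat.prime_two⟩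
  have hmin : (Nat.card G).minFac = 2 := Nat.minFac_eq_two_iff _ |>.2 (even_iff_two_dvd.1 heven)
  have hc := hT.isComplement' hmin
  set N := (MonoidHom.transferSylow T (hT.normalizer_le_centralizer hmin)).ker
  have hq := H7.isPGroup_quotient_of_isComplement' T.isPGroup' hc
  have hN := H7.not_dvd_card_of_isComplement' T hc
  obtain ⟨k, hk⟩ := hq.exists_card_eq
  have hG := Subgroup.card_eq_card_quotient_mul_card_subgroup N
  rcases k with _ | k
  · rw [hk, pow_zero, one_mul] at hG
    exact absurd (hG ▸ even_iff_two_dvd.1 heven) hN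
  obtain ⟨K, hK⟩ := Sylow.exists_subgroup_card_pow_prime 2 (G := G ⧸ N) (n := k)
    (by rw [hk]; exact pow_dvd_pow 2 (Nat.le_succ k))
  refine ⟨K.comap (QuotientGroup.mk' N), ?_⟩
  rw [Subgroup.index_comap_of_surjective _ (QuotientGroup.mk'_surjective N)]
  have := K.index_mul_card
  rw [hK, hk, pow_succ'] at this
  exact Nat.eq_of_mul_eq_mul_right (by positivity) this

end Cfsg.Agent.S0219
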