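import Cfsg.Statements.S0572
import Cfsg.Agent.Base

set_option autoImplicit false
open Cfsg

namespace Cfsg.Agent.S0572

/-- Itô's Theorem: if a group G is the product AB of two abelian subgroups, then the commutator subgroup of G is abelian, i.e. the second term of the derived series is trivial. -/
theorem result {G : Type*} [Group G] (A B : Subgroup G) [IsMulCommutative A] [IsMulCommutative B] (hAB : ∀ g : G, ∃ a ∈ A, ∃ b ∈ B, g = a * b) : derivedSeries G 2 = ⊥ := by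
  have cA : ∀ a ∈ A, ∀ a' ∈ A, a * a' = a' * a := fun a ha a' ha' =>
    congrArg Subtype.val (mul_comm' (⟨a, ha⟩ : A) ⟨a', ha'⟩)
  have cB : ∀ a ∈ B, ∀ a' ∈ B, a * a' = a' * a := fun a ha a' ha' =>
    congrArg Subtype.val (mul_comm' (⟨a, ha⟩ : B) ⟨a', ha'⟩)
  have hBA : ∀ g : G, ∃ b ∈ B, ∃ a ∈ A, g = b * a := fun g => by
    obtain ⟨a, ha, b, hb, h⟩ := hAB g⁻¹
    exact ⟨b⁻¹, B.inv_mem hb, a⁻¹, A.inv_mem ha, by rw [← mul_inv_rev, ← h, inv_inv]⟩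
  let c : G → G → G := fun x y => x⁻¹ * y⁻¹ * x * y
  have e1 : ∀ a ∈ A, ∀ a1 ∈ A, ∀ a2 ∈ A, ∀ b b2 : G, a1⁻¹ * b * a1 = a2 * b2 →
      a1⁻¹ * c a b * a1 = c a b2 := by
    intro a ha a1 h1 a2 h2 b b2 h
    have hb : b = a1 * a2 * b2 * a1⁻¹ := by rw [mul_assoc a1, ← h]; group
    have k1 : a1⁻¹ * a⁻¹ * a1 = a⁻¹ := by
      rw [cA _ (A.inv_mem h1) _ (A.inv_mem ha)]; group
    have k2 : (a1 * a2)⁻¹ * a * (a1 * a2) = a := by
      rw [cA _ (A.inv_mem (A.mul_mem h1 h2)) _ ha]; group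
    calc a1⁻¹ * c a b * a1
        = (a1⁻¹ * a⁻¹ * a1) * b2⁻¹ * ((a1 * a2)⁻¹ * a * (a1 * a2)) * b2 := by
          simp only [c, hb]; group
      _ = c a b2 := by rw [k1, k2]
  have e2 : ∀ b ∈ B, ∀ b1 ∈ B, ∀ b3 ∈ B, ∀ a a3 : G, b1⁻¹ * a * b1 = b3 * a3 →
      b1⁻¹ * c a b * b1 = c a3 b := by
    intro b hb b1 h1 b3 h3 a a3 h
    have ha : a = b1 * b3 * a3 * b1⁻¹ := by rw [mul_assoc b1, ← h]; group
    have k1 : b1⁻¹ * b * b1 = b := by
      rw [cB _ (B.inv_mem h1) _ hb]; group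
    have k2 : (b1 * b3)⁻¹ * b⁻¹ * (b1 * b3) = b⁻¹ := by
      rw [cB _ (B.inv_mem (B.mul_mem h1 h3)) _ (B.inv_mem hb)]; group
    calc b1⁻¹ * c a b * b1
        = a3⁻¹ * ((b1 * b3)⁻¹ * b⁻¹ * (b1 * b3)) * a3 * (b1⁻¹ * b * b1) := by
          simp only [c, ha]; group
      _ = c a3 b := by rw [k1, k2]
  let S : Set G := {x | ∃ a ∈ A, ∃ b ∈ B, x = c a b}
  have comm : ∀ x ∈ S, ∀ y ∈ S, x * y = y * x := by
    rintro x ⟨a, ha, b, hb, rfl⟩ y ⟨a0, ha0, b0, hb0, rfl⟩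
    have h1 := A.inv_mem ha0
    have h2 := B.inv_mem hb0
    obtain ⟨a2, ha2, b2, hb2, q1⟩ := hAB (a0⁻¹⁻¹ * b * a0⁻¹)
    obtain ⟨b3, hb3, a3, ha3, q2⟩ := hBA (b0⁻¹⁻¹ * a * b0⁻¹)
    have r1 := e1 a ha _ h1 a2 ha2 b b2 q1
    have r2 := e2 b2 hb2 _ h2 b3 hb3 a a3 q2
    have r3 := e2 b hb _ h2 b3 hb3 a a3 q2
    have r4 := e1 a3 ha3 _ h1 a2 ha2 b b2 q1
    rw [← r1] at r2
    rw [← r3] at r4
    have r := r2.trans r4.symm
    generalize c a b = z at r ⊢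
    simp only [c]
    calc z * (a0⁻¹ * b0⁻¹ * a0 * b0)
        = (b0 * a0)⁻¹ * (b0⁻¹⁻¹ * (a0⁻¹⁻¹ * z * a0⁻¹) * b0⁻¹) * (a0 * b0) := by group
      _ = (b0 * a0)⁻¹ * (a0⁻¹⁻¹ * (b0⁻¹⁻¹ * z * b0⁻¹) * a0⁻¹) * (a0 * b0) := by rw [r]
      _ = a0⁻¹ * b0⁻¹ * a0 * b0 * z := by group
  have conjS : ∀ g : G, ∀ x ∈ S, g⁻¹ * x * g ∈ S := by
    rintro g x ⟨a, ha, b, hb, rfl⟩
    obtain ⟨a1, h1, b1, h2, rfl⟩ := hAB g
    obtain ⟨a2, ha2, b2, hb2, q1⟩ := hAB (a1⁻¹ * b * a1)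
    obtain ⟨b3, hb3, a3, ha3, q2⟩ := hBA (b1⁻¹ * a * b1)
    refine ⟨a3, ha3, b2, hb2, ?_⟩
    rw [← e2 b2 hb2 b1 h2 b3 hb3 a a3 q2, ← e1 a ha a1 h1 a2 ha2 b b2 q1]; group
  let N := Subgroup.closure S
  have hN : N.Normal := ⟨fun n hn g => by
    induction hn using Subgroup.closure_induction with
    | mem x hx => exact Subgroup.subset_closure (by simpa using conjS g⁻¹ x hx)
    | one => simpa using N.one_mem
    | mul x y _ _ hx hy => simpa [mul_assoc] using N.mul_mem hx hy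
    | inv x _ hx => simpa [mul_assoc] using N.inv_mem hx⟩
  have hle : commutator G ≤ N := by
    rw [commutator_def, Subgroup.commutator_le]
    intro g _ h _
    rw [← QuotientGroup.eq_one_iff]
    obtain ⟨a, ha, b, hb, rfl⟩ := hAB g
    obtain ⟨a', ha', b', hb', rfl⟩ := hAB h
    have k : ∀ a ∈ A, ∀ b ∈ B, Commute (a : G ⧸ N) (b : G ⧸ N) := fun a ha b hb => by
      have : ((c a b : G) : G ⧸ N) = 1 :=
        (QuotientGroup.eq_one_iff _).2 (Subgroup.subset_closure ⟨a, ha, b, hb, rfl⟩)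
      simp only [c, QuotientGroup.mk_mul, QuotientGroup.mk_inv] at this
      show (a : G ⧸ N) * b = b * a
      calc (a : G ⧸ N) * b = b * a * ((a : G ⧸ N)⁻¹ * (b : G ⧸ N)⁻¹ * a * b) := by group
        _ = b * a := by rw [this, mul_one]
    have kA : Commute (a : G ⧸ N) (a' : G ⧸ N) := by
      show (a : G ⧸ N) * a' = a' * a
      rw [← QuotientGroup.mk_mul, ← QuotientGroup.mk_mul, cA a ha a' ha']
    have kB : Commute (b : G ⧸ N) (b' : G ⧸ N) := by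
      show (b : G ⧸ N) * b' = b' * b
      rw [← QuotientGroup.mk_mul, ← QuotientGroup.mk_mul, cB b hb b' hb']
    have : Commute ((a : G ⧸ N) * b) ((a' : G ⧸ N) * b') :=
      (kA.mul_right (k a ha b' hb')).mul_left (((k a' ha' b hb).symm).mul_right kB)
    have h2 := commutatorElement_eq_one_iff_commute.2 this
    simpa [commutatorElement_def] using h2
  have cN : ∀ x ∈ N, ∀ y ∈ N, x * y = y * x := by
    intro x hx y hy
    have h1 : N ≤ Subgroup.centralizer S := (Subgroup.closure_le _).2 fun z hz =>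
      Subgroup.mem_centralizer_iff.2 fun w hw => comm w hw z hz
    have h2 : N ≤ Subgroup.centralizer {x} := (Subgroup.closure_le _).2 fun z hz =>
      Subgroup.mem_centralizer_iff.2 fun w hw => by
        rw [Set.mem_singleton_iff.1 hw]
        exact (Subgroup.mem_centralizer_iff.1 (h1 hx) z hz).symm
    exact Subgroup.mem_centralizer_iff.1 (h2 hy) x rfl
  rw [show derivedSeries G 2 = ⁅commutator G, commutator G⁆ from rfl, eq_bot_iff,
    Subgroup.commutator_le]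
  intro g hg h hh
  rw [Subgroup.mem_bot, commutatorElement_eq_one_iff_mul_comm]
  exact cN g (hle hg) h (hle hh)

end Cfsg.Agent.S0572
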