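import Cfsg.Statements.S2619
import Cfsg.Agent.H58.QDisc

set_option autoImplicit false
open Cfsg

namespace Cfsg.Agent.S2619

/-- Over a finite field of characteristic two, given an alternating bilinear form B on a finite-dimensional space, a basis (v_i) and scalars (λ_i), there is exactly one quadratic form whose polar form is B and whose value at each v_i is λ_i. -/
theorem result {F V ι : Type*} [Field F] [Finite F] [CharP F 2] [AddCommGroup V] [Module F V] [Fintype ι] (b : Module.Basis ι F V) (B : LinearMap.BilinForm F V) (hB : B.IsAlt) (c : ι → F) : ∃! Q : QuadraticForm F V, QuadraticMap.polarBilin Q = B ∧ ∀ i, Q (b i) = c i := by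
  classical
  let e := Fintype.equivFin ι
  let A : LinearMap.BilinForm F V := b.constr F fun i => b.constr F fun j =>
    if e i < e j then B (b i) (b j) else if i = j then c i else 0
  have hA : ∀ i j, A (b i) (b j) = if e i < e j then B (b i) (b j) else if i = j then c i else 0 := by
    intro i j
    simp only [A, Module.Basis.constr_basis]
  have h2 : (2 : F) = 0 := CharTwo.two_eq_zero
  have hsym : ∀ x y, B x y = B y x := fun x y => by
    rw [← hB.neg_eq x y, CharTwo.neg_eq]
  refine ⟨LinearMap.BilinMap.toQuadraticMap A, ⟨?_, fun i => ?_⟩, ?_⟩
  · refine b.ext fun i => b.ext fun j => ?_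
    rw [QuadraticMap.polarBilin_apply_apply, LinearMap.BilinMap.polar_toQuadraticMap, hA, hA]
    rcases lt_trichotomy (e i) (e j) with h | h | h
    · have : j ≠ i := fun h' => by simp [h'] at h
      simp [h, h.le.not_gt, this]
    · have : i = j := e.injective h
      subst this
      simp [hB.self_eq_zero, CharTwo.add_self_eq_zero]
    · have : i ≠ j := fun h' => by simp [h'] at h
      simp [h, h.le.not_gt, this, hsym (b i)]
  · simp [hA]
  · rintro Q ⟨hQ, hc⟩
    have hp : QuadraticMap.polarBilin (LinearMap.BilinMap.toQuadraticMap A : QuadraticForm F V) = B := by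
      refine b.ext fun i => b.ext fun j => ?_
      rw [QuadraticMap.polarBilin_apply_apply, LinearMap.BilinMap.polar_toQuadraticMap, hA, hA]
      rcases lt_trichotomy (e i) (e j) with h | h | h
      · have : j ≠ i := fun h' => by simp [h'] at h
        simp [h, h.le.not_gt, this]
      · have : i = j := e.injective h
        subst this
        simp [hB.self_eq_zero, CharTwo.add_self_eq_zero]
      · have : i ≠ j := fun h' => by simp [h'] at h
        simp [h, h.le.not_gt, this, hsym (b i)]
    ext v
    have hv : v ∈ Submodule.span F (Set.range b) := by simp [b.span_eq]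
    induction hv using Submodule.span_induction with
    | mem x hx =>
      obtain ⟨i, rfl⟩ := hx
      simp [hc, hA]
    | zero => simp
    | add x y _ _ hx hy =>
      rw [H58.Q_add, H58.Q_add, hx, hy, ← QuadraticMap.polarBilin_apply_apply,
        ← QuadraticMap.polarBilin_apply_apply, hQ, hp]
    | smul a x _ hx => rw [H58.Q_smul, H58.Q_smul, hx]

end Cfsg.Agent.S2619
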