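import Cfsg.Agent.Base
import Cfsg.Statements.S1556
import Cfsg.Agent.H72.Stabs

set_option autoImplicit false
open scoped Pointwise
open Cfsg

namespace Cfsg.Agent.S1556

open H72 MulAction
open scoped Pointwise

/-- Two octads meeting a fixed octad in equally many points are in the same orbit of its stabiliser. -/
theorem result (o o' o'' : Finset Cfsg.GolayPt) (ho : o ∈ Cfsg.octads) (ho' : o' ∈ Cfsg.octads) (ho'' : o'' ∈ Cfsg.octads) (h : (o ∩ o').card = (o ∩ o'').card) : ∃ g : Equiv.Perm Cfsg.GolayPt, g ∈ Cfsg.M24 ∧ g • o = o ∧ g • o' = o'' := by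
  obtain ⟨g, hg, rfl⟩ := octad_trans ho
  obtain ⟨a, ha, e1⟩ := mem_octads_iff.1 (smul_mem_octads (Subgroup.inv_mem _ hg) ho')
  obtain ⟨b, hb, e2⟩ := mem_octads_iff.1 (smul_mem_octads (Subgroup.inv_mem _ hg) ho'')
  rw [eq_inv_smul_iff] at e1 e2
  subst e1 e2
  rw [card_smul_inter, card_smul_inter, card_inter_ofMask, card_inter_ofMask] at h
  obtain ⟨k, hk, e⟩ := codC.conj gOct_mem inf_le_left octL isG_of_mem_octL (fun _ => true)
    (fun c => pop (Nat.land oct0 c)) [8536111, 6889680, 13062145, 4845570] (by decide +kernel) 449 (by decide +kernel) ha hb rfl rfl h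
  refine ⟨g * k * g⁻¹, Subgroup.mul_mem _ (Subgroup.mul_mem _ hg hk.1) (Subgroup.inv_mem _ hg), ?_, ?_⟩
  · rw [mul_smul, inv_smul_smul, mul_smul, show k • ofMask oct0 = ofMask oct0 from hk.2]
  · rw [mul_smul, inv_smul_smul, mul_smul, e]

end Cfsg.Agent.S1556
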