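import Cfsg.Agent.Base
import Cfsg.Statements.S4249
import Cfsg.Agent.H5.Part2

set_option autoImplicit false
open Cfsg

namespace Cfsg.Agent.S4249

/-- Let G be a finite group and p a prime such that G is not a p-group, and suppose the Hughes subgroup H_p(G), generated by all elements g with g^p ≠ 1, is a proper subgroup. Then H_p(G) is nilpotent and has index p in G. -/
theorem result {G : Type*} [Group G] [Finite G] (p : ℕ) (hp : p.Prime) (hG : ¬ IsPGroup p G)
    (hH : Subgroup.closure {g : G | g ^ p ≠ 1} ≠ ⊤) :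
    Group.IsNilpotent (Subgroup.closure {g : G | g ^ p ≠ 1}) ∧ (Subgroup.closure {g : G | g ^ p ≠ 1}).index = p := by
  set H := Subgroup.closure {g : G | g ^ p ≠ 1}
  have h1 : ∀ g, g ∉ H → g ^ p = 1 := fun g hg => by_contra fun e => hg (Subgroup.subset_closure e)
  have hn : H.Normal := ⟨fun x hx g => by
    have := Subgroup.mem_map_of_mem (MulAut.conj g).toMonoidHom hx
    rw [MonoidHom.map_closure] at this
    refine Subgroup.closure_mono ?_ this
    rintro _ ⟨y, hy, rfl⟩ e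
    exact hy ((MulAut.conj g).injective (by rw [map_pow, map_one]; exact e))⟩
  obtain ⟨a, -, ha⟩ := SetLike.exists_of_lt (lt_top_iff_ne_top.2 hH)
  have hN : Group.IsNilpotent H := H5.kegel hp (Subgroup.le_normalizer_of_normal (Subgroup.mem_top a))
    fun k hk => h1 _ fun e => ha ((mul_mem_cancel_left hk).1 e)
  refine ⟨hN, ?_⟩
  have := Fact.mk hp
  obtain ⟨y, hy, hyp⟩ : ∃ y : G, (orderOf y).Prime ∧ orderOf y ≠ p := by
    by_contra h
    push Not at h
    exact hG ((H5.isPGroup_of_forall_prime (M := ⊤) fun y _ => h y).of_equiv Subgroup.topEquiv)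
  have hp1 : ∀ w : G, w ^ orderOf y = 1 → w ^ p = 1 → w = 1 := fun w h2 h3 =>
    orderOf_eq_one_iff.1 (Nat.eq_one_of_dvd_coprimes ((Nat.coprime_primes hy hp).2 hyp)
      (orderOf_dvd_of_pow_eq_one h2) (orderOf_dvd_of_pow_eq_one h3))
  have hyH : y ∈ H := Subgroup.subset_closure fun e => hy.ne_one (by
    rw [hp1 y (pow_orderOf_eq_one y) e, orderOf_one])
  have hF : H ≤ fittingSubgroup G := H2.le_fitting H
  obtain ⟨V, hV, h2, -, h4, h5⟩ := H5.exists_elemAb_le_fitting hy (H46.orderOf_dvd_card (hF hyH))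
  let _ : CommGroup V := { (inferInstance : Group V) with mul_comm := h4.1.is_comm.comm }
  have hVH : V ≤ H := fun v hv => by_contra fun e => e (hp1 v (h4.2 v hv) (h1 v e) ▸ one_mem _)
  have h6 : ∀ g : G ⧸ H, g ^ p = 1 := fun g => by
    obtain ⟨g, rfl⟩ := QuotientGroup.mk_surjective g
    by_cases e : g ∈ H
    · rw [(QuotientGroup.eq_one_iff g).2 e, one_pow]
    · rw [← QuotientGroup.mk_pow, h1 g e, QuotientGroup.mk_one]
  have : Nontrivial (G ⧸ H) := ⟨a, 1, fun e => ha ((QuotientGroup.eq_one_iff a).1 e)⟩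
  obtain ⟨⟨z, hz⟩, hz1⟩ := @exists_ne _
    (IsPGroup.center_nontrivial (G := G ⧸ H) (p := p) fun g => ⟨1, by rw [pow_one, h6]⟩) 1
  have hz1' : z ≠ 1 := fun e => hz1 (Subtype.ext e)
  have h7 := orderOf_eq_prime (h6 z) hz1'
  by_cases e : Subgroup.zpowers z = ⊤
  · rw [Subgroup.index, ← Subgroup.card_top, ← e, Nat.card_zpowers, h7]
  exfalso
  obtain ⟨x, -, hx⟩ := SetLike.exists_of_lt (lt_top_iff_ne_top.2 e)
  obtain ⟨v, hv, hv1⟩ := H46.exists_ne_one_of_ne_bot h2
  have h8 := H5.apply_pow_card_of_norm (H5.quotAct V H (hF.trans h5)) (Subgroup.zpowers z) (x := x)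
    (H46.cent1_le_nrm_zpowers z (H46.mem_cent1.2 (Subgroup.mem_center_iff.1 hz x))) hp
    (fun _ _ => h6 _) ⟨v, hv⟩ (fun w hw => by
      obtain ⟨g, hg⟩ := QuotientGroup.mk_surjective (w * x)
      have hg' : g ∉ H := fun e => hx ((mul_mem_cancel_left hw).1
        (hg ▸ (QuotientGroup.eq_one_iff g).2 e ▸ one_mem _))
      rw [← hg]
      exact H5.norm_eq_one h4.1 (h1 g hg') _ (h1 _ fun e => hg' ((mul_mem_cancel_left (hVH hv)).1 e)) _
        fun i => by rw [← QuotientGroup.mk_pow]; rfl) (Subgroup.mem_zpowers z)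
  rw [Nat.card_zpowers, h7] at h8
  obtain ⟨g, rfl⟩ := QuotientGroup.mk_surjective z
  have hg : g ∉ H := fun e => hz1' ((QuotientGroup.eq_one_iff g).2 e)
  have h9 : Commute (v ^ p) g :=
    (mul_inv_eq_iff_eq_mul.1 (show g * v ^ p * g⁻¹ = v ^ p from congrArg Subtype.val h8)).symm
  have h10 := h1 (v ^ p * g) fun e => hg ((mul_mem_cancel_left (hVH (pow_mem hv p))).1 e)
  rw [h9.mul_pow, h1 g hg, mul_one] at h10
  exact hv1 (hp1 v (h4.2 v hv) (hp1 _ (h4.2 _ (pow_mem hv p)) h10))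

end Cfsg.Agent.S4249
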