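import Cfsg.Agent.Base
import Cfsg.Statements.S0514
import Cfsg.Agent.H85.DihFour

set_option autoImplicit false
open Cfsg

namespace Cfsg.Agent.S0514

/-- In a finite group whose Sylow 2-subgroups are dihedral of order at least 4, the centralizer of any involution has a
normal subgroup of odd order whose index in the centralizer is a power of 2. -/
theorem result {X : Type*} [Group X] [Finite X]
    (S : Sylow 2 X) (n : ℕ) (hn : 2 ≤ n) (hS : Nonempty ((S : Subgroup X) ≃* DihedralGroup n)) (t : X)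
    (ht : orderOf t = 2) :
    ∃ N : Subgroup (Subgroup.centralizer ({t} : Set X)), N.Normal ∧ Odd (Nat.card N) ∧ ∃ k : ℕ, N.index = 2 ^ k := by
  haveI : Fact (Nat.Prime 2) := ⟨Nat.prime_two⟩
  obtain ⟨e⟩ := hS
  let C := Subgroup.centralizer ({t} : Set X)
  have hnpc : HasNormalPComplement 2 C := by
    apply H7.hasNPC_of_normalizer_centralizer
    intro Q hQ g hg hodd
    have hodd' : Odd (orderOf (g : X)) := by
      rw [Subgroup.orderOf_coe]; exact Nat.coprime_two_right.1 hodd
    have htC : t ∈ C := Subgroup.mem_centralizer_singleton_iff.2 rfl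
    have hgt : (g : X) * t * (g : X)⁻¹ = t := by
      rw [Subgroup.mem_centralizer_singleton_iff.1 g.2, mul_inv_cancel_right]
    -- the 2-subgroup generated by `Q` and `t`
    let Z : Subgroup C := Subgroup.zpowers ⟨t, htC⟩
    haveI : Z.Normal := ⟨fun a ha c => by
      obtain ⟨k, rfl⟩ := Subgroup.mem_zpowers_iff.1 ha
      have : c * ⟨t, htC⟩ * c⁻¹ = ⟨t, htC⟩ := Subtype.ext (by
        simp only [Subgroup.coe_mul, Subgroup.coe_inv]
        rw [Subgroup.mem_centralizer_singleton_iff.1 c.2, mul_inv_cancel_right])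
      rw [← conj_zpow, this]
      exact ha⟩
    have hZ : IsPGroup 2 Z := IsPGroup.of_card (n := 1) (by
      rw [Nat.card_zpowers, ← Subgroup.orderOf_coe, pow_one]; exact ht)
    have hQZ : IsPGroup 2 (Q ⊔ Z : Subgroup C) := IsPGroup.to_sup_of_normal_right hQ hZ
    have hgQZ : g ∈ Subgroup.normalizer ((Q ⊔ Z : Subgroup C) : Set C) :=
      Subgroup.normalizer_inf_normalizer_le_normalizer_sup Q Z
        ⟨hg, Subgroup.le_normalizer_of_normal (Subgroup.mem_top g)⟩
    let Q' : Subgroup X := (Q ⊔ Z).map C.subtype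
    have hg' : (g : X) ∈ Subgroup.normalizer (Q' : Set X) :=
      Subgroup.le_normalizer_map _ (Subgroup.mem_map_of_mem C.subtype hgQZ)
    have htQ' : t ∈ Q' := ⟨⟨t, htC⟩, Subgroup.mem_sup_right (Subgroup.mem_zpowers _), rfl⟩
    obtain ⟨T, hT⟩ := (hQZ.map C.subtype).exists_le_sylow
    obtain ⟨r, s, hD, -⟩ := H85.exists_Dih ((Sylow.equiv T S).trans e)
    have hcent : (g : X) ∈ Subgroup.centralizer (Q' : Set X) := by
      by_cases h4 : IsKleinFour Q'
      · have h1 := H85.four_sq_mem_centralizer h4 hg' htQ' (H85.ord2_ne_one ht) hgt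
        rw [Subgroup.mem_centralizer_iff] at h1 ⊢
        intro y hy
        exact (H85.commute_of_sq_of_odd hodd' (h1 y hy).symm).symm
      · exact hD.mem_centralizer_of_odd T.isPGroup' hT h4 hodd' hg'
    rw [Subgroup.mem_centralizer_iff] at hcent ⊢
    intro y hy
    exact Subtype.ext (hcent y ⟨y, Subgroup.mem_sup_left hy, rfl⟩)
  obtain ⟨N, hN, h1, h2⟩ := H7.hasNPC_iff_exists.1 hnpc
  exact ⟨N, hN, Nat.not_even_iff_odd.1 (fun h => h1 (even_iff_two_dvd.1 h)),
    H7.isPGroup_quotient_iff_index.1 h2⟩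

end Cfsg.Agent.S0514
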