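import Cfsg.Statements.S4145
import Cfsg.Agent.H8.CentralTransfer
import Cfsg.Agent.H8.AbFitting
import Cfsg.Agent.H7.SylowIn
import Cfsg.Agent.H7.NPC
import Cfsg.Agent.H18.PSolv

set_option autoImplicit false
open Cfsg

namespace Cfsg.Agent.S4145

theorem comm_le_cent {G : Type*} [Group G] (N : Subgroup G) [N.Normal] [IsCyclic N] :
    commutator G ≤ Subgroup.centralizer (N : Set G) := by
  have h := Abelianization.commutator_subset_ker
    ((IsCyclic.mulAutMulEquiv N).toMonoidHom.comp (MulAut.conjNormal (H := N)))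
  intro g hg
  have h1 : MulAut.conjNormal (H := N) g = 1 := by
    have := h hg
    rw [MonoidHom.mem_ker, MonoidHom.comp_apply] at this
    exact (MulEquiv.map_eq_one_iff _).mp this
  intro x hx
  have h2 := congrArg Subtype.val (DFunLike.congr_fun h1 ⟨x, hx⟩)
  simp only [MulAut.conjNormal_apply, MulAut.one_apply] at h2
  exact (mul_inv_eq_iff_eq_mul.mp h2).symm

theorem psolv_of_npc {G : Type*} [Group G] [Finite G] {p : ℕ} [hp : Fact p.Prime]
    (h : Cfsg.HasNormalPComplement p G) : Cfsg.IsPSolvable p G := by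
  obtain ⟨N, hN, h1, h2⟩ := H7.hasNPC_iff_exists.mp h
  exact H18.isPSolvable_of_normal_of_quotient N
    (H18.isPSolvable_of_coprime ((hp.out.coprime_iff_not_dvd.mpr h1).symm))
    (H18.isPSolvable_of_isPGroup h2)

theorem psolv_of_normal {G : Type*} [Group G] [Finite G] {p : ℕ} [hp : Fact p.Prime]
    (P : Sylow p G) [hP : IsCyclic (P : Subgroup G)] (Z : Subgroup G) [Z.Normal]
    (hZ : IsPGroup p Z) (h0 : Z ≠ ⊥) : Cfsg.IsPSolvable p G := by
  have hZP : Z ≤ P := hZ.le_sylow_of_normal P
  have : IsCyclic Z := isCyclic_of_injective _ (Subgroup.inclusion_injective hZP)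
  let C := Subgroup.centralizer (Z : Set G)
  have hPC : (P : Subgroup G) ≤ C := P.le_centralizer.trans (Subgroup.centralizer_le hZP)
  refine H18.isPSolvable_of_normal_of_quotient C ?_ ?_
  · let Q := P.subtype hPC
    have : IsCyclic (Q : Subgroup C) :=
      isCyclic_of_surjective _ (Subgroup.subgroupOfEquivOfLe hPC).symm.surjective
    rcases Q.normalizer_le_centralizer_or_le_commutator with h | h
    · exact psolv_of_npc (H8.hasNPC_of_normalizer_le_centralizer Q h)
    · exfalso
      apply h0
      rw [eq_bot_iff]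
      intro z hz
      have h1 := H8.inf_commutator_inf_center_le (Q : Subgroup C) Q.card_coprime_index
        (x := ⟨z, hPC (hZP hz)⟩) ⟨⟨hZP hz, h (hZP hz)⟩,
          Subgroup.mem_center_iff.mpr fun c => Subtype.ext (c.2 z hz).symm⟩
      rw [Subgroup.commutator_eq_bot_iff_le_centralizer.mpr Q.le_centralizer,
        Subgroup.mem_bot] at h1
      exact congrArg Subtype.val h1
  · have : IsMulCommutative (G ⧸ C) :=
      Subgroup.Normal.quotient_commutative_iff_commutator_le.mpr (comm_le_cent Z)
    have : Group.IsSolvable (G ⧸ C) := Group.isSolvable_of_comm this.is_comm.comm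
    exact H18.isPSolvable_of_isSolvable p

/-- Let G be a finite group with a cyclic Sylow p-subgroup and H a normal subgroup such that p divides both the order of H and the index of H. Then H has a normal p-complement and G is p-solvable. -/
theorem result {G : Type*} [Group G] [Finite G] (p : ℕ) [Fact p.Prime]
    (P : Sylow p G) (hP : IsCyclic (P : Subgroup G)) (H : Subgroup G) [H.Normal] (h1 : p ∣ Nat.card H) (h2 : p ∣ H.index) :
    Cfsg.HasNormalPComplement p H ∧ Cfsg.IsPSolvable p G := by
  have hp : p.Prime := Fact.out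
  have hH : Cfsg.HasNormalPComplement p H := by
    have hPL : (P : Subgroup G) ≤ H ⊔ P := le_sup_right
    let Q := P.subtype hPL
    have : IsCyclic (Q : Subgroup (H ⊔ P : Subgroup G)) :=
      isCyclic_of_surjective _ (Subgroup.subgroupOfEquivOfLe hPL).symm.surjective
    rcases Q.normalizer_le_centralizer_or_le_commutator with h | h
    · exact H7.hasNPC_of_le le_sup_left (H8.hasNPC_of_normalizer_le_centralizer Q h)
    · exfalso
      apply P.not_dvd_index
      refine h2.trans (Subgroup.index_dvd_of_le ?_)
      have h3 := Subgroup.map_mono (f := (H ⊔ (P : Subgroup G)).subtype) h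
      rw [Subgroup.map_subtype_commutator] at h3
      have h4 : (P : Subgroup G) ≤ ⁅H ⊔ (P : Subgroup G), H ⊔ (P : Subgroup G)⁆ :=
        (Subgroup.map_subgroupOf_eq_of_le hPL).ge.trans h3
      refine h4.trans ?_
      refine le_of_le_of_eq ?_ (QuotientGroup.ker_mk' H)
      rw [← Subgroup.map_eq_bot_iff, Subgroup.map_commutator,
        Subgroup.map_sup, QuotientGroup.map_mk'_self, bot_sup_eq, ← Subgroup.map_commutator,
        Subgroup.commutator_eq_bot_iff_le_centralizer.mpr P.le_centralizer, Subgroup.map_bot]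
  refine ⟨hH, ?_⟩
  let K : Subgroup G := (Cfsg.pResidual p H).map H.subtype
  have : (Cfsg.pResidual p H).Characteristic := H7.pResidual_characteristic
  have hK : ¬ p ∣ Nat.card K := by
    rw [Subgroup.card_map_of_injective H.subtype_injective]
    exact H7.hasNPC_iff_not_dvd.mp hH
  refine H18.isPSolvable_of_normal_of_quotient K
    (H18.isPSolvable_of_coprime ((hp.coprime_iff_not_dvd.mpr hK).symm)) ?_
  let f := QuotientGroup.mk' K
  have : IsCyclic (P.mapSurjective (QuotientGroup.mk'_surjective K) : Subgroup (G ⧸ K)) :=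
    isCyclic_of_surjective _ (f.subgroupMap_surjective P)
  have : (H.map f).Normal := Subgroup.Normal.map inferInstance f (QuotientGroup.mk'_surjective K)
  refine psolv_of_normal (P.mapSurjective (QuotientGroup.mk'_surjective K)) (H.map f) ?_ ?_
  · rintro ⟨_, x, hx, rfl⟩
    obtain ⟨k, hk⟩ := H7.exists_pow_coprime (p := p) (⟨x, hx⟩ : H)
    refine ⟨k, Subtype.ext ?_⟩
    change f x ^ p ^ k = 1
    rw [← map_pow]
    exact (QuotientGroup.eq_one_iff _).mpr ⟨_, H7.mem_pResidual_of_coprime hk, rfl⟩
  · intro h
    rw [Subgroup.map_eq_bot_iff, QuotientGroup.ker_mk'] at h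
    exact hK (h1.trans (Subgroup.card_dvd_of_le h))

end Cfsg.Agent.S4145
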