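import Cfsg.Agent.Base
import Cfsg.Agent.H4.Cover
import Cfsg.Agent.H28.CharKer
import Cfsg.Agent.H28.Degree
import Cfsg.Statements.S4067

set_option autoImplicit false
open Cfsg

namespace Cfsg.Agent.S4067

open Subgroup H4 MulAction

variable {G : Type*} [Group G] [Finite G]

theorem kbound {p : ℕ} (hp : ∀ d, d ∣ Nat.card G → d ≠ 1 → p ≤ d) :
    p ^ 2 * Nat.card (ConjClasses G) ≤ Nat.card G + (p ^ 2 - 1) * (commutator G).index := by
  classical
  rw [← H28.card_irr_eq_card_conjClasses, ← H28.card_linear_irr, ← H28.sum_charDegree_sq (G := G),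
    Nat.card_eq_fintype_card, Nat.card_eq_fintype_card, ← Finset.card_univ, Fintype.card_subtype,
    Finset.card_filter, Finset.card_eq_sum_ones, Finset.mul_sum, Finset.mul_sum, ← Finset.sum_add_distrib]
  refine Finset.sum_le_sum fun χ _ => ?_
  split_ifs with h
  · rw [H28.charDegree_eq (n := 1) (by simpa using h)]; omega
  · simpa using Nat.pow_le_pow_left (hp _ (H28.Cfsg.IsIrrCharacter.charDegree_dvd_card χ.2) fun e =>
      h (by rw [← H28.Cfsg.IsIrrCharacter.cast_charDegree χ.2, e, Nat.cast_one])) 2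

theorem weight {A X : Type*} [Group A] [MulAction A X] [Fintype X] (M : ℕ) (f : X → ℕ)
    (h : ∀ x, M ≤ f x * Nat.card (orbit A x)) : M * Nat.card (orbitRel.Quotient A X) ≤ ∑ x, f x := by
  classical
  have := Fintype.ofFinite (orbitRel.Quotient A X)
  rw [← Finset.sum_fiberwise (s := Finset.univ) (g := fun x => (Quotient.mk'' x : orbitRel.Quotient A X)),
    Nat.card_eq_fintype_card, mul_comm, ← smul_eq_mul, ← Finset.card_univ]
  refine Finset.card_nsmul_le_sum _ _ _ fun ω _ => ?_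
  obtain ⟨x, hx, hm⟩ := Finset.exists_min_image
    (Finset.univ.filter fun x => (Quotient.mk'' x : orbitRel.Quotient A X) = ω) f ⟨ω.out, by simp⟩
  refine (h x).trans (le_trans (le_of_eq ?_) (Finset.card_nsmul_le_sum _ _ _ hm))
  rw [smul_eq_mul, mul_comm, Nat.card_coe_set_eq, Set.ncard_eq_toFinset_card']
  congr 2
  ext y
  simp [← (Finset.mem_filter.1 hx).2, Quotient.eq'', orbitRel_apply]

/-- commutation with `a` in a group of class two -/
def cm (hZ : commutator G ≤ center G) (a : G) : G →* G :=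
  MonoidHom.mk' (fun g => g * a * g⁻¹ * a⁻¹) fun g h => by
    have := mem_center_iff.1 (hZ (commutator_mem_commutator (mem_top h) (mem_top a)))
    calc _ = g * (h * a * h⁻¹ * a⁻¹) * (a * g⁻¹ * a⁻¹) := by simp [mul_assoc]
      _ = _ := by rw [mul_assoc, ← commutatorElement_def, ← this]; simp [mul_assoc, commutatorElement_def]

variable {p : ℕ} [hp : Fact p.Prime] (hZ : commutator G ≤ center G) (hc : Nat.card (commutator G) = p)
include hZ hc

omit [Finite G] hp hc in
theorem cm_mem (a g : G) : cm hZ a g ∈ commutator G := commutator_mem_commutator (mem_top g) (mem_top a)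

omit [Finite G] hp hc in
theorem cm_one {a g : G} : cm hZ a g = 1 ↔ g ∈ centralizer ({a} : Set G) := by
  rw [mem_centralizer_singleton_iff, ← mul_inv_eq_iff_eq_mul]; exact mul_inv_eq_one

omit [Finite G] in
theorem ord {a y : G} (h : y ∉ centralizer ({a} : Set G)) : orderOf (cm hZ a y) = p :=
  ((Nat.dvd_prime hp.out).1 (hc ▸ orderOf_dvd_natCard _ (cm_mem hZ a y))).resolve_left
    fun e => h ((cm_one hZ).1 (orderOf_eq_one_iff.1 e))

theorem zp {a y : G} (h : y ∉ centralizer ({a} : Set G)) : zpowers (cm hZ a y) = commutator G :=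
  eq_of_le_of_card_ge (zpowers_le.2 (cm_mem hZ a y)) (by rw [Nat.card_zpowers, ord hZ hc h, hc])

omit [Finite G] in
theorem pow_mem_iff {a y : G} (h : y ∉ centralizer ({a} : Set G)) (n : ℤ) :
    y ^ n ∈ centralizer ({a} : Set G) ↔ (p : ℤ) ∣ n := by
  rw [← cm_one hZ, map_zpow, ← orderOf_dvd_iff_zpow_eq_one, ord hZ hc h]

theorem dec {a y : G} (h : y ∉ centralizer ({a} : Set G)) (g : G) :
    ∃ n : ℤ, (y ^ n)⁻¹ * g ∈ centralizer ({a} : Set G) := by
  obtain ⟨n, hn⟩ := mem_zpowers_iff.1 (zp hZ hc h ▸ cm_mem hZ a g)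
  exact ⟨n, (cm_one hZ).1 (by rw [map_mul, map_inv, map_zpow, hn, inv_mul_cancel])⟩

omit [Finite G] hp hZ hc in
theorem nc {a : G} (h : a ∉ center G) : ∃ y, y ∉ centralizer ({a} : Set G) := by
  by_contra! h1
  exact h (mem_center_iff.2 fun g => mem_centralizer_singleton_iff.1 (h1 g))

theorem conj {a d : G} (h : a ∉ center G) (hd : d ∈ commutator G) : ∃ g, g * a * g⁻¹ = d * a := by
  obtain ⟨y, hy⟩ := nc h
  obtain ⟨n, hn⟩ := mem_zpowers_iff.1 (zp hZ hc hy ▸ hd)
  exact ⟨y ^ n, by rw [← hn, ← map_zpow]; exact (inv_mul_cancel_right _ _).symm⟩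

theorem idx {a : G} (h : a ∉ center G) : (centralizer ({a} : Set G)).index = p := by
  obtain ⟨y, hy⟩ := nc h
  rw [← show (cm hZ a).ker = _ from Subgroup.ext fun g => cm_one hZ, index_ker, ← hc]
  congr 2
  exact le_antisymm (by rintro _ ⟨g, rfl⟩; exact cm_mem hZ a g) (zp hZ hc hy ▸ zpowers_le.2 ⟨y, rfl⟩)

open scoped IsMulCommutative in
theorem data {a : G} (ha : a ∉ center G) : ∃ x y w : G, y ∉ centralizer ({x} : Set G) ∧
    w ∈ centralizer ({x} : Set G) ∧ (∀ h ∈ centralizer ({x} : Set G), w * h = h * w) ∧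
    (y * w) ^ p = y ^ p ∧ w ∉ commutator G := by
  obtain ⟨b, hb⟩ := nc ha
  by_cases h : ∃ z ∈ center G, z ^ p = 1 ∧ z ∉ commutator G
  · obtain ⟨z, h1, h2, h3⟩ := h
    exact ⟨a, b, z, hb, center_le_centralizer _ h1, fun h _ => (mem_center_iff.1 h1 h).symm,
      by rw [Commute.mul_pow (mem_center_iff.1 h1 b), h2, mul_one], h3⟩
  push Not at h
  let ψ : center G →* center G := powMonoidHom p
  have h1 : Nat.card (center G ⧸ ψ.range) ≤ p := by
    rw [← index_eq_card, index_range, ← hc, ← card_map_of_injective (center G).subtype_injective]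
    refine card_le_of_le ?_
    rintro _ ⟨z, hz, rfl⟩
    exact h _ z.2 (congrArg Subtype.val hz)
  have h2 : ∀ g : G, g ^ p ∈ center G := fun g => mem_center_iff.2 fun k =>
    (mem_centralizer_singleton_iff.1 ((cm_one hZ).1 (by
      rw [map_pow, ← hc]; exact congrArg Subtype.val (pow_card_eq_one' (x := (⟨_, cm_mem hZ k g⟩ : commutator G)))))).symm
  let e : Option (Fin p) → G := fun o => o.elim a fun i => b * a ^ (i : ℕ)
  have h3 : ∀ n : ℕ, a * (b * a ^ n) ≠ b * a ^ n * a := fun n e => hb (mem_centralizer_singleton_iff.2 (by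
    rw [mul_assoc, ← pow_succ, pow_succ', ← mul_assoc, ← mul_assoc] at e
    exact (mul_right_cancel e).symm))
  have h4 : ∀ i j, i ≠ j → e i * e j ≠ e j * e i := by
    rintro (_ | i) (_ | j) hij
    · exact (hij rfl).elim
    · exact h3 j
    · exact (h3 i).symm
    · intro h5
      have h6 : a ^ ((i : ℤ) - j) ∈ centralizer ({b} : Set G) := mem_centralizer_singleton_iff.2 (by
        have : a ^ (i : ℕ) * b * a ^ (j : ℕ) = a ^ (j : ℕ) * b * a ^ (i : ℕ) := by
          simpa [e, mul_assoc] using h5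
        calc _ = (a ^ (j : ℕ))⁻¹ * (a ^ (i : ℕ) * b * a ^ (j : ℕ)) * (a ^ (j : ℕ))⁻¹ := by group
          _ = _ := by rw [this]; group)
      rw [pow_mem_iff hZ hc fun e => hb (mem_centralizer_singleton_iff.2
        (mem_centralizer_singleton_iff.1 e).symm)] at h6
      have := Int.eq_zero_of_abs_lt_dvd h6 (abs_sub_lt_iff.2 ⟨by omega, by omega⟩)
      exact hij (congrArg some (Fin.ext (by omega)))
  have := Fintype.ofFinite (center G ⧸ ψ.range)
  obtain ⟨i, j, hij, h5⟩ := Fintype.exists_ne_map_eq_of_card_lt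
    (fun o => ((⟨e o ^ p, h2 _⟩ : center G) : center G ⧸ ψ.range)) (by
      rw [← Nat.card_eq_fintype_card]; simpa using Nat.lt_succ_of_le h1)
  obtain ⟨z, hz⟩ := QuotientGroup.eq.1 h5
  replace hz : (z : G) ^ p = (e i ^ p)⁻¹ * e j ^ p := congrArg Subtype.val hz
  have h6 := mem_center_iff.1 z⁻¹.2
  have h7 : e i ∉ centralizer ({(e i)⁻¹ * e j * (z⁻¹ : center G)} : Set G) := fun h => h4 i j hij (by
    have := mem_centralizer_singleton_iff.1 h
    rw [mul_assoc _ _ (e i), ← h6, ← mul_assoc, ← mul_assoc, ← mul_assoc _ (e i), mul_left_inj,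
      mul_inv_cancel, one_mul, mul_assoc, eq_inv_mul_iff_mul_eq] at this
    exact this)
  refine ⟨_, e i, _, h7, mem_centralizer_singleton_iff.2 rfl,
    fun h hh => (mem_centralizer_singleton_iff.1 hh).symm, ?_, fun h => h7 ?_⟩
  · rw [mul_assoc, mul_inv_cancel_left, Commute.mul_pow (h6 _), coe_inv, inv_pow, hz]
    rw [mul_inv_rev, inv_inv, mul_inv_cancel_left]
  · exact mem_centralizer_singleton_iff.2 (mem_center_iff.1 (hZ h) _)

theorem aut {x y w : G} (hy : y ∉ centralizer ({x} : Set G)) (hw : w ∈ centralizer ({x} : Set G))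
    (h1 : ∀ h ∈ centralizer ({x} : Set G), w * h = h * w) (h2 : (y * w) ^ p = y ^ p) :
    ∃ T : MulAut G, (∀ h ∈ centralizer ({x} : Set G), T h = h) ∧ T y = y * w := by
  choose i hi using dec hZ hc hy
  have k1 : ∀ n : ℤ, (p : ℤ) ∣ n → (y * w) ^ n = y ^ n := by
    rintro _ ⟨n, rfl⟩
    rw [zpow_mul, zpow_mul, zpow_natCast, zpow_natCast, h2]
  let f : G → G := fun g => (y * w) ^ i g * ((y ^ i g)⁻¹ * g)
  have k2 : ∀ n : ℤ, ∀ h ∈ centralizer ({x} : Set G), f (y ^ n * h) = (y * w) ^ n * h := fun n h hh => by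
    have := mul_mem (hi (y ^ n * h)) (inv_mem hh)
    rw [mul_assoc, mul_inv_cancel_right, ← zpow_neg, ← zpow_add, pow_mem_iff hZ hc hy] at this
    simp only [f]
    rw [← mul_assoc (y ^ _)⁻¹, ← zpow_neg, ← zpow_add, ← k1 _ this, ← mul_assoc, ← zpow_add,
      add_neg_cancel_left]
  have k3 : ∀ g, ∃ n : ℤ, ∃ h ∈ centralizer ({x} : Set G), g = y ^ n * h := fun g =>
    ⟨_, _, hi g, (mul_inv_cancel_left _ _).symm⟩
  let F : G →* G := MonoidHom.mk' f fun a b => by
    obtain ⟨n, h, hh, rfl⟩ := k3 a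
    obtain ⟨m, k, hk, rfl⟩ := k3 b
    have e : cm hZ h ((y * w) ^ (-m)) = cm hZ h (y ^ (-m)) := by
      rw [map_zpow, map_mul, (cm_one hZ).2 (mem_centralizer_singleton_iff.2 (h1 h hh)), mul_one, map_zpow]
    have e1 : y ^ n * h * (y ^ m * k) = y ^ (n + m) * (cm hZ h (y ^ (-m)) * h * k) := by
      simp only [cm, MonoidHom.mk'_apply]; group
    rw [e1, k2 _ _ (mul_mem (mul_mem (center_le_centralizer _ (hZ (cm_mem hZ _ _))) hh) hk), k2 _ _ hh,
      k2 _ _ hk, ← e]
    simp only [cm, MonoidHom.mk'_apply]; group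
  have k4 : Function.Injective F := (injective_iff_map_eq_one F).2 fun a ha => by
    obtain ⟨n, h, hh, rfl⟩ := k3 a
    replace ha := (k2 n h hh).symm.trans ha
    rwa [k1 n ((pow_mem_iff hZ hc (fun e => hy ((mul_mem_cancel_right hw).1 e)) n).1
      (eq_inv_of_mul_eq_one_left ha ▸ inv_mem hh))] at ha
  exact ⟨MulEquiv.ofBijective F (Finite.injective_iff_bijective.1 k4), fun h hh => show f h = h by
    simpa using k2 0 h hh, show f y = _ by simpa using k2 1 1 (one_mem _)⟩

theorem big {a : G} (ha : a ∉ center G) : ∃ x ∉ center G, ∀ g ∉ centralizer ({x} : Set G),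
    p ^ 2 ≤ Nat.card (orbit (MulAut G) g) := by
  obtain ⟨x, y, w, hy, hw, h1, h2, h3⟩ := data hZ hc ha
  obtain ⟨T, t1, t2⟩ := aut hZ hc hy hw h1 h2
  refine ⟨x, fun e => hy (mem_centralizer_singleton_iff.2 (mem_center_iff.1 e y)), fun g hg => ?_⟩
  obtain ⟨n, hn⟩ := dec hZ hc hy g
  have t3 : ∀ k : ℕ, (∀ h ∈ centralizer ({x} : Set G), (T ^ k) h = h) ∧ (T ^ k) y = y * w ^ k := fun k => by
    induction k with
    | zero => simp
    | succ k ih =>
      refine ⟨fun h hh => by rw [pow_succ, MulAut.mul_apply, t1 h hh, ih.1 h hh], ?_⟩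
      rw [pow_succ, MulAut.mul_apply, t2, map_mul, ih.2, ih.1 w hw, pow_succ, mul_assoc]
  let π := Abelianization.of (G := G)
  have hπ : ∀ d ∈ commutator G, π d = 1 := fun d hd => by rwa [← MonoidHom.mem_ker, Abelianization.ker_of]
  have t4 : ∀ k : ℕ, ∀ d ∈ commutator G, π ((T ^ k) (d * g)) = π g * π w ^ (k * n) := fun k d hd => by
    rw [← mul_inv_cancel_left (y ^ n) g, map_mul (T ^ k), map_mul (T ^ k) (y ^ n), (t3 k).1 _ hn,
      (t3 k).1 _ (center_le_centralizer _ (hZ hd)), map_zpow, (t3 k).2]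
    simp only [map_mul, map_zpow, map_pow, hπ d hd, one_mul, mul_zpow, zpow_mul, zpow_natCast]
    exact mul_right_comm _ _ _
  have t5 : orderOf (π w) = p := orderOf_eq_prime (by simpa [mul_pow] using congrArg π h2) fun e => h3 (by
    rwa [← MonoidHom.mem_ker, Abelianization.ker_of] at e)
  have t6 : ¬ (p : ℤ) ∣ n := fun e => hg ((mul_mem_cancel_left (inv_mem ((pow_mem_iff hZ hc hy n).2 e))).1 hn)
  let F : Fin p × commutator G → orbit (MulAut G) g := fun u => ⟨(T ^ (u.1 : ℕ)) (u.2 * g), by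
    obtain ⟨k, hk⟩ := conj hZ hc (fun e => hg (center_le_centralizer _ e)) u.2.2
    exact ⟨T ^ (u.1 : ℕ) * MulAut.conj k, by simp [hk]⟩⟩
  refine le_trans (by simp [hc, sq]) (Nat.card_le_card_of_injective F ?_)
  rintro ⟨i, d⟩ ⟨j, d'⟩ e
  replace e : (T ^ (i : ℕ)) (d * g) = (T ^ (j : ℕ)) (d' * g) := congrArg Subtype.val e
  have e1 := congrArg π e
  rw [t4 _ _ d.2, t4 _ _ d'.2, mul_right_inj, zpow_eq_zpow_iff_modEq, t5, Int.modEq_iff_dvd, ← sub_mul] at e1
  have e2 := Int.eq_zero_of_abs_lt_dvd (((Nat.prime_iff_prime_int.1 hp.out).dvd_or_dvd e1).resolve_right t6)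
    (abs_sub_lt_iff.2 ⟨by omega, by omega⟩)
  obtain rfl : i = j := Fin.ext (by omega)
  rw [Subtype.ext (mul_right_cancel ((T ^ (i : ℕ)).injective e))]

theorem small {a : G} (ha : a ∉ center G) (hm : ∀ d, d ∣ Nat.card G → d ≠ 1 → p ≤ d) :
    p * Nat.card (orbitRel.Quotient (MulAut G) G) ≤ Nat.card G := by
  classical
  have := Fintype.ofFinite G
  obtain ⟨x, hx, h⟩ := big hZ hc ha
  set C := centralizer ({x} : Set G)
  have h1 := weight (A := MulAut G) (p ^ 2) (fun g => 1 + (if g ∈ C then p - 1 else 0) +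
      (if g ∈ center G then p ^ 2 - p else 0)) fun g => by
    by_cases h2 : g ∈ C
    swap
    · exact (h g h2).trans (Nat.le_mul_of_pos_left _ (by positivity))
    have := hp.out.pos
    by_cases h3 : g ∈ center G
    · have : Nonempty (orbit (MulAut G) g) := ⟨⟨g, mem_orbit_self g⟩⟩
      refine le_trans (by simp only [h2, h3, if_true]; omega) (Nat.le_mul_of_pos_right _ Nat.card_pos)
    · rw [sq]
      refine Nat.mul_le_mul (by simp only [h2, if_true]; omega) ?_
      rw [← idx hZ hc h3, ← ind, ← ncard_isConj, Nat.card_coe_set_eq]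
      refine Set.ncard_le_ncard fun y hy => ?_
      obtain ⟨k, rfl⟩ := isConj_iff.1 hy
      exact ⟨MulAut.conj k, rfl⟩
  have h2 : ∀ (H : Subgroup G) [DecidablePred (· ∈ H)] (m : ℕ), ∑ g, (if g ∈ H then m else 0) =
      Nat.card H * m := fun H _ m => by
    rw [← Finset.sum_filter, Finset.sum_const, smul_eq_mul, Nat.card_eq_fintype_card, Fintype.card_subtype]
  rw [Finset.sum_add_distrib, Finset.sum_add_distrib, h2, h2, Finset.sum_const, smul_eq_mul, mul_one,
    Finset.card_univ, ← Nat.card_eq_fintype_card] at h1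
  have h3 := C.index_mul_card
  rw [idx hZ hc hx] at h3
  have h4 : p * Nat.card (center G) ≤ Nat.card C := by
    have h5 := center_le_centralizer ({x} : Set G)
    obtain ⟨k, hk⟩ := card_dvd_of_le h5
    rw [hk, mul_comm]
    refine Nat.mul_le_mul_left _ (hm k ((Dvd.intro_left _ hk.symm).trans (card_subgroup_dvd_card _)) fun e => hx ?_)
    rw [eq_of_le_of_card_ge h5 (by rw [hk, e, mul_one])]
    exact mem_centralizer_singleton_iff.2 rfl
  obtain ⟨q, rfl⟩ : ∃ q, p = q + 2 := ⟨p - 2, by have := hp.out.two_le; omega⟩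
  rw [show (q + 2) ^ 2 - (q + 2) = (q + 2) * (q + 1) by
    rw [sq, Nat.sub_eq_iff_eq_add (Nat.le_mul_self _)]; ring] at h1
  refine Nat.le_of_mul_le_mul_left ?_ hp.out.pos
  rw [← mul_assoc, ← sq]
  refine h1.trans ?_
  rw [← h3]
  simp only [show q + 2 - 1 = q + 1 from rfl]
  nlinarith [Nat.mul_le_mul_left (q + 1) h4, Nat.zero_le (q * q * Nat.card C), Nat.zero_le (q * Nat.card C)]

omit hp hZ hc

/-- Let G be a finite non-abelian group and p the least prime dividing its order. Then the automorphism group of G has at most #G/p orbits on G. -/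
theorem result {G : Type*} [Group G] [Finite G] (hna : ¬ IsMulCommutative G) :
    Nat.card (MulAction.orbitRel.Quotient (MulAut G) G) ≤ Nat.card G / (Nat.card G).minFac := by
  have h0 : commutator G ≠ ⊥ := fun e => hna ⟨⟨fun a b => commutatorElement_eq_one_iff_mul_comm.1
    (mem_bot.1 (e ▸ commutator_mem_commutator (mem_top a) (mem_top b)))⟩⟩
  have h1 : Nat.card G ≠ 1 := fun e => h0 (card_eq_one.1 (Nat.dvd_one.1 (e ▸ card_subgroup_dvd_card _)))
  have hp : Fact (Nat.card G).minFac.Prime := ⟨Nat.minFac_prime h1⟩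
  have h2 : ∀ d, d ∣ Nat.card G → d ≠ 1 → (Nat.card G).minFac ≤ d := fun d hd e =>
    Nat.minFac_le_of_dvd (by have := Nat.pos_of_dvd_of_pos hd Nat.card_pos; omega) hd
  generalize (Nat.card G).minFac = p at hp h2
  rw [Nat.le_div_iff_mul_le hp.out.pos, mul_comm]
  rcases (h2 _ (card_subgroup_dvd_card _) (mt card_eq_one.1 h0)).eq_or_lt with h3 | h3
  · have hZ : commutator G ≤ center G := fun c hc => ind_eq_one_iff.1 (by
      by_contra h4
      have h5 : ind c < Nat.card (commutator G) := by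
        rw [← ncard_isConj]
        refine Set.ncard_lt_ncard (t := (commutator G : Set G)) ⟨fun y hy => ?_, fun h => h4 ?_⟩
        · obtain ⟨k, rfl⟩ := isConj_iff.1 hy
          exact Normal.conj_mem inferInstance c hc k
        · rw [isConj_one_left.1 (h (one_mem _))]
          exact ind_eq_one_iff.2 (one_mem _)
      exact (h3 ▸ h2 _ (index_dvd_card _) h4).not_gt h5)
    obtain ⟨a, ha⟩ : ∃ a, a ∉ center G := by
      by_contra! h
      exact hna ⟨⟨fun a b => mem_center_iff.1 (h b) a⟩⟩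
    exact small hZ h3.symm ha h2
  · have h4 : Nat.card (orbitRel.Quotient (MulAut G) G) ≤ Nat.card (ConjClasses G) :=
      Nat.card_le_card_of_surjective (Quotient.map' id fun a b h => by
        obtain ⟨k, rfl⟩ := isConj_iff.1 (IsConj.symm h)
        exact ⟨MulAut.conj k, rfl⟩) fun ω => ⟨Quotient.mk'' ω.out, ω.out_eq'⟩
    have h5 := kbound h2
    have h6 := (commutator G).index_mul_card
    obtain ⟨q, rfl⟩ : ∃ q, p = q + 1 := ⟨p - 1, by have := hp.out.pos; omega⟩
    rw [show (q + 1) ^ 2 - 1 = q * (q + 2) from Nat.sub_eq_of_eq_add (by ring)] at h5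
    refine (Nat.mul_le_mul_left _ h4).trans (Nat.le_of_mul_le_mul_left ?_ q.succ_pos)
    nlinarith [Nat.mul_le_mul_left (q * (commutator G).index) h3]

end Cfsg.Agent.S4067
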