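import Cfsg.Statements.S4334
import Cfsg.Agent.H18.Homog
import Cfsg.Agent.H7.Frobenius

set_option autoImplicit false
open Cfsg

namespace Cfsg.Agent.S4334

universe u
open Subgroup

theorem card_sup_dvd {G : Type*} [Group G] [Finite G] {K C : Subgroup G}
    (h : C ≤ normalizer (K : Set G)) : Nat.card (K ⊔ C : Subgroup G) ∣ Nat.card K * Nat.card C := by
  haveI := H18.normal_subgroupOf_of_le_normalizer' (sup_le le_normalizer h : K ⊔ C ≤ _)
  have := H18.card_sup_dvd_of_normal (K.subgroupOf (K ⊔ C)) (C.subgroupOf (K ⊔ C))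
  rwa [H18.map_subtype_subgroupOf_sup, card_top,
    Nat.card_congr (subgroupOfEquivOfLe le_sup_left).toEquiv,
    Nat.card_congr (subgroupOfEquivOfLe le_sup_right).toEquiv] at this

theorem dpi_iff {G : Type*} [Group G] [Finite G] {π : Set ℕ} {H : Subgroup G} (hH : IsPiHall π H) :
    IsDPiGroup π G ↔ ∀ K : Subgroup G, IsPiSubgroup π K → ∃ g : G, H98.cj g K ≤ H := by
  have hmax : Maximal (IsPiSubgroup π) H := ⟨hH.1, fun K hK hle => by
    by_contra hne
    obtain ⟨p, hp, hd⟩ := Nat.exists_prime_and_dvd (mt relIndex_eq_one.1 hne)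
    exact hH.2 p hp (hK p hp (hd.trans (relIndex_dvd_card H K)))
      (hd.trans (relIndex_dvd_index_of_le hle))⟩
  constructor
  · intro h K hK
    obtain ⟨M, hKM, hM⟩ := Finite.exists_le_maximal (p := IsPiSubgroup π) hK
    obtain ⟨g, e⟩ := h M H hM hmax
    exact ⟨g, (H98.cj_mono g hKM).trans e.ge⟩
  · intro h A B hA hB
    have key : ∀ C : Subgroup G, Maximal (IsPiSubgroup π) C → ∃ g : G, H98.cj g C = H := by
      intro C hC
      obtain ⟨g, hg⟩ := h C hC.1
      refine ⟨g, le_antisymm hg (H98.le_cj_iff.2 (hC.2 ?_ (H98.cj_le_iff.1 hg)))⟩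
      intro p hp hd
      exact hH.1 p hp (H98.card_cj g⁻¹ H ▸ hd)
    obtain ⟨a, ha⟩ := key A hA
    obtain ⟨b, hb⟩ := key B hB
    refine ⟨b⁻¹ * a, ?_⟩
    change B = H98.cj _ A
    rw [← H98.cj_cj, ha, ← hb, H98.cj_inv_cj]

theorem step {G : Type*} [Group G] [Finite G] {ρ : Set ℕ} {p : ℕ} [hp : Fact p.Prime] (hpρ : p ∉ ρ)
    {P R : Subgroup G} (hP : H98.IsSyl p P ⊤) (hR : IsPiHall ρ R)
    (hc : R ≤ centralizer (P : Set G))
    (hD : ∀ K : Subgroup G, IsPiSubgroup ρ K → ∃ g : G, H98.cj g K ≤ R)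
    (K : Subgroup G) (hK : IsPiSubgroup (insert p ρ) K) : ∃ g : G, H98.cj g K ≤ P ⊔ R := by
  have h1 : HasNormalPComplement p K := by
    refine H7.hasNPC_of_normalizer_centralizer fun U hU x hx hxp a ha => Subtype.ext ?_
    obtain ⟨g, -, hg⟩ := hP.exists_cj_le (hU.map K.subtype) le_top
    have h2 : H98.cj g⁻¹ R ≤ centralizer (U.map K.subtype : Set G) := by
      rw [H98.cj_le_iff, inv_inv, H98.cj_centralizer]
      exact hc.trans (H98.centralizer_anti hg)
    refine H18.mem_centralizer_of_coprime_relIndex (H98.map_le_normalizer_map K.subtype le_rfl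
      (mem_map_of_mem _ hx)) (H18.coprime_of_forall_prime (π := ρ) (fun r hr hd => ?_)
      fun r hr hd hrρ => hR.2 r hr hrρ ?_) _ (mem_map_of_mem _ ha)
    · refine (hK r hr (hd.trans (Subgroup.orderOf_dvd_natCard _ x.2))).resolve_left ?_
      rintro rfl
      exact hr.coprime_iff_not_dvd.1 hxp.symm (hd.trans (orderOf_coe x).dvd)
    · rw [← index_map_equiv R (MulAut.conj g⁻¹)]
      exact (hd.trans (relIndex_dvd_index_of_le (H98.le_normalizer_of_le_centralizer le_rfl))).trans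
        (index_dvd_of_le h2)
  obtain ⟨g, hg⟩ := hD ((pResidual p K).map K.subtype) fun r hr hd => by
    refine (hK r hr (hd.trans (card_dvd_of_le (map_subtype_le _)))).resolve_left ?_
    rintro rfl
    rw [card_map_of_injective K.subtype_injective] at hd
    exact H7.hasNPC_iff_not_dvd.1 h1 hd
  obtain ⟨S⟩ : Nonempty (Sylow p K) := inferInstance
  have hsup : (pResidual p K).map K.subtype ⊔ (S : Subgroup K).map K.subtype = K := by
    rw [← Subgroup.map_sup, H7.pResidual_sup_sylow, ← MonoidHom.range_eq_map, range_subtype]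
  obtain ⟨n, hn, e⟩ := (hP.of_le (K := normalizer (H98.cj g ((pResidual p K).map K.subtype) : Set G))
    (H98.le_normalizer_of_le_centralizer ((le_centralizer_iff.1 hc).trans (H98.centralizer_anti hg)))
    le_top).exists_cj_le (H98.isPGroup_cj g (S.isPGroup'.map K.subtype)) (by
      rw [← H98.cj_normalizer]
      exact H98.cj_mono g ((map_subtype_le _).trans (H98.le_normalizer_map_subtype _)))
  refine ⟨n * g, ?_⟩
  rw [← hsup, ← H98.cj_cj, H98.cj_sup, H98.cj_sup, H98.cj_eq_self hn, sup_comm]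
  exact sup_le_sup e hg

theorem aux {G : Type*} [Group G] [Finite G] {τ : Set ℕ} (hD : IsDPiGroup τ G) (s : Finset ℕ) :
    ∀ (A T : Subgroup G), Disjoint (s : Set ℕ) τ → IsPiSubgroup s A → Group.IsNilpotent A →
      IsPiSubgroup τ T → T ≤ centralizer (A : Set G) → IsPiHall (s ∪ τ) (A ⊔ T) →
      ∀ K : Subgroup G, IsPiSubgroup (s ∪ τ) K → ∃ g : G, H98.cj g K ≤ A ⊔ T := by
  classical
  induction s using Finset.induction_on with
  | empty =>
    intro A T _ _ _ _ _ h
    rw [Finset.coe_empty, Set.empty_union] at h ⊢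
    exact (dpi_iff h).1 hD
  | insert p s hps ih =>
  intro A T hd hA _ hT hc hH K hK
  rw [Finset.coe_insert] at hd hA hH hK
  have hd' : Disjoint (s : Set ℕ) τ := hd.mono_left (Set.subset_insert _ _)
  have mono : ∀ {X : Subgroup G} {ρ : Set ℕ}, ¬ p.Prime → IsPiSubgroup (insert p ρ) X →
      IsPiSubgroup ρ X := fun hp h r hr hd => (h r hr hd).resolve_left fun e => hp (e ▸ hr)
  rw [Set.insert_union] at hH hK
  by_cases hp : p.Prime
  swap
  · exact ih A T hd' (mono hp hA) ‹_› hT hc ⟨mono hp hH.1, fun r hr h => hH.2 r hr (Or.inr h)⟩ K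
      (mono hp hK)
  haveI := Fact.mk hp
  have hpτ : p ∉ τ := fun h => Set.disjoint_left.1 hd (Set.mem_insert _ _) h
  have hpρ : p ∉ (s : Set ℕ) ∪ τ := fun h => h.elim hps hpτ
  let P := (pCore p A).map A.subtype
  let B := (pPrimeCore p A).map A.subtype
  have hPA : P ≤ A := map_subtype_le _
  have hBA : B ≤ A := map_subtype_le _
  have hPB : P ⊔ B = A := by
    rw [← Subgroup.map_sup, H2.pCore_sup_pPrimeCore_eq_top, ← MonoidHom.range_eq_map, range_subtype]
  have hP : IsPGroup p P := H2.isPGroup_map_pCore_subtype A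
  have hB : IsPiSubgroup s B := fun r hr h => (hA r hr (h.trans (card_dvd_of_le hBA))).resolve_left (by
    rintro rfl
    exact hr.coprime_iff_not_dvd.1 (H2.coprime_card_map_pPrimeCore_subtype A).symm h)
  have hcT : T ≤ centralizer (B : Set G) := hc.trans (H98.centralizer_anti hBA)
  have hR : H18.PiNum (s ∪ τ) (Nat.card (B ⊔ T : Subgroup G)) :=
    (H18.PiNum.mul (H18.PiNum.mono hB Set.subset_union_left)
      (H18.PiNum.mono hT Set.subset_union_right)).of_dvd
      (card_sup_dvd (H98.le_normalizer_of_le_centralizer hcT))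
  have hRP : B ⊔ T ≤ centralizer (P : Set G) := sup_le
    (H98.map_le_centralizer_map _ (H2.pPrimeCore_le_centralizer_pCore p A))
    (hc.trans (H98.centralizer_anti hPA))
  have hH' : A ⊔ T = P ⊔ (B ⊔ T) := by rw [← sup_assoc, hPB]
  have hdv := card_sup_dvd (H98.le_normalizer_of_le_centralizer hRP)
  obtain ⟨k, hk⟩ := hP.exists_card_eq
  rw [hH'] at hH ⊢
  have hRH : IsPiHall (s ∪ τ) (B ⊔ T) := ⟨hR, fun r hr hrρ h => by
    rw [← relIndex_mul_index (le_sup_right : B ⊔ T ≤ P ⊔ (B ⊔ T))] at h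
    refine (hr.dvd_mul.1 h).elim (fun h => ?_) (hH.2 r hr (Or.inr hrρ))
    rw [H18.card_eq_card_mul_relIndex (le_sup_right : B ⊔ T ≤ P ⊔ (B ⊔ T)), mul_comm,
      Nat.mul_dvd_mul_iff_right Nat.card_pos, hk] at hdv
    exact hpρ ((Nat.prime_dvd_prime_iff_eq hr hp).1 (hr.dvd_of_dvd_pow (h.trans hdv)) ▸ hrρ)⟩
  refine step hpρ (H98.isSyl_of_not_dvd_relIndex le_top hP fun h => ?_) hRH hRP
    (ih B T hd' hB (H2.isNilpotent_of_le hBA) hT hcT hRH) K hK
  rw [relIndex_top_right, ← relIndex_mul_index (le_sup_left : P ≤ P ⊔ (B ⊔ T))] at h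
  refine (hp.dvd_mul.1 h).elim (fun h => ?_) (hH.2 p hp (Or.inl rfl))
  rw [H18.card_eq_card_mul_relIndex (le_sup_left : P ≤ P ⊔ (B ⊔ T)),
    Nat.mul_dvd_mul_iff_left Nat.card_pos] at hdv
  exact hpρ (hR p hp (h.trans hdv))

/-- Let σ and τ be disjoint sets of primes with union π. Suppose a finite group G has a Hall π-subgroup H which is the direct product of a nilpotent σ-subgroup and a τ-subgroup (two elementwise-commuting subgroups generating H), and that the maximal τ-subgroups of G are pairwise conjugate. Then the maximal π-subgroups of G are pairwise conjugate. -/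
theorem result {G : Type*} [Group G] [Finite G]
    (σ τ π : Set ℕ) (hπ : π = σ ∪ τ) (hd : Disjoint σ τ) (H Hs Ht : Subgroup G) (hH : Cfsg.IsPiHall π H)
    (hs : Cfsg.IsPiSubgroup σ Hs) (ht : Cfsg.IsPiSubgroup τ Ht) (hsn : Group.IsNilpotent Hs)
    (hjoin : Hs ⊔ Ht = H) (hcomm : ∀ a ∈ Hs, ∀ b ∈ Ht, a * b = b * a) (hD : Cfsg.IsDPiGroup τ G) :
    Cfsg.IsDPiGroup π G := by
  classical
  subst hπ hjoin
  let s := (Nat.card G).primeFactors.filter (· ∈ σ)
  have h1 : ∀ X : Subgroup G, ∀ ρ, IsPiSubgroup (σ ∪ ρ) X → IsPiSubgroup (s ∪ ρ) X :=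
    fun X ρ h r hr hd => (h r hr hd).imp_left fun e => Finset.mem_coe.2 (Finset.mem_filter.2
      ⟨Nat.mem_primeFactors.2 ⟨hr, hd.trans (card_subgroup_dvd_card X), Nat.card_pos.ne'⟩, e⟩)
  have h2 : (s : Set ℕ) ⊆ σ := fun r hr => (Finset.mem_filter.1 hr).2
  refine (dpi_iff hH).2 fun K hK => aux hD s Hs Ht (hd.mono_left h2) ?_ hsn ht
    (fun b hb a ha => hcomm a ha b hb) ⟨h1 _ _ hH.1, fun r hr h => hH.2 r hr (h.imp_left (@h2 r))⟩ K
    (h1 _ _ hK)
  simpa using h1 Hs ∅ (by simpa using hs)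

end Cfsg.Agent.S4334
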