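import Cfsg.Statements.S3861
import Cfsg.Agent.H18.Misc2
import Cfsg.Agent.H18.Elt
import Cfsg.Agent.H83.InvPair
import Cfsg.Agent.H83.BaerSuzuki
import Cfsg.Agent.H2.Fitting
import Cfsg.Agent.S3863

set_option autoImplicit false
open Cfsg

namespace Cfsg.Agent.S3861

universe u
open Subgroup

theorem aux : ∀ (G : Type u) [Group G] [Finite G],
    (∀ x : G, x ≠ 1 → Odd (orderOf x) → ¬ IsConj x x⁻¹) → ¬ 2 ∣ (pCore 2 G).index := by
  refine @H18.induction_card _ ?_
  intro G _ _ ih h
  by_cases h0 : pCore 2 G = ⊥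
  · rw [h0, index_bot]
    intro hd
    obtain ⟨t, ht⟩ := exists_prime_orderOf_dvd_card' 2 hd
    obtain ⟨x, -, -, hx, hx2, e⟩ := H83.exists_inverted_odd_prime (H83.mul_self_of_orderOf_two ht)
      fun hn => H83.ne_one_of_orderOf_two ht (by
        have := H2.le_pCore hn (subset_normalClosure (Set.mem_singleton t))
        rwa [h0] at this)
    exact h x (fun e => by rw [e, orderOf_one] at hx; exact Nat.not_prime_one hx)
      (hx.odd_of_ne_two hx2) (isConj_iff.2 ⟨t, e⟩)
  have hf := QuotientGroup.mk'_surjective (pCore 2 G)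
  have := ih (G ⧸ pCore 2 G) (H18.card_quotient_lt h0) fun y hy hodd hc => by
    obtain ⟨x, rfl, hx⟩ := H18.exists_lift_not_dvd _ hf Nat.prime_two (y := y)
      (by rwa [← even_iff_two_dvd, Nat.not_even_iff_odd])
    obtain ⟨k, hk⟩ := (H2.pCore_isPGroup 2 G).exists_card_eq
    have hcop : (orderOf x).Coprime (Nat.card (pCore 2 G)) :=
      hk ▸ ((Nat.Prime.coprime_iff_not_dvd Nat.prime_two).2 hx).symm.pow_right k
    obtain ⟨t, ht⟩ := isConj_iff.1 hc
    have h1 : t ∈ normalizer (zpowers (QuotientGroup.mk' (pCore 2 G) x) : Set _) :=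
      H98.mem_normalizer_of_cj_le (by
        rw [H98.cj, MonoidHom.map_zpowers, zpowers_le]
        exact (congrArg (· ∈ _) ht).mpr (inv_mem (mem_zpowers _)))
    rw [← H18.map_normalizer_zpowers_of_coprime _ hf (by rwa [QuotientGroup.ker_mk'])] at h1
    obtain ⟨n, hn, rfl⟩ := h1
    refine h x (fun e => hy (by rw [e, map_one])) (by
      rwa [← even_iff_two_dvd, Nat.not_even_iff_odd] at hx) (isConj_iff.2 ⟨n, ?_⟩)
    rw [← mul_eq_one_iff_eq_inv, ← orderOf_eq_one_iff]
    refine Nat.eq_one_of_dvd_coprimes hcop (orderOf_dvd_of_mem_zpowers (mul_mem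
      (H98.conj_mem_of_mem_normalizer hn (mem_zpowers x)) (mem_zpowers x)))
      (Subgroup.orderOf_dvd_natCard _ ?_)
    rw [← QuotientGroup.eq_one_iff, ← QuotientGroup.mk'_apply, map_mul, map_mul, map_mul, map_inv,
      ht, inv_mul_cancel]
  rwa [H2.pCore_quotient_pCore, index_bot] at this

/-- A finite group G has no non-identity element of odd order that is conjugate to its inverse if and only if the Sylow 2-subgroups of G are normal. -/
theorem result {G : Type*} [Group G] [Finite G] (P : Sylow 2 G) : (∀ x : G, x ≠ 1 → Odd (orderOf x) → ¬ IsConj x x⁻¹) ↔ (P : Subgroup G).Normal := by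
  constructor
  · intro h
    rw [H2.sylow_eq_pCore_of_not_dvd_index (aux G h) P]
    infer_instance
  · intro hP x hx hodd hc
    obtain ⟨t, ⟨j, hj⟩, ht⟩ := (S3863.result x hc).1
    obtain ⟨g, hg⟩ := H18.exists_conj_mem_sylow P (x := t) ⟨j, hj ▸ pow_orderOf_eq_one t⟩
    have htP : t ∈ (P : Subgroup G) := by simpa [mul_assoc] using hP.conj_mem _ hg g⁻¹
    have h1 : x * x ∈ (P : Subgroup G) := by
      have : x * x = x * t⁻¹ * x⁻¹ * t := by rw [← ht]; group
      exact this ▸ mul_mem (hP.conj_mem _ (inv_mem htP) x) htP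
    obtain ⟨k, hk⟩ := H18.exists_pow_eq_one_of_mem P.isPGroup' h1
    rw [← sq, ← pow_mul, ← pow_succ'] at hk
    exact hx (orderOf_eq_one_iff.1 (Nat.eq_one_of_dvd_coprimes
      ((Nat.coprime_two_left.2 hodd).pow_left _) (orderOf_dvd_of_pow_eq_one hk) dvd_rfl))

end Cfsg.Agent.S3861
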