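import Cfsg.Statements.S4211
import Cfsg.Agent.Base
import Cfsg.Agent.H3.Dedekind

set_option autoImplicit false
open Cfsg

namespace Cfsg.Agent.S4211

/-- A finite non-abelian group in which every subgroup is normal is the internal direct product of a subgroup isomorphic to the quaternion group of order `8`, an elementary abelian `2`-subgroup and an abelian subgroup of odd order. -/
theorem result {G : Type*} [Group G] [Finite G] (hna : ¬ IsMulCommutative G) (hn : ∀ H : Subgroup G, H.Normal) : ∃ Q E A : Subgroup G, Nonempty (Q ≃* QuaternionGroup 2) ∧ Cfsg.IsElementaryAbelian 2 E ∧ IsMulCommutative A ∧ Odd (Nat.card A) ∧ E ⊓ A = ⊥ ∧ Q ⊓ (E ⊔ A) = ⊥ ∧ Q ⊔ (E ⊔ A) = ⊤ := by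
  have := H3.isNilpotent_of_forall_normal hn
  obtain ⟨x, y, hx, hy, hxy⟩ := H3.exists_quaternion_pair hn hna
  have hx4 : x ^ 4 = 1 := hx ▸ pow_orderOf_eq_one x
  have hx2 : x ^ 2 ≠ 1 := fun h => by
    have := orderOf_dvd_of_pow_eq_one h
    rw [hx] at this
    norm_num at this
  have hne : y * x ≠ x * y := fun h => hx2 (by
    rw [h, mul_inv_cancel_right, eq_inv_iff_mul_eq_one] at hxy
    rw [pow_two, hxy])
  have hyx : y ∉ Subgroup.zpowers x := fun h => hne (H3.mul_comm_of_mem_zpowers h)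
  have hy4 : y ^ 4 = 1 := by rw [show 4 = 2 * 2 from rfl, pow_mul, hy, ← pow_mul]; exact hx4
  have hyo : orderOf y = 4 := orderOf_eq_prime_pow (p := 2) (n := 1) (x := y) (hy ▸ hx2) hy4
  have hxy' : x * y * x⁻¹ = y⁻¹ := by
    calc x * y * x⁻¹ = x * (y * x * y⁻¹)⁻¹ * y := by group
      _ = x ^ 2 * y := by rw [hxy, inv_inv, pow_two]
      _ = y ^ 4 * y⁻¹ := by rw [← hy]; group
      _ = _ := by rw [hy4, one_mul]
  obtain ⟨e⟩ := H3.nonempty_closure_mulEquiv_quaternion (n := 2) hx hy hxy hyx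
  set Q := Subgroup.closure ({x, y} : Set G) with hQ
  have hxQ : x ∈ Q := Subgroup.subset_closure (by simp)
  have hyQ : y ∈ Q := Subgroup.subset_closure (by simp)
  obtain ⟨P⟩ : Nonempty (Sylow 2 G) := inferInstance
  obtain ⟨A, -, hA, -, hodd⟩ := H3.exists_isComplement'_sylow_of_nilpotent P
  have hQP : Q ≤ P := by
    have := hn Q
    refine IsPGroup.le_sylow_of_normal (IsPGroup.of_card (n := 3) ?_) P
    rw [Nat.card_congr e.toEquiv, H3.natCard_quaternionGroup two_ne_zero]; rfl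
  have h4 : ∀ h : G, Commute h x → Commute h y → h ^ 4 = 1 → h ^ 2 = 1 := by
    intro h h1 h2 h3
    have h6 : (h * y) ^ 4 = 1 := by rw [h2.mul_pow, h3, hy4, mul_one]
    have h7 : x * (h * y) * x⁻¹ = h * y⁻¹ := by
      rw [← hxy', ← mul_assoc, ← h1.eq]; group
    by_cases h8 : (h * y) ^ 2 = 1
    · exfalso
      have h9 := (hn _).conj_mem _ (Subgroup.mem_zpowers (h * y)) x
      have h10 : h * y ≠ 1 := fun h0 => hne (by
        rw [← (inv_eq_of_mul_eq_one_right h0), h1.inv_left.eq])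
      have h11 : x * (h * y) * x⁻¹ ≠ 1 := by rwa [Ne, conj_eq_one_iff]
      obtain ⟨k, hk⟩ := Subgroup.mem_zpowers_iff.mp h9
      rcases Int.even_or_odd' k with ⟨c, rfl | rfl⟩
      · rw [zpow_mul, zpow_ofNat, h8, one_zpow] at hk
        exact h11 hk.symm
      · rw [zpow_add, zpow_mul, zpow_ofNat, h8, one_zpow, one_mul, zpow_one, h7,
          mul_right_inj, eq_inv_iff_mul_eq_one, ← pow_two, hy] at hk
        exact hx2 hk
    · rcases H3.eq_or_eq_inv_of_orderOf_four
        (orderOf_eq_prime_pow (p := 2) (n := 1) (x := h * y) h8 h6)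
        ((hn _).conj_mem _ (Subgroup.mem_zpowers (h * y)) x)
        (by rwa [conj_pow, Ne, conj_eq_one_iff]) with h9 | h9
      · rw [h7, mul_right_inj, inv_eq_iff_mul_eq_one, ← pow_two, hy] at h9
        exact absurd h9 hx2
      · rw [h7, mul_inv_rev, h2.inv_right.eq, mul_right_inj, eq_inv_iff_mul_eq_one] at h9
        rw [pow_two, h9]
  have h5 : ∀ g ∈ (P : Subgroup G) ⊓ Subgroup.centralizer (Q : Set G), g ^ 2 = 1 := by
    rintro g ⟨hgP, hgC⟩
    obtain ⟨k, hk⟩ := P.2 ⟨g, hgP⟩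
    have hk' : g ^ 2 ^ k = 1 := congrArg Subtype.val hk
    clear hk
    have h1 : Commute g x := (hgC x hxQ).symm
    have h2 : Commute g y := (hgC y hyQ).symm
    induction k with
    | zero => rw [pow_zero, pow_one] at hk'; rw [hk', one_pow]
    | succ k ih =>
      rcases k with _ | k
      · simpa using hk'
      · refine ih ?_
        rw [pow_succ, pow_mul]
        refine h4 _ (h1.pow_left _) (h2.pow_left _) ?_
        rw [← pow_mul, ← hk']; congr 1; ring
  obtain ⟨E, hE1, hE2, hE3⟩ := H3.exists_complement_zpowers_of_sq_eq_one _ h5 hx2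
  have hEP : E ≤ P := hE1.trans inf_le_left
  have hE : Cfsg.IsElementaryAbelian 2 E := ⟨⟨⟨fun a b => Subtype.ext
    (Commute.of_orderOf_dvd_two (fun g : E => orderOf_dvd_of_pow_eq_one
      (Subtype.ext (h5 g (hE1 g.2)))) a b ▸ rfl)⟩⟩, fun a ha => h5 a (hE1 ha)⟩
  refine ⟨Q, E, A, ⟨e⟩, hE, ?_, Nat.odd_iff.mpr (by omega), ?_, ?_, ?_⟩
  · exact H3.isMulCommutative_of_forall_normal_of_odd (H3.normal_subgroup_of_forall_normal hn A)
      fun h => hodd (dvd_trans (by norm_num) h)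
  · exact (hA.disjoint.mono_left hEP).eq_bot
  · refine (Subgroup.eq_bot_iff_forall _).mpr ?_
    rintro q ⟨hq, hq'⟩
    have := hn A
    obtain ⟨a, ha, b, hb, rfl⟩ := H3.mem_sup_normal_right.mp hq'
    have h1 : b = 1 := Subgroup.disjoint_def.mp hA.disjoint
      (by simpa using mul_mem (inv_mem (hEP ha)) (hQP hq)) hb
    rw [h1, mul_one] at hq ⊢
    have h2 : ∀ u v : QuaternionGroup 2, u ^ 2 = 1 → v ^ 2 ≠ 1 → u = 1 ∨ u = v ^ 2 := by decide
    rcases h2 (e ⟨a, hq⟩) (e ⟨x, hxQ⟩) (by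
        rw [← map_pow, e.map_eq_one_iff]; exact Subtype.ext (h5 a (hE1 ha))) (by
        rw [← map_pow, Ne, e.map_eq_one_iff]; exact fun h => hx2 (congrArg Subtype.val h))
      with h3 | h3
    · exact congrArg Subtype.val (e.map_eq_one_iff.mp h3)
    · rw [← map_pow] at h3
      have h6 : a = x ^ 2 := congrArg Subtype.val (e.injective h3)
      exact absurd (h6 ▸ ha) hE2
  · rw [eq_top_iff, ← hA.sup_eq_top, ← sup_assoc]
    refine sup_le_sup_right (fun g hg => ?_) _
    have key : ∀ q ∈ Q, q * g * x * (q * g)⁻¹ = x → q * g * y * (q * g)⁻¹ = y → g ∈ Q ⊔ E := by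
      intro q hq h1 h2
      have h3 : q * g ∈ Subgroup.centralizer (Q : Set G) := by
        rw [hQ, Subgroup.centralizer_closure, Subgroup.mem_centralizer_iff]
        rintro w (rfl | rfl)
        · exact (mul_inv_eq_iff_eq_mul.mp h1).symm
        · exact (mul_inv_eq_iff_eq_mul.mp h2).symm
      have h6 : q * g ∈ Q ⊔ E := (sup_le le_sup_right
        (Subgroup.zpowers_le.mpr (Subgroup.mem_sup_left (pow_mem hxQ 2)))) (hE3 ⟨mul_mem (hQP hq) hg, h3⟩)
      simpa using mul_mem (inv_mem (Subgroup.mem_sup_left hq)) h6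
    have hconj : ∀ q w : G, q * g * w * (q * g)⁻¹ = q * (g * w * g⁻¹) * q⁻¹ := fun q w => by group
    rcases H3.eq_or_eq_inv_of_orderOf_four hx ((hn _).conj_mem _ (Subgroup.mem_zpowers x) g)
        (by rwa [conj_pow, Ne, conj_eq_one_iff]) with h1 | h1 <;>
      rcases H3.eq_or_eq_inv_of_orderOf_four hyo ((hn _).conj_mem _ (Subgroup.mem_zpowers y) g)
        (by rwa [conj_pow, Ne, conj_eq_one_iff, hy]) with h2 | h2
    · exact key 1 (one_mem _) (by rw [hconj, h1]; group) (by rw [hconj, h2]; group)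
    · exact key x hxQ (by rw [hconj, h1]; group) (by rw [hconj, h2, ← conj_inv, hxy', inv_inv])
    · exact key y hyQ (by rw [hconj, h1, ← conj_inv, hxy, inv_inv]) (by rw [hconj, h2]; group)
    · refine key (x * y) (mul_mem hxQ hyQ) ?_ ?_
      · rw [hconj, h1]
        calc x * y * x⁻¹ * (x * y)⁻¹ = x * (y * x * y⁻¹)⁻¹ * x⁻¹ := by group
          _ = x := by rw [hxy]; group
      · rw [hconj, h2]
        calc x * y * y⁻¹ * (x * y)⁻¹ = (x * y * x⁻¹)⁻¹ := by group
          _ = y := by rw [hxy', inv_inv]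

end Cfsg.Agent.S4211
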