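import Cfsg.Statements.S0953
import Cfsg.Agent.H36.Robinson2
import Cfsg.Agent.H37.Sec

set_option autoImplicit false
open Cfsg

namespace Cfsg.Agent.S0953

/-- Let P be a Sylow p-subgroup of the finite group G with normalizer N, and fix a maximal ideal M of the algebraic integers containing p. The number of blocks of G having P as a defect group equals the number of conjugacy classes of N consisting of elements of order prime to p that centralize P. -/
theorem result {G : Type*} [Group G] [Finite G] (p : ℕ) [Fact p.Prime] (M : Ideal Cfsg.AlgInt) (hM : Cfsg.IsPModular p M) (P : Sylow p G) : Nat.card {B : Set (Cfsg.IrrCharacter G) // Cfsg.IsPBlock M B ∧ Cfsg.IsDefectGroup p M B (P : Subgroup G)} = Nat.card {C : ConjClasses (Subgroup.normalizer ((P : Subgroup G) : Set G)) // ∀ n : Subgroup.normalizer ((P : Subgroup G) : Set G), ConjClasses.mk n = C → ¬ p ∣ orderOf n ∧ (n : G) ∈ Subgroup.centralizer ((P : Subgroup G) : Set G)} := by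
  have := hM.2.1
  have := H35.charP_F hM
  rw [H36.card_blocks_eq_card_blocks_normalizer hM P.isPGroup']
  set N := Subgroup.normalizer ((P : Subgroup G) : Set G)
  set T : Sylow p N := P.subtype Subgroup.le_normalizer with hT
  have hT' : (T : Subgroup N) = (P : Subgroup G).subgroupOf N := rfl
  have hTn : (T : Subgroup N).Normal := by rw [hT']; infer_instance
  have hcen : ∀ n : N, (n : G) ∈ Subgroup.centralizer ((P : Subgroup G) : Set G) ↔
      n ∈ Subgroup.centralizer ((T : Subgroup N) : Set N) := fun n => by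
    rw [← H36.mem_centralizer_map_iff N.subtype_injective, hT',
      Subgroup.map_subgroupOf_eq_of_le Subgroup.le_normalizer]; rfl
  have hcl : ∀ g : N, (∀ n : N, ConjClasses.mk n = ConjClasses.mk g → ¬ p ∣ orderOf n ∧
      (n : G) ∈ Subgroup.centralizer ((P : Subgroup G) : Set G)) ↔
      ¬ p ∣ orderOf g ∧ g ∈ Subgroup.centralizer ((T : Subgroup N) : Set N) := fun g => by
    refine ⟨fun h => by simpa only [hcen] using h g rfl, fun h n hn => ?_⟩
    obtain ⟨c, rfl⟩ := isConj_iff.1 (ConjClasses.mk_eq_mk_iff_isConj.1 hn.symm)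
    rw [hcen, H37.orderOf_conj]
    exact ⟨h.1, H36.conj_mem_centralizer (by rw [Subgroup.normalizer_eq_top]; trivial) h.2⟩
  rw [← hT']
  refine le_antisymm (H36.card_blocks_le_card_classes (M := M) _ (fun _ h => h.1) _
    fun b b' hb _ _ _ g hg _ => (hcl g).2 ⟨H36.not_dvd_orderOf_of_coeff_eB hM hb.1 hg,
      (H36.supp_br (T : Subgroup N) _).mem
        (by rwa [H36.br_eB_eq_of_normal hM T.isPGroup' hb.1])⟩)
    (H36.le_card_blocks_of_separated hM T _ _ (fun C hC => ?_) fun u v hu hv h => ?_)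
  · obtain ⟨x, rfl⟩ := ConjClasses.mk_surjective C
    exact ⟨x, rfl, (H37.sylow_isSylowIn_top T).of_le
      (H37.le_centralizer_singleton_iff.2 ((hcl x).1 hC).2) le_top⟩
  · obtain ⟨hu1, hu2⟩ := (hcl u).1 hu
    obtain ⟨hv1, -⟩ := (hcl v).1 hv
    obtain ⟨k, hk⟩ := IsPGroup.iff_orderOf.1 T.isPGroup' ⟨_, h⟩
    rw [← Subgroup.orderOf_coe] at hk
    have h1 : Cfsg.IsPPart p v (v * u⁻¹) :=
      ⟨u, by simp, Subgroup.mem_centralizer_iff.1 hu2 _ h, ⟨k, hk⟩, hu1⟩
    have h2 : Cfsg.IsPPart p v 1 := ⟨v, one_mul v, Commute.one_left v, ⟨0, by simp⟩, hv1⟩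
    exact mul_inv_eq_one.1 (H37.isPPart_unique hM.1 h1 h2)

end Cfsg.Agent.S0953
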