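import Cfsg.Statements.S0955
import Cfsg.Agent.H36.Main1
import Cfsg.Agent.H2.Core

set_option autoImplicit false
open Cfsg

namespace Cfsg.Agent.S0955

/-- Let D be a defect group of a block of the finite group G relative to a maximal ideal M of the algebraic integers containing the prime p. Then D is the largest normal p-subgroup of its own normalizer: O_p(N_G(D)) = D. -/
theorem result {G : Type*} [Group G] [Finite G] (p : ℕ) [Fact p.Prime] (M : Ideal Cfsg.AlgInt) (hM : Cfsg.IsPModular p M) (B : Set (Cfsg.IrrCharacter G)) (hB : Cfsg.IsPBlock M B) (D : Subgroup G) (hD : Cfsg.IsDefectGroup p M B D) : (Cfsg.pCore p (Subgroup.normalizer (D : Set G))).map (Subgroup.normalizer (D : Set G)).subtype = D := by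
  have := hM.2.1
  obtain ⟨b, hb, h1⟩ := H36.exists_brauer_correspondent hM hB hD
  have h2 := (H36.isInducedBlock_normalizer_iff hM hB hD hb).2 h1
  have h3 := (H36.isDefectGroup_subgroupOf_iff hM hb Subgroup.le_normalizer).2
      (H36.isDef_of_induced hM Subgroup.le_normalizer le_rfl h2 hD)
  have h4 := H36.le_of_normal_of_isDefectGroup hM hb h3 (H2.pCore_isPGroup p _)
  rw [le_antisymm h4 (H2.le_pCore (H36.isPGroup_of_isDefectGroup h3)),
    Subgroup.map_subgroupOf_eq_of_le Subgroup.le_normalizer]

end Cfsg.Agent.S0955
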