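import Cfsg.Statements.S5711
import Cfsg.Agent.H19.L3Quad
import Cfsg.Agent.H61.L3Final

set_option autoImplicit false
open scoped MatrixGroups
open Cfsg

namespace Cfsg.Agent.S5711

/-- The subgroups of the three-dimensional projective special linear group over a finite field of odd order q = p^α with no nontrivial normal elementary abelian subgroup. Every nontrivial subgroup H of PSL₃(q) having no normal elementary abelian subgroup other than 1 satisfies one of: H ≅ PSL₃(p^β) with β ∣ α; H ≅ PSU₃(p^β) (realised over the field with p^{2β} elements) with 2β ∣ α; 3 ∣ p^β − 1, 3β ∣ α and H has a subgroup of index 3 isomorphic to PSL₃(p^β); 3 ∣ p^β + 1, 6β ∣ α and H has a subgroup of index 3 isomorphic to PSU₃(p^β); H ≅ PSL₂(p^β) or PGL₂(p^β) with β ∣ α and p^β ≠ 3; H ≅ PSL₂(5) with q ≡ ±1 (mod 10); H ≅ PSL₂(7) with q³ ≡ 1 (mod 7); p = 5, α is even and H ≅ A₆ or A₇ or H has a subgroup of index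 2 isomorphic to A₆; H ≅ A₆ with q ≡ 1 or 19 (mod 30). -/
theorem result {F : Type*} [Field F] [Fintype F] (p α : ℕ) [Fact p.Prime] (hp : p ≠ 2) (hα : 1 ≤ α) (hF : Fintype.card F = p ^ α)
    (H : Subgroup (Matrix.ProjectiveSpecialLinearGroup (Fin 3) F)) (hH : H ≠ ⊥)
    (hN : ∀ N : Subgroup ↥H, N.Normal → IsMulCommutative ↥N → (∃ r : ℕ, r.Prime ∧ ∀ x ∈ N, x ^ r = 1) → N = ⊥) :
    (∃ (K : Type) (_ : Field K) (_ : Fintype K) (β : ℕ), Fintype.card K = p ^ β ∧ β ∣ α ∧ Nonempty (↥H ≃* Matrix.ProjectiveSpecialLinearGroup (Fin 3) K)) ∨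
    (∃ (K : Type) (_ : Field K) (_ : Fintype K) (β : ℕ), Fintype.card K = p ^ (2 * β) ∧ 2 * β ∣ α ∧ Nonempty (↥H ≃* Cfsg.PSU 3 K (p ^ β))) ∨
    (∃ (K : Type) (_ : Field K) (_ : Fintype K) (β : ℕ), Fintype.card K = p ^ β ∧ 3 ∣ p ^ β - 1 ∧ 3 * β ∣ α ∧ ∃ L : Subgroup ↥H, L.index = 3 ∧ Nonempty (↥L ≃* Matrix.ProjectiveSpecialLinearGroup (Fin 3) K)) ∨
    (∃ (K : Type) (_ : Field K) (_ : Fintype K) (β : ℕ), Fintype.card K = p ^ (2 * β) ∧ 3 ∣ p ^ β + 1 ∧ 6 * β ∣ α ∧ ∃ L : Subgroup ↥H, L.index = 3 ∧ Nonempty (↥L ≃* Cfsg.PSU 3 K (p ^ β))) ∨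
    (∃ (K : Type) (_ : Field K) (_ : Fintype K) (β : ℕ), Fintype.card K = p ^ β ∧ β ∣ α ∧ p ^ β ≠ 3 ∧ (Nonempty (↥H ≃* Matrix.ProjectiveSpecialLinearGroup (Fin 2) K) ∨ Nonempty (↥H ≃* (GL (Fin 2) K ⧸ Subgroup.center (GL (Fin 2) K))))) ∨
    ((p ^ α % 10 = 1 ∨ p ^ α % 10 = 9) ∧ ∃ (K : Type) (_ : Field K) (_ : Fintype K), Fintype.card K = 5 ∧ Nonempty (↥H ≃* Matrix.ProjectiveSpecialLinearGroup (Fin 2) K)) ∨
    ((p ^ α) ^ 3 % 7 = 1 ∧ ∃ (K : Type) (_ : Field K) (_ : Fintype K), Fintype.card K = 7 ∧ Nonempty (↥H ≃* Matrix.ProjectiveSpecialLinearGroup (Fin 2) K)) ∨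
    (p = 5 ∧ Even α ∧ (Nonempty (↥H ≃* ↥(alternatingGroup (Fin 6))) ∨ Nonempty (↥H ≃* ↥(alternatingGroup (Fin 7))) ∨
      ∃ L : Subgroup ↥H, L.index = 2 ∧ Nonempty (↥L ≃* ↥(alternatingGroup (Fin 6))))) ∨
    ((p ^ α % 30 = 1 ∨ p ^ α % 30 = 19) ∧ Nonempty (↥H ≃* ↥(alternatingGroup (Fin 6)))) := by
  have : CharP F p := charP_of_card_eq_prime_pow hF
  have hp' : p.Prime := Fact.out
  have h2 : (2 : F) ≠ 0 := fun h => hp (H19.eq_of_cast_eq_zero p Nat.prime_two h)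
  have hodd : p ^ α % 2 = 1 := Nat.odd_iff.1 (hp'.odd_of_ne_two hp).pow
  have : Nontrivial H := (Subgroup.nontrivial_iff_ne_bot H).2 hH
  let m := QuotientGroup.mk' (Subgroup.center SL(3, F))
  obtain ⟨π, hπ⟩ := (⟨m.subgroupComap_surjective_of_surjective H (QuotientGroup.mk'_surjective _),
    fun g => (Subtype.ext_iff.trans (QuotientGroup.eq_one_iff g.1)).trans H19.toGL_mem_scalars.symm⟩ :
    H19.Cv (Matrix.SpecialLinearGroup.toGL.comp (H.comap m).subtype) (m.subgroupComap H)).exists_cov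
  have hX : (Matrix.SpecialLinearGroup.toGL.comp (H.comap m).subtype).range ≤
      Geo.specialLinear (Fin 3) F := by
    rintro _ ⟨g, rfl⟩
    exact H19.mem_specialLinear.2 g.1.2
  generalize (Matrix.SpecialLinearGroup.toGL.comp (H.comap m).subtype).range = X at π hπ hX
  obtain ⟨P, hPX, hP, hn, hZ⟩ := hπ.exists_core h2 hX hN
  have hs := H19.span_of_qs hP
  have hle : P.subtype.range ≤ X := P.range_subtype.le.trans hPX
  have sub : ∀ k : Subfield F, ∃ (K : Type) (_ : Field K) (_ : Fintype K) (_ : k ≃+* K) (n d : ℕ),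
      Nat.card k = p ^ n ∧ Fintype.card K = p ^ n ∧ Nat.card k ^ d = Nat.card F ∧ α = n * d := by
    intro k
    obtain ⟨K, _, _, ⟨f⟩⟩ := H61.exists_small_field k
    obtain ⟨d, -, hd⟩ := H61.exists_card_pow_subfield k
    have := Fintype.ofFinite k
    obtain ⟨n, -, hn⟩ := FiniteField.card k p
    rw [← Nat.card_eq_fintype_card] at hn
    refine ⟨K, inferInstance, inferInstance, f, n, d, hn, ?_, hd, ?_⟩
    · rw [← hn, ← Nat.card_eq_fintype_card, Nat.card_congr f.toEquiv]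
    · rw [hn, ← pow_mul, Nat.card_eq_fintype_card, hF] at hd
      exact (Nat.pow_right_injective hp'.two_le hd).symm
  by_cases hQ : ∃ Q : (Fin 3 → F) → F, Geo.IsNondegenerateQuadraticForm Q ∧
      Geo.FixesQuadForm (Geo.matrixSet P) Q
  · obtain ⟨Q, hQ, hQ'⟩ := hQ
    obtain ⟨ψ, h1, h3⟩ := H19.exists_pgl_hom h2 hQ
    obtain ⟨φ, hφ, -⟩ := hπ.cv.exists_hom h1 (X.range_subtype.le.trans
      ((H19.le_isometry_sup h2 hX hn hs hQ hQ').trans (sup_le h3 le_sup_right)))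
    refine Or.inr (Or.inr (Or.inr (Or.inr ((H19.cases_of_pgl hp hF φ hφ fun hsol => ?_).imp_right
      Or.inl))))
    obtain ⟨ι, hι, -⟩ := (H19.cov_mk P).cv.exists_hom hπ.ker
      (le_sup_left.trans' (hle.trans X.range_subtype.ge))
    have := Group.isSolvable_of_isSolvable_injective hι
    have := hP.simple
    refine (Group.IsSolvable.commutator_lt_top_of_nontrivial (H61.L3.Bar P)).ne ?_
    rw [commutator_def, ← Subgroup.map_top_of_surjective _ (QuotientGroup.mk'_surjective _),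
      ← Subgroup.map_commutator, ← commutator_def, H19.commutator_eq_top_of hP.perfect]
  have fix : ∀ g : GL (Fin 3) F, H19.trc g ^ p ^ α = H19.trc g := fun g => by
    rw [← hF, FiniteField.pow_card]
  have no : ¬ ∀ g ∈ P, H19.trc g ^ p ^ α = H19.trc g⁻¹ := fun h =>
    hQ (H19.exists_quad_of_trace3 hs h2 fun g hg => (h g hg).symm.trans (fix g))
  have nz : ∀ r : ℕ, r.Prime → (r : F) ≠ 0 → p ^ α % r ≠ 0 := fun r hr h h' =>
    H19.ne_of_cast_ne_zero p h ((Nat.prime_dvd_prime_iff_eq hr hp').1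
      (hr.dvd_of_dvd_pow (Nat.dvd_of_mod_eq_zero h'))).symm
  rcases H19.concl_of_core3 H61.L3.core3 hP with ⟨k, h⟩ | ⟨k, q, -, hq, h⟩ | h | ⟨-, h7, h⟩ |
    ⟨h3, ⟨e⟩⟩ | ⟨h5, ⟨e⟩⟩
  · obtain ⟨K, _, _, f, n, d, a1, a2, a3, rfl⟩ := sub k
    rcases hπ.sl_cases hX hPX hn hs h with ⟨⟨e⟩⟩ | ⟨b1, b2, L, b3, ⟨e⟩⟩
    · exact Or.inl ⟨K, _, _, n, a2, dvd_mul_right _ _, ⟨e.trans (H55.pslCongr f)⟩⟩
    · exact Or.inr (Or.inr (Or.inl ⟨K, _, _, n, a2, a1 ▸ b1, mul_comm n 3 ▸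
        Nat.mul_dvd_mul_left n (b2 d a3), L, b3, ⟨e.trans (H55.pslCongr f)⟩⟩))
  · obtain ⟨K, _, _, f, n, d, a1, a2, a3, rfl⟩ := sub k
    obtain ⟨β, -, rfl⟩ := (Nat.dvd_prime_pow hp').1 (show q ∣ p ^ n from
      ⟨q, by rw [← a1, hq, sq]⟩)
    obtain rfl : n = 2 * β := Nat.pow_right_injective hp'.two_le
      (a1.symm.trans (hq.trans (by rw [← pow_mul, mul_comm])))
    rcases hπ.su_cases hX hPX hn hs hq h with ⟨⟨e⟩⟩ | ⟨b1, b2, L, b3, ⟨e⟩⟩
    · exact Or.inr (Or.inl ⟨K, _, _, β, a2, dvd_mul_right _ _, ⟨e.trans (H55.psuCongr f _ _)⟩⟩)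
    · exact Or.inr (Or.inr (Or.inr (Or.inl ⟨K, _, _, β, a2, b1, (show 2 * β * 3 = 6 * β by ring) ▸
        Nat.mul_dvd_mul_left _ (b2 d a3), L, b3, ⟨e.trans (H55.psuCongr f _ _)⟩⟩)))
  · exact absurd h.2 hQ
  · obtain ⟨ρ, hρ⟩ := H19.exists_cov3 hP (H19.equiv_sl32 hP h).some
    obtain ⟨ρ', hρ'⟩ := H19.exists_cov3 hP (H19.equiv_psl27 hP h).some
    have h8 := nz 7 (by decide) h7
    have h9 : p ^ α % 7 = 1 ∨ p ^ α % 7 = 2 ∨ p ^ α % 7 = 4 := by_contra fun h9 =>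
      no (hρ.frob_inv p H19.sm_sl2 α (.inr (hρ.eq_one_sl32 hP.perfect)) False.elim False.elim
        fun _ => by omega)
    have : Fact (Nat.Prime 7) := ⟨by decide⟩
    refine Or.inr (Or.inr (Or.inr (Or.inr (Or.inr (Or.inr (Or.inl ⟨?_, ZMod 7, inferInstance,
      inferInstance, ZMod.card 7, hπ.equiv_of_le hρ'.cv hle
        (P.range_subtype.symm ▸ H19.norm_168 hP hn h7 h)⟩))))))
    rw [Nat.pow_mod]
    rcases h9 with h | h | h <;> rw [h]
  · obtain ⟨ρ, hρ⟩ := H19.exists_cov3 hP e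
    have h4 := nz 3 (by decide) h3
    have h5 : p = 5 ∨ p ^ α % 5 = 1 ∨ p ^ α % 5 = 4 := or_iff_not_imp_left.2 fun h5 =>
      hρ.mod_five p h5 α fun g _ => .inl (fix g)
    have h6 : p ^ α % 3 = 1 := by_contra fun h6 =>
      no (hρ.frob_inv p H19.sm_alt6 α (.inl (by omega)) (fun _ => h5) False.elim False.elim)
    refine Or.inr (Or.inr (Or.inr (Or.inr (Or.inr (Or.inr (Or.inr ?_))))))
    by_cases h7 : p = 5
    · subst h7
      refine Or.inl ⟨rfl, by_contra fun h => ?_, ?_⟩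
      · obtain ⟨j, rfl⟩ := Nat.not_even_iff_odd.1 h
        rw [pow_succ, pow_mul, Nat.mul_mod, Nat.pow_mod] at h6
        simp at h6
      · obtain ⟨L, hL, e'⟩ := hπ.exists_sub hρ.cv hle
        rw [P.range_subtype] at hL
        rcases (Nat.dvd_prime Nat.prime_two).1 (H19.norm_alt6_index hP hn h3 e) with h | h
        · exact Or.inl (hπ.equiv_of_le hρ.cv hle
            (P.range_subtype.symm ▸ Subgroup.relIndex_eq_one.1 h))
        · exact Or.inr (Or.inr ⟨L, hL.trans h, e'⟩)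
    · exact Or.inr ⟨by omega, hπ.equiv_of_le hρ.cv hle (P.range_subtype.symm ▸ H19.norm_alt6 hP hn
        h3 (fun h => h7 (H19.eq_of_cast_eq_zero p Nat.prime_five h)) e)⟩
  · obtain ⟨ρ, hρ⟩ := H19.exists_cov3 hP e
    obtain rfl := H19.eq_of_cast_eq_zero p Nat.prime_five h5
    refine Or.inr (Or.inr (Or.inr (Or.inr (Or.inr (Or.inr (Or.inr (Or.inl ⟨rfl, by_contra fun h => ?_,
      Or.inr (Or.inl (hπ.equiv_of_le hρ.cv hle (P.range_subtype.symm ▸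
        H19.norm_alt7 hP hn (H19.seven_ne_zero_of_five h5) e)))⟩)))))))
    have key : ∀ j, 5 ^ (2 * j + 1) % 3 = 2 ∧ (5 ^ (2 * j + 1) % 7 = 3 ∨ 5 ^ (2 * j + 1) % 7 = 5 ∨
        5 ^ (2 * j + 1) % 7 = 6) := fun j => by
      induction j with
      | zero => decide
      | succ j ih => rw [show 5 ^ (2 * (j + 1) + 1) = 5 ^ (2 * j + 1) * 25 by ring]; omega
    obtain ⟨j, rfl⟩ := Nat.not_even_iff_odd.1 h
    exact no (hρ.frob_inv 5 H19.sm_alt7 _ (.inl (key j).1) (fun _ => .inl rfl) (fun _ => by decide)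
      fun _ => (key j).2)

end Cfsg.Agent.S5711
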