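import Cfsg.Statements.S0107
import Cfsg.Agent.Base
import Cfsg.Agent.H8.SL23
import Cfsg.Agent.H8.TransferEval
import Cfsg.Agent.H7.NPC

set_option autoImplicit false
open Cfsg

namespace Cfsg.Agent.S0107

/-- A finite group with no nontrivial 2-group quotient and dihedral Sylow 2-subgroups of order at least 8 has a single class of involutions. -/
theorem result {G : Type*} [Group G] [Finite G] (T : Sylow 2 G) (n : ℕ) (hn : 2 ≤ n) (hT : Nonempty ((T : Subgroup G) ≃* DihedralGroup (2 ^ n))) (hO : Cfsg.pResidual 2 G = ⊤) (x y : G) (hx : orderOf x = 2) (hy : orderOf y = 2) : ∃ g : G, g * x * g⁻¹ = y := by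
  obtain ⟨e⟩ := hT
  let a : (T : Subgroup G) := e.symm (DihedralGroup.r 1)
  have ha : orderOf a = 2 ^ n := by
    rw [← DihedralGroup.orderOf_r_one (n := 2 ^ n)]
    exact orderOf_injective e.symm.toMonoidHom e.symm.injective _
  have hi : (Subgroup.zpowers (a : G)).relIndex (T : Subgroup G) = 2 := by
    have h1 : (Subgroup.zpowers (a : G)).subgroupOf (T : Subgroup G) = Subgroup.zpowers a := by
      rw [← Subgroup.comap_map_eq_self_of_injective (T : Subgroup G).subtype_injective
        (Subgroup.zpowers a), MonoidHom.map_zpowers]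
      rfl
    have h2 := (Subgroup.zpowers a).index_mul_card
    rw [Nat.card_zpowers, ha, Nat.card_congr e.toEquiv, DihedralGroup.nat_card] at h2
    rw [Subgroup.relIndex, h1]
    exact Nat.eq_of_mul_eq_mul_right (by positivity) h2
  have key : ∀ u : G, orderOf u = 2 → ∃ g : G, g * u * g⁻¹ ∈ Subgroup.zpowers (a : G) := by
    intro u hu
    by_contra hcon
    push Not at hcon
    obtain ⟨N, h1, h2, -⟩ := H8.thompson_transfer (T : Subgroup G) _ (H8.odd_index_sylow_two T) hi u
      (hu ▸ pow_orderOf_eq_one u) hcon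
    have h3 : Cfsg.pResidual 2 G ≤ N :=
      H7.pResidual_le_iff.mpr (H7.isPGroup_quotient_iff_index.mpr ⟨1, h2⟩)
    rw [hO, top_le_iff, ← Subgroup.index_eq_one] at h3
    omega
  have hord : ∀ u v : G, orderOf (u * v * u⁻¹) = orderOf v := fun u v =>
    orderOf_injective (MulAut.conj u).toMonoidHom (MulAut.conj u).injective v
  obtain ⟨g, hg⟩ := key x hx
  obtain ⟨h, hh⟩ := key y hy
  have h1 := H8.mem_zpowers_of_orderOf_dvd (isOfFinOrder_of_finite _) hg hh (by rw [hord, hord, hx, hy])
  have h2 : h * y * h⁻¹ = g * x * g⁻¹ := by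
    classical
    rw [← (isOfFinOrder_of_finite _).mem_powers_iff_mem_zpowers,
      (isOfFinOrder_of_finite _).mem_powers_iff_mem_range_orderOf, hord, hx, Finset.mem_image] at h1
    obtain ⟨k, hk, hk'⟩ := h1
    rw [Finset.mem_range] at hk
    interval_cases k
    · have := hord h y
      rw [← hk', hy] at this
      simp at this
    · rw [← hk', pow_one]
  refine ⟨h⁻¹ * g, ?_⟩
  calc h⁻¹ * g * x * (h⁻¹ * g)⁻¹ = h⁻¹ * (g * x * g⁻¹) * h := by group
    _ = y := by rw [← h2]; group

end Cfsg.Agent.S0107
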