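import Cfsg.Statements.S1664
import Cfsg.Agent.Base
import Cfsg.Agent.H45.M23b
import Cfsg.Agent.H49.E16E
import Cfsg.Agent.H56.MathE3
import Cfsg.Agent.H29.L23
import Cfsg.Agent.H72.Mathieu

set_option autoImplicit false
open Cfsg

namespace Cfsg.Agent.S1664

/-- The Mathieu group of degree 23 is determined by its order: a finite simple group of order 10200960 is isomorphic to the concrete M₂₃ (a point stabiliser in the group of the length-24 Golay code). -/
theorem result {G : Type*} [Group G] [Finite G] (hG : Cfsg.IsM23 G) : Cfsg.Spor.IsoM23 G := by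
  have := hG.1
  cases nonempty_fintype G
  obtain ⟨E, hE⟩ := H29.S7.jobL23 G (H45.MN.d23' hG.2)
  obtain ⟨A, R, h, s, H⟩ := H56.ME.jobE0 G E hE
  obtain ⟨m, π, -, ⟨-, ⟨e⟩⟩ | k⟩ := H49.E16.recog H
  · have := Nat.card_congr e.toEquiv
    rw [hG.2, H72.card_M22] at this
    omega
  · exact k.2

end Cfsg.Agent.S1664
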