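import Cfsg.Statements.S3140
import Cfsg.Agent.H85.L3Red
import Cfsg.Agent.H85.L3K2
import Cfsg.Agent.H49.L33W4
import Cfsg.Agent.H49.L33N4
import Cfsg.Agent.H49.L33NZ
import Cfsg.Agent.H49.L33WD
import Cfsg.Agent.H49.L33Wrap
import Cfsg.Agent.H60.L3W5
import Cfsg.Agent.H54.L3E1
import Cfsg.Agent.H54.L3M3
import Cfsg.Agent.H19.L33O
import Cfsg.Agent.H19.L33FB
import Cfsg.Agent.H57.L3CT
import Cfsg.Agent.H57.L3E2
import Cfsg.Agent.H5.L33NC1
import Cfsg.Agent.H1.L3NC2
import Cfsg.Agent.H27.L3Ho
import Cfsg.Agent.H24.L33Q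
import Cfsg.Agent.H95.L3FA
import Cfsg.Agent.H95.L3FX1
import Cfsg.Agent.H37.L3M1
import Cfsg.Agent.H20.L3K1
import Cfsg.Agent.H20.L3K3
import Cfsg.Agent.H92.L33FC
import Cfsg.Agent.H92.L33FX2
import Cfsg.Agent.H74.L3M2
import Cfsg.Agent.H94.L3Main

set_option autoImplicit false
open Cfsg

namespace Cfsg.Agent.S3140

universe u v in
theorem row : H85.L33.Row.{u, v} :=
  have kit := H85.L33.kit_of H85.L33.jobK0 H20.L3.jobK1 H85.L33.K2.jobK2 H20.L3.jobK3
  H49.L33.jobWrap (H85.L33.core_of kit (H27.L3.jobNC0 kit H5.L33NC1.jobNC1 H1.L3NC2.jobNC2)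
    H94.L3.list3 H49.L33.jobN4 H49.L33.jobW4 H60.L33.jobW5 H49.L33.jobNZ H49.L33.jobWD
    ⟨H95.L3.jobFA, H95.L3.jobFX1, H92.L33.jobFX2, H19.L33FB.jobFB, H92.L33.jobFC, H27.L3.jobHo,
      H19.L33O.jobO, H24.L33.jobQ, H37.L3M.jobM1, H74.L3M.jobM2, H54.L33.jobM3, H54.L33.jobE1,
      H57.L3CT.jobE2, H57.L3CT.jobCT⟩)

/-- Let G be a finite group with no nontrivial normal subgroup of odd order, and let L be a standard subgroup of G isomorphic to the projective special linear group of dimension 3 over the field with 3 elements. Then either L is normal in G, or the normal closure of L is the generalized Fitting subgroup F*(G) and one of the following holds: F*(G) is isomorphic to the projective special linear group of dimension 3 over the field with 9 elements, of dimension 4 or 5 over the field with 3 elements, or to the projective symplectic group of dimension 6 over the field with 3 elements; or F*(G) is isomorphic to L × L and the centralizer of L in G is generated by an involution. -/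
theorem result {G : Type*} [Group G] [Finite G] (hO : Cfsg.oddCore G = ⊥) (L : Subgroup G) (hL : Cfsg.IsStandardSubgroup L)
    {F : Type*} [Field F] [Fintype F] (hF3 : Fintype.card F = 3) (hLX : Nonempty (↥L ≃* Matrix.ProjectiveSpecialLinearGroup (Fin 3) F)) :
    L.Normal ∨
      (Subgroup.normalClosure (L : Set G) = Cfsg.generalizedFittingSubgroup G ∧
        ((∃ (K : Type) (_ : Field K) (_ : Fintype K), Fintype.card K = 9 ∧ Nonempty (↥(Cfsg.generalizedFittingSubgroup G) ≃* Matrix.ProjectiveSpecialLinearGroup (Fin 3) K)) ∨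
          Nonempty (↥(Cfsg.generalizedFittingSubgroup G) ≃* Matrix.ProjectiveSpecialLinearGroup (Fin 4) F) ∨
          Nonempty (↥(Cfsg.generalizedFittingSubgroup G) ≃* Matrix.ProjectiveSpecialLinearGroup (Fin 5) F) ∨
          Nonempty (↥(Cfsg.generalizedFittingSubgroup G) ≃* Cfsg.PSp 3 F) ∨
          (Nonempty (↥(Cfsg.generalizedFittingSubgroup G) ≃* ↥L × ↥L) ∧ ∃ u : G, orderOf u = 2 ∧ Subgroup.centralizer (L : Set G) = Subgroup.zpowers u))) := by
  exact row hO L hL hF3 hLX

end Cfsg.Agent.S3140
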