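import Cfsg.Statements.S4034
import Cfsg.Agent.H4.Kazarin
import Cfsg.Agent.H4.WielandtHall
import Cfsg.Agent.H4.Hall

set_option autoImplicit false
open Cfsg

namespace Cfsg.Agent.S4034

open H4
open scoped Pointwise


/-- Let G be a finite group and p a prime. Every conjugacy class of p-regular elements of G (elements of order prime to p) has p-power size if and only if G has an abelian p-complement, i.e. an abelian subgroup of order prime to p and p-power index. -/
theorem result {G : Type*} [Group G] [Finite G] {p : ℕ} (hp : p.Prime) :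
    (∀ x : G, (orderOf x).Coprime p → ∃ k : ℕ, (ConjClasses.mk x).carrier.ncard = p ^ k) ↔
    (∃ H : Subgroup G, IsMulCommutative H ∧ ¬ p ∣ Nat.card H ∧ ∃ k : ℕ, H.index = p ^ k) := by
  have := Fact.mk hp
  simp only [H24.ncard_carrier_eq_index]
  constructor
  · intro h
    have h' : ∀ x : G, ¬ p ∣ orderOf x → ∃ k, (Subgroup.centralizer ({x} : Set G)).index = p ^ k :=
      fun x hx => h x ((Nat.Prime.coprime_iff_not_dvd hp).mpr hx).symm
    have h1 : IsPGroup p (G ⧸ solvableRadical G) := by
      intro g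
      obtain ⟨g, rfl⟩ := QuotientGroup.mk'_surjective _ g
      obtain ⟨e, f, h1, ⟨k, h2⟩, h3⟩ := H24.exists_p_decomp hp g
      obtain ⟨j, hj⟩ := h' _ h3
      refine ⟨k, ?_⟩
      have h4 : QuotientGroup.mk' (solvableRadical G) (g ^ f) = 1 :=
        (QuotientGroup.eq_one_iff (g ^ f)).mpr (kazarin hp hj)
      rw [← h1, map_mul, h4, mul_one,
        ← map_pow, ← h2, pow_orderOf_eq_one, map_one]
    have := h1.isNilpotent
    have : Group.IsSolvable G := H2.isSolvable_of_normal_of_quotient (solvableRadical G)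
    obtain ⟨H, hH⟩ := exists_isPiHall (G := G) {p}ᶜ
    have hpH : ¬ p ∣ Nat.card H := fun hd => hH.1 p hp hd rfl
    refine ⟨H, ⟨⟨fun x y => Subtype.ext ?_⟩⟩, hpH, ?_⟩
    · have hs := QuotientGroup.mk'_surjective (pCore p G)
      have key : ∀ x : H, QuotientGroup.mk' (pCore p G) x ∈ fittingSubgroup (G ⧸ pCore p G) ⊓
          Subgroup.centralizer (pPrimeCore p (G ⧸ pCore p G) : Set (G ⧸ pCore p G)) := by
        intro x
        obtain ⟨k, hk⟩ := h' x fun hd => hpH (hd.trans (Subgroup.orderOf_dvd_natCard _ x.2))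
        obtain ⟨j, -, hj⟩ := (Nat.dvd_prime_pow hp).mp (hk ▸ H18.index_centralizer_map_dvd _ hs x)
        exact normalClosure_le_of_class hj (H2.pCore_quotient_pCore p G)
          (Subgroup.subset_normalClosure rfl)
      have h2 := (key y).2 _ (H2.fitting_le_pPrimeCore_of_pCore_eq_bot
        (H2.pCore_quotient_pCore p G) (key x).1)
      change (x : G) * y = y * x
      rw [← commutatorElement_eq_one_iff_mul_comm, ← Subgroup.mem_bot,
        ← (H2.disjoint_of_isPGroup_of_coprime (H2.pCore_isPGroup p G)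
          ((Nat.Prime.coprime_iff_not_dvd hp).mpr hpH).symm).eq_bot]
      refine Subgroup.mem_inf.mpr ⟨?_, Subgroup.commutator_le_self _
        (Subgroup.commutator_mem_commutator x.2 y.2)⟩
      rw [← QuotientGroup.ker_mk' (pCore p G), MonoidHom.mem_ker, map_commutatorElement,
        commutatorElement_eq_one_iff_mul_comm, h2]
    · exact ⟨_, Nat.eq_prime_pow_of_unique_prime_dvd H.index_ne_zero_of_finite fun {q} hq hd => by
        by_contra hne
        exact hH.2 q hq hne hd⟩
  · rintro ⟨H, hc, hpH, k, hk⟩ x hx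
    have hH : IsPiHall {p}ᶜ H := ⟨fun q _ hd hq => hpH (hq ▸ hd), fun q hq hne hd =>
      hne ((Nat.prime_dvd_prime_iff_eq hq hp).mp (hq.dvd_of_dvd_pow (hk ▸ hd)))⟩
    have := H2.isNilpotent_of_isMulCommutative H
    obtain ⟨g, hg⟩ := le_conj_nilpotent_hall hH _ (Subgroup.zpowers x) rfl fun q hq hd he => by
      rw [Nat.card_zpowers, he] at hd
      exact hp.one_lt.ne' (Nat.eq_one_of_dvd_coprimes hx hd dvd_rfl)
    have h1 : MulAut.conj g • H ≤ Subgroup.centralizer ({x} : Set G) := by
      intro y hy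
      rw [Subgroup.mem_centralizer_singleton_iff]
      have h2 := hg (Subgroup.mem_zpowers x)
      rw [mem_conj_smul] at hy h2
      have h3 := congrArg Subtype.val (hc.is_comm.comm ⟨_, hy⟩ ⟨_, h2⟩)
      simp only [Subgroup.coe_mul] at h3
      calc y * x = g * (g⁻¹ * y * g * (g⁻¹ * x * g)) * g⁻¹ := by group
        _ = x * y := by rw [h3]; group
    have h2 := Subgroup.index_dvd_of_le h1
    rw [index_smul, hk] at h2
    obtain ⟨j, -, hj⟩ := (Nat.dvd_prime_pow hp).mp h2
    exact ⟨j, hj⟩

end Cfsg.Agent.S4034
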