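import Cfsg.Statements.S4035
import Cfsg.Agent.H4.Cover

set_option autoImplicit false
open Cfsg

namespace Cfsg.Agent.S4035

open H4

/-- Let G be a finite group and p a prime such that p divides the size of no conjugacy class of p-regular elements (elements of order prime to p). Then G is the internal direct product of a Sylow p-subgroup P and a normal subgroup H of order prime to p: P is normal, P ⊓ H = 1 and PH = G. -/
theorem result {G : Type*} [Group G] [Finite G] {p : ℕ} [Fact p.Prime]
    (h : ∀ x : G, (orderOf x).Coprime p → ¬ p ∣ (ConjClasses.mk x).carrier.ncard) (P : Sylow p G) :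
    (P : Subgroup G).Normal ∧ ∃ H : Subgroup G, H.Normal ∧ ¬ p ∣ Nat.card H ∧
      (P : Subgroup G) ⊓ H = ⊥ ∧ (P : Subgroup G) ⊔ H = ⊤ := by
  have hp : p.Prime := Fact.out
  have h' : ∀ x : G, ¬ p ∣ orderOf x → ¬ p ∣ ind x := by
    intro x hx
    have h1 := h x ((Nat.Prime.coprime_iff_not_dvd hp).mpr hx).symm
    rwa [show (ConjClasses.mk x).carrier = {y | IsConj x y} from Set.ext fun y =>
      ConjClasses.mem_carrier_iff_mk_eq.trans (ConjClasses.mk_eq_mk_iff_isConj.trans isConj_comm),
      ncard_isConj] at h1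
  have hn := sylow_normal_of_not_dvd_ind P h'
  obtain ⟨H, h1, h2, h3, -⟩ := exists_normal_compl_of_centralize P fun x hx =>
    mem_centralizer_of_coprime_ind _ (P.isPGroup'.exists_card_eq.elim fun k hk => by
      rw [hk]; exact ((Nat.Prime.coprime_iff_not_dvd hp).mpr (h' x hx)).pow_left k)
  exact ⟨hn, H, h1, h3, h2.symm.disjoint.eq_bot, h2.symm.sup_eq_top⟩

end Cfsg.Agent.S4035
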