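import Cfsg.Statements.S4828
import Cfsg.Agent.H39.Weight

set_option autoImplicit false
open Cfsg

namespace Cfsg.Agent.S4828

open H39 H36 H35 Cfsg

/-- Let p be a prime, M a maximal ideal of the algebraic integers containing p, and (Q, e) a Brauer pair of the finite group G (Q a p-subgroup, e a block of C_G(Q)). Then (Q, e) is a maximal Brauer pair of some block of G if and only if e contains an irreducible character θ such that θ takes the value θ(1) at every element of Z(Q) = Q ∩ C_G(Q), the p-part of θ(1) times the p-part of the order of Z(Q) equals the p-part of the order of C_G(Q) (θ has defect zero as a character of C_G(Q)/Z(Q)), and every element of N_G(Q) of p-power order that stabilizes e lies in Q·C_G(Q) (the stabilizer of e in N_G(Q) has index prime to p over Q·C_G(Q)). -/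
theorem result {G : Type*} [Group G] [Finite G] (p : ℕ) [Fact p.Prime] (M : Ideal Cfsg.AlgInt) (hM : Cfsg.IsPModular p M) (Q : Subgroup G) (e : Set (Cfsg.IrrCharacter (Subgroup.centralizer (Q : Set G)))) (he : Cfsg.IsBrauerPair p M Q e) :
    (∃ B : Set (Cfsg.IrrCharacter G), Cfsg.IsMaximalBrauerPair p M B Q e) ↔
      ∃ θ ∈ e, (∀ z : Subgroup.centralizer (Q : Set G), (z : G) ∈ Q → (θ : Subgroup.centralizer (Q : Set G) → ℂ) z = (θ : Subgroup.centralizer (Q : Set G) → ℂ) 1) ∧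
        (Cfsg.charDegree (θ : Subgroup.centralizer (Q : Set G) → ℂ)).factorization p + (Nat.card ↥(Q ⊓ Subgroup.centralizer (Q : Set G))).factorization p = (Nat.card (Subgroup.centralizer (Q : Set G))).factorization p ∧
        (∀ g : G, g ∈ Subgroup.normalizer (Q : Set G) → Cfsg.StabilizesBlock (Subgroup.centralizer (Q : Set G)) e g → (∃ k : ℕ, orderOf g = p ^ k) → g ∈ Q ⊔ Subgroup.centralizer (Q : Set G)) := by
  have := hM.2.1
  have := charP_F hM
  obtain ⟨hQ, he⟩ := he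
  have hb := blk_eS' (M := M) he
  have key := isDef_center_iff_exists hM hQ he
  constructor
  · rintro ⟨B, hB⟩
    obtain ⟨hB, -, hbp, hD⟩ := (max_iff hM).1 hB
    have h : MaxP p ⊤ _ Q _ := ⟨blk_eB hB, hbp, hD⟩
    have h1 := (h.isDef_center_iff (Sub.refl _ _ _)).2 fun g hg => by
      rw [Subgroup.eq_of_le_of_card_ge hg.cS_le (card_cS g Q).ge]; exact inf_le_left
    rw [top_inf_eq] at h1
    obtain ⟨θ, hθ, h2, h3⟩ := key.1 h1
    refine ⟨θ, hθ, h2, h3, fun g hg hs ⟨k, hk⟩ => ?_⟩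
    have h4 := le_of_not_dvd_relIndex (fun x hx => mem_nor_sup (St_le_nor _ _ _ hx)
      (St_le_nor_inf_cen _ _ _ hx)) h.not_dvd_relIndex_St
      (IsPGroup.of_card (by rw [Nat.card_zpowers, hk]) : IsPGroup p (Subgroup.zpowers g))
      (Subgroup.zpowers_le.2 ((nor_stabilizes_iff he).1 ⟨hg, hs⟩))
    rw [top_inf_eq] at h4
    exact h4 (Subgroup.mem_zpowers g)
  · rintro ⟨θ, hθ, h2, h3, h4⟩
    have h1 := key.2 ⟨θ, hθ, h2, h3⟩
    obtain ⟨b, ⟨hb1, hb2⟩, -⟩ := existsUnique_bp (K := ⊤) le_rfl hQ le_top hb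
    obtain ⟨B, hB, rfl⟩ := Blk.exists_eB hb1
    refine ⟨B, (max_iff hM).2 ⟨hB, he, hb2, ?_⟩⟩
    refine (hb2.isDef_or_exists le_rfl (le_nor _) hb1).resolve_right ?_
    rintro ⟨R, g, hQR, -, hs⟩
    have h5 : IsDef p (Q ⊔ ⊤ ⊓ Cen Q) (eS M _ e) Q :=
      isDef_of_isDef_center hb hQ le_sup_left le_sup_right le_rfl le_top (by rwa [top_inf_eq])
    refine hQR.ne' (h5.eq_of_le (fun x hx => ?_) hs.pP (fun h0 => hs.blke.ne_zero ?_) hQR.le)
    · rw [top_inf_eq]
      obtain ⟨k, hk⟩ := (IsPGroup.iff_orderOf.1 hs.pP) ⟨x, hx⟩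
      have h6 := (nor_stabilizes_iff he).2 ⟨⟨Subgroup.mem_top x, hs.nor hx⟩, hs.inv.cj_eq hx⟩
      exact h4 x h6.1 h6.2 ⟨k, by rw [← hk, Subgroup.orderOf_mk]⟩
    · rw [← hs.mul, h0, zero_mul]

end Cfsg.Agent.S4828
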