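import Cfsg.Statements.S4765
import Cfsg.Agent.H33.SL2Block
import Cfsg.Agent.H44.CD1

set_option autoImplicit false
open Cfsg

namespace Cfsg.Agent.S4765

open Cfsg H28 H33 in
theorem aux (p : ℕ) [Fact p.Prime] (F : Type*) [Field F] [Fintype F] [DecidableEq F] [CharP F p]
    (χ : Cfsg.IrrCharacter (Matrix.ProjectiveSpecialLinearGroup (Fin 2) F))
    (h : p ∣ Cfsg.charDegree (χ : Matrix.ProjectiveSpecialLinearGroup (Fin 2) F → ℂ)) :
    (fun g : SL2 F => χ.1 (g : SL2 F ⧸ Subgroup.center (SL2 F))) = stS F := by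
  have h1 := χ.2.comp_surjective (QuotientGroup.mk' (Subgroup.center (SL2 F))) (QuotientGroup.mk'_surjective _)
  refine sl2_deg_q h1 (by_contra fun k => not_dvd_degree_sl2 (p := p) h1 k ?_)
  exact h

/-- Let F be a finite field of characteristic p with at least 4 elements. Then PSL(2,F) has exactly one irreducible complex character of degree divisible by p, and its degree is the order of F. -/
theorem result (p : ℕ) [Fact p.Prime] (F : Type*) [Field F] [Fintype F] [CharP F p] (hF : 4 ≤ Fintype.card F) : Nat.card {χ : Cfsg.IrrCharacter (Matrix.ProjectiveSpecialLinearGroup (Fin 2) F) // p ∣ Cfsg.charDegree (χ : Matrix.ProjectiveSpecialLinearGroup (Fin 2) F → ℂ)} = 1 ∧ ∀ χ : Cfsg.IrrCharacter (Matrix.ProjectiveSpecialLinearGroup (Fin 2) F), p ∣ Cfsg.charDegree (χ : Matrix.ProjectiveSpecialLinearGroup (Fin 2) F → ℂ) → Cfsg.charDegree (χ : Matrix.ProjectiveSpecialLinearGroup (Fin 2) F → ℂ) = Fintype.card F := by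
  classical
  open Cfsg H28 H33 in
  have d : ∀ χ : Cfsg.IrrCharacter (Matrix.ProjectiveSpecialLinearGroup (Fin 2) F), p ∣ Cfsg.charDegree (χ : Matrix.ProjectiveSpecialLinearGroup (Fin 2) F → ℂ) → Cfsg.charDegree (χ : Matrix.ProjectiveSpecialLinearGroup (Fin 2) F → ℂ) = Fintype.card F := fun χ h =>
    charDegree_eq ((congrFun (aux p F χ h) 1).trans stS_one)
  refine ⟨?_, d⟩
  open Cfsg H28 H33 in
  obtain ⟨η, hη, e⟩ := (isIrr_stS (F := F)).exists_quotient (Subgroup.center (SL2 F)) fun g hg =>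
    isIrr_stS.mem_charKer.2 ((stS_scalar (isSc_iff_mem_center_sl.2 hg)).trans stS_one.symm)
  obtain ⟨k, hk, ek⟩ := FiniteField.card F p
  have h0 : p ∣ Cfsg.charDegree η := by
    rw [H28.charDegree_eq ((e 1).trans H33.stS_one), ek]
    exact dvd_pow_self _ k.ne_zero
  rw [Nat.card_eq_one_iff_exists]
  refine ⟨⟨⟨η, hη⟩, h0⟩, fun y => Subtype.ext (Subtype.ext (funext fun g => ?_))⟩
  obtain ⟨g, rfl⟩ := QuotientGroup.mk_surjective g
  exact (congrFun (aux p F y.1 y.2) g).trans (e g).symm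

end Cfsg.Agent.S4765
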