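import Cfsg.Statements.S1686
import Cfsg.Agent.H37.O7F
import Cfsg.Agent.H80.Link

set_option autoImplicit false
open Cfsg

namespace Cfsg.Agent.S1686

/-- In the presented Fischer group Fi₂₂, the subgroup generated by the images of b, …, i is isomorphic to PΩ(7, 3), the commutator subgroup of the isometry group of the quadratic form x₀² + x₁y₁ + x₂y₂ + x₃y₃ over the integers mod 3, modulo its centre. -/
theorem result : Nonempty ((((Subgroup.closure ({Cfsg.Spor.Fi22.b, Cfsg.Spor.Fi22.c, Cfsg.Spor.Fi22.d, Cfsg.Spor.Fi22.e, Cfsg.Spor.Fi22.f, Cfsg.Spor.Fi22.g, Cfsg.Spor.Fi22.h, Cfsg.Spor.Fi22.i} : Set (FreeGroup Cfsg.Spor.Fi22.Gen))).map (PresentedGroup.mk (Cfsg.Spor.coxRelators Cfsg.Spor.Fi22.edges ∪ {r | r ∈ Cfsg.Spor.Fi22.extra})))) ≃* Cfsg.POmega (ZMod 3) (Cfsg.quadFormOdd 3 (ZMod 3))) := by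
  rw [H71.map_closure_eq_gen (PresentedGroup.mk (Cfsg.Spor.coxRelators Cfsg.Spor.Fi22.edges ∪
    {r | r ∈ Cfsg.Spor.Fi22.extra})) H80.v22
    [Spor.Fi22.b, Spor.Fi22.c, Spor.Fi22.d, Spor.Fi22.e, Spor.Fi22.f, Spor.Fi22.g, Spor.Fi22.h,
      Spor.Fi22.i] [1, 2, 3, 4, 5, 6, 7, 8] rfl (by ext; simp)]
  obtain ⟨Θ, F, hΘ⟩ := H80.isFi22_spor
  obtain ⟨χ, -, hk, hr⟩ := H37.O7.exists_chi F
  obtain ⟨e⟩ := H37.O7.pom_equiv
  have h : χ.range = H71.gen H80.v22 [1, 2, 3, 4, 5, 6, 7, 8] := by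
    rw [hr]
    congr 1
    exact Set.image_congr fun l hl => hΘ l (H37.O7.sub8 hl)
  exact ⟨((MulEquiv.subgroupCongr h.symm).trans (QuotientGroup.quotientKerEquivRange χ).symm).trans
    ((QuotientGroup.quotientMulEquivOfEq hk).trans e)⟩

end Cfsg.Agent.S1686
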