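import Cfsg.Statements.S2091
import Cfsg.Agent.H65.EU62P2
import Cfsg.Agent.H65.EU62P3
import Cfsg.Agent.H65.EU62C

set_option autoImplicit false
open Cfsg

namespace Cfsg.Agent.S2091

/-- Exceptional Schur multiplier: PSU₆(2), realised over the field with 4 elements, has Schur multiplier isomorphic to the product of cyclic groups of orders 3, 2 and 2 (order 12, not cyclic; here the Schur multiplier is described through stem extensions, as in the definitions). -/
theorem result {F : Type*} [Field F] [Fintype F] (hF : Fintype.card F = 4) : Cfsg.HasSchurMultiplier (Cfsg.PSU 6 F 2) (Multiplicative (ZMod 3 × ZMod 2 × ZMod 2)) := by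
  obtain ⟨e⟩ := H77.pu62_iso F (by rw [hF]; norm_num)
  have : Finite (H77.St2 H77.vU H77.vX) :=
    Nat.finite_of_card_ne_zero (by rw [H77.card_u62]; norm_num)
  have h3 : H81.HasU (Cfsg.PSU 6 F 2) (Multiplicative (ZMod 3)) :=
    H65.MU.hasU_PSU (q := 2) (n := 6) (by rw [hF]; norm_num) (by norm_num) (by norm_num)
  refine H21.multiplier_congr_left (H81.multiplier_of_hasU [(2, 2), (3, 1)]
    (by simpa using ⟨H65.EU62P2.main, H65.EU62P3.main⟩) ?_ (by simp)
    (H65.MU.HasU.prod3 (h3.congr e.symm) H65.EU62C.main (by norm_num))) e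
  rw [H77.card_u62]
  exact H81.mem_of_sq_dvd (k := 15) [2, 3, 5, 7, 11] [2, 3] (by norm_num) (by norm_num) (by norm_num)

end Cfsg.Agent.S2091
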