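import Cfsg.Statements.S4349
import Cfsg.Agent.Base
import Cfsg.Agent.H30.SylMax
import Cfsg.Agent.H12.Thompson

set_option autoImplicit false
open Cfsg

namespace Cfsg.Agent.S4349

open Subgroup Equiv Equiv.Perm MulAction

variable {n : ℕ}

theorem no_tri {P : Subgroup (Perm (Fin n))} (hP : IsPGroup 2 P) {a b c : Fin n} (h1 : swap a b ∈ P)
    (h2 : swap a c ∈ P) (ab : a ≠ b) (ac : a ≠ c) : b = c := by
  by_contra bc
  obtain ⟨k, hk⟩ := hP ⟨_, mul_mem h1 h2⟩
  have := orderOf_dvd_of_pow_eq_one (congrArg Subtype.val hk : (swap a b * swap a c) ^ 2 ^ k = 1)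
  rw [(isThreeCycle_swap_mul_swap_same ab ac bc).orderOf] at this
  exact absurd (Nat.prime_three.dvd_of_dvd_pow this) (by norm_num)

theorem exists_tau (P : Sylow 2 (Perm (Fin n))) : ∃ τ : Perm (Fin n), (∀ i, τ (τ i) = i) ∧
    (∀ i j, τ i = i → τ j = j → i = j) ∧ ∀ g ∈ (P : Subgroup (Perm (Fin n))), ∀ i, g (τ i) = τ (g i) := by
  obtain ⟨τ, h1, h2, -, h3⟩ := H30.SM.exists_tau P
  have m : ∀ i, swap i (τ i) ∈ (P : Subgroup (Perm (Fin n))) := fun i => h3 _ (H30.SM.swap_mem h1 i)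
  have c : ∀ g ∈ (P : Subgroup (Perm (Fin n))), ∀ i, swap (g i) (g (τ i)) ∈ (P : Subgroup (Perm (Fin n))) :=
    fun g hg i => by rw [swap_apply_apply]; exact mul_mem (mul_mem hg (m i)) (inv_mem hg)
  have k : ∀ g ∈ (P : Subgroup (Perm (Fin n))), ∀ i, τ i ≠ i → τ (g i) ≠ g i := fun g hg i hi e => by
    have n1 : g (τ i) ≠ g i := g.injective.ne hi
    have n2 : τ (g (τ i)) ≠ g (τ i) := fun e' => n1 (h2 _ _ e' e)
    have := no_tri P.2 (swap_comm (g i) _ ▸ c g hg i) (m (g (τ i))) n1 n2.symm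
    exact n1 (by rw [← h1 (g (τ i)), ← this, e])
  refine ⟨τ, h1, h2, fun g hg i => ?_⟩
  by_cases hi : τ i = i
  · rw [hi]
    by_contra e
    exact k _ (inv_mem hg) (g i) (Ne.symm e) (by simpa using hi)
  · exact no_tri P.2 (c g hg i) (m (g i)) (g.injective.ne (Ne.symm hi)) (k g hg i hi).symm

theorem half {m i j : ℤ} (h1 : m ∣ 2 * i) (h2 : m ∣ 2 * j) (n1 : ¬ m ∣ i) (n2 : ¬ m ∣ j) : m ∣ i - j := by
  obtain ⟨u, hu⟩ := h1
  obtain ⟨v, hv⟩ := h2
  rcases Int.even_or_odd' u with ⟨a, rfl | rfl⟩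
  · exact absurd ⟨a, by linarith⟩ n1
  rcases Int.even_or_odd' v with ⟨b, rfl | rfl⟩
  · exact absurd ⟨b, by linarith⟩ n2
  exact ⟨a - b, by linarith⟩

/-- at most two fixed points, and the nontrivial cycles have different lengths -/
def Hy (x : Perm (Fin n)) : Prop :=
  (∀ a b c, x a = a → x b = b → x c = c → a = b ∨ a = c ∨ b = c) ∧
    ∀ a b, x a ≠ a → (∀ i : ℤ, (x ^ i) a = a ↔ (x ^ i) b = b) → x.SameCycle a b

theorem per (x : Perm (Fin n)) (a : Fin n) (i : ℤ) : (x ^ i) a = a ↔ (period x a : ℤ) ∣ i :=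
  zpow_smul_eq_iff_period_dvd (g := x)

section
variable {x τ : Perm (Fin n)} (hx : Hy x) (h1 : ∀ i, τ (τ i) = i) (h2 : ∀ i j, τ i = i → τ j = j → i = j)
  (hc : ∀ i, x (τ i) = τ (x i))
include hc in
theorem zc (j : ℤ) (i : Fin n) : (x ^ j) (τ i) = τ ((x ^ j) i) :=
  DFunLike.congr_fun (Commute.zpow_left (show Commute x τ from Equiv.ext hc) j).eq i

include hx h1 h2 hc
theorem tau_eq {a : Fin n} (ha : x a ≠ a) :
    ∃ j : ℤ, (x ^ j) a = τ a ∧ (period x a : ℤ) ∣ 2 * j ∧ ¬ (period x a : ℤ) ∣ j := by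
  obtain ⟨j, hj⟩ := hx.2 a (τ a) ha fun i => by rw [zc hc, τ.apply_eq_iff_eq]
  refine ⟨j, hj, (per x a _).1 (by rw [two_mul, zpow_add, Perm.mul_apply, hj, zc hc, hj, h1]), fun h => ha ?_⟩
  have e : τ a = a := hj.symm.trans ((per x a j).2 h)
  exact h2 _ _ (by rw [← hc, e]) e

theorem bar_iff {a : Fin n} (ha : x a ≠ a) (i : ℤ) :
    ((x ^ i) a = a ∨ (x ^ i) a = τ a) ↔ (period x a : ℤ) ∣ 2 * i := by
  obtain ⟨j, hj, d1, d2⟩ := tau_eq hx h1 h2 hc ha
  have e : (x ^ i) a = τ a ↔ (period x a : ℤ) ∣ i - j := by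
    rw [← per, ← hj, sub_eq_neg_add, zpow_add, zpow_neg, Perm.mul_apply, Perm.inv_eq_iff_eq]
  rw [per, e]
  refine ⟨fun h => h.elim (fun h => h.mul_left _) fun h => ?_, fun h => (em _).imp_right fun c => half h d1 c d2⟩
  simpa [mul_sub] using dvd_add (h.mul_left 2) d1

theorem same {a b : Fin n} (ha : x a ≠ a) (hb : x b ≠ b) (h : ∀ i : ℤ,
    ((x ^ i) a = a ∨ (x ^ i) a = τ a) ↔ ((x ^ i) b = b ∨ (x ^ i) b = τ b)) : x.SameCycle a b := by
  have ev : ∀ a, x a ≠ a → ∃ k : ℤ, (period x a : ℤ) = 2 * k := fun a ha => by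
    obtain ⟨j, -, d1, d2⟩ := tau_eq hx h1 h2 hc ha
    rcases Int.even_or_odd' (period x a : ℤ) with ⟨k, e | e⟩
    · exact ⟨k, e⟩
    · exact absurd (IsCoprime.dvd_of_dvd_mul_left ⟨1, -k, by rw [e]; ring⟩ d1) d2
  simp only [bar_iff hx h1 h2 hc ha, bar_iff hx h1 h2 hc hb] at h
  obtain ⟨k, hk⟩ := ev a ha
  obtain ⟨l, hl⟩ := ev b hb
  refine hx.2 a b ha fun i => ?_
  rw [per, per]
  exact ⟨fun c => Dvd.dvd.trans (hk ▸ (h k).1 (hk ▸ dvd_rfl)) c, fun c => Dvd.dvd.trans (hl ▸ (h l).2 (hl ▸ dvd_rfl)) c⟩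

theorem tau_unique {σ : Perm (Fin n)} (k1 : ∀ i, σ (σ i) = i) (k2 : ∀ i j, σ i = i → σ j = j → i = j)
    (kc : ∀ i, x (σ i) = σ (x i)) : τ = σ := by
  have key : ∀ {τ σ : Perm (Fin n)}, (∀ i, τ (τ i) = i) → (∀ i j, τ i = i → τ j = j → i = j) →
      (∀ i, x (τ i) = τ (x i)) → (∀ i, x (σ i) = σ (x i)) → ∀ a, x a = a → τ a = a → σ a = a :=
    fun {τ σ} h1 h2 hc kc a ha e => by
      have f : x (σ a) = σ a := by rw [kc, ha]
      rcases hx.1 a (σ a) (τ (σ a)) ha f (by rw [hc, f]) with c | c | c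
      · exact c.symm
      · rw [← h1 (σ a), ← c, e]
      · exact h2 _ _ c.symm e
  ext1 a
  by_cases ha : x a = a
  · rcases hx.1 a (τ a) (σ a) ha (by rw [hc, ha]) (by rw [kc, ha]) with c | c | c
    · rw [← c, key h1 h2 hc kc a ha c.symm]
    · rw [← c, key k1 k2 kc hc a ha c.symm]
    · exact c
  · obtain ⟨i, hi, d1, d2⟩ := tau_eq hx h1 h2 hc ha
    obtain ⟨j, hj, e1, e2⟩ := tau_eq hx k1 k2 kc ha
    rw [← hi, ← hj, ← add_sub_cancel j i, zpow_add, Perm.mul_apply, (per x a _).2 (half d1 e1 d2 e2)]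

end

theorem unique (n : ℕ) : ∀ x : Perm (Fin n), Hy x → ∀ P Q : Sylow 2 (Perm (Fin n)), x ∈ P → x ∈ Q → P = Q := by
  induction n using Nat.strong_induction_on with
  | _ n ih =>
  intro x hx P Q xP xQ
  obtain ⟨τ, h1, h2, hP⟩ := exists_tau P
  obtain ⟨σ, k1, k2, hQ⟩ := exists_tau Q
  have hc := hP x xP
  obtain rfl := tau_unique hx h1 h2 hc k1 k2 (hQ x xQ)
  by_cases t : ∀ i, τ i = i
  · have : Subsingleton (Fin n) := ⟨fun a b => h2 a b (t a) (t b)⟩
    exact Sylow.ext (Subsingleton.elim _ _)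
  push Not at t
  let s : Setoid (Fin n) := ⟨fun i j => i = j ∨ i = τ j, fun _ => .inl rfl,
    fun {a b} h => h.imp Eq.symm fun e => by rw [e, h1], fun {a b c} h k => by
      rcases h with rfl | rfl <;> rcases k with rfl | rfl <;> simp [h1]⟩
  let K := centralizer ({τ} : Set (Perm (Fin n)))
  have mK : ∀ g, g ∈ K ↔ ∀ i, g (τ i) = τ (g i) := fun g =>
    mem_centralizer_singleton_iff.trans Equiv.ext_iff
  let A : MulAction K (Quotient s) :=
    { smul := fun g => Quotient.map g.1 fun a b h => h.imp (congrArg _) fun e => by rw [e, (mK _).1 g.2]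
      one_smul := fun a => Quotient.inductionOn a fun _ => rfl
      mul_smul := fun g h a => Quotient.inductionOn a fun _ => rfl }
  let e := Finite.equivFin (Quotient s)
  let φ : K →* Perm (Fin (Nat.card (Quotient s))) := e.permCongrHom.toMonoidHom.comp (toPermHom K (Quotient s))
  let q : Fin n → Fin (Nat.card (Quotient s)) := fun i => e (Quotient.mk s i)
  have qs : Function.Surjective q := e.surjective.comp Quotient.mk_surjective
  have qe : ∀ i j, q i = q j ↔ i = j ∨ i = τ j := fun i j => e.apply_eq_iff_eq.trans Quotient.eq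
  have φq : ∀ (g : K) i, φ g (q i) = q (g.1 i) := fun g i => by
    simp only [φ, q, MonoidHom.comp_apply, MulEquiv.coe_toMonoidHom, permCongrHom_coe, permCongr_apply,
      symm_apply_apply]
    rfl
  let y : K := ⟨x, (mK x).2 hc⟩
  have yq : ∀ (i : ℤ) a, (φ y ^ i) (q a) = q ((x ^ i) a) := fun i a => by rw [← map_zpow, φq]; rfl
  have lt : Nat.card (Quotient s) < n := by
    obtain ⟨i, hi⟩ := t
    simpa using Fintype.card_lt_of_surjective_not_injective q qs fun h => hi (h ((qe _ _).2 (.inr rfl)))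
  have sm : ∀ a b, x a ≠ a → x b ≠ b → (∀ i : ℤ, (φ y ^ i) (q a) = q a ↔ (φ y ^ i) (q b) = q b) →
      (φ y).SameCycle (q a) (q b) := fun a b ha hb h => by
    obtain ⟨i, rfl⟩ := same hx h1 h2 hc ha hb fun i => by simpa only [yq, qe] using h i
    exact ⟨i, yq i a⟩
  have hy : Hy (φ y) := by
    have f1 : ∀ a b, x a = a → x b = b → q a = q b := fun a b ha hb => (qe _ _).2 (by
      rcases hx.1 a b (τ b) ha hb (by rw [hc, hb]) with c | c | c
      exacts [.inl c, .inr c, by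
        rcases hx.1 a b (τ a) ha hb (by rw [hc, ha]) with d | d | d
        exacts [.inl d, .inl (h2 _ _ d.symm c.symm), .inr (by rw [d, h1])]])
    have f2 : ∀ a b, x a ≠ a → x b ≠ b → φ y (q a) = q a → φ y (q b) = q b → q a = q b :=
      fun a b ha hb c d => (sm a b ha hb fun i => iff_of_true (zpow_apply_eq_self_of_apply_eq_self c i)
        (zpow_apply_eq_self_of_apply_eq_self d i)).eq_of_left c
    refine ⟨fun a b c => ?_, fun a b => ?_⟩
    · obtain ⟨a, rfl⟩ := qs a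
      obtain ⟨b, rfl⟩ := qs b
      obtain ⟨c, rfl⟩ := qs c
      intro ha hb hc
      by_cases ea : x a = a <;> by_cases eb : x b = b <;> by_cases ec : x c = c
      exacts [.inl (f1 _ _ ea eb), .inl (f1 _ _ ea eb), .inr (.inl (f1 _ _ ea ec)),
        .inr (.inr (f2 _ _ eb ec hb hc)), .inr (.inr (f1 _ _ eb ec)), .inr (.inl (f2 _ _ ea ec ha hc)),
        .inl (f2 _ _ ea eb ha hb), .inl (f2 _ _ ea eb ha hb)]
    · obtain ⟨a, rfl⟩ := qs a
      obtain ⟨b, rfl⟩ := qs b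
      intro ha h
      have hb : φ y (q b) ≠ q b := fun c => ha (by simpa using (h 1).2 (by simpa using c))
      exact sm a b (fun c => ha (by rw [φq]; exact congrArg q c)) (fun c => hb (by rw [φq]; exact congrArg q c)) h
  have hk : IsPGroup 2 φ.ker := fun g => ⟨1, Subtype.ext (Subtype.ext (Equiv.ext fun i => by
    have k : ∀ j, g.1.1 j = j ∨ g.1.1 j = τ j := fun j => (qe _ _).1 (by rw [← φq, show φ g.1 = 1 from g.2]; rfl)
    show g.1.1 (g.1.1 i) = i
    rcases k i with c | c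
    · rw [c, c]
    · rw [c, (mK _).1 g.1.2, c, h1]))⟩
  have up : ∀ R : Sylow 2 (Perm (Fin n)), (∀ g ∈ (R : Subgroup (Perm (Fin n))), ∀ i, g (τ i) = τ (g i)) → x ∈ R →
      ∃ T : Sylow 2 (Perm (Fin (Nat.card (Quotient s)))), φ y ∈ T ∧
        (R : Subgroup (Perm (Fin n))) = ((T : Subgroup _).comap φ).map K.subtype := fun R hR xR => by
    obtain ⟨T, hT⟩ := ((R.2.comap_subtype (K := K)).map φ).exists_le_sylow
    exact ⟨T, hT ⟨y, xR, rfl⟩, (R.is_maximal' ((T.2.comap_of_ker_isPGroup φ hk).map _) fun g hg =>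
      ⟨⟨g, (mK g).2 (hR g hg)⟩, hT ⟨_, hg, rfl⟩, rfl⟩).symm⟩
  obtain ⟨T, a1, a2⟩ := up P hP xP
  obtain ⟨U, b1, b2⟩ := up Q hQ xQ
  exact Sylow.ext (by rw [a2, b2, ih _ lt _ hy T U a1 b1])

theorem swap_two {x : Perm (Fin n)} (hx : IsPGroup 2 (zpowers x)) {a b : Fin n} (hab : ¬ x.SameCycle a b)
    (h : ∀ i : ℤ, (x ^ i) a = a ↔ (x ^ i) b = b) : ∃ P : Sylow 2 (Perm (Fin n)), x ∈ P ∧ swap a b ∈ P := by
  let E := closure (Set.range fun i : ℤ => swap ((x ^ i) a) ((x ^ i) b))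
  have e : ∀ (i j : ℤ) c, (x ^ i) c = (x ^ j) c ↔ (x ^ (-j + i)) c = c := fun i j c => by
    rw [zpow_add, zpow_neg, Perm.mul_apply, Perm.inv_eq_iff_eq]
  have ne : ∀ i j : ℤ, (x ^ i) a ≠ (x ^ j) b := fun i j c =>
    hab ⟨-j + i, by rw [zpow_add, zpow_neg, Perm.mul_apply, c]; simp⟩
  have cm : ∀ i j : ℤ, swap ((x ^ i) a) ((x ^ i) b) * swap ((x ^ j) a) ((x ^ j) b) =
      swap ((x ^ j) a) ((x ^ j) b) * swap ((x ^ i) a) ((x ^ i) b) := fun i j => by
    by_cases c : (x ^ i) a = (x ^ j) a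
    · rw [c, (e i j b).2 ((h _).1 ((e i j a).1 c))]
    · have d : (x ^ i) b ≠ (x ^ j) b := fun d => c ((e i j a).2 ((h _).2 ((e i j b).1 d)))
      exact (Perm.disjoint_swap_swap (by simp [c, d, ne, (ne _ _).symm])).commute.eq
  have hE : IsPGroup 2 E := H12.ea_isPGroup (H12.ea_closure (by rintro _ ⟨i, rfl⟩ _ ⟨j, rfl⟩; exact cm i j)
    (by rintro _ ⟨i, rfl⟩; rw [sq, swap_mul_self]))
  obtain ⟨P, hP⟩ := (hx.to_sup_of_normal_right' hE (zpowers_le.2 (mem_normalizer_fintype fun g hg => by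
    refine (closure_le (E.comap (MulAut.conj x).toMonoidHom)).2 ?_ hg
    rintro _ ⟨i, rfl⟩
    refine subset_closure ⟨1 + i, ?_⟩
    simp only [zpow_add, zpow_one, Perm.mul_apply, swap_apply_apply]
    rfl))).exists_le_sylow
  exact ⟨P, hP (mem_sup_left (mem_zpowers x)), hP (mem_sup_right (subset_closure ⟨0, by simp⟩))⟩

theorem hy_iff (x : Perm (Fin n)) : Hy x ↔ n ≤ x.support.card + 2 ∧ x.cycleType.Nodup := by
  have c : ∀ a, x a ≠ a → ∀ i : ℤ, (x ^ i) a = a ↔ ((x.cycleOf a).support.card : ℤ) ∣ i := fun a ha i =>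
    (isCycleOn_support_cycleOf x a).zpow_apply_eq
      (mem_support_cycleOf_iff.2 ⟨SameCycle.refl _ _, mem_support.2 ha⟩)
  refine and_congr ?_ ?_
  · have := Finset.card_add_card_compl x.support
    rw [Fintype.card_fin] at this
    rw [show n ≤ x.support.card + 2 ↔ ¬ 2 < x.supportᶜ.card by omega, Finset.two_lt_card_iff]
    simp only [Finset.mem_compl, mem_support, not_not]
    exact ⟨fun h ⟨a, b, c, ha, hb, hc, d⟩ => by have := h a b c ha hb hc; tauto,
      fun h a b c ha hb hc => by by_contra d; exact h ⟨a, b, c, ha, hb, hc, by tauto⟩⟩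
  rw [cycleType_def, Multiset.nodup_map_iff_inj_on x.cycleFactorsFinset.nodup]
  simp only [Finset.mem_val]
  refine ⟨fun h f hf g hg e => ?_, fun h a b ha k => ?_⟩
  · obtain ⟨a, ha⟩ := (mem_cycleFactorsFinset_iff.1 hf).1.nonempty_support
    obtain ⟨b, hb⟩ := (mem_cycleFactorsFinset_iff.1 hg).1.nonempty_support
    have a1 := mem_support.1 (mem_cycleFactorsFinset_support_le hf ha)
    have b1 := mem_support.1 (mem_cycleFactorsFinset_support_le hg hb)
    obtain rfl := cycle_is_cycleOf ha hf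
    obtain rfl := cycle_is_cycleOf hb hg
    exact (h a b a1 fun i => by rw [c a a1, c b b1, show (x.cycleOf a).support.card = _ from e]; rfl).cycleOf_eq
  · have hb : x b ≠ b := fun e => ha (by simpa using (k 1).2 (by simpa using e))
    refine (sameCycle_iff_cycleOf_eq_of_mem_support (mem_support.2 ha) (mem_support.2 hb)).2
      (h _ (cycleOf_mem_cycleFactorsFinset_iff.2 (mem_support.2 ha)) _
        (cycleOf_mem_cycleFactorsFinset_iff.2 (mem_support.2 hb)) (Nat.dvd_antisymm ?_ ?_))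
    · exact Int.natCast_dvd_natCast.1 ((c a ha _).1 ((k _).2 ((c b hb _).2 dvd_rfl)))
    · exact Int.natCast_dvd_natCast.1 ((c b hb _).1 ((k _).1 ((c a ha _).2 dvd_rfl)))

/-- Let n ≥ 2 and let x be an element of 2-power order of the symmetric group of degree n. Then x lies in exactly one Sylow 2-subgroup if and only if x has at most two fixed points and the nontrivial cycles of x have pairwise different lengths. -/
theorem result (n : ℕ) (hn : 2 ≤ n)
    (x : Equiv.Perm (Fin n)) (hx : ∃ k : ℕ, orderOf x = 2 ^ k) :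
    (∃! P : Sylow 2 (Equiv.Perm (Fin n)), x ∈ P) ↔ (n ≤ x.support.card + 2 ∧ x.cycleType.Nodup) := by
  rw [← hy_iff]
  obtain ⟨k, hk⟩ := hx
  have h2 : IsPGroup 2 (zpowers x) := IsPGroup.of_card (by rw [Nat.card_zpowers, hk])
  refine ⟨fun ⟨P, _, hP⟩ => ?_, fun h => ?_⟩
  · have key : ∀ a b, ¬ x.SameCycle a b → (∀ i : ℤ, (x ^ i) a = a ↔ (x ^ i) b = b) → swap a b ∈ P :=
      fun a b h1 h3 => by
        obtain ⟨Q, q1, q2⟩ := swap_two h2 h1 h3
        exact hP Q q1 ▸ q2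
    refine ⟨fun a b c ha hb hc => ?_, fun a b ha h => ?_⟩
    · have f : ∀ b, x b = b → a ≠ b → swap a b ∈ P := fun b hb e => key a b (fun s => e (s.eq_of_left ha))
        fun i => iff_of_true (zpow_apply_eq_self_of_apply_eq_self ha i) (zpow_apply_eq_self_of_apply_eq_self hb i)
      by_contra d
      push Not at d
      exact d.2.2 (no_tri P.2 (f b hb d.1) (f c hc d.2.1) d.1 d.2.1)
    · by_contra d
      have d' : ¬ x.SameCycle (x a) b := fun s => d (sameCycle_apply_left.1 s)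
      refine ha (no_tri P.2 (swap_comm _ b ▸ key (x a) b d' fun i => ?_) (swap_comm _ b ▸ key a b d h)
        (fun e => d' (e ▸ SameCycle.refl _ _)) fun e => d (e ▸ SameCycle.refl _ _))
      rw [← h, ← Perm.mul_apply, ← (Commute.self_zpow x i).eq, Perm.mul_apply, x.apply_eq_iff_eq]
  · obtain ⟨P, hP⟩ := h2.exists_le_sylow
    exact ⟨P, hP (mem_zpowers x), fun Q hQ => unique n x h Q P hQ (hP (mem_zpowers x))⟩

end Cfsg.Agent.S4349
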