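import Cfsg.Statements.S4134
import Cfsg.Agent.H4.TwoSizes
import Cfsg.Agent.H4.Mann
import Cfsg.Agent.H26.NilpComm

set_option autoImplicit false
open Cfsg

namespace Cfsg.Agent.S4134

open H4

/-- Let G be a finite group whose conjugacy classes have exactly two sizes, 1 and n > 1. Then n is a power of a prime p and G is the direct product of a p-group and an abelian group of order prime to p: its Sylow p-subgroup P is normal with an abelian normal complement centralizing it; moreover P has an abelian normal subgroup A with P/A of exponent dividing p. -/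
theorem result {G : Type*} [Group G] [Finite G] (n : ℕ) (hn : 1 < n)
    (h : ∀ x : G, (Subgroup.centralizer ({x} : Set G)).index = 1 ∨ (Subgroup.centralizer ({x} : Set G)).index = n) (hex : ∃ x : G, (Subgroup.centralizer ({x} : Set G)).index = n) :
    ∃ (p : ℕ) (_ : Fact p.Prime) (a : ℕ), n = p ^ a ∧ ∀ P : Sylow p G, (P : Subgroup G).Normal ∧
      (∃ N : Subgroup G, N.Normal ∧ N.IsComplement' (P : Subgroup G) ∧ IsMulCommutative N ∧
        ∀ x ∈ N, ∀ y ∈ (P : Subgroup G), x * y = y * x) ∧
      ∃ A : Subgroup (P : Subgroup G), A.Normal ∧ IsMulCommutative A ∧ ∀ y : (P : Subgroup G), y ^ p ∈ A := by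
  obtain ⟨p, k, x, hp, hk, hxZ⟩ : ∃ (p k : ℕ) (x : G), p.Prime ∧ orderOf x = p ^ k ∧
      x ∉ Subgroup.center G := by
    by_contra hcon
    push Not at hcon
    obtain ⟨x, hx⟩ := hex
    have h1 := ind_eq_one_iff.mpr (mem_of_forall_primePow_mem (H := Subgroup.center G) x
      fun e q k hq _ hk => hcon q k _ hq hk)
    exact hn.ne (h1.symm.trans hx)
  have := Fact.mk hp
  obtain ⟨R, hR⟩ := (isPGroup_zpowers_of_orderOf hk).exists_le_sylow
  have hN : Group.IsNilpotent G := by
    have := isNilpotent_of_two_sizes R (fun h => hxZ (h (hR (Subgroup.mem_zpowers x)))) ⊤ le_top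
      fun x _ => h x
    exact Group.nilpotent_of_mulEquiv Subgroup.topEquiv
  have key : ∀ (q j : ℕ) (y : G), q.Prime → orderOf y = q ^ j → y ∉ Subgroup.center G →
      ∃ a, n = q ^ a := by
    intro q j y hq hj hy
    rw [← (h y).resolve_left (mt ind_eq_one_iff.mp hy)]
    refine ⟨_, Nat.eq_prime_pow_of_unique_prime_dvd (ind_pos y).ne' fun {s} hs hd => ?_⟩
    by_contra hsq
    have := Fact.mk hs
    obtain ⟨S⟩ : Nonempty (Sylow s G) := inferInstance
    refine not_dvd_ind_of_mem_centralizer_sylow S (fun z hz => ?_) hd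
    obtain ⟨i, hi⟩ := IsPGroup.iff_orderOf.mp S.isPGroup' ⟨z, hz⟩
    rw [Subgroup.orderOf_mk] at hi
    exact H26.commute_of_coprime_orderOf
      (coprime_orderOf_of_pow hs hq hsq hi hj)
  obtain ⟨a, ha⟩ := key p k x hp hk hxZ
  have h1 : ∀ y : G, ¬ p ∣ orderOf y → y ∈ Subgroup.center G := by
    intro y hy
    refine mem_of_forall_primePow_mem y fun e q j hq hd hj => by_contra fun h' => ?_
    obtain ⟨b, hb⟩ := key q j _ hq hj h'
    have h2 : q ∣ p ^ a := ha ▸ hb ▸ dvd_pow_self q (by rintro rfl; simp [hb] at hn)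
    exact hy ((Nat.prime_dvd_prime_iff_eq hq hp).mp (hq.dvd_of_dvd_pow h2) ▸ hd)
  refine ⟨p, this, a, ha, fun P => ?_⟩
  have hPn : (P : Subgroup G).Normal := inferInstance
  obtain ⟨N, h2, h3, h4, h5⟩ := exists_normal_compl_of_centralize P
    fun y hy => Subgroup.center_le_centralizer _ (h1 y hy)
  refine ⟨hPn, ⟨N, h2, h3, ⟨⟨fun u v => Subtype.ext (Subgroup.mem_center_iff.mp
    (h1 v fun hd => h4 (hd.trans (N.orderOf_dvd_natCard v.2))) u)⟩⟩,
    fun u hu v hv => (h5 hu v hv).symm⟩, Subgroup.center _, inferInstance, inferInstance,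
    pow_mem_center_of_two_sizes P.isPGroup' hn fun y => ?_⟩
  rw [ind, H18.index_centralizer_coe, relIndex_eq_index_of_mul]
  · exact h y
  · intro g
    obtain ⟨u, hu, v, hv, rfl⟩ := exists_mul_of_isComplement' h3.symm g
    exact ⟨u, hu, v, mem_cent_iff.mpr (h5 hv y y.2).symm, rfl⟩

end Cfsg.Agent.S4134
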