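import Cfsg.Statements.S3136
import Cfsg.Agent.Base
import Cfsg.Agent.H92.TdP2a
import Cfsg.Agent.H81.TDP2b
import Cfsg.Agent.H65.TDP2n
import Cfsg.Agent.H26.TDP2c
import Cfsg.Agent.H33.TDP2d
import Cfsg.Agent.H15.TDWX
import Cfsg.Agent.H65.TDP3q
import Cfsg.Agent.H7.TDP3a
import Cfsg.Agent.H65.TDP3b
import Cfsg.Agent.H7.TDP3r
import Cfsg.Agent.H58.TDP3c
import Cfsg.Agent.H26.TDP3d
import Cfsg.Agent.H81.TDAlg
import Cfsg.Agent.H91.TdFX1
import Cfsg.Agent.H66.TDFX2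
import Cfsg.Agent.H66.TDLF
import Cfsg.Agent.H66.TDSF
import Cfsg.Agent.H66.TDFI
import Cfsg.Agent.H29.TDFU
import Cfsg.Agent.H91.TdFA
import Cfsg.Agent.H4.TDFJ
import Cfsg.Agent.H65.TDSZ
import Cfsg.Agent.H62.TDId
import Cfsg.Agent.H4.TDFF
import Cfsg.Agent.H62.TDA1
import Cfsg.Agent.H4.TDA2
import Cfsg.Agent.H66.TDW0
import Cfsg.Agent.H4.TDWU
import Cfsg.Agent.H4.TDW1a
import Cfsg.Agent.H98.TdW1b
import Cfsg.Agent.H4.TDW3
import Cfsg.Agent.H4.TDWE
import Cfsg.Agent.H62.TDMain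

set_option autoImplicit false
open Cfsg

namespace Cfsg.Agent.S3136

/-- Let G be a finite group with a standard subgroup L isomorphic to the triality-twisted group of type D₄ with parameter q = 2^n ≥ 2 (realised over the field with q³ elements), such that the centralizer of L in G has cyclic Sylow 2-subgroups. Assume moreover that for every section X of G (a quotient of a subgroup of G by a normal subgroup of that subgroup), every 2-local subgroup of X/O(X) has its 2-layer equal to its layer (all its 2-components are quasisimple), O(X) being the largest normal odd-order subgroup. Then one of the following holds: L·O(G) is normal in G; the layer E(G) is isomorphic to the triality-twisted group of type D₄ with parameter q² (realised over the field with q⁶ elements); or E(G) is isomorphic to L × L. -/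
theorem result {G : Type*} [Group G] [Finite G] (L : Subgroup G) (hL : Cfsg.IsStandardSubgroup L)
    {K : Type*} [Field K] [Fintype K] (n : ℕ) (hn : 1 ≤ n) (hK : Fintype.card K = 8 ^ n)
    (hLX : Nonempty (↥L ≃* ↥(Cfsg.Lie.twistedD4 K (2 ^ n))))
    (hR : ∀ R : Sylow 2 ↥(Subgroup.centralizer (L : Set G)), IsCyclic ↥(R : Subgroup ↥(Subgroup.centralizer (L : Set G))))
    (hS : ∀ (H : Subgroup G) (N : Subgroup ↥H) [N.Normal] (M : Subgroup ((↥H ⧸ N) ⧸ Cfsg.oddCore (↥H ⧸ N))),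
      Cfsg.IsTwoLocal M → Cfsg.pLayer 2 ↥M = Cfsg.layer ↥M) :
    (L ⊔ Cfsg.oddCore G).Normal ∨
      (∃ (E : Type) (_ : Field E) (_ : Fintype E), Fintype.card E = 64 ^ n ∧ Nonempty (↥(Cfsg.layer G) ≃* ↥(Cfsg.Lie.twistedD4 E (4 ^ n)))) ∨
      Nonempty (↥(Cfsg.layer G) ≃* ↥L × ↥L) := by
  exact H62.TD.Slots.main ⟨⟨H92.TdP.jobP2a, H81.TDB.jobP2b, H65.TD3.jobP2n, H26.TDc.jobP2c,
    H33.TD.jobP2d, H15.TD.jobWX, H65.TD3.jobP3q, H7.TDP3a.jobP3a, H65.TD3.jobP3b, H7.TDP3r.jobP3r,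
    H58.TD.jobP3c, H26.TD.jobP3d, H81.TDA.jobAlg, H91.TdX.jobFX1, H66.TDFX.jobFX2⟩,
    H66.TDLF.jobLF, H66.TDLF.jobLF, H66.TDLF.jobSF, H66.TDLF.jobSF, H66.TDLF.jobFI, H29.TDFU.jobFU,
    H91.TdA.jobFA, H4.TDFJ.jobFJ, H65.TDSZ.jobSZ, H62.TD.jobID, H4.TDFF.jobFF, H62.TD.jobA1,
    H4.TDA2.jobA2, H66.TDW0.jobW0, H4.TDWU.jobWU, H4.TDW1a.jobW1a, H98.TdW.jobW1b, H4.TDW3.jobW3,
    H4.TDWE.jobWE⟩ L hL n hn hK hLX hR

end Cfsg.Agent.S3136
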