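import Cfsg.Statements.S3127
import Cfsg.Agent.H67.SAAsm
import Cfsg.Agent.H67.SAFA
import Cfsg.Agent.H67.SAJB
import Cfsg.Agent.H67.SAFU
import Cfsg.Agent.H67.SANF
import Cfsg.Agent.H67.SAEF
import Cfsg.Agent.H67.SAW0
import Cfsg.Agent.H76.SAFB
import Cfsg.Agent.H76.SAFD
import Cfsg.Agent.H3.SaFC2
import Cfsg.Agent.H3.SaFE
import Cfsg.Agent.H29.SAFF
import Cfsg.Agent.H29.SAFG
import Cfsg.Agent.H10.FH2
import Cfsg.Agent.H1.SP2
import Cfsg.Agent.H1.SA5
import Cfsg.Agent.H18.SANW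
import Cfsg.Agent.H18.SANQ
import Cfsg.Agent.H18.SAW1
import Cfsg.Agent.H86.SAWE
import Cfsg.Agent.H81.W2A
import Cfsg.Agent.H98.SaP2b
import Cfsg.Agent.H98.SaA6

set_option autoImplicit false
open Cfsg

namespace Cfsg.Agent.S3127

/-- Let G be a finite group whose generalized Fitting subgroup F*(G) is a non-abelian simple group and in which every section has the B-property, and let L be a standard subgroup of G whose centralizer has cyclic Sylow 2-subgroups. Suppose L modulo its largest normal odd-order subgroup is isomorphic to the projective special linear group of dimension m ≥ 3 over the field with 2^n elements, where n ≥ 2 if m = 3 or m = 4 and n ≥ 1 otherwise. Then F*(G) is isomorphic to the projective special linear group of dimension m over the field with 4^n elements. -/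
theorem result {G : Type*} [Group G] [Finite G]
    (hF : IsSimpleGroup ↥(Cfsg.generalizedFittingSubgroup G)) (hF' : ¬ IsMulCommutative ↥(Cfsg.generalizedFittingSubgroup G))
    (hB : Cfsg.HasStrongBProperty G) (L : Subgroup G) (hL : Cfsg.IsStandardSubgroup L)
    (hR : ∀ R : Sylow 2 ↥(Subgroup.centralizer (L : Set G)), IsCyclic ↥(R : Subgroup ↥(Subgroup.centralizer (L : Set G))))
    (m n : ℕ) (hm : 3 ≤ m) (hn : 1 ≤ n) (hmn : m ≤ 4 → 2 ≤ n)
    {F : Type*} [Field F] [Fintype F] (hFq : Fintype.card F = 2 ^ n)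
    (hLX : Nonempty ((↥L ⧸ Cfsg.oddCore ↥L) ≃* Matrix.ProjectiveSpecialLinearGroup (Fin m) F)) :
    ∃ (K : Type) (_ : Field K) (_ : Fintype K), Fintype.card K = 4 ^ n ∧ Nonempty (↥(Cfsg.generalizedFittingSubgroup G) ≃* Matrix.ProjectiveSpecialLinearGroup (Fin m) K) := by
  have A := H67.SA.jobFA
  have B := H76.SAFB.jobFB
  have C := H3.SA.jobFC A
  have D := H76.SAFD.jobFD C
  have E := H3.SA.jobFE
  have AB := H67.SA.jobAB C D
  have W0 := H67.SA.jobW0 AB
  have WU := H67.SA.jobWU AB A (H10.FH.jobFH B)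
  exact H67.SA.Slots.main ⟨H67.SA.jobJB A B C D H29.SA.jobFF, H67.SA.jobJA A C D,
    H1.SP2.jobP2a A B C E, H98.Sa.jobP2b A C, H1.SA5.jobA5 A, H98.Sa.jobA6, H67.SA.jobH A,
    H67.SA.jobST, H67.SA.jobFU AB A B H29.SA.jobFG, H67.SA.jobNF A B C E,
    H67.SA.jobEF (H67.SA.jobDF B), W0, WU, H18.SA.jobNW A C, H18.SA.jobNQ A C, H18.SA.jobW1 A C D,
    H86.SAWE.jobWE W0 WU H81.W2.jobW2A (H86.SAW3.jobW3 B) A⟩ hF hF' L hL hR m n hm hn hmn hFq hLX

end Cfsg.Agent.S3127
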