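import Cfsg.Statements.S3128
import Cfsg.Agent.H67.UAFin
import Cfsg.Agent.H81.UAQK

set_option autoImplicit false
open Cfsg

namespace Cfsg.Agent.S3128

/-- Let G be a finite group whose generalized Fitting subgroup F*(G) is a non-abelian simple group and in which every section has the B-property, and let L be a standard subgroup of G whose centralizer has cyclic Sylow 2-subgroups. Suppose L modulo its largest normal odd-order subgroup is isomorphic to the projective special unitary group of dimension m ≥ 6 with parameter q = 2^n (realised over the field with q² elements), with (m, q) ≠ (6, 2). Then F*(G) is isomorphic to the projective special linear group of dimension m over the field with q² elements. -/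
theorem result {G : Type*} [Group G] [Finite G]
    (hF : IsSimpleGroup ↥(Cfsg.generalizedFittingSubgroup G)) (hF' : ¬ IsMulCommutative ↥(Cfsg.generalizedFittingSubgroup G))
    (hB : Cfsg.HasStrongBProperty G) (L : Subgroup G) (hL : Cfsg.IsStandardSubgroup L)
    (hR : ∀ R : Sylow 2 ↥(Subgroup.centralizer (L : Set G)), IsCyclic ↥(R : Subgroup ↥(Subgroup.centralizer (L : Set G))))
    (m n : ℕ) (hm : 6 ≤ m) (hn : 1 ≤ n) (hex : ¬ (m = 6 ∧ n = 1))
    {F : Type*} [Field F] [Fintype F] (hFq : Fintype.card F = (2 ^ n) ^ 2)
    (hLX : Nonempty ((↥L ⧸ Cfsg.oddCore ↥L) ≃* Cfsg.PSU m F (2 ^ n))) :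
    ∃ (K : Type) (_ : Field K) (_ : Fintype K), Fintype.card K = (2 ^ n) ^ 2 ∧ Nonempty (↥(Cfsg.generalizedFittingSubgroup G) ≃* Matrix.ProjectiveSpecialLinearGroup (Fin m) K) :=
  H67.UA.main (H67.UA.slotsF H81.UAQ.jobQK) H67.UA.slotsA hF hF' L hL hR m n hm hn hex hFq hLX

end Cfsg.Agent.S3128
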