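import Cfsg.Statements.S3130
import Cfsg.Agent.H59.SOAll
import Cfsg.Agent.H30.SoFD
import Cfsg.Agent.H1.SOE

set_option autoImplicit false
open Cfsg

namespace Cfsg.Agent.S3130

/-- Let G be a finite group whose generalized Fitting subgroup F*(G) is a non-abelian simple group and in which every section has the B-property, and let L be a standard subgroup of G whose centralizer has cyclic Sylow 2-subgroups. Suppose L modulo its largest normal odd-order subgroup is isomorphic to the simple orthogonal group PΩ⁺ or PΩ⁻ of even dimension m = 2k ≥ 8 over the field with q = 2^n elements, with (m, q) ≠ (8, 2). Then F*(G) is isomorphic to the simple orthogonal group PΩ⁺ of dimension m over the field with q² elements. -/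
theorem result {G : Type*} [Group G] [Finite G]
    (hF : IsSimpleGroup ↥(Cfsg.generalizedFittingSubgroup G)) (hF' : ¬ IsMulCommutative ↥(Cfsg.generalizedFittingSubgroup G))
    (hB : Cfsg.HasStrongBProperty G) (L : Subgroup G) (hL : Cfsg.IsStandardSubgroup L)
    (hR : ∀ R : Sylow 2 ↥(Subgroup.centralizer (L : Set G)), IsCyclic ↥(R : Subgroup ↥(Subgroup.centralizer (L : Set G))))
    (k n : ℕ) (hk : 4 ≤ k) (hn : 1 ≤ n) (hex : ¬ (k = 4 ∧ n = 1))
    {F : Type*} [Field F] [Fintype F] (hFq : Fintype.card F = 2 ^ n)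
    (hLX : Nonempty ((↥L ⧸ Cfsg.oddCore ↥L) ≃* Cfsg.POmega F (Cfsg.quadFormPlus k F)) ∨
      ∃ a b : F, (∀ z₁ z₂ : F, z₁ ^ 2 + a * z₁ * z₂ + b * z₂ ^ 2 = 0 → z₁ = 0 ∧ z₂ = 0) ∧ Nonempty ((↥L ⧸ Cfsg.oddCore ↥L) ≃* Cfsg.POmega F (Cfsg.quadFormMinus (k - 1) F a b))) :
    ∃ (K : Type) (_ : Field K) (_ : Fintype K), Fintype.card K = (2 ^ n) ^ 2 ∧ Nonempty (↥(Cfsg.generalizedFittingSubgroup G) ≃* Cfsg.POmega K (Cfsg.quadFormPlus k K)) := by
  exact (H59.SO.slots (H30.SoFD.jFD H59.SO.fA)).main (H59.SO.sCH H1.SOE.jFE) H59.SO.sNB H59.SO.jFM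
    hF hF' L hL hR k n hk hn hex hFq hLX

end Cfsg.Agent.S3130
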