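import Cfsg.Statements.S2175
import Cfsg.Agent.H63.Inv4

set_option autoImplicit false
open Cfsg

namespace Cfsg.Agent.S2175

open Cfsg.Lie H63 H64 H65

def H : List (List ℕ × List ℕ × List ℕ) :=
  [([71, 60, 44, 39], [44, 60, 71], [47, 25, 20, 8])]

def C : List (List ℕ × List Mv) :=
  [([71], []),
  ([71, 60], [.rf 48]),
  ([71, 60, 44], [.rf 61, .rf 47]),
  ([71, 60, 44, 39], [.id 0, .rf 49, .rf 47])]

def R : List (List ℕ × List ℕ) :=
  [([71], []), ([68, 66], [69, 70, 71]), ([55, 65, 67], [66, 68, 69, 70, 71])]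

theorem c0 : ∀ i < chevE6.rank, ∀ s < chevE6.nroots, (chevE6.cartan i s).natAbs ≤ 2 := by
  decide +kernel

theorem c1 : ∀ A ∈ chs chevE6 chevE6.rank (List.range chevE6.rank),
    A = [] ∨ ∃ e ∈ C, e.1.isPerm A := by decide +kernel

theorem c2 : ∀ e ∈ C, e.1.Pairwise (H68.cz chevE6 2 · ·) ∧
    ∃ B ∈ R, run chevE6 H e.2 e.1 = some B.1 := by decide +kernel

theorem c3 : ∀ B ∈ R, upc chevE6 B.1 B.2 ∧ B.1 ≠ [] ∧ B.1.Pairwise (H68.cz chevE6 2 · ·) := by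
  decide +kernel

theorem c4 : R.Pairwise fun A B => noEmb chevE6 (fun _ => true) (A.1 ++ A.2)
    (par chevE6 B.1.reverse) B.1 [] := by decide +kernel

theorem hH {F : Type*} [Field F] [CharP F 2] : ∀ e ∈ H, (∀ r ∈ e.2.2, r < chevE6.nroots) ∧
    chevE6.wordMat F ((e.2.2 ++ e.1).map (·, 1)) =
      chevE6.wordMat F ((e.2.1 ++ e.2.2).map (·, 1)) := by
  obtain ⟨_, _, _⟩ := of_mem (D := chevE6) (by simp)
  simp only [H, List.forall_mem_cons, List.not_mem_nil, false_imp_iff, implies_true, and_true]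
  exact ⟨by decide +kernel, eng1 packedE6 (by decide +kernel)⟩

/-- Conjugacy classes of involutions in the Chevalley group of type E₆ over a finite field F of characteristic two (the matrix group generated by the root elements x_r(t)). In this problem's root numbering for type E₆ (the Chevalley data module; fundamental roots numbered so that p₁–p₃–p₄–p₅–p₆ is the long chain of the diagram and p₂ is joined to p₄; roots indexed by their coefficient vectors in increasing order) let r = 71 be the highest root (1,2,2,3,2,1), α = 68 = (1,1,2,2,1,1), β = 66 = (1,1,1,2,2,1), γ = 55 = (0,1,1,2,2,1), δ = 65 = (1,1,1,2,1,1), ε = 67 = (1,1,2,2,1,0) (α ⊥ β and γ, δ, ε pairwise orthogonal); consider x_r(1), x_α(1)x_β(1) and x_γ(1)x_δ(1)x_ε(1). Then: each invertible matrix equal to one of these three products lies in the group and has order 2; every element of order 2 of the group is conjugate in the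 group to one of them; and no two of them are conjugate in the group (so, the three matrices being distinct, the group has exactly three conjugacy classes of involutions). -/
theorem result {F : Type*} [Field F] [Fintype F] [CharP F 2] :
    (∀ y : GL Cfsg.Lie.chevE6.Idx F, ((y : GL Cfsg.Lie.chevE6.Idx F) : Matrix Cfsg.Lie.chevE6.Idx Cfsg.Lie.chevE6.Idx F) ∈ [Cfsg.Lie.chevE6.x F 71 1, Cfsg.Lie.chevE6.x F 68 1 * Cfsg.Lie.chevE6.x F 66 1, Cfsg.Lie.chevE6.x F 55 1 * Cfsg.Lie.chevE6.x F 65 1 * Cfsg.Lie.chevE6.x F 67 1] → y ∈ Cfsg.Lie.chevE6.group F ∧ orderOf y = 2) ∧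
    (∀ g ∈ Cfsg.Lie.chevE6.group F, orderOf g = 2 → ∃ y ∈ Cfsg.Lie.chevE6.group F, ((y : GL Cfsg.Lie.chevE6.Idx F) : Matrix Cfsg.Lie.chevE6.Idx Cfsg.Lie.chevE6.Idx F) ∈ [Cfsg.Lie.chevE6.x F 71 1, Cfsg.Lie.chevE6.x F 68 1 * Cfsg.Lie.chevE6.x F 66 1, Cfsg.Lie.chevE6.x F 55 1 * Cfsg.Lie.chevE6.x F 65 1 * Cfsg.Lie.chevE6.x F 67 1] ∧ ∃ h ∈ Cfsg.Lie.chevE6.group F, h * g * h⁻¹ = y) ∧
    (∀ y₁ ∈ Cfsg.Lie.chevE6.group F, ∀ y₂ ∈ Cfsg.Lie.chevE6.group F, ((y₁ : GL Cfsg.Lie.chevE6.Idx F) : Matrix Cfsg.Lie.chevE6.Idx Cfsg.Lie.chevE6.Idx F) ∈ [Cfsg.Lie.chevE6.x F 71 1, Cfsg.Lie.chevE6.x F 68 1 * Cfsg.Lie.chevE6.x F 66 1, Cfsg.Lie.chevE6.x F 55 1 * Cfsg.Lie.chevE6.x F 65 1 * Cfsg.Lie.chevE6.x F 67 1] → ((y₂ : GL Cfsg.Lie.chevE6.Idx F) : Matrix Cfsg.Lie.chevE6.Idx Cfsg.Lie.chevE6.Idx F) ∈ [Cfsg.Lie.chevE6.x F 71 1, Cfsg.Lie.chevE6.x F 68 1 * Cfsg.Lie.chevE6.x F 66 1, Cfsg.Lie.chevE6.x F 55 1 * Cfsg.Lie.chevE6.x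 F 65 1 * Cfsg.Lie.chevE6.x F 67 1] →
      (∃ h ∈ Cfsg.Lie.chevE6.group F, h * y₁ * h⁻¹ = y₂) → ((y₁ : GL Cfsg.Lie.chevE6.Idx F) : Matrix Cfsg.Lie.chevE6.Idx Cfsg.Lie.chevE6.Idx F) = ((y₂ : GL Cfsg.Lie.chevE6.Idx F) : Matrix Cfsg.Lie.chevE6.Idx Cfsg.Lie.chevE6.Idx F)) := by
  obtain ⟨_, _, _⟩ := of_mem (D := chevE6) (by simp)
  exact list_classes (R := R) (by simp [R, pr, x_eq_X, mul_assoc])
    (invol_classes one_ne_zero (cube_hyp c0) H C R (fun _ _ => rfl) hH c1 c2 c3 c4)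

end Cfsg.Agent.S2175
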