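import Cfsg.Statements.S2176
import Cfsg.Agent.H63.Inv4

set_option autoImplicit false
open Cfsg

namespace Cfsg.Agent.S2176

open Cfsg.Lie H63 H64 H65

def H : List (List ℕ × List ℕ × List ℕ) :=
  [([239, 226, 159, 121], [159, 226, 239], [122, 119, 79, 12])]

def C : List (List ℕ × List Mv) :=
  [([239], []),
  ([239, 226], [.rf 146]),
  ([239, 226, 159], [.rf 160, .rf 178, .rf 129, .rf 215]),
  ([239, 226, 159, 121], [.id 0, .rf 159, .rf 238, .rf 161, .rf 185, .rf 128, .rf 214]),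
  ([239, 226, 159, 152], [.rf 120, .rf 161, .rf 183, .rf 150]),
  ([239, 226, 159, 121, 152], [.id 0, .rf 160, .rf 227, .rf 124, .rf 187, .rf 123, .rf 212, .rf
    180]),
  ([239, 226, 159, 152, 126], [.pm [239, 226, 152, 126, 159], .rf 123, .rf 128, .rf 121, .id 0,
    .rf 160, .rf 227, .rf 124, .rf 187, .rf 123, .rf 212, .rf 180]),
  ([239, 226, 159, 152, 135], [.pm [226, 159, 152, 135, 239], .rf 120, .rf 161, .rf 167, .rf 205,
    .rf 144, .rf 150, .rf 121, .id 0, .rf 160, .rf 227, .rf 124, .rf 187, .rf 123, .rf 212, .rf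
    157, .rf 216]),
  ([239, 226, 159, 152, 141], [.pm [239, 159, 152, 141, 226], .rf 162, .rf 184, .rf 138, .rf 150,
    .rf 121, .id 0, .rf 160, .rf 227, .rf 124, .rf 187, .rf 123, .rf 212, .rf 157]),
  ([239, 226, 159, 121, 152, 126], [.id 0, .pm [226, 239, 152, 126, 159], .rf 120, .rf 161, .rf
    123, .rf 128, .rf 121, .id 0, .rf 160, .rf 227, .rf 124, .rf 187, .rf 123, .rf 212, .rf 143,
    .rf 199]),
  ([239, 226, 159, 121, 152, 135], [.id 0, .pm [159, 226, 152, 135, 239], .rf 120, .rf 228, .rf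
    167, .rf 205, .rf 144, .rf 150, .rf 121, .id 0, .rf 160, .rf 227, .rf 124, .rf 187, .rf 123,
    .rf 212, .rf 142]),
  ([239, 226, 159, 121, 152, 141], [.id 0, .pm [159, 239, 152, 141, 226], .rf 120, .rf 228, .rf
    162, .rf 184, .rf 138, .rf 150, .rf 121, .id 0, .rf 160, .rf 227, .rf 124, .rf 187, .rf 123,
    .rf 212, .rf 142, .rf 216]),
  ([239, 226, 159, 152, 126, 135], [.pm [239, 226, 152, 126, 159, 135], .rf 123, .rf 128, .rf 121,
    .id 0, .pm [159, 226, 152, 135, 239], .rf 120, .rf 228, .rf 167, .rf 205, .rf 144, .rf 150,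
    .rf 121, .id 0, .rf 160, .rf 227, .rf 124, .rf 187, .rf 123, .rf 212, .rf 142]),
  ([239, 226, 159, 152, 126, 141], [.pm [239, 226, 152, 126, 159, 141], .rf 123, .rf 128, .rf 121,
    .id 0, .pm [159, 239, 152, 141, 226], .rf 120, .rf 228, .rf 162, .rf 184, .rf 138, .rf 150,
    .rf 121, .id 0, .rf 160, .rf 227, .rf 124, .rf 187, .rf 123, .rf 212, .rf 142, .rf 216]),
  ([239, 226, 159, 152, 135, 141], [.pm [239, 226, 135, 141, 159, 152], .rf 132, .rf 145, .rf 121,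
    .id 0, .pm [159, 226, 135, 152, 239], .rf 120, .rf 228, .rf 167, .rf 205, .rf 132, .rf 145,
    .id 0, .rf 160, .rf 227, .rf 124, .rf 187, .rf 123, .rf 212, .rf 157, .rf 216]),
  ([239, 226, 159, 121, 152, 126, 135], [.id 0, .pm [159, 226, 152, 135, 239, 126], .rf 120, .rf
    228, .rf 167, .rf 205, .rf 144, .rf 150, .rf 121, .id 0, .pm [159, 226, 98, 126, 239], .rf
    120, .rf 228, .rf 167, .rf 205, .rf 123, .rf 128, .rf 121, .id 0, .rf 160, .rf 227, .rf 124,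
    .rf 187, .rf 123, .rf 212, .rf 180]),
  ([239, 226, 159, 121, 152, 126, 141], [.id 0, .pm [159, 226, 126, 141, 239, 152], .rf 120, .rf
    228, .rf 167, .rf 205, .rf 123, .rf 154, .id 0, .pm [159, 226, 126, 98, 239], .rf 120, .rf
    228, .rf 167, .rf 205, .rf 123, .rf 154, .rf 121, .id 0, .rf 160, .rf 227, .rf 124, .rf 187,
    .rf 123, .rf 212, .rf 143, .rf 199]),
  ([239, 226, 159, 121, 152, 135, 141], [.id 0, .pm [159, 226, 152, 135, 239, 141], .rf 120, .rf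
    228, .rf 167, .rf 205, .rf 144, .rf 150, .rf 121, .id 0, .pm [159, 239, 98, 87, 226], .rf 120,
    .rf 228, .rf 162, .rf 184, .rf 144, .rf 150, .rf 121, .id 0, .rf 160, .rf 227, .rf 124, .rf
    187, .rf 123, .rf 212, .rf 157, .rf 216]),
  ([239, 226, 159, 152, 126, 135, 141], [.pm [239, 226, 152, 126, 159, 135, 141], .rf 123, .rf
    128, .rf 121, .id 0, .pm [159, 226, 152, 135, 239, 141], .rf 120, .rf 228, .rf 167, .rf 205,
    .rf 144, .rf 150, .rf 121, .id 0, .pm [159, 239, 98, 87, 226], .rf 120, .rf 228, .rf 162, .rf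
    184, .rf 144, .rf 150, .rf 121, .id 0, .rf 160, .rf 227, .rf 124, .rf 187, .rf 123, .rf 212,
    .rf 157, .rf 216]),
  ([239, 226, 159, 121, 152, 126, 135, 141], [.id 0, .pm [159, 226, 152, 135, 239, 126, 141], .rf
    120, .rf 228, .rf 167, .rf 205, .rf 144, .rf 150, .rf 121, .id 0, .pm [159, 226, 98, 126, 239,
    87], .rf 120, .rf 228, .rf 167, .rf 205, .rf 123, .rf 128, .rf 121, .id 0, .pm [159, 239, 152,
    141, 226], .rf 120, .rf 228, .rf 162, .rf 184, .rf 138, .rf 150, .rf 121, .id 0, .rf 160, .rf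
    227, .rf 124, .rf 187, .rf 123, .rf 212, .rf 142, .rf 216])]

def R : List (List ℕ × List ℕ) :=
  [([239], []), ([232, 233], [234, 235, 236, 237, 238, 239]), ([228, 222, 218], [223, 224, 225,
    229, 230, 231, 232, 233, 234, 235, 236, 237, 238, 239]), ([226, 220, 213, 216], [217, 218,
    221, 222, 223, 224, 225, 227, 228, 229, 230, 231, 232, 233, 234, 235, 236, 237, 238, 239])]

theorem c0 : ∀ i < chevE8.rank, ∀ s < chevE8.nroots, (chevE8.cartan i s).natAbs ≤ 2 := by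
  decide +kernel

theorem c1 : ∀ A ∈ chs chevE8 chevE8.rank (List.range chevE8.rank),
    A = [] ∨ ∃ e ∈ C, e.1.isPerm A := by decide +kernel

theorem c2 : ∀ e ∈ C, e.1.Pairwise (H68.cz chevE8 2 · ·) ∧
    ∃ B ∈ R, run chevE8 H e.2 e.1 = some B.1 := by decide +kernel

theorem c3 : ∀ B ∈ R, upc chevE8 B.1 B.2 ∧ B.1 ≠ [] ∧ B.1.Pairwise (H68.cz chevE8 2 · ·) := by
  decide +kernel

theorem c4 : R.Pairwise fun A B => noEmb chevE8 (fun _ => true) (A.1 ++ A.2)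
    (par chevE8 B.1.reverse) B.1 [] := by decide +kernel

theorem hH {F : Type*} [Field F] [CharP F 2] : ∀ e ∈ H, (∀ r ∈ e.2.2, r < chevE8.nroots) ∧
    chevE8.wordMat F ((e.2.2 ++ e.1).map (·, 1)) =
      chevE8.wordMat F ((e.2.1 ++ e.2.2).map (·, 1)) := by
  obtain ⟨_, _, _⟩ := of_mem (D := chevE8) (by simp)
  simp only [H, List.forall_mem_cons, List.not_mem_nil, false_imp_iff, implies_true, and_true]
  exact ⟨by decide +kernel, eng1 packedE8 (by decide +kernel)⟩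

/-- Conjugacy classes of involutions in the Chevalley group of type E₈ over a finite field F of characteristic two (the matrix group generated by the root elements x_r(t)). In this problem's root numbering for type E₈ (the Chevalley data module; fundamental roots numbered so that p₁–p₃–p₄–p₅–p₆–p₇–p₈ is the long chain of the diagram and p₂ is joined to p₄; roots indexed by their coefficient vectors in increasing order) let r = 239 be the highest root (2,3,4,6,5,4,3,2), α = 232 = (2,2,4,5,4,3,2,1), β = 233 = (2,3,3,5,4,3,2,1), γ = 228 = (2,2,3,4,3,2,2,1), δ = 222 = (1,2,3,4,3,3,2,1), ε = 218 = (1,2,2,4,4,3,2,1), φ = 226 = (2,2,3,4,3,2,1,0), ψ = 220 = (1,2,3,4,3,2,1,1), θ = 213 = (1,2,2,3,3,3,2,1), ω = 216 = (1,2,2,4,3,2,2,1) (the roots within each of {α, β}, {γ, δ, ε}, {φ, ψ, θ, ω} pairwise orthogonal); consider x_r(1), x_α(1)x_β(1), x_γ(1)x_δ(1)x_ε(1) and x_φ(1)x_ψ(1)x_θ(1)x_ω(1). Then: each invertible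 matrix equal to one of these four products lies in the group and has order 2; every element of order 2 of the group is conjugate in the group to one of them; and no two of them are conjugate in the group (so, the four matrices being distinct, the group has exactly four conjugacy classes of involutions). -/
theorem result {F : Type*} [Field F] [Fintype F] [CharP F 2] :
    (∀ y : GL Cfsg.Lie.chevE8.Idx F, ((y : GL Cfsg.Lie.chevE8.Idx F) : Matrix Cfsg.Lie.chevE8.Idx Cfsg.Lie.chevE8.Idx F) ∈ [Cfsg.Lie.chevE8.x F 239 1, Cfsg.Lie.chevE8.x F 232 1 * Cfsg.Lie.chevE8.x F 233 1, Cfsg.Lie.chevE8.x F 228 1 * Cfsg.Lie.chevE8.x F 222 1 * Cfsg.Lie.chevE8.x F 218 1, Cfsg.Lie.chevE8.x F 226 1 * Cfsg.Lie.chevE8.x F 220 1 * Cfsg.Lie.chevE8.x F 213 1 * Cfsg.Lie.chevE8.x F 216 1] → y ∈ Cfsg.Lie.chevE8.group F ∧ orderOf y = 2) ∧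
    (∀ g ∈ Cfsg.Lie.chevE8.group F, orderOf g = 2 → ∃ y ∈ Cfsg.Lie.chevE8.group F, ((y : GL Cfsg.Lie.chevE8.Idx F) : Matrix Cfsg.Lie.chevE8.Idx Cfsg.Lie.chevE8.Idx F) ∈ [Cfsg.Lie.chevE8.x F 239 1, Cfsg.Lie.chevE8.x F 232 1 * Cfsg.Lie.chevE8.x F 233 1, Cfsg.Lie.chevE8.x F 228 1 * Cfsg.Lie.chevE8.x F 222 1 * Cfsg.Lie.chevE8.x F 218 1, Cfsg.Lie.chevE8.x F 226 1 * Cfsg.Lie.chevE8.x F 220 1 * Cfsg.Lie.chevE8.x F 213 1 * Cfsg.Lie.chevE8.x F 216 1] ∧ ∃ h ∈ Cfsg.Lie.chevE8.group F, h * g * h⁻¹ = y) ∧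
    (∀ y₁ ∈ Cfsg.Lie.chevE8.group F, ∀ y₂ ∈ Cfsg.Lie.chevE8.group F, ((y₁ : GL Cfsg.Lie.chevE8.Idx F) : Matrix Cfsg.Lie.chevE8.Idx Cfsg.Lie.chevE8.Idx F) ∈ [Cfsg.Lie.chevE8.x F 239 1, Cfsg.Lie.chevE8.x F 232 1 * Cfsg.Lie.chevE8.x F 233 1, Cfsg.Lie.chevE8.x F 228 1 * Cfsg.Lie.chevE8.x F 222 1 * Cfsg.Lie.chevE8.x F 218 1, Cfsg.Lie.chevE8.x F 226 1 * Cfsg.Lie.chevE8.x F 220 1 * Cfsg.Lie.chevE8.x F 213 1 * Cfsg.Lie.chevE8.x F 216 1] → ((y₂ : GL Cfsg.Lie.chevE8.Idx F) : Matrix Cfsg.Lie.chevE8.Idx Cfsg.Lie.chevE8.Idx F) ∈ [Cfsg.Lie.chevE8.x F 239 1, Cfsg.Lie.chevE8.x F 232 1 * Cfsg.Lie.chevE8.x F 233 1, Cfsg.Lie.chevE8.x F 228 1 * Cfsg.Lie.chevE8.x F 222 1 * Cfsg.Lie.chevE8.x F 218 1, Cfsg.Lie.chevE8.x F 226 1 * Cfsg.Lie.chevE8.x F 220 1 * Cfsg.Lie.chevE8.x F 213 1 * Cfsg.Lie.chevE8.x F 216 1] →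
      (∃ h ∈ Cfsg.Lie.chevE8.group F, h * y₁ * h⁻¹ = y₂) → ((y₁ : GL Cfsg.Lie.chevE8.Idx F) : Matrix Cfsg.Lie.chevE8.Idx Cfsg.Lie.chevE8.Idx F) = ((y₂ : GL Cfsg.Lie.chevE8.Idx F) : Matrix Cfsg.Lie.chevE8.Idx Cfsg.Lie.chevE8.Idx F)) := by
  obtain ⟨_, _, _⟩ := of_mem (D := chevE8) (by simp)
  exact list_classes (R := R) (by simp [R, pr, x_eq_X, mul_assoc])
    (invol_classes one_ne_zero (cube_hyp c0) H C R (fun _ _ => rfl) hH c1 c2 c3 c4)

end Cfsg.Agent.S2176
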