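import Cfsg.Statements.S2181
import Cfsg.Agent.H63.Inv4

set_option autoImplicit false
open Cfsg

namespace Cfsg.Agent.S2181

open Cfsg.Lie H63 H64 H65

def H : List (List ℕ × List ℕ × List ℕ) :=
  [([125, 92, 87, 73], [87, 92, 125], [94, 32, 22, 17])]

def C : List (List ℕ × List Mv) :=
  [([125], []),
  ([125, 92], [.rf 99]),
  ([125, 92, 63], [.rf 93, .rf 109, .rf 110]),
  ([125, 92, 87], [.rf 103, .rf 81, .rf 99, .rf 106]),
  ([125, 92, 63, 87], [.rf 93, .rf 109, .rf 110, .rf 69, .rf 75]),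
  ([125, 92, 87, 66], [.pm [125, 87, 66, 92], .rf 93, .rf 109, .rf 113, .rf 111, .rf 69, .rf 75]),
  ([125, 92, 87, 73], [.id 0, .rf 87, .rf 124, .rf 72, .rf 116, .rf 83, .rf 90]),
  ([125, 92, 87, 78], [.pm [92, 87, 78, 125], .rf 74, .rf 98, .rf 79]),
  ([125, 92, 63, 87, 66], [.pm [92, 63, 87, 66, 125], .rf 93, .rf 109, .rf 64, .rf 90, .rf 74, .rf
    84, .id 0, .pm [92, 125, 63, 87], .rf 110, .rf 69, .rf 97]),
  ([125, 92, 63, 87, 73], [.pm [125, 92, 87, 73, 63], .id 0, .pm [92, 125, 63, 87], .rf 110, .rf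
    69, .rf 97]),
  ([125, 92, 63, 87, 78], [.pm [125, 63, 87, 78, 92], .rf 64, .rf 90, .rf 70, .rf 84, .rf 73, .id
    0, .pm [92, 125, 63, 87], .rf 110, .rf 69, .rf 97]),
  ([125, 92, 87, 66, 73], [.pm [125, 92, 87, 73, 66], .id 0, .pm [87, 125, 66, 92], .rf 64, .rf
    68, .rf 110, .rf 111, .rf 69, .rf 97]),
  ([125, 92, 87, 66, 78], [.pm [125, 92, 66, 78, 87], .rf 69, .rf 83, .rf 73, .id 0, .pm [87, 125,
    66, 92], .rf 64, .rf 68, .rf 110, .rf 111, .rf 69, .rf 97]),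
  ([125, 92, 87, 73, 78], [.id 0, .pm [87, 92, 78, 125], .rf 64, .rf 68, .rf 74, .rf 98, .rf 79]),
  ([125, 92, 63, 87, 66, 73], [.pm [125, 92, 87, 73, 63, 66], .id 0, .pm [87, 92, 63, 66, 125],
    .rf 93, .rf 114, .rf 76, .rf 86, .rf 79, .rf 84, .rf 73, .id 0, .pm [87, 92, 47, 125], .rf 64,
    .rf 68, .rf 74, .rf 98, .rf 111, .rf 79]),
  ([125, 92, 63, 87, 66, 78], [.pm [125, 92, 66, 78, 63, 87], .rf 69, .rf 83, .rf 73, .id 0, .pm
    [87, 92, 63, 66, 125], .rf 93, .rf 114, .rf 76, .rf 86, .rf 79, .rf 84, .rf 73, .id 0, .pm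
    [87, 92, 47, 125], .rf 64, .rf 68, .rf 74, .rf 98, .rf 111, .rf 79]),
  ([125, 92, 63, 87, 73, 78], [.pm [125, 92, 87, 73, 63, 78], .id 0, .pm [87, 125, 63, 78, 92],
    .rf 93, .rf 114, .rf 64, .rf 68, .rf 70, .rf 84, .rf 73, .id 0, .pm [87, 92, 78, 125], .rf 64,
    .rf 68, .rf 74, .rf 98, .rf 79]),
  ([125, 92, 87, 66, 73, 78], [.pm [125, 92, 87, 73, 66, 78], .id 0, .pm [92, 125, 66, 78, 87],
    .rf 93, .rf 109, .rf 69, .rf 83, .rf 73, .id 0, .pm [87, 92, 78, 125], .rf 64, .rf 68, .rf 74,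
    .rf 98, .rf 79]),
  ([125, 92, 63, 87, 66, 73, 78], [.pm [125, 92, 87, 73, 63, 66, 78], .id 0, .pm [87, 92, 63, 66,
    125, 78], .rf 93, .rf 114, .rf 76, .rf 86, .rf 79, .rf 84, .rf 73, .id 0, .pm [87, 125, 47,
    62, 92], .rf 93, .rf 114, .rf 64, .rf 68, .rf 79, .rf 84, .rf 73, .id 0, .pm [87, 125, 66,
    92], .rf 64, .rf 68, .rf 110, .rf 111, .rf 69, .rf 97])]

def R : List (List ℕ × List ℕ) :=
  [([125], []), ([118, 121], [122, 123, 124, 125]), ([92, 107, 111], [108, 113, 114, 116, 117,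
    118, 120, 121, 122, 123, 124, 125]), ([114, 116, 119], [117, 118, 120, 121, 122, 123, 124,
    125]), ([92, 107, 111, 112], [108, 113, 114, 115, 116, 117, 118, 119, 120, 121, 122, 123, 124,
    125])]

theorem c0 : ∀ i < chevE7.rank, ∀ s < chevE7.nroots, (chevE7.cartan i s).natAbs ≤ 2 := by
  decide +kernel

theorem c1 : ∀ A ∈ chs chevE7 chevE7.rank (List.range chevE7.rank),
    A = [] ∨ ∃ e ∈ C, e.1.isPerm A := by decide +kernel

theorem c2 : ∀ e ∈ C, e.1.Pairwise (H68.cz chevE7 2 · ·) ∧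
    ∃ B ∈ R, run chevE7 H e.2 e.1 = some B.1 := by decide +kernel

theorem c3 : ∀ B ∈ R, upc chevE7 B.1 B.2 ∧ B.1 ≠ [] ∧ B.1.Pairwise (H68.cz chevE7 2 · ·) := by
  decide +kernel

theorem c4 : R.Pairwise fun A B => noEmb chevE7 (fun _ => true) (A.1 ++ A.2)
    (par chevE7 B.1.reverse) B.1 [] := by decide +kernel

theorem hH {F : Type*} [Field F] [CharP F 2] : ∀ e ∈ H, (∀ r ∈ e.2.2, r < chevE7.nroots) ∧
    chevE7.wordMat F ((e.2.2 ++ e.1).map (·, 1)) =
      chevE7.wordMat F ((e.2.1 ++ e.2.2).map (·, 1)) := by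
  obtain ⟨_, _, _⟩ := of_mem (D := chevE7) (by simp)
  simp only [H, List.forall_mem_cons, List.not_mem_nil, false_imp_iff, implies_true, and_true]
  exact ⟨by decide +kernel, eng1 packedE7 (by decide +kernel)⟩

/-- The Chevalley group of type E₇ over a finite field of characteristic two (the matrix group generated by the root elements) has exactly five conjugacy classes of elements of order 2. -/
theorem result {F : Type*} [Field F] [Fintype F] [CharP F 2] :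
    (ConjClasses.mk '' {g : ↥(Cfsg.Lie.chevE7.group F) | orderOf g = 2}).ncard = 5 := by
  obtain ⟨_, _, _⟩ := of_mem (D := chevE7) (by simp)
  exact ncard_classes (R := R) (by decide +kernel)
    (invol_classes one_ne_zero (cube_hyp c0) H C R (fun _ _ => rfl) hH c1 c2 c3 c4)

end Cfsg.Agent.S2181
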