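import Cfsg.Statements.S3326
import Cfsg.Agent.H64.SGFin
import Cfsg.Agent.H64.SGFE
import Cfsg.Agent.H37.SgD
import Cfsg.Agent.H92.SgP2a
import Cfsg.Agent.H84.SGW5

set_option autoImplicit false
open Cfsg

namespace Cfsg.Agent.S3326

/-- Let G be a finite group whose generalized Fitting subgroup F*(G) is a non-abelian simple group and in which every section has the B-property, and let L be a standard subgroup of G whose centralizer has cyclic Sylow 2-subgroups. Suppose L modulo its largest normal odd-order subgroup is isomorphic to the Chevalley group of type E₆, E₇ or E₈ (the matrix group generated by root elements) over the field with q = 2^n elements. Then F*(G) is isomorphic to the Chevalley group of the same type over the field with q² elements. -/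
theorem result {G : Type*} [Group G] [Finite G]
    (hF : IsSimpleGroup ↥(Cfsg.generalizedFittingSubgroup G)) (hF' : ¬ IsMulCommutative ↥(Cfsg.generalizedFittingSubgroup G))
    (hB : Cfsg.HasStrongBProperty G) (L : Subgroup G) (hL : Cfsg.IsStandardSubgroup L)
    (hR : ∀ R : Sylow 2 ↥(Subgroup.centralizer (L : Set G)), IsCyclic ↥(R : Subgroup ↥(Subgroup.centralizer (L : Set G))))
    (n : ℕ) (hn : 1 ≤ n) (D : Cfsg.Lie.ChevalleyDatum) (hD : D = Cfsg.Lie.chevE6 ∨ D = Cfsg.Lie.chevE7 ∨ D = Cfsg.Lie.chevE8) {F : Type*} [Field F] [Fintype F] (hFq : Fintype.card F = 2 ^ n) (hLX : Nonempty ((↥L ⧸ Cfsg.oddCore ↥L) ≃* ↥(D.group F))) :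
    ∃ (K : Type) (_ : Field K) (_ : Fintype K), Fintype.card K = (2 ^ n) ^ 2 ∧ Nonempty (↥(Cfsg.generalizedFittingSubgroup G) ≃* ↥(D.group K)) := by
  have hTy := H48.SgTy.jobTy
  have hFA := H48.SgFa.jobFA
  exact (H64.SG.slots_of H37.Sg.jobFD (H64.SGE.jobFE hTy (H26.SGB.jobFB hTy hFA) H37.Sg.jobFD)
    (H92.P2a.jobP2a hTy hFA (H26.SG.jobFR hTy)) (H84.SG.jobW5 hTy hFA H37.Sg.jobFD)).main
    hF hF' L hL hR n hn D hD hFq hLX

end Cfsg.Agent.S3326
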