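import Cfsg.Statements.S2182
import Cfsg.Agent.H63.Tw5
import Cfsg.Agent.H68.TwE6

set_option autoImplicit false
open Cfsg

namespace Cfsg.Agent.S2182

open Cfsg.Lie H63 H64 H65 H68

set_option linter.unusedSimpArgs false

def H : List (List ℕ × List ℕ) :=
  [([65, 69], [66, 68]), ([53, 65, 69], [55, 65, 67]), ([47, 51, 63, 70], [51, 63, 70]), ([52, 53,
  62, 65], [46, 53, 65, 69])]

def C : List (List ℕ × List Mw) :=
  [([71], []), ([70], [.rf [46]]), ([69], [.rf [47]]), ([66, 68], [.pm [68, 66]]), ([65], [.rf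
  [51]]), ([65, 69], [.id 0, .pm [68, 66]]), ([63], [.rf [53]]), ([63, 70], [.rf [39], .id 0, .pm
  [68, 66]]), ([60], [.rf [48, 50]]), ([60, 71], [.rf [47], .id 0, .pm [68, 66]]), ([55, 67], [.rf
  [36, 56], .pm [68, 66]]), ([55, 65, 67], []), ([55, 63, 67], [.rf [39]]), ([55, 60, 67], [.rf
  [47]]), ([54, 64], [.rf [38, 57]]), ([54, 64, 69], [.rf [37, 42], .pm [55, 65, 67]]), ([54, 63,
  64], [.rf [37, 42], .rf [39]]), ([54, 60, 64], [.rf [37, 42], .rf [47]]), ([53], [.rf [63]]),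
  ([53, 69], [.rf [36, 56], .id 0, .pm [68, 66]]), ([53, 66, 68], [.rf [36, 56], .pm [55, 65,
  67]]), ([53, 65], [.rf [38, 57], .pm [65, 69], .id 0, .pm [68, 66]]), ([53, 65, 69], [.id 1]),
  ([52, 62], [.rf [41, 58]]), ([52, 62, 70], [.rf [37, 42], .rf [44], .pm [55, 65, 67]]), ([52,
  62, 65], [.rf [40, 43], .pm [55, 65, 67]]), ([52, 60, 62], [.rf [40, 43], .rf [47]]), ([52, 53,
  62], [.rf [36, 56], .rf [40, 43], .pm [55, 65, 67]]), ([52, 53, 62, 65], [.id 3, .rf [39], .id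
  2, .rf [39], .id 1]), ([51], [.rf [65]]), ([51, 70], [.rf [36, 56], .rf [39], .id 0, .pm [68,
  66]]), ([51, 66, 68], [.rf [36, 56], .rf [39], .pm [55, 65, 67]]), ([51, 63], [.rf [38, 57], .rf
  [60], .pm [65, 69], .id 0, .pm [68, 66]]), ([51, 63, 70], [.rf [39], .id 1]), ([51, 54, 64],
  [.rf [37, 42], .rf [60], .pm [55, 65, 67]]), ([51, 54, 63, 64], [.rf [39], .pm [52, 53, 62, 65],
  .id 3, .rf [39], .id 2, .rf [39], .id 1]), ([49, 61], [.rf [45, 59], .pm [68, 66]]), ([49, 61,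
  70], [.rf [44], .pm [55, 65, 67]]), ([49, 61, 69], [.rf [37, 42], .rf [40, 43], .pm [55, 65,
  67]]), ([49, 60, 61], [.rf [44], .rf [47]]), ([49, 53, 61], [.rf [36, 56], .rf [45, 59]]), ([49,
  53, 61, 69], [.rf [37, 42], .id 3, .rf [39], .id 2, .rf [39], .id 1]), ([49, 51, 61], [.rf [41,
  58], .rf [44], .pm [55, 65, 67]]), ([49, 51, 61, 70], [.rf [37, 42], .rf [44], .id 3, .rf [39],
  .id 2, .rf [39], .id 1]), ([48, 50], [.rf [60], .pm [68, 66]]), ([48, 50, 70], [.rf [36, 56],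
  .rf [44], .pm [55, 65, 67]]), ([48, 50, 69], [.rf [37, 42], .rf [45, 59], .pm [55, 65, 67]]),
  ([48, 50, 65], [.rf [45, 59], .pm [55, 65, 67]]), ([48, 50, 65, 69], [.rf [38, 57], .pm [52, 53,
  62, 65], .id 3, .rf [39], .id 2, .rf [39], .id 1]), ([48, 50, 63], [.rf [39], .rf [45, 59], .pm
  [55, 65, 67]]), ([48, 50, 63, 70], [.rf [38, 57], .rf [44], .pm [52, 53, 62, 65], .id 3, .rf
  [39], .id 2, .rf [39], .id 1]), ([47], [.rf [69]]), ([47, 70], [.rf [38, 57], .rf [39], .id 0,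
  .pm [68, 66]]), ([47, 66, 68], [.rf [36, 56], .rf [60], .pm [55, 65, 67]]), ([47, 63], [.rf [36,
  56], .rf [60], .id 0, .pm [68, 66]]), ([47, 63, 70], [.rf [44], .pm [53, 65, 69], .id 1]), ([47,
  55, 67], [.rf [60], .pm [55, 65, 67]]), ([47, 55, 63, 67], [.rf [37, 42], .rf [39], .pm [52, 53,
  62, 65], .id 3, .rf [39], .id 2, .rf [39], .id 1]), ([47, 52, 62], [.rf [40, 43], .rf [60], .pm
  [55, 65, 67]]), ([47, 52, 62, 70], [.rf [44], .pm [52, 53, 62, 65], .id 3, .rf [39], .id 2, .rf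
  [39], .id 1]), ([47, 51], [.rf [60], .id 0, .pm [68, 66]]), ([47, 51, 70], [.rf [60], .pm [53,
  65, 69], .id 1]), ([47, 51, 66, 68], [.rf [38, 57], .rf [39], .pm [52, 53, 62, 65], .id 3, .rf
  [39], .id 2, .rf [39], .id 1]), ([47, 51, 63], [.rf [39], .rf [45, 59], .pm [53, 65, 69], .id
  1]), ([47, 51, 63, 70], [.id 2, .rf [39], .id 1]), ([46], [.rf [70]]), ([46, 69], [.rf [41, 58],
  .id 0, .pm [68, 66]]), ([46, 66, 68], [.rf [36, 56], .rf [41, 58], .pm [55, 65, 67]]), ([46,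
  65], [.rf [45, 59], .pm [65, 69], .id 0, .pm [68, 66]]), ([46, 65, 69], [.rf [40, 43], .id 1]),
  ([46, 55, 67], [.rf [41, 58], .pm [55, 65, 67]]), ([46, 55, 65, 67], [.rf [40, 43], .pm [52, 53,
  62, 65], .id 3, .rf [39], .id 2, .rf [39], .id 1]), ([46, 54, 64], [.rf [37, 42], .rf [41, 58],
  .pm [55, 65, 67]]), ([46, 54, 64, 69], [.rf [37, 42], .rf [40, 43], .pm [52, 53, 62, 65], .id 3,
  .rf [39], .id 2, .rf [39], .id 1]), ([46, 53], [.rf [36, 56], .rf [45, 59], .pm [65, 69], .id 0,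
  .pm [68, 66]]), ([46, 53, 69], [.rf [41, 58], .pm [53, 65, 69], .id 1]), ([46, 53, 66, 68], [.rf
  [41, 58], .pm [52, 53, 62, 65], .id 3, .rf [39], .id 2, .rf [39], .id 1]), ([46, 53, 65], [.rf
  [45, 59], .pm [53, 65, 69], .id 1]), ([46, 53, 65, 69], [.rf [39], .id 2, .rf [39], .id 1]),
  ([45, 59], [.rf [49, 61]]), ([45, 59, 71], [.rf [37, 42], .rf [51], .pm [55, 65, 67]]), ([45,
  59, 65], [.rf [48, 50], .pm [55, 65, 67]]), ([45, 59, 63], [.rf [39], .rf [48, 50], .pm [55, 65,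
  67]]), ([45, 53, 59], [.rf [36, 56], .rf [48, 50], .pm [55, 65, 67]]), ([45, 53, 59, 65], [.rf
  [46], .id 3, .rf [39], .id 2, .rf [39], .id 1]), ([45, 51, 59], [.rf [36, 56], .rf [39], .rf
  [48, 50], .pm [55, 65, 67]]), ([45, 51, 59, 63], [.rf [39], .rf [46], .id 3, .rf [39], .id 2,
  .rf [39], .id 1]), ([44], [.rf [49, 61]]), ([44, 71], [.rf [36, 56], .rf [47], .id 0, .pm [68,
  66]]), ([44, 66, 68], [.rf [36, 56], .rf [47], .pm [55, 65, 67]]), ([44, 60], [.rf [38, 57], .rf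
  [63], .pm [65, 69], .id 0, .pm [68, 66]]), ([44, 60, 71], [.rf [47], .id 1]), ([44, 54, 64],
  [.rf [37, 42], .rf [63], .pm [55, 65, 67]]), ([44, 54, 60, 64], [.rf [39], .rf [47], .pm [52,
  53, 62, 65], .id 3, .rf [39], .id 2, .rf [39], .id 1]), ([44, 52, 62], [.rf [36, 56], .rf [40,
  43], .rf [47], .pm [55, 65, 67]]), ([44, 52, 60, 62], [.rf [47], .pm [52, 53, 62, 65], .id 3,
  .rf [39], .id 2, .rf [39], .id 1]), ([44, 48, 50], [.rf [36, 56], .rf [44], .rf [47], .pm [55,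
  65, 67]]), ([41, 58], [.rf [52, 62], .pm [68, 66]]), ([41, 58, 71], [.rf [51], .pm [55, 65,
  67]]), ([41, 58, 69], [.rf [37, 42], .rf [48, 50], .pm [55, 65, 67]]), ([41, 58, 63], [.rf [39],
  .rf [53], .pm [55, 65, 67]]), ([41, 53, 58], [.rf [36, 56], .rf [52, 62]]), ([41, 53, 58, 69],
  [.rf [37, 42], .rf [46], .id 3, .rf [39], .id 2, .rf [39], .id 1]), ([41, 47, 58], [.rf [51],
  .rf [60]]), ([41, 47, 58, 63], [.rf [37, 42], .rf [39], .rf [46], .id 3, .rf [39], .id 2, .rf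
  [39], .id 1]), ([41, 44, 58], [.rf [49, 61], .rf [51], .pm [55, 65, 67]]), ([41, 44, 58, 71],
  [.rf [37, 42], .rf [44], .rf [51], .id 3, .rf [39], .id 2, .rf [39], .id 1]), ([40, 43], [.rf
  [63], .pm [68, 66]]), ([40, 43, 71], [.rf [36, 56], .rf [51], .pm [55, 65, 67]]), ([40, 43, 69],
  [.rf [37, 42], .rf [52, 62], .pm [55, 65, 67]]), ([40, 43, 65], [.rf [52, 62], .pm [55, 65,
  67]]), ([40, 43, 65, 69], [.rf [38, 57], .rf [46], .pm [52, 53, 62, 65], .id 3, .rf [39], .id 2,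
  .rf [39], .id 1]), ([40, 43, 60], [.rf [47], .rf [52, 62], .pm [55, 65, 67]]), ([40, 43, 60,
  71], [.rf [38, 57], .rf [44], .rf [51], .pm [52, 53, 62, 65], .id 3, .rf [39], .id 2, .rf [39],
  .id 1]), ([40, 43, 51], [.rf [36, 56], .rf [39], .rf [53], .pm [55, 65, 67]]), ([40, 43, 47],
  [.rf [52, 62], .rf [60], .pm [55, 65, 67]]), ([40, 43, 47, 51], [.rf [38, 57], .rf [39], .rf
  [46], .pm [52, 53, 62, 65], .id 3, .rf [39], .id 2, .rf [39], .id 1]), ([39], [.rf [52, 62]]),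
  ([39, 71], [.rf [38, 57], .rf [47], .id 0, .pm [68, 66]]), ([39, 66, 68], [.rf [36, 56], .rf
  [63], .pm [55, 65, 67]]), ([39, 60], [.rf [36, 56], .rf [63], .id 0, .pm [68, 66]]), ([39, 60,
  71], [.rf [51], .pm [53, 65, 69], .id 1]), ([39, 55, 67], [.rf [63], .pm [55, 65, 67]]), ([39,
  55, 60, 67], [.rf [37, 42], .rf [39], .rf [47], .pm [52, 53, 62, 65], .id 3, .rf [39], .id 2,
  .rf [39], .id 1]), ([39, 49, 61], [.rf [44], .rf [63], .pm [55, 65, 67]]), ([39, 49, 60, 61],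
  [.rf [37, 42], .rf [47], .pm [52, 53, 62, 65], .id 3, .rf [39], .id 2, .rf [39], .id 1]), ([39,
  48, 50], [.rf [45, 59], .rf [63], .pm [55, 65, 67]]), ([39, 45, 59], [.rf [48, 50], .rf [63],
  .pm [55, 65, 67]]), ([39, 45, 59, 71], [.rf [44], .rf [51], .pm [52, 53, 62, 65], .id 3, .rf
  [39], .id 2, .rf [39], .id 1]), ([39, 44], [.rf [63], .id 0, .pm [68, 66]]), ([39, 44, 71], [.rf
  [63], .pm [53, 65, 69], .id 1]), ([39, 44, 66, 68], [.rf [38, 57], .rf [39], .rf [47], .pm [52,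
  53, 62, 65], .id 3, .rf [39], .id 2, .rf [39], .id 1]), ([39, 44, 60], [.rf [47], .rf [52, 62],
  .pm [53, 65, 69], .id 1]), ([39, 44, 60, 71], [.rf [46], .id 2, .rf [39], .id 1]), ([39, 44, 48,
  50], [.rf [38, 57], .rf [47], .pm [52, 53, 62, 65], .id 3, .rf [39], .id 2, .rf [39], .id 1]),
  ([38, 57], [.rf [54, 64], .pm [68, 66]]), ([38, 57, 71], [.rf [39], .rf [51], .pm [55, 65,
  67]]), ([38, 57, 70], [.rf [44], .rf [53], .pm [55, 65, 67]]), ([38, 57, 65], [.rf [53], .pm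
  [55, 65, 67]]), ([38, 51, 57], [.rf [36, 56], .rf [39], .rf [52, 62]]), ([38, 51, 57, 70], [.rf
  [37, 42], .rf [44], .rf [46], .id 3, .rf [39], .id 2, .rf [39], .id 1]), ([38, 46, 57], [.rf
  [41, 58], .rf [53], .pm [55, 65, 67]]), ([38, 46, 57, 65], [.rf [40, 43], .rf [46], .id 3, .rf
  [39], .id 2, .rf [39], .id 1]), ([38, 44, 57], [.rf [36, 56], .rf [45, 59], .rf [70]]), ([38,
  44, 57, 71], [.rf [37, 42], .rf [51], .id 3, .rf [39], .id 2, .rf [39], .id 1]), ([37, 42], [.rf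
  [65], .pm [68, 66]]), ([37, 42, 71], [.rf [36, 56], .rf [39], .rf [51], .pm [55, 65, 67]]),
  ([37, 42, 70], [.rf [36, 56], .rf [44], .rf [53], .pm [55, 65, 67]]), ([37, 42, 63], [.rf [39],
  .rf [52, 62], .pm [55, 65, 67]]), ([37, 42, 63, 70], [.rf [38, 57], .rf [44], .rf [69], .pm [52,
  53, 62, 65], .id 3, .rf [39], .id 2, .rf [39], .id 1]), ([37, 42, 60], [.rf [45, 59], .rf [70],
  .pm [55, 65, 67]]), ([37, 42, 60, 71], [.rf [38, 57], .rf [63], .pm [52, 53, 62, 65], .id 3, .rf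
  [39], .id 2, .rf [39], .id 1]), ([37, 42, 53], [.rf [36, 56], .rf [53], .pm [55, 65, 67]]),
  ([37, 42, 46], [.rf [41, 58], .rf [48, 50], .pm [55, 65, 67]]), ([37, 42, 46, 53], [.rf [41,
  58], .rf [46], .pm [52, 53, 62, 65], .id 3, .rf [39], .id 2, .rf [39], .id 1]), ([36, 56], [.rf
  [55, 67]]), ([36, 56, 71], [.rf [40, 43], .rf [51], .pm [55, 65, 67]]), ([36, 56, 70], [.rf
  [44], .rf [48, 50], .pm [55, 65, 67]]), ([36, 56, 69], [.rf [37, 42], .rf [53], .pm [55, 65,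
  67]]), ([36, 47, 56], [.rf [36, 56], .rf [48, 50], .rf [71], .pm [55, 65, 67]]), ([36, 47, 56,
  70], [.rf [44], .rf [46], .id 3, .rf [39], .id 2, .rf [39], .id 1]), ([36, 46, 56], [.rf [36,
  56], .rf [41, 58], .rf [52, 62]]), ([36, 46, 56, 69], [.rf [37, 42], .rf [40, 43], .rf [46], .id
  3, .rf [39], .id 2, .rf [39], .id 1]), ([36, 39, 56], [.rf [36, 56], .rf [40, 43], .rf [70], .pm
  [55, 65, 67]]), ([36, 39, 56, 71], [.rf [51], .id 3, .rf [39], .id 2, .rf [39], .id 1])]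

def R : List (List ℕ × List ℕ) :=
  [([71], []), ([68, 66], [69, 70, 71]), ([55, 65, 67], [66, 68, 69, 70, 71])]

theorem c0 : ∀ i < chevE6.rank, ∀ j < chevE6.rank,
    chevE6.cartan i (chevE6.simple j) = chevE6.cartan j (chevE6.simple i) ∧
      chevE6.cartan (piE6 i) (chevE6.simple (piE6 j)) = chevE6.cartan i (chevE6.simple j) := by
  decide +kernel

theorem c1 : ∀ A ∈ osets chevE6 chevE6.nroots chevE6.posRoots, (A.map rhoE6).isPerm A →
    A = [] ∨ ∃ e ∈ C, e.1 = A := by decide +kernel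

theorem c2 : ∀ e ∈ C, ∃ B ∈ R, runw chevE6 rhoE6 H e.2 e.1 = some B.1 := by decide +kernel

theorem c3 : ∀ B ∈ R, upc chevE6 B.1 B.2 ∧ B.1 ≠ [] ∧ B.1.Pairwise (cz chevE6 2 · ·) ∧
    stab chevE6 rhoE6 B.1 := by decide +kernel

theorem c4 : R.Pairwise fun A B => noEmb chevE6 (fun _ => true) (A.1 ++ A.2)
    (par chevE6 B.1.reverse) B.1 [] := by decide +kernel

theorem c5 : ∀ r < chevE6.nroots, rhoE6 r = r ∨
    chevE6.pairing r (rhoE6 r) = 0 ∧ rhoE6 (rhoE6 r) = r := by decide +kernel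

theorem hH {K : Type*} [Field K] [Fintype K] [CharP K 2] {q : ℕ} (hq : IsPrimePow q)
    (hK : Fintype.card K = q ^ 2) {s : K} (h1 : s ^ q = 1 + s) (h2 : (1 + s) ^ q = s) :
    ∀ e ∈ H, ∃ g ∈ (tgE6 hq hK).Fix, g * pr (xU chevE6 K) e.1 * g⁻¹ = pr (xU chevE6 K) e.2 := by
  simp only [H, List.forall_mem_cons, List.not_mem_nil, false_imp_iff, implies_true, and_true]
  exact ⟨conj_of_eng packedE6 _ (nontriv_E6 hq hK) [s] (by simp)
      [(37, [(1, [0])]), (42, [(1, []), (1, [0])]), (29, [(1, [])]), (34, [(1, [])])]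
      [(42, [(1, []), (1, [0])]), (37, [(1, [0])]), (34, [(1, [])]), (29, [(1, [])])]
      (by simp [evPW, smE6_ρ, smE6_γ, smE6_e, rhoE6, gamE6, CharTwo.neg_eq, h1, h2]) (by decide +kernel),
    conj_of_eng packedE6 _ (nontriv_E6 hq hK) [s] (by simp)
      [(38, [(1, [0])]), (57, [(1, []), (1, [0])]), (14, [(1, [])]), (33, [(1, [])])]
      [(57, [(1, []), (1, [0])]), (38, [(1, [0])]), (33, [(1, [])]), (14, [(1, [])])]
      (by simp [evPW, smE6_ρ, smE6_γ, smE6_e, rhoE6, gamE6, CharTwo.neg_eq, h1, h2]) (by decide +kernel),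
    conj_of_eng packedE6 _ (nontriv_E6 hq hK) [s] (by simp)
      [(46, [(1, [])]), (39, [(1, [])]), (27, [(1, [])]), (11, [(1, [])])]
      [(46, [(1, [])]), (39, [(1, [])]), (27, [(1, [])]), (11, [(1, [])])]
      (by simp [evPW, smE6_ρ, smE6_γ, smE6_e, rhoE6, gamE6, CharTwo.neg_eq, h1, h2]) (by decide +kernel),
    conj_of_eng packedE6 _ (nontriv_E6 hq hK) [s] (by simp)
      [(45, [(1, [])]), (59, [(1, [])]), (12, [(1, [0])]), (26, [(1, []), (1, [0])])]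
      [(59, [(1, [])]), (45, [(1, [])]), (26, [(1, []), (1, [0])]), (12, [(1, [0])])]
      (by simp [evPW, smE6_ρ, smE6_γ, smE6_e, rhoE6, gamE6, CharTwo.neg_eq, h1, h2]) (by decide +kernel)⟩

/-- The twisted group ²E₆(q), q even, realised inside the Chevalley group of type E₆ over the field K with q² elements, has exactly three conjugacy classes of elements of order 2. -/
theorem result {K : Type*} [Field K] [Fintype K] [CharP K 2] (q : ℕ) (hK : Fintype.card K = q ^ 2) :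
    (ConjClasses.mk '' {g : ↥(Cfsg.Lie.twistedE6 K q) | orderOf g = 2}).ncard = 3 := by
  have hq := isPrimePow_of_card two_ne_zero hK
  obtain ⟨f, hf⟩ := exists_frob hq hK
  obtain ⟨s, hs⟩ := trace2_surj hq hK (one_pow q)
  have h1 : s ^ q = 1 + s := by linear_combination hs - s * CharTwo.two_eq_zero (R := K)
  have h2 : (1 + s) ^ q = s := by rw [← h1, pow_pow_E6 hK]
  rw [twistedE6_eq_Fix hq hK]
  refine tw_classes (f := f) graphE6 (fun _ => rfl) (fun _ => rfl) (fun r hr t => ?_)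
    (fun r => (c5 r r.2).imp Fin.ext fun h => ⟨h.1, Or.inl ⟨Fin.ext h.2, s, ?_, ?_⟩⟩) H C R
    (hH hq hK h1 h2) c0 c1 c2 c3 c4 (by decide)
  · rw [hf]; simpa only [smE6_ρ, smE6_γ, smE6_e, mat_x, tgE6, SM.twg] using (smE6 hq hK).map_x r hr t
  · rw [hf, h1]; simp
  · rw [hf, hf, h1, h2]

end Cfsg.Agent.S2182
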