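import Cfsg.Statements.S3327
import Cfsg.Agent.H78.TEAsm
import Cfsg.Agent.H46.TECT
import Cfsg.Agent.H56.TeTB
import Cfsg.Agent.H26.TETC
import Cfsg.Agent.H75.TEBR
import Cfsg.Agent.H91.TeCY
import Cfsg.Agent.H94.TECA
import Cfsg.Agent.H86.TEPA
import Cfsg.Agent.H94.TEPB
import Cfsg.Agent.H17.TEPC
import Cfsg.Agent.H23.TeRU
import Cfsg.Agent.H61.TEAP1
import Cfsg.Agent.H60.TEAP2
import Cfsg.Agent.H96.TEIC
import Cfsg.Agent.H81.TEFC
import Cfsg.Agent.H66.TEFO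
import Cfsg.Agent.H7.TEUI
import Cfsg.Agent.H72.TEUB
import Cfsg.Agent.H44.TEFE
import Cfsg.Agent.H56.TeFT
import Cfsg.Agent.H58.TELN
import Cfsg.Agent.H23.TeJF
import Cfsg.Agent.H62.TEA1
import Cfsg.Agent.H42.TEEn
import Cfsg.Agent.H55.TEP2a
import Cfsg.Agent.H58.TEP2b
import Cfsg.Agent.H72.TEP3a
import Cfsg.Agent.H7.TEP3b
import Cfsg.Agent.H4.TEM1
import Cfsg.Agent.H75.TEM2
import Cfsg.Agent.H5.TEA2
import Cfsg.Agent.H99.TEF1
import Cfsg.Agent.H84.TeF2b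
import Cfsg.Agent.H46.TEF3
import Cfsg.Agent.H81.TEF4
import Cfsg.Agent.H89.TEW0
import Cfsg.Agent.H98.TeWL
import Cfsg.Agent.H5.TEWU
import Cfsg.Agent.H96.TEW1a
import Cfsg.Agent.H98.TeW1b
import Cfsg.Agent.H91.TeW3
import Cfsg.Agent.H18.TEWE

set_option autoImplicit false
open Cfsg

namespace Cfsg.Agent.S3327

/-- Let G be a finite group whose generalized Fitting subgroup F*(G) is a non-abelian simple group and in which every section has the B-property, and let L be a standard subgroup of G whose centralizer has cyclic Sylow 2-subgroups. Suppose L modulo its largest normal odd-order subgroup is isomorphic to the twisted group ²E₆(q), q = 2^n, realised over the field with q² elements. Then F*(G) is isomorphic to the Chevalley group of type E₆ over the field with q² elements. -/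
theorem result {G : Type*} [Group G] [Finite G]
    (hF : IsSimpleGroup ↥(Cfsg.generalizedFittingSubgroup G)) (hF' : ¬ IsMulCommutative ↥(Cfsg.generalizedFittingSubgroup G))
    (hB : Cfsg.HasStrongBProperty G) (L : Subgroup G) (hL : Cfsg.IsStandardSubgroup L)
    (hR : ∀ R : Sylow 2 ↥(Subgroup.centralizer (L : Set G)), IsCyclic ↥(R : Subgroup ↥(Subgroup.centralizer (L : Set G))))
    (n : ℕ) (hn : 1 ≤ n) {K : Type*} [Field K] [Fintype K] (hK : Fintype.card K = (2 ^ n) ^ 2) (hLX : Nonempty ((↥L ⧸ Cfsg.oddCore ↥L) ≃* ↥(Cfsg.Lie.twistedE6 K (2 ^ n)))) :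
    ∃ (K' : Type) (_ : Field K') (_ : Fintype K'), Fintype.card K' = (2 ^ n) ^ 2 ∧ Nonempty (↥(Cfsg.generalizedFittingSubgroup G) ≃* ↥(Cfsg.Lie.chevE6.group K')) := by
  exact H78.TE.Slots.main ⟨⟨H46.TE.jobCT, H56.TeTB.jobTB, H26.TE.jobTC, H75.TEBR.jobBR, H91.TeCY.jobCY,
    H94.TE.jobCA, H86.TE.jobPA, H94.TE.jobPB, H17.TE.jobPC, H23.TE.jobRU, H61.TEAP1.jobAP1, H60.TE.jobAP2,
    H96.TEIC.jobIC, H81.TEF.jobFC, H66.TEF.jobFO, H7.TEUI.jobUI, H72.UB.jobUB, H44.TEFE.jobFE,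
    H56.TeFT.jobFT, H58.TEL.jobLN⟩, H23.TE.jobJF, H23.TE.jobWF, H62.TE.jobA1, H42.TE.jobEN, H55.TE.jobP2a,
    H58.TEP.jobP2b, H72.P3a.jobP3a, H7.TEP3.jobP3b, H4.TEM1.jobM1, H75.TEM2.jobM2, H5.TEA2.jobA2,
    H99.TEF.jobF1, H84.TeF.jobF2b, H46.TEF3.jobF3, H81.TE4.jobF4, H89.TEW0.jobW0, H98.TeL.jobWL,
    H5.TEWU.jobWU, H96.TEW1a.jobW1a, H98.TeW.jobW1b, H91.TeW3.jobW3, H18.TEWE.jobWE⟩
    hF hF' L hL hR n hn hK hLX

end Cfsg.Agent.S3327
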