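import Cfsg.Agent.Base
import Cfsg.Statements.S5892
import Cfsg.Agent.H61.PSLMax3
import Cfsg.Agent.H55.Basic

set_option autoImplicit false
open Cfsg

namespace Cfsg.Agent.S5892

open H61 MulAction Matrix MatrixGroups

/-- Let F be a finite field of odd order q ≥ 5 and characteristic p, and let M be a maximal subgroup of PSL₂(F). Then one of the following holds: |M| = q(q − 1)/2 (the stabiliser of a point of the projective line); q ≥ 13 and M is dihedral of order q − 1; q ∉ {7, 9} and M is dihedral of order q + 1; q = q₀² and M ≅ PGL₂(F₀) with |F₀| = q₀; q = q₀^r for an odd prime r and M ≅ PSL₂(F₀) with |F₀| = q₀; q ≡ ±1 (mod 10) with q = p or q = p², p ≡ ±3 (mod 10), and M ≅ A₅; q = p ≡ ±3 (mod 8), q ≢ ±1 (mod 10), and M ≅ A₄; or q = p ≡ ±1 (mod 8) and M ≅ S₄. -/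
theorem result {F : Type*} [Field F] [Fintype F] (p : ℕ)
    [Fact p.Prime] [CharP F p] (hodd : Odd (Fintype.card F)) (h5 : 5 ≤ Fintype.card F)
    (M : Subgroup (Matrix.ProjectiveSpecialLinearGroup (Fin 2) F)) (hM : IsCoatom M) :
    2 * Nat.card M = Fintype.card F * (Fintype.card F - 1) ∨
    (13 ≤ Fintype.card F ∧ (∃ k : ℕ, 2 * k = Fintype.card F - 1 ∧ Nonempty (M ≃* DihedralGroup k))) ∨
    (Fintype.card F ≠ 7 ∧ Fintype.card F ≠ 9 ∧ (∃ k : ℕ, 2 * k = Fintype.card F + 1 ∧ Nonempty (M ≃* DihedralGroup k))) ∨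
    (∃ (F₀ : Type) (_ : Field F₀) (_ : Fintype F₀), Fintype.card F = Fintype.card F₀ ^ 2 ∧
        Nonempty (M ≃* Matrix.ProjGenLinGroup (Fin 2) F₀)) ∨
    (∃ (F₀ : Type) (_ : Field F₀) (_ : Fintype F₀) (r : ℕ), r.Prime ∧ Odd r ∧ Fintype.card F = Fintype.card F₀ ^ r ∧
        Nonempty (M ≃* Matrix.ProjectiveSpecialLinearGroup (Fin 2) F₀)) ∨
    ((Fintype.card F % 10 = 1 ∨ Fintype.card F % 10 = 9) ∧
        (Fintype.card F = p ∨ (Fintype.card F = p ^ 2 ∧ (p % 10 = 3 ∨ p % 10 = 7))) ∧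
        Nonempty (M ≃* alternatingGroup (Fin 5))) ∨
    (Fintype.card F = p ∧ (p % 8 = 3 ∨ p % 8 = 5) ∧ ¬ (p % 10 = 1 ∨ p % 10 = 9) ∧
        Nonempty (M ≃* alternatingGroup (Fin 4))) ∨
    (Fintype.card F = p ∧ (p % 8 = 1 ∨ p % 8 = 7) ∧ Nonempty (M ≃* Equiv.Perm (Fin 4))) := by
  rw [← Nat.card_eq_fintype_card] at hodd h5 ⊢
  obtain ⟨y, m⟩ := main_psl (F := F) p
  generalize (Nat.card F - 1) / Nat.gcd 2 (Nat.card F - 1) = d at m
  generalize (Nat.card F + 1) / Nat.gcd 2 (Nat.card F - 1) = n at m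
  obtain ⟨-, hd, hn⟩ := (psl_params m).resolve_left fun h => Nat.not_odd_iff_even.2 h.1 hodd
  have hdn : d.Coprime n := by rw [show n = d + 1 by omega]; simp
  have h60 := sixty_le_card_psl (F := F) (by omega)
  have hne : ∀ {L : Subgroup PSL(2, F)}, Nat.card L < Nat.card PSL(2, F) → L ≠ ⊤ := by
    rintro L h rfl
    simp at h
  have hS4 : Nat.card F = 7 ∨ Nat.card F = 9 → ∃ L : Subgroup PSL(2, F), L ≠ ⊤ ∧
      Nonempty (L ≃* Equiv.Perm (Fin 4)) := fun h => by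
    obtain ⟨L, ⟨φ⟩⟩ := (exists_sym4_psl_iff (F := F)).2 (by omega)
    exact ⟨L, hne (by rw [card_of_sym4 φ]; omega), ⟨φ⟩⟩
  have hA5 : Nat.card F = 9 ∨ Nat.card F = 11 → ∃ L : Subgroup PSL(2, F), L ≠ ⊤ ∧
      Nonempty (L ≃* alternatingGroup (Fin 5)) := fun h => by
    obtain ⟨L, ⟨φ⟩⟩ := (exists_alt5_psl_iff (F := F)).2 ((five_dvd_iff (by omega)).2 (by omega))
    exact ⟨L, hne (by rw [card_of_alt5 φ]; exact sixty_lt_card_psl (by omega)), ⟨φ⟩⟩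
  have key4 : ∀ {a b : PL F}, a ≠ b → Nat.card (tor PSL(2, F) a b) = 4 →
      Nat.card F = 7 ∨ Nat.card F = 9 → ¬ IsCoatom (pairStab PSL(2, F) a b) := fun hab h1 h2 => by
    obtain ⟨L, hL, ⟨φ⟩⟩ := hS4 h2
    exact m.not_isCoatom_pairStab_of_equiv hdn hab hL φ h1 (by norm_num)
      (by rw [card_of_sym4 φ]; norm_num) _ (s4t * s4s * s4t * s4s) orderOf_s4 (by decide)
      (by decide)
  have key5 : ∀ {a b : PL F}, a ≠ b → Nat.card (tor PSL(2, F) a b) = 5 →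
      Nat.card F = 9 ∨ Nat.card F = 11 → ¬ IsCoatom (pairStab PSL(2, F) a b) := fun hab h1 h2 => by
    obtain ⟨L, hL, ⟨φ⟩⟩ := hA5 h2
    exact m.not_isCoatom_pairStab_of_equiv hdn hab hL φ h1 (by norm_num)
      (by rw [card_of_alt5 φ]; norm_num) _ (a5t * a5s * a5t * a5s * a5t * a5t * a5s * a5t * a5s)
      orderOf_a5 (by decide +kernel) (by decide +kernel)
  rcases dickson_psl_proper p m M hM.1 with ⟨a, ha, h⟩ | ⟨a, ha, h⟩ | ⟨a, b, hab, h1, h, -⟩ |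
    ⟨h, ⟨φ⟩⟩ | ⟨h, ⟨φ⟩⟩ | ⟨h, ⟨φ⟩⟩ | ⟨k, γ, e, he, hk, -, h1, rfl, ⟨φ⟩⟩ |
    ⟨k, γ, e, he, hk, h1, rfl, ⟨φ⟩⟩
  · left
    rw [← (hM.le_iff.1 h).resolve_left (m.stabilizer_ne_top a), card_stabilizer_of_mem_orbit ha,
      m.card_stab, show Nat.card F - 1 = 2 * d by omega]
    ring
  · exact absurd hM (m.not_isCoatom_of_le_nonsplit (by omega) ha h)
  · obtain rfl := Hur.eq_pairStab_of_isCoatom m (by omega) hM hab h
    have ht : tor PSL(2, F) a b ≠ ⊥ := fun hb => h1 (by simp [hb])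
    have hD := m.pairStab_dihedral hab ht
    rcases m.tor_cases hab ht with ⟨-, -, h2⟩ | ⟨-, -, -, h2⟩
    · refine Or.inr (Or.inl ⟨?_, d, by omega, h2 ▸ hD⟩)
      by_contra h3
      obtain ⟨j, hj⟩ := hodd
      obtain h4 | h4 | h4 | h4 : d = 2 ∨ d = 3 ∨ d = 4 ∨ d = 5 := by omega
      · obtain ⟨L, ⟨φ⟩⟩ := (exists_alt4_psl_iff (F := F)).2 (Or.inl ⟨j, hj⟩)
        exact m.not_isCoatom_pairStab_of_equiv hdn hab (hne (by rw [card_of_alt4 φ]; omega)) φ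
          (h2.trans h4) (by norm_num) (by rw [card_of_alt4 φ]; norm_num) _ (a4t * a4s * a4t * a4t)
          orderOf_a4s (by decide +kernel) (by decide +kernel) hM
      · obtain ⟨L, hL, ⟨φ⟩⟩ := hS4 (by omega)
        exact m.not_isCoatom_pairStab_of_equiv hdn hab hL φ (h2.trans h4) (by norm_num)
          (by rw [card_of_sym4 φ]; norm_num) _ (s4s * s4t * s4s * s4t * s4t * s4s) orderOf_s4t
          (by decide) (by decide) hM
      · exact key4 hab (h2.trans h4) (by omega) hM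
      · exact key5 hab (h2.trans h4) (by omega) hM
    · exact Or.inr (Or.inr (Or.inl ⟨fun h3 => key4 hab (by omega) (Or.inl h3) hM,
        fun h3 => key5 hab (by omega) (Or.inl h3) hM, n, hn, h2 ▸ hD⟩))
  · obtain ⟨h1, h2, h3⟩ := of_isCoatom_alt4 p hM h φ
    exact Or.inr (Or.inr (Or.inr (Or.inr (Or.inr (Or.inr (Or.inl ⟨h1, h2, h3, ⟨φ⟩⟩))))))
  · obtain ⟨h1, h2⟩ := of_isCoatom_sym4 p hM h φ
    exact Or.inr (Or.inr (Or.inr (Or.inr (Or.inr (Or.inr (Or.inr ⟨h1, h2, ⟨φ⟩⟩))))))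
  · obtain ⟨h1, h2⟩ := of_isCoatom_alt5 p hM h φ
    exact Or.inr (Or.inr (Or.inr (Or.inr (Or.inr (Or.inl ⟨h1, h2, ⟨φ⟩⟩)))))
  · obtain rfl := eq_two_of_isCoatom_pglSub he hk hodd h1 ((isCoatom_map_equiv _).1 hM)
    obtain ⟨K, _, _, ⟨ψ⟩⟩ := exists_small_field k
    refine Or.inr (Or.inr (Or.inr (Or.inl ⟨K, inferInstance, inferInstance, ?_,
      ⟨φ.trans (pglCongr ψ)⟩⟩)))
    rw [← hk, ← Nat.card_eq_fintype_card, Nat.card_congr ψ.toEquiv]
  · have hM' := (isCoatom_map_equiv _).1 hM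
    obtain ⟨K, _, _, ⟨ψ⟩⟩ := exists_small_field k
    refine Or.inr (Or.inr (Or.inr (Or.inr (Or.inl ⟨K, inferInstance, inferInstance, e,
      prime_of_isCoatom_range he hk hM' le_rfl, odd_of_isCoatom_range he hk h1 hM', ?_,
      ⟨φ.trans (H55.pslCongr ψ)⟩⟩))))
    rw [← hk, ← Nat.card_eq_fintype_card, Nat.card_congr ψ.toEquiv]

end Cfsg.Agent.S5892
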