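import Cfsg.Statements.S3780
import Cfsg.Agent.Base
import Cfsg.Agent.H3.FrattiniP

set_option autoImplicit false
open Cfsg

namespace Cfsg.Agent.S3780


theorem card_ker_pow_le {A : Type*} [AddCommGroup A] [Finite A] (δ : Module.End ℤ A) (k : ℕ) :
    Nat.card (LinearMap.ker (δ ^ k)) ≤ Nat.card (LinearMap.ker δ) ^ k := by
  induction k with
  | zero =>
    rw [pow_zero, pow_zero, Finite.card_le_one_iff_subsingleton]
    exact ⟨fun x y => Subtype.ext (Eq.trans x.2 (Eq.symm y.2))⟩
  | succ k ih =>
    let φ : LinearMap.ker (δ ^ (k + 1)) →+ LinearMap.ker (δ ^ k) :=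
      ((δ.comp (Submodule.subtype _)).codRestrict _ fun ⟨x, hx⟩ => by
        rwa [pow_succ] at hx).toAddMonoidHom
    have h1 := φ.ker.card_mul_index
    have h2 : Nat.card φ.ker ≤ Nat.card (LinearMap.ker δ) :=
      Nat.card_le_card_of_injective (fun x => ⟨x.1.1, congrArg Subtype.val x.2⟩) fun a b e =>
        Subtype.ext (Subtype.ext (congrArg (fun x : LinearMap.ker δ => (x : A)) e))
    rw [← h1, AddSubgroup.index_ker, pow_succ' (Nat.card _)]
    exact Nat.mul_le_mul h2 ((AddSubgroup.card_le_card_addGroup _).trans ih)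

/-- Let V be a finite abelian p-group and α an automorphism of V of order p whose fixed-point subgroup has order p^n. Then V can be generated by pn elements: some subset of V with at most pn elements generates V. -/
theorem result {V : Type*} [CommGroup V] [Finite V] {p : ℕ} [Fact p.Prime] (hV : IsPGroup p V) (α : MulAut V) (hα : orderOf α = p) (n : ℕ) (hfix : Nat.card {v : V // α v = v} = p ^ n) : ∃ S : Finset V, S.card ≤ p * n ∧ Subgroup.closure (S : Set V) = ⊤ := by
  classical
  have hp : p.Prime := Fact.out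
  have := Fintype.ofFinite V
  let a : Module.End ℤ (Additive V) := (MonoidHom.toAdditive α.toMonoidHom).toIntLinearMap
  have ha : ∀ (k : ℕ) (v : V), (a ^ k) (Additive.ofMul v) = Additive.ofMul ((α ^ k) v) := by
    intro k
    induction k with
    | zero => intro v; rfl
    | succ k ih => intro v; rw [pow_succ, pow_succ]; exact ih (α v)
  have h1 : Nat.card (LinearMap.ker (a + -1)) = p ^ n := by
    rw [← hfix]
    exact Nat.card_congr (Equiv.subtypeEquiv Additive.toMul fun v => add_neg_eq_zero)
  have h3 : ∀ v : (powMonoidHom p : V →* V).ker, ((a + -1) ^ p) (Additive.ofMul v.1) = 0 := by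
    intro v
    have hv : p • Additive.ofMul v.1 = 0 := v.2
    obtain ⟨r, hr⟩ := (Commute.neg_one_right a).exists_add_pow_prime_eq hp
    rw [hr, mul_assoc, mul_assoc, ← nsmul_eq_mul, LinearMap.add_apply, LinearMap.add_apply,
      LinearMap.smul_apply, ← map_nsmul, hv, map_zero, add_zero, ha,
      show α ^ p = 1 from hα ▸ pow_orderOf_eq_one α]
    rcases hp.eq_two_or_odd' with rfl | h
    · rw [neg_one_sq, ← hv, two_nsmul]
      rfl
    · rw [h.neg_one_pow]
      exact add_neg_cancel _
  have h2 : Nat.card (powMonoidHom p : V →* V).ker ≤ p ^ (p * n) := by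
    rw [mul_comm, pow_mul, ← h1]
    exact le_trans (Nat.card_le_card_of_injective (β := LinearMap.ker ((a + -1) ^ p))
      (fun v => ⟨Additive.ofMul v.1, h3 v⟩)
      fun v w e => Subtype.ext (congrArg (fun x : LinearMap.ker ((a + -1) ^ p) =>
        Additive.toMul x.1) e)) (card_ker_pow_le _ p)
  obtain ⟨m, hm⟩ := hV.index (frattini V)
  have h3 : (frattini V).index ≤ (powMonoidHom p : V →* V).range.index :=
    Nat.le_of_dvd (Nat.pos_of_ne_zero Subgroup.index_ne_zero_of_finite)
      (Subgroup.index_dvd_of_le (by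
        rintro _ ⟨x, rfl⟩
        exact H3.pow_mem_frattini_pgroup hV x))
  rw [Subgroup.index_range, hm] at h3
  obtain ⟨T, -, h4, h5⟩ := H3.exists_generating_subset_card_eq hV hm Finset.univ (by simp)
  exact ⟨T, h4 ▸ (Nat.pow_le_pow_iff_right hp.one_lt).1 (h3.trans h2), h5⟩

end Cfsg.Agent.S3780
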