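import Cfsg.Statements.S2048
import Cfsg.Agent.H81.SuzP2
import Cfsg.Agent.H81.SuzP3
import Cfsg.Agent.H81.SuzP5
import Cfsg.Agent.H81.SuzC
-- import your own Cfsg.Agent.* helpers here

set_option autoImplicit false
open Cfsg

namespace Cfsg.Agent.S2048

/-- The Schur multiplier of the Suzuki sporadic group (the finitely presented group of the definitions) is cyclic of order 6; here the Schur multiplier is described through stem extensions, as in the definitions: surjective homomorphisms onto the group from a finite group, whose kernel is central in that finite group and contained in that finite group's commutator subgroup. -/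
theorem result : Cfsg.HasCyclicSchurMultiplier Cfsg.Spor.Suz 6 := by
  refine H81.cyclic_of_hasE [(2, 1), (3, 1), (5, 0)]
    (by simpa using ⟨H81.SuzP2.main, H81.SuzP3.main, H81.SuzP5.main⟩) ?_ (by norm_num) (by norm_num)
    H81.SuzC.main.hasE
  rw [H71.Suz.card]
  exact H81.mem_of_sq_dvd (k := 13) [2, 3, 5, 7, 11, 13] [2, 3, 5] (by norm_num) (by norm_num) (by norm_num)

end Cfsg.Agent.S2048
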