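import Cfsg.Statements.S4418
import Cfsg.Agent.S1896
import Cfsg.Agent.S5212
import Cfsg.Agent.S0949
import Cfsg.Agent.S0205
import Cfsg.Agent.S5076
import Cfsg.Agent.H9.R2Top
import Cfsg.Agent.H86.QDWr
import Cfsg.Agent.H7.Frobenius
import Cfsg.Agent.H2.PrimeCore

set_option autoImplicit false
open Cfsg

namespace Cfsg.Agent.S4418

theorem sol_of_npc {G : Type*} [Group G] [Finite G] (h : HasNormalPComplement 2 G) :
    Group.IsSolvable G := by
  obtain ⟨S, K, _, e⟩ := h
  have : Fact (Nat.Prime 2) := ⟨Nat.prime_two⟩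
  have h1 : Group.IsSolvable K := Cfsg.Agent.S0205.result (by
    rw [← e.index_eq_card]; exact Nat.odd_iff.2 (Nat.two_dvd_ne_zero.1 S.not_dvd_index))
  have h2 : Group.IsNilpotent (G ⧸ K) := (S.2.of_equiv e.symm.QuotientMulEquiv.symm).isNilpotent
  exact solvable_of_ker_le_range K.subtype (QuotientGroup.mk' K) (by simp)

theorem dsq_sq {S C : Type*} [Group S] [CommGroup C] (f : S →* C) {m : ℕ} {a b : S}
    (h : H3.DSQ m a b) (x : S) : f x ^ 2 = 1 := by
  have h1 : f a ^ 2 = 1 := by
    rw [← map_pow]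
    exact Abelianization.commutator_subset_ker f (h.commutator_eq ▸ Subgroup.mem_zpowers _)
  by_cases hx : x ∈ Subgroup.zpowers a
  · obtain ⟨i, rfl⟩ := hx
    rw [map_zpow, ← zpow_natCast, ← zpow_mul, mul_comm, zpow_mul, zpow_natCast, h1, one_zpow]
  · rw [← map_pow]
    rcases h.sq_eq hx with e | e <;> rw [e]
    · exact map_one f
    · obtain ⟨k, rfl⟩ : ∃ k, m = k + 1 := ⟨m - 1, by have := h.one_le; omega⟩
      rw [map_pow, pow_succ', pow_mul, h1, one_pow]

/-- Let G be a finite group whose Sylow 2-subgroup S is metacyclic via a cyclic normal subgroup N of S with S/N cyclic of order greater than 2. Then G is soluble. -/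
theorem result {G : Type*} [Group G] [Finite G] (S : Sylow 2 G) (N : Subgroup ↥(S : Subgroup G)) [hN : N.Normal] (hNc : IsCyclic N) (hQc : IsCyclic (↥(S : Subgroup G) ⧸ N)) (hQ : 2 < Nat.card (↥(S : Subgroup G) ⧸ N)) : Group.IsSolvable G := by
  have : Fact (Nat.Prime 2) := ⟨Nat.prime_two⟩
  letI := IsCyclic.commGroup (α := ↥(S : Subgroup G) ⧸ N)
  have key : ¬ ∀ x : (S : Subgroup G), QuotientGroup.mk' N x ^ 2 = 1 := fun h => by
    have := Monoid.exponent_dvd_of_forall_pow_eq_one (G := ↥(S : Subgroup G) ⧸ N) (n := 2) fun x => by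
      obtain ⟨x, rfl⟩ := QuotientGroup.mk'_surjective N x
      exact h x
    rw [IsCyclic.exponent_eq_card] at this
    exact absurd (Nat.le_of_dvd two_pos this) (by omega)
  have nd : ∀ m a b, ¬ H3.DSQ (G := (S : Subgroup G)) m a b := fun m a b h => key (dsq_sq _ h)
  have hm : IsMetacyclic (S : Subgroup G) := ⟨N, hN, hNc, hQc⟩
  by_cases hA : IsPGroup 2 (MulAut (S : Subgroup G))
  · by_cases hc : IsMulCommutative (S : Subgroup G)
    · refine sol_of_npc ⟨S, _, inferInstance, MonoidHom.ker_transferSylow_isComplement' S fun g hg => ?_⟩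
      have h1 : (S : Subgroup G) ≤ Subgroup.centralizer (S : Set G) :=
        Subgroup.le_centralizer_iff_isMulCommutative.2 hc
      have h2 : ((S : Subgroup G).normalizerMonoidHom.ker).index = 1 := by
        obtain ⟨k, hk⟩ := (hA.to_subgroup (S : Subgroup G).normalizerMonoidHom.range).exists_card_eq
        rw [← Subgroup.index_ker] at hk
        rcases k with _ | k
        · exact hk
        refine absurd (((dvd_pow_self 2 k.succ_ne_zero).trans hk.symm.dvd).trans ?_) S.not_dvd_index
        rw [Subgroup.normalizerMonoidHom_ker]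
        exact (Subgroup.relIndex_dvd_of_le_left _ h1).trans
          (Subgroup.relIndex_dvd_index_of_le Subgroup.le_normalizer)
      rw [Subgroup.index_eq_one, Subgroup.normalizerMonoidHom_ker] at h2
      exact (h2.ge (Subgroup.mem_top (⟨g, hg⟩ : Subgroup.normalizer (S : Set G))) :)
    · have := Cfsg.Agent.S5212.result S.2 _ (Cfsg.Agent.S5076.result 2 S) hm
        (fun ⟨_, _, ⟨e⟩⟩ => hc ⟨⟨fun a b => e.injective (by rw [map_mul, map_mul, mul_comm])⟩⟩)
        (fun ⟨_, ⟨e⟩⟩ => (H9.exists_dsq_of_dihedral S.2 e).elim (fun h => hc h.1)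
          fun ⟨m, a, b, h, _⟩ => nd m a b h)
        (fun ⟨n, ⟨e⟩⟩ => by
          rcases Nat.lt_or_ge n 2 with h | h
          · interval_cases n
            · have := Finite.of_equiv _ e.toEquiv
              have := Finite.of_injective (QuaternionGroup.a : ZMod (2 * 0) → QuaternionGroup 0)
                fun _ _ => QuaternionGroup.a.inj
              exact @not_finite ℤ _ this
            · have := QuaternionGroup.quaternionGroup_one_isCyclic
              have := isCyclic_of_surjective _ e.symm.surjective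
              exact hc inferInstance
          · obtain ⟨m, a, b, h⟩ := H9.exists_dsq_of_quaternion S.2 h e
            exact nd m a b h)
        (fun h => let ⟨m, a, b, h, _⟩ := H3.exists_dsq_of_isQuasiDihedral h; nd m a b h)
      refine sol_of_npc (H7.hasNPC_of_controls_fusion S fun x hx g hg => ?_)
      have h1 : ((MulAut.conj g).toMonoidHom.comp (Subgroup.zpowers x).subtype) ∈
          (groupFusionSystem (S : Subgroup G)).Hom (Subgroup.zpowers x) :=
        ⟨Subgroup.zpowers_le.2 hx, by
          rintro ⟨_, i, rfl⟩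
          exact (map_zpow (MulAut.conj g) x i).symm ▸ Subgroup.zpow_mem _ hg i, g, fun _ => rfl⟩
      rw [this] at h1
      obtain ⟨-, u, hu, e⟩ := h1
      exact ⟨u, hu, (e ⟨x, Subgroup.mem_zpowers x⟩).symm⟩
  rcases Cfsg.Agent.S1896.result S.2 hm hA with ⟨⟨e⟩⟩ | ⟨n, ⟨e⟩⟩
  · obtain ⟨m, a, b, h⟩ := H9.exists_dsq_of_quaternion S.2 le_rfl e
    exact absurd h (nd m a b)
  have hn : 2 ≤ n := by
    by_contra hn
    refine key fun x => ?_
    rw [← map_pow, show x ^ 2 = 1 from e.injective ?_, map_one]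
    rw [map_pow, map_one]
    generalize e x = y
    interval_cases n <;> revert y <;> decide
  obtain ⟨R, -, ⟨f⟩⟩ := H86.exists_sylow_quotient_equiv S (oddCore G) (H2.coprime_card_pPrimeCore 2 G)
  obtain ⟨h1, -, h3⟩ := Cfsg.Agent.S0949.result R n hn
    ((f.symm.trans e).trans (MulEquiv.prodMultiplicative _ _).symm) fun K _ hK =>
      le_bot_iff.1 ((H2.le_oddCore hK).trans (H2.pPrimeCore_quotient_pPrimeCore 2 G).le)
  have h4 : Group.IsSolvable (oddCore G) := Cfsg.Agent.S0205.result (H2.odd_card_oddCore G)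
  have h5 : Group.IsSolvable ((G ⧸ oddCore G) ⧸ (R : Subgroup (G ⧸ oddCore G))) :=
    Cfsg.Agent.S0205.result (by
      rw [← Subgroup.index_eq_card]; rcases h3 with h | h <;> rw [h] <;> decide)
  have h6 : Group.IsNilpotent (R : Subgroup (G ⧸ oddCore G)) := R.2.isNilpotent
  have h7 : Group.IsSolvable (G ⧸ oddCore G) :=
    solvable_of_ker_le_range (R : Subgroup (G ⧸ oddCore G)).subtype
      (QuotientGroup.mk' (R : Subgroup (G ⧸ oddCore G))) (by simp)
  exact solvable_of_ker_le_range (oddCore G).subtype (QuotientGroup.mk' (oddCore G)) (by simp)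

end Cfsg.Agent.S4418
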