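import Cfsg.Statements.S3889
import Cfsg.Agent.Base


set_option autoImplicit false
open Cfsg

namespace Cfsg.Agent.S3889


/-- A finite abelian group that is the union of a family of proper subgroups any two of which intersect trivially is elementary abelian: its exponent is a prime. -/
theorem result {G : Type*} [CommGroup G] [Finite G] (𝓑 : Set (Subgroup G)) (hprop : ∀ B ∈ 𝓑, B ≠ ⊤)
    (hcov : ∀ g : G, ∃ B ∈ 𝓑, g ∈ B) (hdisj : ∀ B ∈ 𝓑, ∀ C ∈ 𝓑, B ≠ C → B ⊓ C = ⊥) :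
    (Monoid.exponent G).Prime := by
  have h1 : ∀ B ∈ 𝓑, ∀ x ∈ B, ∀ y ∉ B, orderOf x ∣ orderOf y := by
    intro B hB x hx y hy
    obtain ⟨C, hC, hxy⟩ := hcov (x * y)
    have hne : B ≠ C := by
      rintro rfl
      exact hy (by simpa using B.mul_mem (B.inv_mem hx) hxy)
    rw [orderOf_dvd_iff_pow_eq_one, ← Subgroup.mem_bot, ← hdisj B hB C hC hne]
    refine ⟨B.pow_mem hx _, ?_⟩
    have := C.pow_mem hxy (orderOf y)
    rwa [mul_pow, pow_orderOf_eq_one, mul_one] at this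
  have h2 : ∀ B ∈ 𝓑, ∀ x ∈ B, x ≠ 1 → ∀ y ∉ B, orderOf x = orderOf y := by
    intro B hB x hx hx1 y hy
    refine Nat.dvd_antisymm (h1 B hB x hx y hy) ?_
    obtain ⟨C, hC, hyC⟩ := hcov y
    refine h1 C hC y hyC x (fun hxC => hx1 ?_)
    have hne : B ≠ C := by
      rintro rfl
      exact hy hyC
    rw [← Subgroup.mem_bot, ← hdisj B hB C hC hne]
    exact ⟨hx, hxC⟩
  have hex : ∀ B ∈ 𝓑, ∃ y, y ∉ B := by
    intro B hB
    by_contra h
    push Not at h
    exact hprop B hB ((Subgroup.eq_top_iff' B).2 h)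
  have h3 : ∀ x y : G, x ≠ 1 → y ≠ 1 → orderOf x = orderOf y := by
    intro x y hx hy
    obtain ⟨B, hB, hxB⟩ := hcov x
    by_cases hyB : y ∈ B
    · obtain ⟨z, hz⟩ := hex B hB
      rw [h2 B hB x hxB hx z hz, h2 B hB y hyB hy z hz]
    · exact h2 B hB x hxB hx y hyB
  obtain ⟨B, hB, -⟩ := hcov 1
  obtain ⟨y, hy⟩ := hex B hB
  have hy1 : y ≠ 1 := by
    rintro rfl
    exact hy B.one_mem
  have : Nontrivial G := ⟨⟨y, 1, hy1⟩⟩
  obtain ⟨p, hp, hpd⟩ := Nat.exists_prime_and_dvd (Finite.one_lt_card (α := G)).ne'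
  have : Fact p.Prime := ⟨hp⟩
  obtain ⟨x, hx⟩ := exists_prime_orderOf_dvd_card' p hpd
  have hx1 : x ≠ 1 := by
    rintro rfl
    rw [orderOf_one] at hx
    exact hp.one_lt.ne hx
  have : Monoid.exponent G = p := by
    rw [Monoid.exponent_eq_prime_iff hp]
    intro g hg
    rw [h3 g x hg hx1, hx]
  rwa [this]

end Cfsg.Agent.S3889
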