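import Cfsg.Agent.Base
import Cfsg.Statements.S3216
import Cfsg.Agent.H85.TWFin
import Cfsg.Agent.H35.TW2
import Cfsg.Agent.H51.TW3
import Cfsg.Agent.H20.TWB2

set_option autoImplicit false
open Cfsg

namespace Cfsg.Agent.S3216

/-- Let G be a finite non-abelian simple group and t an involution of G; write C = C_G(t) and C̄ = C/O(C). If the subgroup of C̄ generated by its 2-elements (the smallest normal subgroup of C̄ of odd index) is isomorphic to Z₂ × PSL₂(q) for some prime power q > 3, then the Sylow 2-subgroups of G are elementary abelian of order 8. -/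
theorem result {G : Type*} [Group G] [Finite G] [IsSimpleGroup G]
    (hG : ¬ IsMulCommutative G) (t : G) (ht : orderOf t = 2) {F : Type*} [Field F] [Fintype F] (hF : 3 < Fintype.card F)
    (hL : Nonempty (↥(Subgroup.closure {x : (↥(Subgroup.centralizer ({t} : Set G)) ⧸ Cfsg.oddCore ↥(Subgroup.centralizer ({t} : Set G))) | ∃ k : ℕ, orderOf x = 2 ^ k}) ≃*
      (Multiplicative (ZMod 2) × Matrix.ProjectiveSpecialLinearGroup (Fin 2) F))) (S : Sylow 2 G) :
    Nat.card ↥(S : Subgroup G) = 8 ∧ ∀ x ∈ (S : Subgroup G), x ^ 2 = 1 := by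
  exact H85.TW.s3216_of H35.TW.jobTop H51.TW.jobExc H20.TWB.jobB H51.TW.jobL2 hG t ht hF hL S

end Cfsg.Agent.S3216
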