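import Cfsg.Statements.S4033
import Cfsg.Agent.H4.PReg

set_option autoImplicit false
open Cfsg

namespace Cfsg.Agent.S4033

/-- Let G be a finite group and p a prime, and suppose the conjugacy classes of p-regular elements of G (elements of order prime to p) have exactly two distinct sizes. Then either G has an abelian p-complement (an abelian subgroup of order prime to p and p-power index), or there are a prime q ≠ p, a Sylow p-subgroup P, a Sylow q-subgroup Q and a central subgroup A such that PQ is a normal subgroup of order #P·#Q and G is the internal direct product PQ × A. -/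
theorem result {G : Type*} [Group G] [Finite G] {p : ℕ} (hp : p.Prime)
    (h2 : Set.ncard (Set.range fun x : {x : G // (orderOf x).Coprime p} => (ConjClasses.mk (x : G)).carrier.ncard) = 2) :
    (∃ H : Subgroup G, IsMulCommutative H ∧ ¬ p ∣ Nat.card H ∧ ∃ k : ℕ, H.index = p ^ k) ∨
    (∃ (q : ℕ) (_ : Fact q.Prime) (P : Sylow p G) (Q : Sylow q G) (A : Subgroup G), q ≠ p ∧
        A ≤ Subgroup.center G ∧ Nat.card ↥((P : Subgroup G) ⊔ (Q : Subgroup G)) = Nat.card P * Nat.card Q ∧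
        ((P : Subgroup G) ⊔ (Q : Subgroup G)).Normal ∧
        ((P : Subgroup G) ⊔ (Q : Subgroup G)) ⊓ A = ⊥ ∧ ((P : Subgroup G) ⊔ (Q : Subgroup G)) ⊔ A = ⊤) := by
  have := Fact.mk hp
  obtain ⟨a, b, -, hab⟩ := Set.ncard_eq_two.1 h2
  have key : ∀ x : G, ¬ p ∣ orderOf x → H4.ind x = a ∨ H4.ind x = b := fun x hx => by
    have : (ConjClasses.mk x).carrier.ncard ∈ ({a, b} : Set ℕ) :=
      hab ▸ ⟨⟨x, (hp.coprime_iff_not_dvd.2 hx).symm⟩, rfl⟩
    rwa [H24.ncard_carrier_eq_index] at this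
  have h1 := key 1 (by simpa using hp.one_lt.ne')
  rw [H4.ind_eq_one_iff.2 (one_mem _)] at h1
  obtain ⟨m, hm⟩ : ∃ m, ∀ x : G, ¬ p ∣ orderOf x → x ∉ Subgroup.center G → H4.ind x = m := by
    rcases h1 with rfl | rfl
    exacts [⟨b, fun x hx hz => (key x hx).resolve_left (mt H4.ind_eq_one_iff.1 hz)⟩,
      ⟨a, fun x hx hz => (key x hx).resolve_right (mt H4.ind_eq_one_iff.1 hz)⟩]
  by_cases hc : ∀ q : ℕ, q.Prime → q ≠ p → ∃ s : ℕ, s.Prime ∧ s ≠ p ∧ s ≠ q ∧
      ∃ w : G, w ∉ Subgroup.center G ∧ H4.PR.PE s w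
  · obtain ⟨q, hq, hq'⟩ := Nat.exists_infinite_primes (p + 1)
    obtain ⟨s, hs, sp, -, w, wz, hw⟩ := hc q hq' (by omega)
    exact .inl (H4.PR.Hy.main ⟨hp, hm, hc⟩ (hw.ndvd hs hp sp) wz)
  · push Not at hc
    obtain ⟨q, hq, qp, hc⟩ := hc
    have := Fact.mk hq
    obtain ⟨P⟩ : Nonempty (Sylow p G) := inferInstance
    obtain ⟨Q⟩ : Nonempty (Sylow q G) := inferInstance
    obtain ⟨B, hB⟩ := H4.PR.two_primes qp
      (fun s hs sp sq w ⟨k, hk⟩ => by_contra fun e => hc s hs sp sq w e k hk) P Q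
    exact .inr ⟨q, this, P, Q, B, qp, hB⟩

end Cfsg.Agent.S4033
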