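import Cfsg.Statements.S2496
import Cfsg.Agent.H53.LinSpec2

set_option autoImplicit false
open Cfsg

namespace Cfsg.Agent.S2496

theorem exists_prim {q h : ℕ} (hq : 3 ≤ q) (hh : 2 ≤ h) :
    ∃ r : ℕ, r.Prime ∧ (r : ℤ) ∣ (-q : ℤ) ^ (2 * h) - 1 ∧
      ∀ e, 0 < e → e < 2 * h → ¬ (r : ℤ) ∣ (-q : ℤ) ^ e - 1 := by
  have h1 : ∀ (r e : ℕ), (r : ℤ) ∣ (-q : ℤ) ^ e - 1 → (r : ℤ) ∣ (q : ℤ) ^ (2 * e) - 1 :=
    fun r e h => h.trans (by
      have := sub_dvd_pow_sub_pow ((-q : ℤ) ^ e) 1 2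
      rwa [one_pow, ← pow_mul, mul_comm e, pow_mul, neg_sq, ← pow_mul] at this)
  rcases Nat.even_or_odd h with he | ho
  · obtain ⟨r, hr, h2⟩ := H53.exists_zsig_int (q := q) (n := 2 * h) hq (by omega)
    refine ⟨r, hr, by rw [pow_mul, neg_sq, ← pow_mul, H53.dvd_pow_sub_one_iff, h2],
      fun e h3 h4 h5 => ?_⟩
    have h6 := h1 r e h5
    rw [H53.dvd_pow_sub_one_iff, h2] at h6
    obtain ⟨c, rfl⟩ := Nat.dvd_of_mul_dvd_mul_left two_pos h6
    rw [(he.mul_right c).neg_pow, H53.dvd_pow_sub_one_iff, h2] at h5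
    exact absurd (Nat.le_of_dvd h3 h5) (by omega)
  · obtain ⟨r, hr, h2⟩ := H53.exists_zsig_int (q := q) (n := h) hq (by obtain ⟨c, hc⟩ := ho; omega)
    refine ⟨r, hr, by
      rw [pow_mul, neg_sq, ← pow_mul, H53.dvd_pow_sub_one_iff, h2]; exact Dvd.intro_left _ rfl,
      fun e h3 h4 h5 => ?_⟩
    have h6 := h1 r e h5
    rw [H53.dvd_pow_sub_one_iff, h2] at h6
    obtain ⟨c, rfl⟩ := (Nat.coprime_two_right.2 ho).dvd_of_dvd_mul_left h6
    obtain rfl : c = 1 := by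
      rcases c with _ | _ | c
      · omega
      · rfl
      · nlinarith
    rw [mul_one, ho.neg_pow] at h5
    have h7 : (r : ℤ) ∣ (q : ℤ) ^ h - 1 := by rw [H53.dvd_pow_sub_one_iff, h2]
    have h8 : (r : ℤ) ∣ 2 := by simpa using (dvd_add h5 h7).neg_right
    obtain rfl : r = 2 := (Nat.prime_dvd_prime_iff_eq hr Nat.prime_two).1 (by exact_mod_cast h8)
    have h9 := orderOf_le_card_univ (x := (q : ZMod 2))
    rw [h2] at h9
    obtain ⟨c, hc⟩ := ho
    simp at h9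
    omega

/-- Let q be an odd prime power, n ≥ 4 even, and U = PSU(n,q) (realised over the field with q² elements). Then U has an element of order q^(n/2) + (−1)^(n/2) — that is, q^(n/2) + 1 when n/2 is even and q^(n/2) − 1 when n/2 is odd — if and only if the 2-part of n exceeds the 2-part of q + 1. -/
theorem result {F : Type*} [Field F] [Fintype F] {q : ℕ} (hF : Fintype.card F = q ^ 2) (hodd : Odd q)
    {n : ℕ} (hn : 4 ≤ n) (heven : Even n) :
    (∃ g : Cfsg.PSU n F q, orderOf g = if Even (n / 2) then q ^ (n / 2) + 1 else q ^ (n / 2) - 1) ↔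
      padicValNat 2 (q + 1) < padicValNat 2 n := by
  obtain ⟨p, hp⟩ := CharP.exists F
  have := Fact.mk (CharP.char_is_prime F p)
  obtain ⟨h, rfl⟩ := heven.two_dvd
  have h1 : 1 < q := by
    have := Fintype.one_lt_card (α := F)
    rw [hF] at this
    exact (Nat.one_lt_pow_iff two_ne_zero).1 this
  obtain ⟨r, hr, h2, h3⟩ := exists_prim (q := q) (h := h) (by obtain ⟨c, hc⟩ := hodd; omega)
    (by omega)
  have h4 := (H53.jfam_psu (d := 2 * h) (AlgebraicClosure F) hF p (by omega)).half_torus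
    (H53.tor_units F _ p) (H53.qp_of_sq hF p).neg (by omega) hr h2 h3
  rw [show ((-q : ℤ) - 1).natAbs = q + 1 by omega] at h4
  rw [Nat.mul_div_cancel_left _ two_pos, ← h4]
  have h5 : 1 ≤ q ^ h := Nat.one_le_pow _ _ (by omega)
  split_ifs with he
  · rw [he.neg_pow, show ((q : ℤ) ^ h + 1).natAbs = q ^ h + 1 by norm_cast]; rfl
  · rw [(Nat.not_even_iff_odd.1 he).neg_pow, ← Nat.cast_pow,
      show (-((q ^ h : ℕ) : ℤ) + 1).natAbs = q ^ h - 1 by omega]; rfl

end Cfsg.Agent.S2496
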