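import Cfsg.Statements.S1773
import Cfsg.Agent.H32.BLFin
import Cfsg.Agent.H32.BLEA
import Cfsg.Agent.H32.BLEB
import Cfsg.Agent.H32.BLEC2
import Cfsg.Agent.H32.BLE
import Cfsg.Agent.H32.BLE4a
import Cfsg.Agent.H32.BLE4b
import Cfsg.Agent.H32.BLXF
import Cfsg.Agent.H32.BLKB
import Cfsg.Agent.H39.BLK
import Cfsg.Agent.H39.BLR1
import Cfsg.Agent.H39.BLTY
import Cfsg.Agent.H39.BLDT
import Cfsg.Agent.H39.BLX0
import Cfsg.Agent.H39.BLON
import Cfsg.Agent.H9.BlR2
import Cfsg.Agent.H9.BlTN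
import Cfsg.Agent.H9.BlTF
import Cfsg.Agent.H9.BlQ
import Cfsg.Agent.H9.BlL0
import Cfsg.Agent.H9.BlAS
import Cfsg.Agent.H44.BlX1
import Cfsg.Agent.H44.BlG4
import Cfsg.Agent.H44.BlX2b
import Cfsg.Agent.H19.BLSC
import Cfsg.Agent.H30.BlFin
import Cfsg.Agent.H29.BLK3
import Cfsg.Agent.H73.BLP

set_option autoImplicit false
open Cfsg

namespace Cfsg.Agent.S1773

theorem jobs.{u} : H32.BL.Jobs.{u} where
  k0 := H39.BL.jobK0
  k1 := H39.BL.jobK1
  l0 := H9.BL.jobL0
  s := H9.BL.jobS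
  pf := H9.BL.jobPF
  la := H73.BL.jobLA
  k3 := H29.BL.jobK3
  r1 := H39.BL.jobR1
  r2 := H9.BL.jobR2
  tn := H9.BL.jobTN
  ty := H39.BL.jobTY
  dt := H39.BL.jobDT
  tf := H9.BL.jobTF
  qa := H9.BL.jobQA
  qb := H9.BL.jobQB
  sc := H19.BLSC.jobSC
  eb := H32.BL.jobEB
  ec := H32.BL.jobEC
  ea := H32.BL.jobEA
  e := H32.BL.jobE
  e4a := H32.BL.jobE4a
  e4b := H32.BL.jobE4b
  x0 := H39.BL.jobX0
  x1 := H44.BL.jobX1
  g4 := H44.BL.G4.jobG4
  x2 := H44.BL.jobX2
  on := H39.BL.jobON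
  xf := H32.BL.jobXF
  fs := H30.BlFin.jobFS
  fy := H30.BlFin.jobFY
  kb2 := H32.BL.jobKB2
  kbm := H32.BL.jobKBM
  kb3 := H32.BL.jobKB3
  kbu := H32.BL.jobKBU

/-- Let G be a finite group with no nontrivial normal subgroup of odd order in which every section has the B-property; let A be a standard subgroup of G which is not normal in G, whose centralizer has cyclic Sylow 2-subgroups, and let t be an involution centralizing A. Suppose A modulo its centre is isomorphic to the projective special linear group of dimension 2 over the field F with 2^a elements (a ≥ 2). Then either the layer E(G) is isomorphic to A × A, or E(G) is a group of Lie type in characteristic 2 (here including the Tits group) on which t induces an outer automorphism (no element of E(G) induces the same conjugation action on E(G) as t); or a = 2 and E(G) is isomorphic to the Mathieu group of degree 12, the alternating group of degree 9 or 7, the first or second Janko group,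 the projective special linear group of dimension 2 over the field with 25 elements, the projective special linear group of dimension 3 over the field with 5 elements, the projective special unitary group of dimension 3 over the field with 25 elements, or the Chevalley group of type G₂ or the triality-twisted group of type D₄ with parameter 5; or A is isomorphic to the projective special linear group of dimension 2 over the field with 8 elements and E(G) to the Chevalley group of type G₂ over the field with 3 elements. -/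
theorem result {G : Type*} [Group G] [Finite G] (hO : Cfsg.oddCore G = ⊥) (hB : Cfsg.HasStrongBProperty G)
    (A : Subgroup G) (hA : Cfsg.IsStandardSubgroup A) (hnA : ¬ A.Normal)
    (hR : ∀ R : Sylow 2 ↥(Subgroup.centralizer (A : Set G)), IsCyclic ↥(R : Subgroup ↥(Subgroup.centralizer (A : Set G))))
    (t : G) (ht : orderOf t = 2) (htA : t ∈ Subgroup.centralizer (A : Set G))
    {F : Type*} [Field F] [Fintype F] (a : ℕ) (ha : 2 ≤ a) (hF : Fintype.card F = 2 ^ a)
    (hAX : Nonempty (↥A ⧸ Subgroup.center ↥A ≃* Matrix.ProjectiveSpecialLinearGroup (Fin 2) F)) :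
    Nonempty (↥(Cfsg.layer G) ≃* ↥A × ↥A) ∨ ((Cfsg.IsLieTypeChar 2 ↥(Cfsg.layer G) ∨ Cfsg.Lie.IsoTits ↥(Cfsg.layer G)) ∧ ¬ (∃ e : G, e ∈ Cfsg.layer G ∧ ∀ x ∈ Cfsg.layer G, t * x * t⁻¹ = e * x * e⁻¹)) ∨
      (a = 2 ∧ (Cfsg.Spor.IsoM12 ↥(Cfsg.layer G) ∨ Nonempty (↥(Cfsg.layer G) ≃* ↥(alternatingGroup (Fin 9))) ∨ Cfsg.Spor.IsoJ1 ↥(Cfsg.layer G) ∨
        Cfsg.Spor.IsoJ2 ↥(Cfsg.layer G) ∨ Nonempty (↥(Cfsg.layer G) ≃* ↥(alternatingGroup (Fin 7))) ∨
        (∃ (E : Type) (_ : Field E) (_ : Fintype E), Fintype.card E = 25 ∧ (Nonempty (↥(Cfsg.layer G) ≃* Matrix.ProjectiveSpecialLinearGroup (Fin 2) E) ∨ Nonempty (↥(Cfsg.layer G) ≃* Cfsg.PSU 3 E 5))) ∨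
        (∃ (E : Type) (_ : Field E) (_ : Fintype E), Fintype.card E = 5 ∧ (Nonempty (↥(Cfsg.layer G) ≃* Matrix.ProjectiveSpecialLinearGroup (Fin 3) E) ∨ Nonempty (↥(Cfsg.layer G) ≃* ↥(Cfsg.Lie.chevG2.group E)))) ∨
        (∃ (K : Type) (_ : Field K) (_ : Fintype K), Fintype.card K = 125 ∧ Nonempty (↥(Cfsg.layer G) ≃* ↥(Cfsg.Lie.twistedD4 K 5))))) ∨
      (Nonempty (↥A ≃* Matrix.ProjectiveSpecialLinearGroup (Fin 2) F) ∧ Fintype.card F = 8 ∧
        ∃ (E : Type) (_ : Field E) (_ : Fintype E), Fintype.card E = 3 ∧ Nonempty (↥(Cfsg.layer G) ≃* ↥(Cfsg.Lie.chevG2.group E))) := by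
  rcases H32.BL.s1773 jobs H73.BL.jobP hO hB hA hnA hR ht htA ha hF hAX with
    h | ⟨h, o⟩ | ⟨a2, h | h | h | h | ⟨E, _, _, c, h⟩⟩ | h
  · exact .inl h
  · exact .inr (.inl ⟨.inl h, o⟩)
  · exact .inr (.inr (.inl ⟨a2, .inl h⟩))
  · exact .inr (.inr (.inl ⟨a2, .inr (.inr (.inl h))⟩))
  · exact .inr (.inr (.inl ⟨a2, .inr (.inr (.inr (.inr (.inl h))))⟩))
  · exact .inr (.inr (.inl ⟨a2, .inr (.inr (.inr (.inr (.inr (.inl h)))))⟩))
  · exact .inr (.inr (.inl ⟨a2, .inr (.inr (.inr (.inr (.inr (.inr (.inl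
      ⟨E, _, _, c, .inl h⟩))))))⟩))
  · exact .inr (.inr (.inr h))

end Cfsg.Agent.S1773
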