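import Cfsg.Statements.S3807
import Cfsg.Agent.Base
import Cfsg.Agent.H3.SubCount

set_option autoImplicit false
open Cfsg

namespace Cfsg.Agent.S3807

open Subgroup in
theorem aux {S : Type*} [Group S] [Finite S] {p : ℕ} [Fact p.Prime] (hS : IsPGroup p S)
    (hna : ¬ IsMulCommutative S) {A : Subgroup S} (hA : IsMulCommutative ↥A) (hAi : A.index = p) :
    center S ≤ A := fun z hz => by
  by_contra hzA
  have h1 := H9.isMulCommutative_sup_zpowers hA (center_le_centralizer _ hz)
  rw [H9.sup_zpowers_eq_top_of_index hS hAi hzA] at h1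
  exact hna ⟨⟨fun a b => H9.isMulCommutative_iff_forall.mp h1 a trivial b trivial⟩⟩

/-- Let S be a non-abelian finite p-group with an abelian subgroup A of index p. Then [S : Z(S)] = p·#[S,S], and either [S,S] has order p, S/Z(S) is elementary abelian of order p², and S has exactly p + 1 abelian subgroups of index p; or [S,S] has order at least p² and A is the only abelian subgroup of index p in S. -/
theorem result {S : Type*} [Group S] [Finite S] (p : ℕ) [Fact p.Prime] (hS : IsPGroup p S) (hna : ¬ IsMulCommutative S)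
    (A : Subgroup S) (hA : IsMulCommutative ↥A) (hAi : A.index = p) :
    (Subgroup.center S).index = p * Nat.card (commutator S) ∧
      ((Nat.card (commutator S) = p ∧ Cfsg.IsElementaryAbelian p (⊤ : Subgroup (S ⧸ Subgroup.center S)) ∧
          Nat.card (S ⧸ Subgroup.center S) = p ^ 2 ∧
          Nat.card {B : Subgroup S // IsMulCommutative ↥B ∧ B.index = p} = p + 1) ∨
        (p ^ 2 ≤ Nat.card (commutator S) ∧ ∀ B : Subgroup S, IsMulCommutative ↥B → B.index = p → B = A)) := by
  have hp : p.Prime := Fact.out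
  have := H9.normal_of_index_eq hS hAi
  obtain ⟨x, hx⟩ : ∃ x, x ∉ A := by
    by_contra h
    push Not at h
    rw [(Subgroup.eq_top_iff' A).mpr h, Subgroup.index_top] at hAi
    exact hp.one_lt.ne hAi
  have hZ := aux hS hna hA hAi
  have h1 := (H9.card_commutator_mul_card_inf_center hA
    (H9.sup_zpowers_eq_top_of_index hS hAi hx)).1
  rw [inf_eq_right.mpr hZ] at h1
  have h2 : (Subgroup.center S).index = p * Nat.card (commutator S) := by
    have h3 := (Subgroup.center S).card_mul_index
    rw [← A.card_mul_index, hAi, ← h1] at h3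
    refine Nat.eq_of_mul_eq_mul_left (Nat.card_pos (α := Subgroup.center S)) ?_
    rw [h3]; ring
  refine ⟨h2, ?_⟩
  obtain ⟨k, hk⟩ := IsPGroup.iff_card.mp (hS.to_subgroup (commutator S))
  have hnc : ¬ IsCyclic (S ⧸ Subgroup.center S) := fun h =>
    hna (isMulCommutative_of_isCyclic_quotient_center_self S)
  rcases k with _ | _ | k
  · exact absurd ((commutator_eq_bot_iff S).mp (Subgroup.card_eq_one.mp hk)) hna
  · left
    rw [zero_add, pow_one] at hk
    have h3 : Nat.card (S ⧸ Subgroup.center S) = p ^ 2 := by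
      rw [← Subgroup.index_eq_card, h2, hk, pow_two]
    have h4 := IsPGroup.isMulCommutative_of_card_eq_prime_sq h3
    refine ⟨hk, ⟨inferInstance, fun y _ => ?_⟩, h3, ?_⟩
    · have h5 := orderOf_dvd_natCard y
      rw [h3, Nat.dvd_prime_pow hp] at h5
      obtain ⟨i, hi, h5⟩ := h5
      rcases (by omega : i = 2 ∨ i ≤ 1) with h6 | h6
      · exact absurd (isCyclic_of_orderOf_eq_card y (by rw [h5, h3, h6])) hnc
      · exact orderOf_dvd_iff_pow_eq_one.mp (h5 ▸ (pow_dvd_pow p h6).trans (pow_one p).dvd)
    · have h8 : ∀ B : Subgroup S, Subgroup.center S ≤ B ∧ B.index = p → IsMulCommutative B := by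
        intro B hB
        have h5 := Subgroup.relIndex_mul_index hB.1
        rw [h2, hk, hB.2] at h5
        have h6 := Nat.eq_of_mul_eq_mul_right hp.pos h5
        have h7 : (Subgroup.center S).subgroupOf B ≤ Subgroup.center B := fun z hz =>
          Subgroup.mem_center_iff.mpr fun g => Subtype.ext (Subgroup.mem_center_iff.mp hz g)
        have : IsCyclic (B ⧸ Subgroup.center B) := isCyclic_of_card_dvd_prime (p := p)
          (h6 ▸ Subgroup.index_dvd_of_le h7)
        exact isMulCommutative_of_isCyclic_quotient_center_self B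
      rw [H3.card_subtype_congr (Q := fun B : Subgroup S => Subgroup.center S ≤ B ∧ B.index = p)
        fun B => ⟨fun hB => ⟨aux hS hna hB.1 hB.2, hB.2⟩, fun hB => ⟨h8 B hB, hB.2⟩⟩,
        H3.card_subgroups_ge_eq, ← H10.card_subgroups_of_card_sq h3 hnc]
      refine H3.card_subtype_congr fun B => ?_
      have h5 := B.card_mul_index
      rw [h3, pow_two] at h5
      exact ⟨fun h => Nat.eq_of_mul_eq_mul_right hp.pos (h ▸ h5),
        fun h => Nat.eq_of_mul_eq_mul_left hp.pos (h ▸ h5)⟩
  · refine Or.inr ⟨hk ▸ Nat.pow_le_pow_right hp.pos (by omega), fun B hB hBi => ?_⟩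
    by_contra hne
    have := H9.normal_of_index_eq hS hBi
    obtain ⟨y, hy, hyA⟩ : ∃ y ∈ B, y ∉ A := by
      by_contra hcon
      push Not at hcon
      exact hne (((H3.isCoatom_of_index_prime (hBi ▸ hp)).le_iff_eq
        (H3.isCoatom_of_index_prime (hAi ▸ hp)).1).mp hcon).symm
    have h3 : A ⊓ B ≤ Subgroup.center S := fun z hz => Subgroup.mem_center_iff.mpr fun g => by
      have h4 : A ⊔ Subgroup.zpowers y ≤ Subgroup.centralizer {z} :=
        sup_le (fun a ha => Subgroup.mem_centralizer_singleton_iff.mpr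
          (H9.isMulCommutative_iff_forall.mp hA a ha z hz.1))
          (Subgroup.zpowers_le.mpr (Subgroup.mem_centralizer_singleton_iff.mpr
            (H9.isMulCommutative_iff_forall.mp hB y hy z hz.2)))
      rw [H9.sup_zpowers_eq_top_of_index hS hAi hyA] at h4
      exact Subgroup.mem_centralizer_singleton_iff.mp (h4 trivial)
    have h4 := (Nat.le_of_dvd (Nat.pos_of_ne_zero Subgroup.index_ne_zero_of_finite)
      (Subgroup.index_dvd_of_le h3)).trans (Subgroup.index_inf_le (H := A) (K := B))
    rw [h2, hk, hAi, hBi, ← pow_succ', ← pow_two, Nat.pow_le_pow_iff_right hp.one_lt] at h4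
    omega

end Cfsg.Agent.S3807
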