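import Cfsg.Statements.S0972
import Cfsg.Agent.H38.Reyn

set_option autoImplicit false
open Cfsg

namespace Cfsg.Agent.S0972

/-- Let B be a block of the finite group G (relative to a maximal ideal M of the algebraic integers containing the prime p) with a defect group P that is normal in G. Then P is commutative if and only if every member of B has height zero. -/
theorem result {G : Type*} [Group G] [Finite G] (p : ℕ) [Fact p.Prime] (M : Ideal Cfsg.AlgInt) (hM : Cfsg.IsPModular p M) (B : Set (Cfsg.IrrCharacter G)) (hB : Cfsg.IsPBlock M B) (P : Subgroup G) [P.Normal] (hP : Cfsg.IsDefectGroup p M B P) : (∀ a ∈ P, ∀ c ∈ P, a * c = c * a) ↔ ∀ χ ∈ B, Cfsg.blockHeight p B (χ : G → ℂ) = 0 := by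
  have := hM.2.1
  have key := H38.heights_of_normal_defect hM hB hP
  constructor
  · intro h χ hχ
    obtain ⟨ζ, hζ⟩ := (key _).1 ⟨χ, hχ, rfl⟩
    have h1 := H28.comm_iff_forall_irr_degree_one.1
      (fun a c : P => Subtype.ext (h a a.2 c c.2)) ζ
    rw [← hζ, H35.charDegree_eq_of_eq (n := 1) (by rw [h1, Nat.cast_one]), Nat.factorization_one]
    rfl
  · intro h a ha c hc
    refine congrArg Subtype.val (H38.comm_of_isPGroup_of_not_dvd
      ((H36.isDefectGroup_iff hM hB).1 hP).isPGroup (fun ζ hd => ?_) ⟨a, ha⟩ ⟨c, hc⟩)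
    obtain ⟨χ, hχ, h1⟩ := (key _).2 ⟨ζ, rfl⟩
    have := (hM.1.dvd_iff_one_le_factorization (H35.deg_ne_zero ζ)).1 hd
    rw [h χ hχ] at h1
    omega

end Cfsg.Agent.S0972
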