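import Cfsg.Statements.S2507
import Cfsg.Agent.H61.HurSolv
import Cfsg.Agent.H61.PSL2
import Cfsg.Agent.H61.SL2Lift

set_option autoImplicit false
open Cfsg

namespace Cfsg.Agent.S2507

/-- Let F be a finite field with q = 2^f ≥ 4 elements. The conjugacy class sizes of PSL(2,F) are exactly 1, q(q − 1), q² − 1 and q(q + 1). -/
theorem result {F : Type*} [Field F] [Fintype F]
    (h2 : 2 ∣ Fintype.card F) (h4 : 4 ≤ Fintype.card F) :
    Set.range (fun g : (Matrix.ProjectiveSpecialLinearGroup (Fin 2) F) => (Subgroup.centralizer ({g} : Set (Matrix.ProjectiveSpecialLinearGroup (Fin 2) F))).index) =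
      {1, Fintype.card F * (Fintype.card F - 1), Fintype.card F ^ 2 - 1, Fintype.card F * (Fintype.card F + 1)} := by
  open H61 in
  have two : (2 : F) = 0 := two_eq_zero_iff_even.2 (by
    rw [Nat.card_eq_fintype_card]; exact even_iff_two_dvd.2 h2)
  have : CharP F 2 := CharTwo.of_one_ne_zero_of_two_eq_zero one_ne_zero two
  open H61 in
  obtain ⟨y, m⟩ := main_psl (F := F) 2
  rw [Nat.card_eq_fintype_card, H61.gcd_two_of_even (even_iff_two_dvd.2 h2) (by omega), Nat.div_one,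
    Nat.div_one] at m
  generalize Fintype.card F = q at *
  obtain ⟨d, rfl⟩ : ∃ d, q = d + 1 := ⟨q - 1, by omega⟩
  rw [Nat.add_sub_cancel] at m ⊢
  have hc := m.card_eq
  have idx : ∀ {H : Subgroup (Matrix.ProjectiveSpecialLinearGroup (Fin 2) F)} {a b : ℕ},
      Nat.card H = a → a * b = (d + 1 + 1) * ((d + 1) * d) → H.index = b := by
    rintro H a b rfl h
    exact Nat.eq_of_mul_eq_mul_left Nat.card_pos (by rw [H.card_mul_index, hc, h])
  have e : (d + 1) ^ 2 - 1 = (d + 2) * d := Nat.sub_eq_of_eq_add (by ring)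
  rw [e]
  have inv : ∀ g : Matrix.ProjectiveSpecialLinearGroup (Fin 2) F, g ^ 2 = 1 → g ≠ 1 →
      (Subgroup.centralizer {g}).index = (d + 2) * d := fun g g2 g1 => by
    obtain ⟨x, hx⟩ := (H61.hur_psl F 2).fix g
    have h1 := (H61.hur_psl F 2).mem_Q.2 ⟨hx, g2⟩
    rw [(H61.hur_psl F 2).centralizer_eq_Q h1 g1]
    exact idx (m.card_Q_of_mem (m.mem_orbit_of_Q fun h => g1 (by simpa [h] using h1))) (by ring)
  have tor : ∀ g : Matrix.ProjectiveSpecialLinearGroup (Fin 2) F, g ^ 2 ≠ 1 →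
      ∃ k, orderOf g ∣ k ∧ ((k = d ∧ (Subgroup.centralizer {g}).index = (d + 1) * (d + 1 + 1)) ∨
        (k = d + 1 + 1 ∧ (Subgroup.centralizer {g}).index = (d + 1) * d)) := fun g g2 => by
    obtain ⟨a, b, hab, h1⟩ := (H61.hur_psl F 2).exists_tor g2
    rw [(H61.hur_psl F 2).centralizer_eq_tor hab h1 (by rwa [← pow_two])]
    refine ⟨_, Subgroup.orderOf_dvd_natCard _ h1, ?_⟩
    exact (m.tor_cases hab fun h => g2 (by simp [Subgroup.mem_bot.1 (h ▸ h1)])).imp
      (fun h => ⟨h.2.2, idx h.2.2 (by ring)⟩) fun h => ⟨h.2.2.2, idx h.2.2.2 (by ring)⟩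
  have ne2 : ∀ g : Matrix.ProjectiveSpecialLinearGroup (Fin 2) F, 3 ≤ orderOf g → g ^ 2 ≠ 1 :=
    fun g h h2 => absurd (Nat.le_of_dvd two_pos (orderOf_dvd_of_pow_eq_one h2)) (by omega)
  ext k
  simp only [Set.mem_range, Set.mem_insert_iff, Set.mem_singleton_iff]
  constructor
  · rintro ⟨g, rfl⟩
    by_cases g1 : g = 1
    · exact Or.inl (by rw [g1, Subgroup.index_eq_one, eq_top_iff]
                       intro x _; simp [Subgroup.mem_centralizer_singleton_iff])
    by_cases g2 : g ^ 2 = 1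
    · exact Or.inr (Or.inr (Or.inl (inv g g2 g1)))
    · obtain ⟨k, -, h | h⟩ := tor g g2
      · exact Or.inr (Or.inr (Or.inr h.2))
      · exact Or.inr (Or.inl h.2)
  · rintro (rfl | rfl | rfl | rfl)
    · exact ⟨1, by rw [Subgroup.index_eq_one, eq_top_iff]
                   intro x _; simp [Subgroup.mem_centralizer_singleton_iff]⟩
    · obtain ⟨g, hg⟩ := m.exists_orderOf_eq_n
      obtain ⟨k, hk, ⟨rfl, -⟩ | h⟩ := tor g (ne2 g (by omega))
      · exact absurd (Nat.le_of_dvd (by omega) hk) (by omega)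
      · exact ⟨g, h.2⟩
    · obtain ⟨g, hg⟩ := exists_prime_orderOf_dvd_card' (G := Matrix.ProjectiveSpecialLinearGroup
        (Fin 2) F) 2 (hc ▸ (h2.mul_right _).mul_left _)
      exact ⟨g, inv g (orderOf_dvd_iff_pow_eq_one.1 hg.dvd) fun h => by simp [h] at hg⟩
    · obtain ⟨g, hg⟩ := m.exists_orderOf_eq_d
      obtain ⟨k, hk, h | ⟨rfl, -⟩⟩ := tor g (ne2 g (by omega))
      · exact ⟨g, h.2⟩
      · rw [hg, add_assoc, Nat.dvd_add_right dvd_rfl] at hk
        exact absurd (Nat.le_of_dvd (by omega) hk) (by omega)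

end Cfsg.Agent.S2507
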