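import Cfsg.Agent.Base
import Cfsg.Statements.S2508
import Cfsg.Agent.H61.PSLOdd

set_option autoImplicit false
open Cfsg

namespace Cfsg.Agent.S2508

open H61 MulAction Matrix MatrixGroups

theorem aux {p : ℕ} {G X : Type*} [Group G] [MulAction G X] [Finite G] {h : Hur p G X} {x y : X}
    {q d e : ℕ} (m : Main h x y q d (d + 1)) (hp : p ≠ 2) (hd : 3 ≤ d) (he : e = d ∨ e = d + 1)
    (he2 : Even e) : Set.range (fun g : G => Nat.card (Subgroup.centralizer {g})) =
      {Nat.card G, q, 2 * e, d + 1, d} := by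
  have key : ∀ a b : X, a ≠ b → 3 ≤ Nat.card (tor G a b) →
      ∃ g : G, Nat.card (Subgroup.centralizer {g}) = Nat.card (tor G a b) := fun a b hab h3 => by
    obtain ⟨t, ht1, ht2⟩ := exists_gen_tor h hab
    have h4 : t * t ≠ 1 := fun h4 => by
      rw [← sq, ← orderOf_dvd_iff_pow_eq_one] at h4
      have := Nat.le_of_dvd two_pos h4
      omega
    exact ⟨t, by rw [h.centralizer_eq_tor hab ht1 h4]⟩
  ext c
  simp only [Set.mem_range, Set.mem_insert_iff, Set.mem_singleton_iff]
  constructor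
  · rintro ⟨g, rfl⟩
    by_cases h1 : g = 1
    · left
      rw [h1, show Subgroup.centralizer ({1} : Set G) = ⊤ from
        eq_top_iff.2 fun a _ => by simp [Subgroup.mem_centralizer_iff], Subgroup.card_top]
    by_cases h2 : g ^ p = 1
    · obtain ⟨a, ha⟩ := h.fix g
      have hga : g ∈ h.Q a := ⟨ha, h2⟩
      exact Or.inr (Or.inl (by rw [h.centralizer_eq_Q hga h1,
        m.card_Q_of_mem (m.mem_orbit_of_Q fun hb => h1 (by rwa [hb] at hga))]))
    by_cases h3 : g * g = 1
    · exact Or.inr (Or.inr (Or.inl (m.card_centralizer_inv hp rfl he he2 h1 h3)))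
    obtain ⟨a, b, hab, hg⟩ := h.exists_tor h2
    rw [h.centralizer_eq_tor hab hg h3]
    rcases m.tor_cases hab (fun hb => h1 (by rwa [hb] at hg)) with ⟨-, -, h4⟩ | ⟨-, -, -, h4⟩
    · exact Or.inr (Or.inr (Or.inr (Or.inr h4)))
    · exact Or.inr (Or.inr (Or.inr (Or.inl h4)))
  · rintro (rfl | rfl | rfl | rfl | rfl)
    · exact ⟨1, by rw [show Subgroup.centralizer ({1} : Set G) = ⊤ from
        eq_top_iff.2 fun a _ => by simp [Subgroup.mem_centralizer_iff], Subgroup.card_top]⟩
    · obtain ⟨u, hu, hu1⟩ :=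
        (h.Q x).bot_or_exists_ne_one.resolve_left (m.Q_ne_bot (mem_orbit_self x))
      exact ⟨u, by rw [h.centralizer_eq_Q hu hu1, m.card_Q]⟩
    · obtain ⟨t, h1, h2⟩ := m.exists_inv
      exact ⟨t, m.card_centralizer_inv hp rfl he he2 h1 h2⟩
    · obtain ⟨b, -, hb, -, h1⟩ := m.exists_nonsplit (mem_orbit_self y)
      exact h1 ▸ key y b hb (by omega)
    · obtain ⟨b, -, hb, h1⟩ := m.exists_split
      exact h1 ▸ key x b hb (by omega)

theorem range_index {G : Type*} [Group G] [Finite G] :
    Set.range (fun g : G => (Subgroup.centralizer {g}).index) =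
      (fun c => Nat.card G / c) '' Set.range fun g : G => Nat.card (Subgroup.centralizer {g}) := by
  rw [← Set.range_comp]
  congr 1
  ext g
  simp only [Function.comp_apply]
  rw [← (Subgroup.centralizer {g}).card_mul_index, Nat.mul_div_cancel_left _ Nat.card_pos]

/-- Let F be a finite field with q elements, q odd and q ≥ 7. If q ≡ 1 (mod 4) the conjugacy class sizes of PSL(2,F) are exactly 1, (q² − 1)/2, q(q + 1)/2, q(q − 1) and q(q + 1); if q ≡ 3 (mod 4) they are exactly 1, (q² − 1)/2, q(q − 1)/2, q(q + 1) and q(q − 1). -/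
theorem result {F : Type*} [Field F] [Fintype F]
    (hodd : ¬ 2 ∣ Fintype.card F) (h7 : 7 ≤ Fintype.card F) :
    (Fintype.card F % 4 = 1 →
      Set.range (fun g : (Matrix.ProjectiveSpecialLinearGroup (Fin 2) F) => (Subgroup.centralizer ({g} : Set (Matrix.ProjectiveSpecialLinearGroup (Fin 2) F))).index) =
        {1, (Fintype.card F ^ 2 - 1) / 2, Fintype.card F * (Fintype.card F + 1) / 2,
          Fintype.card F * (Fintype.card F - 1), Fintype.card F * (Fintype.card F + 1)}) ∧
    (Fintype.card F % 4 = 3 →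
      Set.range (fun g : (Matrix.ProjectiveSpecialLinearGroup (Fin 2) F) => (Subgroup.centralizer ({g} : Set (Matrix.ProjectiveSpecialLinearGroup (Fin 2) F))).index) =
        {1, (Fintype.card F ^ 2 - 1) / 2, Fintype.card F * (Fintype.card F - 1) / 2,
          Fintype.card F * (Fintype.card F + 1), Fintype.card F * (Fintype.card F - 1)}) := by
  rw [← Nat.card_eq_fintype_card] at hodd h7 ⊢
  obtain ⟨p, hp, hc, y, d, hp2, hd, m⟩ := main_psl_odd (F := F) (Nat.odd_iff.2 (by omega))
  have hN := m.card_eq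
  have hd3 : 3 ≤ d := by omega
  have hpos : 0 < Nat.card PSL(2, F) := Nat.card_pos
  rw [range_index]
  generalize Nat.card F = q at *
  subst hd
  have h1 : Nat.card PSL(2, F) / (2 * d + 1) = ((2 * d + 1) ^ 2 - 1) / 2 := by
    rw [hN, show (2 * d + 1) ^ 2 - 1 = 2 * ((2 * d + 2) * d) from Nat.sub_eq_of_eq_add (by ring),
      Nat.mul_div_cancel_left _ two_pos]
    exact Nat.div_eq_of_eq_mul_left (by omega) (by ring)
  have h2 : Nat.card PSL(2, F) / (d + 1) = (2 * d + 1) * (2 * d + 1 - 1) :=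
    Nat.div_eq_of_eq_mul_left (by omega) (by rw [hN, Nat.add_sub_cancel]; ring)
  have h3 : Nat.card PSL(2, F) / d = (2 * d + 1) * (2 * d + 1 + 1) :=
    Nat.div_eq_of_eq_mul_left (by omega) (by rw [hN]; ring)
  constructor
  · intro h
    rw [aux m hp2 hd3 (Or.inl rfl) (Nat.even_iff.2 (by omega))]
    simp only [Set.image_insert_eq, Set.image_singleton, Nat.div_self hpos, h1, h2, h3]
    congr 3
    rw [show (2 * d + 1) * (2 * d + 1 + 1) = 2 * ((2 * d + 1) * (d + 1)) by ring,
      Nat.mul_div_cancel_left _ two_pos]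
    exact Nat.div_eq_of_eq_mul_left (by omega) (by rw [hN]; ring)
  · intro h
    rw [aux m hp2 hd3 (Or.inr rfl) (Nat.even_iff.2 (by omega)), Set.pair_comm (d + 1) d]
    simp only [Set.image_insert_eq, Set.image_singleton, Nat.div_self hpos, h1, h2, h3]
    congr 3
    rw [Nat.add_sub_cancel, show (2 * d + 1) * (2 * d) = 2 * ((2 * d + 1) * d) by ring,
      Nat.mul_div_cancel_left _ two_pos]
    exact Nat.div_eq_of_eq_mul_left (by omega) (by rw [hN]; ring)

end Cfsg.Agent.S2508
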