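import Cfsg.Statements.S2503
import Cfsg.Agent.Base
import Cfsg.Agent.H33.GL2Torus

set_option autoImplicit false
open Cfsg

namespace Cfsg.Agent.S2503

open Matrix

theorem key {F : Type*} [Field F] [Fintype F] [CharP F 2] {e : H33.GL2 F} (he : H33.IsEll (e : H33.M2 F))
    (g : H33.SL2 F) : ∃ a ∈ H33.TorS e, ∃ c ∈ H33.TorS e, (a⁻¹ * g * c).1 0 0 = 1 ∧ (a⁻¹ * g * c).1 1 0 = 0 := by
  have h2 : (2 : F) = 0 := CharP.cast_eq_zero F 2
  have sq : ∀ x : F, ∃ y, y * y = x := fun x => by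
    obtain ⟨y, hy⟩ := (frobeniusEquiv F 2).surjective x
    exact ⟨y, by rw [← hy, frobeniusEquiv_apply, frobenius_def, pow_two]⟩
  set p := e.1 0 0 with hp; set r := e.1 0 1 with hr; set s := e.1 1 0 with hs; set t := e.1 1 1 with ht
  let N : F → F → F := fun x y => x * (s * x + t * y) - y * (p * x + r * y)
  have hN : ∀ x y, N x y = 0 → x = 0 ∧ y = 0 := fun x y h => by
    by_contra hn
    by_cases hx : x = 0
    · have hy : y ≠ 0 := fun hy => hn ⟨hx, hy⟩
      refine he t ![0, 1] (by simp) ?_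
      have : r = 0 := by simp only [N, hx] at h; grind
      ext i; fin_cases i <;> simp [mulVec, dotProduct, ← hr, ← ht, this]
    · refine he ((p * x + r * y) / x) ![x, y] (by simp [hx]) ?_
      ext i; fin_cases i <;> simp [mulVec, dotProduct, ← hr, ← ht, ← hp, ← hs] <;> simp only [N] at h <;> grind
  have s0 : s ≠ 0 := fun h => one_ne_zero (hN 1 0 (by simp [N, h])).1
  have tr : ∀ x y, N x y = s → ∃ a ∈ H33.TorS e, a.1 0 0 = x ∧ a.1 1 0 = y := fun x y h => by
    refine ⟨⟨!![x, y / s * r; y, x + y / s * (t - p)], by simp only [N] at h; simp [det_fin_two]; grind⟩, ?_, rfl, rfl⟩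
    refine Subgroup.mem_centralizer_singleton_iff.2 (Units.ext ?_)
    change !![x, y / s * r; y, x + y / s * (t - p)] * e.1 = e.1 * !![x, y / s * r; y, x + y / s * (t - p)]
    ext i j; fin_cases i <;> fin_cases j <;> simp [mul_apply, ← hr, ← ht, ← hp, ← hs] <;> grind
  have hd := g.2
  rw [det_fin_two] at hd
  set a := g.1 0 0 with ha; set b := g.1 0 1 with hb; set c := g.1 1 0 with hc; set d := g.1 1 1 with hd'
  obtain ⟨x, y, hxy, h⟩ : ∃ x y, ¬ (x = 0 ∧ y = 0) ∧ N x y = N (a * x + b * y) (c * x + d * y) := by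
    obtain ⟨u, hu⟩ := sq (N 1 0 - N a c)
    obtain ⟨v, hv⟩ := sq (N 0 1 - N b d)
    by_cases h0 : u = 0
    · exact ⟨1, 0, by simp, by simp only [N] at *; grind⟩
    · exact ⟨v, u, fun h => h0 h.2, by simp only [N] at *; grind⟩
  obtain ⟨l, hl⟩ := sq (s / N x y)
  have n0 : N x y ≠ 0 := fun h => hxy (hN x y h)
  obtain ⟨C, hC, c1, c2⟩ := tr (l * x) (l * y) (by simp only [N] at *; grind)
  obtain ⟨A, hA, a1, a2⟩ := tr (l * (a * x + b * y)) (l * (c * x + d * y)) (by simp only [N] at *; grind)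
  refine ⟨A, hA, C, hC, ?_⟩
  have dA := A.2
  rw [det_fin_two] at dA
  rw [SpecialLinearGroup.SL2_inv_expl]
  change (!![A.1 1 1, -A.1 0 1; -A.1 1 0, A.1 0 0] * g.1 * C.1) 0 0 = 1 ∧
    (!![A.1 1 1, -A.1 0 1; -A.1 1 0, A.1 0 0] * g.1 * C.1) 1 0 = 0
  simp [mul_apply, vecMul, dotProduct, ← ha, ← hb, ← hc, ← hd', c1, c2]
  rw [a1, a2] at dA
  rw [a1, a2]
  exact ⟨by linear_combination dA, by ring⟩

/-- Let F be a finite field with q = 2^t ≥ 4 elements and L = PSL(2,F). Then L has a cyclic subgroup A of order q + 1 and an elementary abelian 2-subgroup B of order q such that L = ABA: every element of L is a product a·b·a' with a, a' ∈ A and b ∈ B. -/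
theorem result {F : Type*} [Field F] [Fintype F]
    (h2 : 2 ∣ Fintype.card F) (h4 : 4 ≤ Fintype.card F) :
    ∃ A B : Subgroup (Matrix.ProjectiveSpecialLinearGroup (Fin 2) F),
      IsCyclic A ∧ Nat.card A = Fintype.card F + 1 ∧ IsMulCommutative B ∧ (∀ b ∈ B, b * b = 1) ∧
        Nat.card B = Fintype.card F ∧
        ∀ g : Matrix.ProjectiveSpecialLinearGroup (Fin 2) F, ∃ a ∈ A, ∃ b ∈ B, ∃ c ∈ A, g = a * b * c := by
  obtain ⟨p, _, k, hp, hk⟩ := FiniteField.card' F
  obtain rfl : 2 = p := (Nat.prime_dvd_prime_iff_eq Nat.prime_two hp).1 (Nat.prime_two.dvd_of_dvd_pow (hk ▸ h2))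
  have h2 : (2 : F) = 0 := CharP.cast_eq_zero F 2
  obtain ⟨e, he⟩ := H33.exists_isEll (F := F)
  let π := QuotientGroup.mk' (Subgroup.center (H33.SL2 F))
  have hπ : Function.Injective π := by
    rw [← MonoidHom.ker_eq_bot_iff, QuotientGroup.ker_mk', eq_bot_iff]
    intro z hz
    obtain ⟨r, h1, hr⟩ := Matrix.SpecialLinearGroup.mem_center_iff.1 hz
    have : r = 1 := by simp at h1; grind
    exact Subtype.ext (by rw [← hr, this, map_one]; rfl)
  let u : Multiplicative F →* H33.SL2 F :=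
    { toFun := fun x => ⟨!![1, x.toAdd; 0, 1], by simp [det_fin_two]⟩
      map_one' := Subtype.ext (by simp [one_fin_two])
      map_mul' := fun x y => Subtype.ext (by
        change !![1, x.toAdd + y.toAdd; 0, 1] = !![1, x.toAdd; 0, 1] * !![1, y.toAdd; 0, 1]
        simp [add_comm]) }
  have hu : Function.Injective u := fun x y h => congrFun (congrFun (congrArg Subtype.val h) 0) 1
  have := he.isCyclic_torS
  refine ⟨(H33.TorS e).map π, (π.comp u).range, isCyclic_of_surjective _ (π.subgroupMap_surjective _), ?_,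
    inferInstance, ?_, ?_, fun g => ?_⟩
  · rw [Subgroup.card_map_of_injective hπ, he.card_torS]
  · rintro _ ⟨x, rfl⟩
    rw [← map_mul, show x * x = 1 from CharTwo.add_self_eq_zero x.toAdd, map_one]
  · rw [← Nat.card_congr (MonoidHom.ofInjective (hπ.comp hu : Function.Injective (π.comp u))).toEquiv]
    exact Nat.card_eq_fintype_card (α := F)
  · obtain ⟨g, rfl⟩ := QuotientGroup.mk_surjective g
    obtain ⟨a, ha, c, hc, h1, h3⟩ := key he g
    refine ⟨π a, ⟨a, ha, rfl⟩, _, ⟨Multiplicative.ofAdd ((a⁻¹ * g * c).1 0 1), rfl⟩, π c⁻¹,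
      ⟨c⁻¹, inv_mem hc, rfl⟩, ?_⟩
    have : u (Multiplicative.ofAdd ((a⁻¹ * g * c).1 0 1)) = a⁻¹ * g * c := by
      have hd := (a⁻¹ * g * c).2
      rw [det_fin_two, h1, h3] at hd
      refine Subtype.ext ?_
      change !![1, _; 0, 1] = _
      ext i j; fin_cases i <;> fin_cases j
      · exact h1.symm
      · rfl
      · exact h3.symm
      · simpa using hd.symm
    rw [MonoidHom.comp_apply, this, ← map_mul, ← map_mul]
    exact congrArg π (by group)

end Cfsg.Agent.S2503
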