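import Cfsg.Agent.Base
import Cfsg.Statements.S4702
import Cfsg.Agent.H88.Sharp3b
import Cfsg.Agent.H61.SL2Lift

set_option autoImplicit false
open Cfsg

namespace Cfsg.Agent.S4702

/-- Let G be a triply transitive permutation group on a finite set of odd size m ≥ 3 in which only the identity fixes three or more points. Then m = 2^a + 1 for some a ≥ 1 and G is isomorphic to SL(2, 2^a). -/
theorem result {α : Type*} [Fintype α] [DecidableEq α] (hm : 3 ≤ Fintype.card α) (hodd : Odd (Fintype.card α)) (G : Subgroup (Equiv.Perm α)) (h3 : MulAction.IsMultiplyPretransitive G α 3) (hfix : ∀ g : G, 3 ≤ Nat.card (MulAction.fixedBy α g) → g = 1) : ∃ a : ℕ, 1 ≤ a ∧ Fintype.card α = 2 ^ a + 1 ∧ ∃ (F : Type) (_ : Field F) (_ : Fintype F), Fintype.card F = 2 ^ a ∧ Nonempty (G ≃* Matrix.SpecialLinearGroup (Fin 2) F) := by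
  have hΩ : Nat.card α = Fintype.card α := Nat.card_eq_fintype_card
  have hs : ∀ x : Fin 3 ↪ α, MulAction.stabilizer G x = ⊥ := fun x => by
    refine (Subgroup.eq_bot_iff_forall _).2 fun g hg => hfix g ?_
    have h1 : ∀ i, g • x i = x i := fun i => DFunLike.congr_fun (MulAction.mem_stabilizer_iff.1 hg) i
    have h2 := Nat.card_le_card_of_injective
      (fun i : Fin 3 => (⟨x i, h1 i⟩ : MulAction.fixedBy α g))
      fun i j h => x.injective (congrArg Subtype.val h)
    rwa [Nat.card_fin] at h2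
  have hZ := H88.preZ_of_sharp_three h3 hs (by omega)
  obtain ⟨a, b, -, hab, -⟩ := hZ.big
  have hd := H88.preZ_card_of_three_trans hZ h3 hab
  obtain ⟨s, hs1, hs2, sa, sb⟩ := hZ.exists_invol_swap hab
  have hL := H88.preZ_pline hZ hab (H88.preZ_ker_comm_of_large hZ hab hd) sa sb
    (H88.preZ_inverts_of_odd_degree hZ hab (hΩ ▸ hodd) hs1 hs2 sa sb)
  obtain ⟨p, k, hp, hk, hpk⟩ := (isPrimePow_nat_iff _).1 (hL.isPrimePow (by omega) (by omega))
  have hev : Even (p ^ k) := by
    rw [hpk, hΩ]; obtain ⟨j, hj⟩ := hodd; exact ⟨j, by omega⟩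
  obtain rfl : p = 2 := (hp.even_iff).1 (Nat.even_pow.1 hev).1
  obtain ⟨K, _, _, hK⟩ := H88.exists_field_of_isPrimePow
    (Nat.prime_two.isPrimePow.pow (show k ≠ 0 by omega))
  have hKe : Even (Fintype.card K) := hK ▸ hev
  obtain ⟨e₁⟩ := hL.nonempty_equiv_pgl hd K (by rw [hK]; omega)
  obtain ⟨e₂⟩ := H88.nonempty_psl_equiv_pgl_of_even hKe
  exact ⟨k, hk, by omega, K, inferInstance, inferInstance, hK, ⟨e₁.trans (e₂.symm.trans
    (H61.slEquivPslOfTwo (H61.two_eq_zero_iff_even.2 (by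
      rwa [Nat.card_eq_fintype_card]))).symm)⟩⟩

end Cfsg.Agent.S4702
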