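import Cfsg.Statements.S2051
import Cfsg.Agent.H79.RuCov

set_option autoImplicit false
open Cfsg

namespace Cfsg.Agent.S2051

/-- The Schur multiplier of the Rudvalis group (the unitary automorphism group of the rank-28 Gaussian lattice modulo its centre) is cyclic of order 2; here the Schur multiplier is described through stem extensions, as in the definitions: surjective homomorphisms onto the group from a finite group, whose kernel is central in that finite group and contained in that finite group's commutator subgroup. -/
theorem result : Cfsg.HasCyclicSchurMultiplier Cfsg.Spor.Ru 2 := by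
  refine H81.cyclic_of_noStem [(2, 1), (3, 0), (5, 0)] (by
    simpa using ⟨H79.RuP2.main, H79.RuP3.main, H79.RuP5.main⟩) ?_ (a := 2) (b := 2) rfl rfl
    (by norm_num) H79.Ru.hasCov H79.Ru.hasCov
  rw [H79.Ru.card]
  exact H81.mem_of_sq_dvd (k := 14) [2, 3, 5, 7, 13, 29] [2, 3, 5] (by norm_num) (by norm_num)
    (by norm_num)

end Cfsg.Agent.S2051
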