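import Cfsg.Statements.S2337
import Cfsg.Agent.H66.SzSylow

set_option autoImplicit false
open Cfsg

namespace Cfsg.Agent.S2337

open H66

theorem eq_zero_of_sum {U Γ ι : Type*} [AddCommGroup U] [Module ℂ U] [AddCommGroup Γ]
    (s : Finset ι) (π : Γ → U →ₗ[ℂ] U) (χ : ι → AddChar Γ ℂ) (hχ : Function.Injective χ)
    (v : ι → U) (hv : ∀ i g, π g (v i) = χ i g • v i) (h : ∑ i ∈ s, v i = 0) :
    ∀ i ∈ s, v i = 0 := by
  intro i hi
  rw [← Module.forall_dual_apply_eq_zero_iff ℂ]
  intro φ
  have hl := ((linearIndependent_monoidHom (Multiplicative Γ) ℂ).comp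
    (fun i => (χ i).toMonoidHom) (AddChar.toMonoidHomEquiv.injective.comp hχ))
  refine linearIndependent_iff'.mp hl s (fun i => φ (v i)) ?_ i hi
  ext g
  have h1 := congrArg (fun x => φ (π g.toAdd x)) h
  simp only [map_sum, hv, map_smul, map_zero, smul_eq_mul] at h1
  simpa [mul_comm] using h1

section

variable {F : Type*} [Field F] [Fintype F] {T : Tits F} {G : Type*} [Group G] (M : Model T G)
  {m : ℕ} {V : Type*} [AddCommGroup V] [Module ℂ V] (ρ : Representation ℂ G V)

/-- The weight space of a character of the centre of the Sylow subgroup. -/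
def W (ψ : AddChar F ℂ) : Submodule ℂ V where
  carrier := {v | ∀ b, ρ (M.u 0 b) v = ψ b • v}
  add_mem' hv hw b := by rw [map_add, hv b, hw b, smul_add]
  zero_mem' b := by simp
  smul_mem' c v hv b := by rw [map_smul, hv b, smul_comm]

theorem exists_W (T : Tits F) (M : Model T G) (h : ∃ b v, ρ (M.u 0 b) v ≠ v) :
    ∃ ψ : AddChar F ℂ, ψ ≠ 1 ∧ W M ρ ψ ≠ ⊥ := by
  classical
  by_contra hc
  push Not at hc
  obtain ⟨c, v, hv⟩ := h
  have h1 : ∀ ψ : AddChar F ℂ, ∑ b, ψ b • ρ (M.u 0 b) v ∈ W M ρ ψ := fun ψ c => by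
    rw [map_sum, Finset.smul_sum, ← Equiv.sum_comp (Equiv.addLeft c)]
    refine Finset.sum_congr rfl fun b _ => ?_
    rw [map_smul, ← Module.End.mul_apply, ← map_mul, M.z_mul, Equiv.coe_addLeft, ← add_assoc,
      T.add_self, zero_add, smul_smul, AddChar.map_add_eq_mul]
  have h2 : ∑ ψ : AddChar F ℂ, ∑ b, ψ b • ρ (M.u 0 b) v = (Fintype.card F : ℂ) • v := by
    rw [Finset.sum_comm]
    simp only [← Finset.sum_smul, AddChar.sum_apply_eq_ite, ite_smul, zero_smul]
    simp
  rw [Finset.sum_eq_single 1 (fun ψ _ h => by simpa [hc ψ h] using h1 ψ) (by simp)] at h2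
  have h3 := h1 1 c
  rw [h2, map_smul, AddChar.one_apply, one_smul] at h3
  exact hv (smul_right_injective V (Nat.cast_ne_zero.mpr Fintype.card_ne_zero) h3)

theorem le_finrank [FiniteDimensional ℂ V] {ψ : AddChar F ℂ} (hψ : ψ ≠ 1) :
    Module.finrank ℂ (W M ρ ψ) * (Fintype.card F - 1) ≤ Module.finrank ℂ V := by
  classical
  let f : (Fˣ → W M ρ ψ) →ₗ[ℂ] V :=
    ∑ k, (ρ (M.h k)⁻¹ ∘ₗ (W M ρ ψ).subtype) ∘ₗ LinearMap.proj k
  have hf : Function.Injective f := by
    rw [injective_iff_map_eq_zero]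
    intro v hv
    have := eq_zero_of_sum Finset.univ (fun b => ρ (M.u 0 b))
      (fun k : Fˣ => ψ.mulShift (T.θ k * k ^ 2)) (fun k l h => Units.ext (T.chi_inj
        (AddChar.to_mulShift_inj_of_isPrimitive (AddChar.IsPrimitive.of_ne_one hψ) h)))
      (fun k => ρ (M.h k)⁻¹ (v k)) (fun k b => by
        have e : M.u 0 b * (M.h k)⁻¹ = (M.h k)⁻¹ * M.u 0 (T.θ k * k ^ 2 * b) := by
          have := M.h_conj k 0 b
          rw [mul_zero] at this
          rw [← this]; group
        rw [← Module.End.mul_apply, ← map_mul, e, map_mul, Module.End.mul_apply, (v k).2, map_smul,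
          AddChar.mulShift_apply]) (by simpa [f] using hv)
    ext k
    have h1 := congrArg (ρ (M.h k)) (this k (Finset.mem_univ k))
    rw [← Module.End.mul_apply, ← map_mul] at h1
    simpa using h1
  have := LinearMap.finrank_le_finrank_of_injective hf
  rwa [Module.finrank_pi_fintype, Finset.sum_const, Finset.card_univ, Fintype.card_units,
    smul_eq_mul, mul_comm] at this

theorem card_le [FiniteDimensional ℂ V] (hT : T.IsFin m) {ψ : AddChar F ℂ} (hψ : ψ ≠ 1)
    (hW : W M ρ ψ ≠ ⊥) : Fintype.card F ≤ 2 * Module.finrank ℂ (W M ρ ψ) ^ 2 := by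
  classical
  have two := T.two
  have hi := AddChar.to_mulShift_inj_of_isPrimitive (AddChar.IsPrimitive.of_ne_one hψ)
  obtain ⟨l, hl⟩ := ((Fintype.bijective_iff_injective_and_card _).mpr
    ⟨hi, AddChar.card_eq.symm⟩).2 (ψ.compAddMonoidHom T.θ.toAddMonoidHom)
  replace hl : ∀ x, ψ (l * x) = ψ (T.θ x) := fun x => DFunLike.congr_fun hl x
  let r : F → F → W M ρ ψ →ₗ[ℂ] W M ρ ψ := fun a b => (ρ (M.u a b)).restrict fun v hv c => by
    rw [← Module.End.mul_apply, ← map_mul, M.z_comm, map_mul, Module.End.mul_apply, hv c, map_smul]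
  have hr : ∀ a b c d, r a b * r c d = r (a + c) (b + d + T.θ a * c) := fun a b c d => by
    ext v
    change ρ (M.u a b) (ρ (M.u c d) v) = ρ (M.u _ _) v
    rw [← M.u_mul, map_mul, Module.End.mul_apply]
  have hz : ∀ b, r 0 b = ψ b • 1 := fun b => by
    ext v
    exact v.2 b
  have hne : ∀ a, r a 0 ≠ 0 := fun a h => by
    have : Nontrivial (W M ρ ψ) := Submodule.nontrivial_iff_ne_bot.mpr hW
    have h1 := hr a 0 a (T.θ a * a)
    rw [h, zero_mul, T.add_self, zero_add, T.add_self, hz] at h1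
    simp at h1
  let g : F → F := fun x => l * x + x ^ 2
  let I := Finset.univ.image g
  have h1 : Fintype.card F ≤ 2 * I.card := by
    refine Finset.card_le_mul_card_image _ 2 fun _ hs => ?_
    obtain ⟨x, -, rfl⟩ := Finset.mem_image.mp hs
    refine (Finset.card_le_card (t := {x, x + l}) fun y hy => ?_).trans Finset.card_le_two
    have h2 : (y + x) * (y + (x + l)) = 0 := by
      have := (Finset.mem_filter.mp hy).2
      simp only [g] at this
      grind
    simpa [T.add_eq_zero] using h2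
  have h2 : ∀ s : I, ∃ x, g x = s := fun s => by simpa [I] using Finset.mem_image.mp s.2
  choose x hx using h2
  have h3 : LinearIndependent ℂ fun s : I => r (T.θ (x s)) 0 := by
    rw [linearIndependent_iff']
    intro s c hc i hi'
    have := eq_zero_of_sum s (fun a => LinearMap.mulLeft ℂ (r a 0) ∘ₗ
      LinearMap.mulRight ℂ (r a (T.θ a * a))) (fun s : I => ψ.mulShift s)
      (fun s t h => Subtype.ext (hi h)) (fun s => c s • r (T.θ (x s)) 0) (fun s a => by
        rw [map_smul, smul_comm]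
        congr 1
        rw [LinearMap.comp_apply, LinearMap.mulRight_apply, LinearMap.mulLeft_apply, hr, hr,
          AddChar.mulShift_apply, ← hx s, add_mul, mul_assoc, AddChar.map_add_eq_mul, hl,
          ← AddChar.map_add_eq_mul, ← mul_one (r (T.θ (x s)) 0), ← mul_smul_comm, ← hz, hr, map_mul,
          T.sq]
        congr 1 <;> grind) hc i hi'
    exact (smul_eq_zero.mp this).resolve_right (hne _)
  have h4 := h3.fintype_card_le_finrank
  rw [Module.finrank_linearMap, Fintype.card_coe] at h4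
  rw [pow_two]
  omega

end


/-- For the Suzuki group Sz(q), q = 2^(2m+1) with m ≥ 1 (realised inside Sp₄ over the field with q elements), every irreducible complex representation of degree at least 2 has degree at least 2^m·(q − 1). -/
theorem result {F : Type*} [Field F] [Fintype F] (m : ℕ) (hm : 1 ≤ m) (hF : Fintype.card F = 2 ^ (2 * m + 1)) :
    (∀ (k : ℕ) (ρ : Representation ℂ (Cfsg.Lie.Sz F (2 ^ (m + 1))) (Fin k → ℂ)), ρ.IsIrreducible → 2 ≤ k → 2 ^ m * (2 ^ (2 * m + 1) - 1) ≤ k) := by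
  have hT := titsOf_isFin F hm hF
  generalize Cfsg.Lie.Sz F (2 ^ (m + 1)) = G0, modelB hT = M
  intro k ρ hρ hk
  obtain ⟨ψ, hψ, hW⟩ := exists_W ρ _ M (by
    by_contra hc
    push Not at hc
    have h1 : MonoidHom.ker ρ = ⊤ := M.normal_eq_top hT (g := M.u 0 1)
      (LinearMap.ext (hc 1)) (by rw [pow_two, M.z_mul_self]) (by simp [M.u_eq_one])
    have h2 : ∀ g v, ρ g v = v := fun g v => by
      rw [MonoidHom.mem_ker.mp (h1 ▸ Subgroup.mem_top g)]; rfl
    let S : Subrepresentation ρ :=
      ⟨LinearMap.ker (LinearMap.proj (⟨0, by omega⟩ : Fin k)), fun g v hv => by rwa [h2]⟩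
    rcases eq_bot_or_eq_top S with h | h
    · have : Pi.single (⟨1, by omega⟩ : Fin k) (1 : ℂ) ∈ S.toSubmodule := by simp [S]
      rw [h] at this
      exact one_ne_zero (Pi.single_eq_zero_iff.mp this)
    · have : Pi.single (⟨0, by omega⟩ : Fin k) (1 : ℂ) ∈ S.toSubmodule := by
        rw [h]; trivial
      simp [S] at this)
  have h1 := le_finrank M ρ hψ
  have h2 := card_le M ρ hT hψ hW
  rw [Module.finrank_fin_fun, hF] at h1
  rw [hF, pow_succ', mul_comm 2 m, pow_mul] at h2
  exact (Nat.mul_le_mul_right _ (Nat.pow_le_pow_iff_left two_ne_zero |>.mp (by omega))).trans h1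

end Cfsg.Agent.S2337
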