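import Cfsg.Statements.S2343
import Cfsg.Agent.H30.ReeTwo
import Cfsg.Agent.H30.ReeInst

set_option autoImplicit false
open Cfsg

namespace Cfsg.Agent.S2343

section

open Module

variable {V : Type*} [AddCommGroup V] [Module ℂ V] [FiniteDimensional ℂ V]

theorem sum_char {A : Type*} [Group A] [Fintype A] (ρ : Representation ℂ A V) :
    ∑ a, ρ.character a = Fintype.card A * finrank ℂ ρ.invariants := by
  have h : (Nat.card A : ℂ) ≠ 0 := Nat.cast_ne_zero.2 Nat.card_pos.ne'
  let := invertibleOfNonzero h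
  rw [← ρ.card_inv_mul_sum_char_eq_finrank, Fintype.card_eq_nat_card, mul_inv_cancel_left₀ h]

/-- the homomorphism given by an involution -/
def inv2 {G : Type*} [Group G] {z : G} (hz : z * z = 1) : ℤˣ →* G :=
  MonoidHom.mk' (fun e => if e = 1 then 1 else z) fun a b => by
    obtain rfl | rfl := Int.units_eq_one_or a <;> obtain rfl | rfl := Int.units_eq_one_or b <;> simp [hz]

variable {K : Type*} [Field K] [Fintype K] {m : ℕ} {G : Type*} [Group G] [IsSimpleGroup G] (R : H30.Ree K m G)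

include R in
theorem bound (ρ : Representation ℂ G V) [ρ.IsIrreducible] (hk : 2 ≤ finrank ℂ V) :
    (3 ^ (2 * m + 1)) ^ 2 - 3 ^ (2 * m + 1) + 1 ≤ finrank ℂ V := by
  classical
  have hq : Fintype.card K = 3 ^ (2 * m + 1) := Nat.card_eq_fintype_card (α := K) ▸ R.card_K
  obtain ⟨j, hj⟩ := H30.exists_k m
  rw [← hq] at hj ⊢
  obtain ⟨ψ, hψ⟩ := (AddChar.exists_apply_ne_zero (α := K) (a := 1)).2 one_ne_zero
  have h1 : ∑ v, ψ v = 0 := AddChar.sum_eq_zero_of_ne_one fun e => hψ (by rw [e]; rfl)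
  let ζ : Multiplicative K →* G := MonoidHom.mk' (fun v => R.x 0 0 v.toAdd) fun a b => by simp [R.x_mul]
  let ρA : Representation ℂ (Multiplicative (K × K)) V :=
    { toFun := fun a => ψ a.toAdd.2 • ρ (R.x 0 a.toAdd.1 a.toAdd.2)
      map_one' := by simp [R.x_zero]
      map_mul' := fun a b => by
        rw [smul_mul_smul_comm, ← map_mul ρ, R.x_mul, ← AddChar.map_add_eq_mul]; simp }
  have h2 : ∀ v ≠ 0, ρ.character (R.x 0 0 v) = ρ.character (R.x 0 0 1) := fun v hv => by
    obtain ⟨κ, hκ⟩ := Finite.injective_iff_surjective.1 ((injective_iff_map_eq_one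
      ((powMonoidHom 2 : Kˣ →* Kˣ) * Units.map R.σ.toMonoidHom)).2 fun κ h =>
        Units.ext (R.eq_one_of_sq_σ (by simpa using congrArg Units.val h))) (Units.mk0 v hv)
    rw [← ρ.char_conj (R.x 0 0 1) (R.h κ), R.h_conj, mul_zero, mul_zero, mul_one,
      show (κ : K) ^ 2 * R.σ κ = v by simpa using congrArg Units.val hκ]
  have h3 : ∀ u ≠ 0, ∀ v, ρ.character (R.x 0 u v) = ρ.character (R.x 0 u 0) := fun u hu v => by
    rw [← ρ.char_conj (R.x 0 u 0) (R.x (v / u) 0 0), mul_inv_eq_of_eq_mul (c := R.x 0 u v)]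
    rw [R.x_mul, R.x_mul]
    congr 1 <;> simp [mul_div_cancel₀ _ hu]
  have h4 : ∀ f : K → ℂ, ∑ v, f v * ρ.character (R.x 0 0 v) =
      f 0 * finrank ℂ V + (∑ v, f v - f 0) * ρ.character (R.x 0 0 1) := fun f => by
    rw [← Finset.add_sum_erase _ _ (Finset.mem_univ 0), R.x_zero, ρ.char_one, ← Finset.sum_erase_eq_sub (Finset.mem_univ 0),
      Finset.sum_mul, Finset.sum_congr rfl fun v hv => by rw [h2 v (Finset.ne_of_mem_erase hv)]]
  have hA := sum_char ρA
  have hZ := sum_char (ρ.comp ζ : Representation ℂ _ V)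
  have h5 : ∑ a, ρA.character a = finrank ℂ V - ρ.character (R.x 0 0 1) := by
    rw [← Multiplicative.ofAdd.sum_comp, Fintype.sum_prod_type, Finset.sum_eq_single 0 (fun u _ hu => ?_) (by simp)]
    · refine (Finset.sum_congr rfl fun v _ => map_smul _ _ _).trans ((h4 ψ).trans ?_)
      rw [h1, ψ.map_zero_eq_one]; ring
    · refine (Finset.sum_congr rfl fun v _ => (map_smul _ _ _).trans (congrArg (ψ v * ·) (h3 u hu v))).trans ?_
      rw [← Finset.sum_mul, h1, zero_mul]
  have h6 : ∑ a, Representation.character (ρ.comp ζ) a =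
      finrank ℂ V + (Fintype.card K - 1) * ρ.character (R.x 0 0 1) := by
    rw [← Multiplicative.ofAdd.sum_comp]
    exact (Finset.sum_congr rfl fun v _ => (one_mul _).symm).trans ((h4 fun _ => 1).trans (by simp))
  rw [h5, Fintype.card_multiplicative, Fintype.card_prod] at hA
  rw [h6, Fintype.card_multiplicative] at hZ
  have h7 : finrank ℂ V + Fintype.card K * finrank ℂ ρA.invariants =
      finrank ℂ (Representation.invariants (ρ.comp ζ)) + Fintype.card K ^ 2 * finrank ℂ ρA.invariants := by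
    refine Nat.cast_injective (R := ℂ) (mul_left_cancel₀ (Nat.cast_ne_zero.2 Fintype.card_ne_zero : (Fintype.card K : ℂ) ≠ 0) ?_)
    push_cast at hA ⊢
    linear_combination hZ + (Fintype.card K - 1 : ℂ) * hA
  have h8 : finrank ℂ ρA.invariants ≠ 0 := fun h => by
    have h9 := (Submodule.eq_top_of_finrank_eq (S := Representation.invariants (ρ.comp ζ)) (by simpa [h] using h7.symm)).ge
    have h10 : ρ.ker = ⊤ := (IsSimpleGroup.eq_bot_or_eq_top_of_normal _ inferInstance).resolve_left fun e =>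
      one_ne_zero (R.x_eq_one 0 0 1 (e.le (LinearMap.ext fun v => h9 trivial (.ofAdd 1)))).2.2
    have : Nontrivial V := Module.nontrivial_of_finrank_pos (R := ℂ) (by omega)
    obtain ⟨v, hv⟩ := exists_ne (0 : V)
    obtain e | e := eq_bot_or_eq_top (⟨ℂ ∙ v, fun g w hw => by rwa [h10.ge (trivial : g ∈ ⊤)]⟩ : Subrepresentation ρ)
    · exact hv (Submodule.span_singleton_eq_bot.1 (congrArg Subrepresentation.toSubmodule e))
    · have := finrank_span_singleton (K := ℂ) hv
      rw [show (ℂ ∙ v) = ⊤ from congrArg Subrepresentation.toSubmodule e, finrank_top] at this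
      omega
  by_contra h9
  have h10 : Fintype.card K ≤ Fintype.card K ^ 2 := Nat.le_self_pow two_ne_zero _
  obtain ⟨s, hs⟩ := Nat.exists_eq_add_of_le h10
  obtain ⟨l, hl⟩ := Nat.exists_eq_succ_of_ne_zero h8
  rw [hs, hl] at h7
  have h11 : finrank ℂ (Representation.invariants (ρ.comp ζ)) = 0 ∧ finrank ℂ V = s := by
    rw [Nat.succ_eq_add_one] at h7
    constructor <;> nlinarith [show finrank ℂ V ≤ s by omega, Nat.zero_le (s * l)]
  have h12 : ρ.character R.z = 0 := by
    have h13 : ∑ a, ρ (ζ a) = 0 := LinearMap.ext fun v => (Submodule.finrank_eq_zero.1 h11.1).le fun b => by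
      rw [LinearMap.sum_apply, map_sum, ← Equiv.sum_comp (Equiv.mulLeft b) fun a => ρ (ζ a) v]
      simp
    have h14 : ∀ a, LinearMap.trace ℂ V (ρ (ζ a) * ρ R.z) = ρ.character R.z := fun a => by
      rw [← ρ.char_conj R.z (R.x 0 0 (-a.toAdd)), ← map_mul, mul_inv_eq_of_eq_mul (c := ζ a * R.z)]
      · rfl
      rw [mul_assoc, mul_inv_eq_iff_eq_mul.1 (R.z_conj _ _ _), ← mul_assoc, MonoidHom.mk'_apply, R.x_mul]
      congr 2 <;> simp
      linear_combination -a.toAdd * R.three
    have := congrArg (fun f => LinearMap.trace ℂ V (f * ρ R.z)) h13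
    simpa [Finset.sum_mul, h14] using this
  have h13 : ∀ s, s ≠ 1 → s * s = 1 → ρ.character s = 0 := fun s h h' => by
    obtain ⟨g, e⟩ := R.exists_conj_z h h'
    rw [← h12, ← e, ρ.char_conj]
  have hc : Commute R.z R.n := R.z_comm _
  have h14 := sum_char (ρ.comp ((inv2 R.z_mul_z).noncommCoprod (inv2 R.n_mul_n) fun a b => by
    obtain rfl | rfl := Int.units_eq_one_or a <;> obtain rfl | rfl := Int.units_eq_one_or b <;> simp [inv2, hc]) :
      Representation ℂ _ V)
  have h15 := h13 R.n (fun e => R.n_not_mem_B (e ▸ one_mem _)) R.n_mul_n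
  have h16 := h13 (R.z * R.n) (fun e => R.n_not_mem_B (eq_inv_of_mul_eq_one_right e ▸ inv_mem (R.H_le_B R.z_mem)))
    (by rw [hc.symm.mul_mul_mul_comm, R.z_mul_z, R.n_mul_n, one_mul])
  rw [Fintype.sum_prod_type, UnitsInt.univ, Finset.sum_pair (by decide), Finset.sum_pair (by decide),
    Finset.sum_pair (by decide), Fintype.card_prod, Fintype.card_units_int] at h14
  change ρ.character (1 * 1) + ρ.character (1 * R.n) + (ρ.character (R.z * 1) + ρ.character (R.z * R.n)) = _ at h14
  rw [one_mul, one_mul, mul_one, h12, h15, h16, ρ.char_one, h11.2, add_zero, add_zero, add_zero] at h14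
  norm_cast at h14
  rw [hj, show (8 * j + 3) ^ 2 = 8 * (8 * j ^ 2 + 6 * j + 1) + 1 by ring] at hs
  omega

end

/-- For the Ree group ²G₂(q), q = 3^(2m+1) with m ≥ 1 (realised over the field with q elements), every irreducible complex representation of degree at least 2 has degree at least q² − q + 1. -/
theorem result {K : Type*} [Field K] [Fintype K] (m : ℕ) (hm : 1 ≤ m) (hK : Fintype.card K = 3 ^ (2 * m + 1)) :
    (∀ (k : ℕ) (ρ : Representation ℂ (Cfsg.Lie.twistedG2 K (3 ^ m)) (Fin k → ℂ)), ρ.IsIrreducible → 2 ≤ k → (3 ^ (2 * m + 1)) ^ 2 - 3 ^ (2 * m + 1) + 1 ≤ k) := by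
  intro k ρ hρ hk
  have := (H68.simple_G2 hK hm).1
  simpa using bound (H30.reeG2 hK) ρ (by simpa using hk)

end Cfsg.Agent.S2343
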