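import Cfsg.Statements.S0911
import Cfsg.Agent.H36.Induce

set_option autoImplicit false
open Cfsg

namespace Cfsg.Agent.S0911

/-- The min–max Theorem for defect classes. Let B be a block of the finite group G relative to a maximal ideal M of the algebraic integers containing the prime p, let g represent a defect class of B and let D be a Sylow p-subgroup of the centralizer of g (viewed in G). For any h: (a) if the idempotent coefficient of B at h is a local integer outside the local ideal, then some conjugate of D contains a Sylow p-subgroup of the centralizer of h; (b) if the central character of some member of B at h is outside the local ideal, then some conjugate of D is contained in a Sylow p-subgroup of the centralizer of h. -/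
theorem result {G : Type*} [Group G] [Finite G] (p : ℕ) [Fact p.Prime] (M : Ideal Cfsg.AlgInt) (hM : Cfsg.IsPModular p M) (B : Set (Cfsg.IrrCharacter G)) (hB : Cfsg.IsPBlock M B) (g : G) (hg : Cfsg.IsDefectClass M B g) (D : Sylow p (Subgroup.centralizer ({g} : Set G))) (h : G) : (Cfsg.MemLocalRing M (Cfsg.blockCoeff B h) → ¬ Cfsg.MemLocalIdeal M (Cfsg.blockCoeff B h) → ∃ (x : G) (Q : Sylow p (Subgroup.centralizer ({h} : Set G))), (Q : Subgroup (Subgroup.centralizer ({h} : Set G))).map (Subgroup.centralizer ({h} : Set G)).subtype ≤ ((D : Subgroup (Subgroup.centralizer ({g} : Set G))).map (Subgroup.centralizer ({g} : Set G)).subtype).map (MulAut.conj x).toMonoidHom) ∧ ((∃ χ ∈ B, ¬ Cfsg.MemLocalIdeal M (Cfsg.centralChar (χ : G → ℂ) h)) → ∃ (x : G) (Q : Sylow p (Subgroup.centralizer ({h} : Set G))), ((D : Subgroup (Subgroup.centralizer ({g} : Set G))).map (Subgroup.centralizer ({g} : Set G)).subtype).map (MulAut.conj x).toMonoidHom ≤ (Q : Subgroup (Subgroup.centralizer ({h} : Set G))).map (Subgroup.centralizer ({h}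 : Set G)).subtype) := by
  have := hM.2.1
  have := H35.charP_F hM
  have hD : H36.IsDef p ⊤ (H34.eB M B) _ :=
    (H36.isDefectGroup_iff hM hB).1 ⟨g, hg, D, rfl⟩
  obtain ⟨Q⟩ : Nonempty (Sylow p (Subgroup.centralizer ({h} : Set G))) := inferInstance
  have hQ : H37.IsSylowIn p ((Q : Subgroup (Subgroup.centralizer ({h} : Set G))).map
      (Subgroup.centralizer ({h} : Set G)).subtype) (⊤ ⊓ Subgroup.centralizer {h}) := by
    rw [top_inf_eq]; exact ⟨Q, rfl⟩
  refine ⟨fun _ h2 => ?_, fun ⟨χ, hχ, h2⟩ => ?_⟩
  · obtain ⟨k, -, hk⟩ := hD.zd.of_coeff_ne_zero ((H36.coeff_eB_ne_zero_iff hB h).2 h2)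
      hQ.isPGroup hQ.le
    exact ⟨k⁻¹, Q, (H36.map_conj_inv_map_conj _ k).symm.le.trans (Subgroup.map_mono hk)⟩
  · have h3 := (H36.isPrim_eB hB).zd_of_not_nilpotent (p := p) le_rfl (H36.cl_mem_Fx_top h)
      (by rw [H36.cl_top, H34.isNilpotent_mul_eB_iff hB hχ (H34.classSum_mem_Z h), ← H36.cl_top]
          exact (H36.lam_cl_ne_zero_iff χ.2 h).2 h2) (H36.zd_cl hQ)
    obtain ⟨k, -, hk⟩ := h3 _ le_top hD.isPGroup hD.br_ne
    exact ⟨k, Q, hk⟩

end Cfsg.Agent.S0911
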