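import Cfsg.Statements.S2930
import Cfsg.Agent.Base
import Cfsg.Agent.S2602
import Cfsg.Agent.S0254
import Cfsg.Agent.S2119
import Cfsg.Agent.H56.OutGrp
import Cfsg.Agent.H14.FStar
import Cfsg.Agent.H23.Imprim
import Cfsg.Agent.H30.SylMax

set_option autoImplicit false
open Cfsg

namespace Cfsg.Agent.S2930

open Subgroup Equiv Equiv.Perm MulAction H23.Imp
open scoped Pointwise

theorem fixq {Y : Type*} [Group Y] [Finite Y] {p : ℕ} [Fact p.Prime] {R : Subgroup Y}
    (hR : IsPGroup p R) (H : Subgroup Y) (h : ¬ p ∣ H.index) :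
    ∃ g, ∀ r ∈ R, g⁻¹ * r * g ∈ H := by
  obtain ⟨x, hx⟩ := hR.nonempty_fixed_point_of_prime_not_dvd_card (Y ⧸ H) h
  obtain ⟨g, rfl⟩ := QuotientGroup.mk_surjective x
  refine ⟨g, fun r hr => ?_⟩
  have h1 : ((r * g : Y) : Y ⧸ H) = g := hx ⟨r, hr⟩
  have h2 := QuotientGroup.eq.1 h1.symm
  rwa [← mul_assoc] at h2

theorem L3 {I : Type*} [Fintype I] [DecidableEq I] {m : ℕ} (hm : m ≠ 0)
    (hI : Fintype.card I = 3 * m) {R : Subgroup (Perm I)} (hR : IsPGroup 3 R) :
    ∃ e : I ≃ Fin m × Fin 3, R ≤ W (fun x => (e x).1) := by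
  have : Fact (Nat.Prime 3) := ⟨Nat.prime_three⟩
  obtain ⟨e⟩ : Nonempty (I ≃ Fin m × Fin 3) := Fintype.card_eq.1 (by simp [hI, mul_comm])
  obtain ⟨τ, hτ⟩ : ∃ τ : Perm I, ∀ x, τ x = e.symm ((e x).1, (e x).2 + 1) :=
    ⟨e.symm.permCongr (prodCongr (Equiv.refl _) (Equiv.addRight 1)), fun x => rfl⟩
  have hf : ∀ x, τ x ≠ x := fun x h => by
    have := congrArg (fun y => (e y).2) h
    simp [hτ] at this
  have h3 : τ ^ 3 = 1 := by
    ext x
    simp only [pow_succ, pow_zero, one_mul, Perm.mul_apply, hτ, apply_symm_apply, Perm.one_apply]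
    rw [symm_apply_eq]
    ext1
    · rfl
    · exact (by decide : ∀ c : Fin 3, c + 1 + 1 + 1 = c) _
  have hne : τ ≠ 1 := fun h => hf (e.symm (⟨0, Nat.pos_of_ne_zero hm⟩, 0)) (by rw [h]; rfl)
  have ho : orderOf τ = 3 := orderOf_eq_prime h3 hne
  obtain ⟨k, hk⟩ := cycleType_prime_order (σ := τ) (by rw [ho]; exact Nat.prime_three)
  have hs : τ.cycleType.sum = Fintype.card I := by
    rw [sum_cycleType, Finset.eq_univ_iff_forall.2 fun x => mem_support.2 (hf x), Finset.card_univ]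
  have hkm : k + 1 = m := by
    rw [hk, ho, hI, Multiset.sum_replicate, smul_eq_mul] at hs
    omega
  have hC := nat_card_centralizer τ
  rw [hs, hk, ho, hkm, Nat.sub_self, Multiset.prod_replicate, Multiset.toFinset_replicate,
    if_neg hm, Finset.prod_singleton, Multiset.count_replicate_self, Nat.factorial_zero,
    one_mul] at hC
  have hidx : ¬ 3 ∣ (centralizer ({τ} : Set (Perm I))).index := by
    intro h
    have h1 := (centralizer ({τ} : Set (Perm I))).card_mul_index
    rw [hC, Nat.card_perm, Nat.card_eq_fintype_card, hI] at h1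
    have h2 := congrArg (padicValNat 3) h1
    rw [padicValNat_factorial_mul, padicValNat.mul (by positivity) index_ne_zero_of_finite,
      padicValNat.mul (by positivity) (by positivity), padicValNat.prime_pow] at h2
    have h4 := one_le_padicValNat_of_dvd index_ne_zero_of_finite h
    omega
  have hW : centralizer ({τ} : Set (Perm I)) ≤ W (fun x => (e x).1) := by
    have key : ∀ g ∈ centralizer ({τ} : Set (Perm I)), ∀ x y, (e x).1 = (e y).1 →
        (e (g x)).1 = (e (g y)).1 := by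
      intro g hg x y h
      have c : ∀ z, g (τ z) = τ (g z) := fun z =>
        congrArg (fun s : Perm I => s z) (mem_centralizer_singleton_iff.1 hg)
      have t : ∀ z, (e (τ z)).1 = (e z).1 := fun z => by simp [hτ]
      have h1 : y = x ∨ y = τ x ∨ y = τ (τ x) := by
        simp only [hτ, apply_symm_apply, eq_symm_apply, ← e.apply_eq_iff_eq (x := y) (y := x),
          Prod.ext_iff, h, true_and]
        generalize (e x).2 = a
        generalize (e y).2 = b
        revert a b; decide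
      rcases h1 with rfl | rfl | rfl
      · rfl
      · rw [c, t]
      · rw [c, t, c, t]
    intro g hg x y
    exact ⟨key g hg x y, fun h => by simpa using key _ (inv_mem hg) _ _ h⟩
  obtain ⟨g, hg⟩ := fixq hR _ hidx
  refine ⟨(g⁻¹ : Perm I).trans e, fun r hr x y => ?_⟩
  simpa using hW (hg r hr) (g⁻¹ x) (g⁻¹ y)

theorem fib {I : Type*} {m : ℕ} (e : I ≃ Fin m × Fin 3) (i : Fin m) :
    Nat.card {x : I // (e x).1 = i} = 3 := by
  have : {x : I // (e x).1 = i} ≃ Fin 3 :=
    ⟨fun x => (e x.1).2, fun c => ⟨e.symm (i, c), by simp⟩,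
      fun x => Subtype.ext (by simp [← x.2]), fun c => by simp⟩
  rw [Nat.card_congr this]; simp

theorem L9 {I : Type*} [Fintype I] [DecidableEq I] {k : ℕ} (hk : k ≠ 0)
    (e : I ≃ Fin (3 * k) × Fin 3) {R : Subgroup (Perm I)} (hR : IsPGroup 3 R)
    (h : R ≤ W (fun x => (e x).1)) :
    ∃ e2 : Fin (3 * k) ≃ Fin k × Fin 3, R ≤ W (fun x => (e2 (e x).1).1) := by
  let _ : MulAction R (Fin (3 * k)) :=
    { smul := fun g j => (e (g.1 (e.symm (j, 0)))).1
      one_smul := fun j => by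
        change (e (e.symm (j, 0))).1 = j
        simp
      mul_smul := fun g g' j => by
        change (e (g.1 (g'.1 (e.symm (j, 0))))).1 =
          (e (g.1 (e.symm ((e (g'.1 (e.symm (j, 0)))).1, 0)))).1
        exact (h g.2 _ _).1 (by simp) }
  have hs : ∀ (g : R) x, g • (e x).1 = (e (g.1 x)).1 := fun g x => (h g.2 _ _).1 (by simp)
  obtain ⟨e2, he2⟩ := L3 hk (Fintype.card_fin _) (R := (toPermHom R (Fin (3 * k))).range)
    (hR.of_surjective _ (MonoidHom.rangeRestrict_surjective _))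
  refine ⟨e2, fun r hr x y => ?_⟩
  have := he2 ⟨⟨r, hr⟩, rfl⟩ (e x).1 (e y).1
  simpa [hs] using this

theorem exists_k {n : ℕ} (hn : 5 ≤ n) (h6 : n ≠ 6) (h9 : ¬ 9 ∣ n) (h : ∀ a, 2 ≤ a → n ≠ 3 ^ a + 1) :
    ∃ k, 2 ≤ k ∧ k + 2 ≤ n ∧ n ≠ 2 * k ∧ ¬ 3 ∣ n.choose k := by
  have : Fact (Nat.Prime 3) := ⟨Nat.prime_three⟩
  have L := fun n k => Choose.choose_modEq_choose_mod_mul_choose_div_nat (n := n) (k := k) (p := 3)
  obtain h3 | h3 | h3 : n % 3 = 0 ∨ n % 3 = 1 ∨ n % 3 = 2 := by omega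
  · refine ⟨3, by omega, by omega, by omega, fun hd => ?_⟩
    have h1 := (L n 3).dvd_iff dvd_rfl
    simp [h3] at h1
    omega
  · obtain ⟨b, u, hu, hb⟩ := Nat.exists_eq_pow_mul_and_not_dvd (n := n - 1) (by omega) 3 (by norm_num)
    rcases b with _ | b
    · simp at hb; omega
    have hu1 : u ≠ 1 := by
      rintro rfl
      rcases b with _ | b
      · simp at hb; omega
      · exact h (b + 1 + 1) (by omega) (by omega)
    have hu0 : u ≠ 0 := by rintro rfl; simp at hu
    have hp : 0 < 3 ^ b := by positivity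
    have h2 : 3 ^ b * 2 ≤ 3 ^ b * u := Nat.mul_le_mul_left _ (by omega)
    rw [pow_succ, mul_right_comm] at hb
    refine ⟨3 ^ b * 3, by omega, by omega, by omega, fun hd => ?_⟩
    have h1 := (L n (3 ^ b * 3)).dvd_iff dvd_rfl
    rw [h3, Nat.mul_mod_left, Nat.mul_div_cancel _ (by norm_num), show n / 3 = 3 ^ b * u by omega,
      Nat.choose_zero_right, one_mul] at h1
    have h4 := (Choose.choose_pow_mul_pow_mul_modEq_choose_nat (p := 3) (k := b) (a := u)
      (b := 1)).dvd_iff dvd_rfl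
    rw [mul_one, Nat.choose_one_right] at h4
    exact hu (h4.1 (h1.1 hd))
  · refine ⟨2, by omega, by omega, by omega, fun hd => ?_⟩
    have h1 := (L n 2).dvd_iff dvd_rfl
    simp [h3] at h1
    exact h1 hd

theorem alt_case {n : ℕ} (hn : 5 ≤ n) (S : Subgroup (alternatingGroup (Fin n))) (hS : IsPGroup 3 S)
    (U : ∀ H1 H2 : Subgroup (alternatingGroup (Fin n)), S ≤ H1 → S ≤ H2 → IsCoatom H1 →
      H2 ≠ ⊤ → H2 ≤ H1) : n = 6 ∨ n = 9 ∨ ∃ a : ℕ, 2 ≤ a ∧ n = 3 ^ a + 1 := by
  have : Fact (Nat.Prime 3) := ⟨Nat.prime_three⟩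
  by_contra hc
  push Not at hc
  obtain ⟨h6, h9, ha⟩ := hc
  have hR : IsPGroup 3 (S.map (alternatingGroup (Fin n)).subtype) := hS.map _
  have hsub : ∀ {K : Subgroup (Perm (Fin n))}, S.map (alternatingGroup (Fin n)).subtype ≤ K →
      S ≤ (K ⊓ alternatingGroup (Fin n)).subgroupOf (alternatingGroup (Fin n)) :=
    fun h s hs => ⟨h ⟨s, hs, rfl⟩, s.2⟩
  by_cases h9d : 9 ∣ n
  · obtain ⟨k, hk⟩ := h9d
    obtain ⟨e, he⟩ := L3 (m := 3 * k) (by omega) (by rw [Fintype.card_fin]; omega) hR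
    obtain ⟨e2, he2⟩ := L9 (by omega) e hR he
    have hco := coatom_alt (fib e) (by rw [Fintype.card_fin]; omega) (by norm_num) (by omega)
    let pt : Fin k → Fin 3 → Fin 3 → Fin n := fun a b c => e.symm (e2.symm (a, b), c)
    have hpt : ∀ {a b c a' b' c'}, pt a b c = pt a' b' c' ↔ (a = a' ∧ b = b') ∧ c = c' := by
      intro a b c a' b' c'
      simp [pt]
    let z : Fin k := ⟨0, by omega⟩
    let o : Fin k := ⟨1, by omega⟩
    have hzo : z ≠ o := by simp [z, o]
    have key : ∀ w : Fin n, w ≠ pt z 0 0 → w ≠ pt z 0 1 → w ≠ pt z 0 2 →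
        (swap (pt z 0 0) (pt z 0 1) * swap (pt z 0 0) w) (pt z 0 0) = w ∧
        (swap (pt z 0 0) (pt z 0 1) * swap (pt z 0 0) w) (pt z 0 2) = pt z 0 2 := by
      intro w h1 h2 h3
      refine ⟨by rw [Perm.mul_apply, swap_apply_left, swap_apply_of_ne_of_ne h1 h2], ?_⟩
      rw [Perm.mul_apply, swap_apply_of_ne_of_ne (by simp [hpt]) h3.symm,
        swap_apply_of_ne_of_ne (by simp [hpt]) (by simp [hpt])]
    have hle := U _ _ (hsub he) (hsub he2) hco (fun h => by
      have h1 : (⟨_, ss_alt (x := pt z 0 0) (y := pt z 0 1) (u := pt z 0 0) (v := pt o 0 0)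
          (by simp [hpt]) (by simp [hpt, hzo])⟩ : alternatingGroup (Fin n)) ∈ _ :=
        h ▸ mem_top _
      obtain ⟨k1, k2⟩ := key (pt o 0 0) (by simp [hpt, hzo.symm]) (by simp [hpt]) (by simp [hpt])
      have h2 := ((mem_subgroupOf.1 h1).1 (pt z 0 0) (pt z 0 2)).1 (by simp [pt])
      simp only [k1, k2] at h2
      exact hzo (by simpa [pt] using h2.symm))
    have hm := ss_alt (x := pt z 0 0) (y := pt z 0 1) (u := pt z 0 0) (v := pt z 1 0)
      (by simp [hpt]) (by simp [hpt])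
    have h1 := hle (x := ⟨_, hm⟩)
      ⟨mul_mem (swap_mem (by simp [pt])) (swap_mem (by simp [pt])), hm⟩
    obtain ⟨k1, k2⟩ := key (pt z 1 0) (by simp [hpt]) (by simp [hpt]) (by simp [hpt])
    have h2 := ((mem_subgroupOf.1 h1).1 (pt z 0 0) (pt z 0 2)).1 (by simp [pt])
    simp only [k1, k2] at h2
    simp [pt] at h2
  obtain ⟨k, k2, kn, k2n, hk⟩ := exists_k hn h6 h9d ha
  obtain ⟨s, hs⟩ := hS.nonempty_fixed_point_of_prime_not_dvd_card (Set.powersetCard (Fin n) k)
    (by rw [Set.powersetCard.card]; simpa using hk)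
  have hsc : (s : Set (Fin n)).ncard = k := Set.powersetCard.ncard_eq s
  have hscc : ((s : Set (Fin n))ᶜ).ncard = n - k := by
    have := Set.ncard_add_ncard_compl (s : Set (Fin n))
    rw [hsc, Nat.card_fin] at this
    omega
  have n1 : (s : Set (Fin n)).Nontrivial := Set.one_lt_ncard_iff_nontrivial.1 (by omega)
  have n2 : ((s : Set (Fin n))ᶜ).Nontrivial := Set.one_lt_ncard_iff_nontrivial.1 (by omega)
  have hco := alternatingGroup.isCoatom_stabilizer n1.nonempty n2.nonempty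
    (by rw [hsc, Nat.card_fin]; exact k2n)
  have hSs : S ≤ stabilizer (alternatingGroup (Fin n)) (s : Set (Fin n)) := by
    rw [← Set.powersetCard.stabilizer_coe]
    exact fun g hg => hs ⟨g, hg⟩
  have hmv : ∀ g ∈ stabilizer (alternatingGroup (Fin n)) (s : Set (Fin n)),
      ∀ x ∈ (s : Set (Fin n)), (g : Perm (Fin n)) x ∈ (s : Set (Fin n)) := fun g hg x hx => by
    have h1 := Set.smul_mem_smul_set (a := g) hx
    rw [mem_stabilizer_iff.1 hg] at h1
    exact h1
  by_cases h3 : 3 ∣ n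
  · obtain ⟨m, hm⟩ := h3
    obtain ⟨e, he⟩ := L3 (m := m) (by omega) (by rw [Fintype.card_fin]; omega) hR
    have hco' := coatom_alt (fib e) (by rw [Fintype.card_fin]; omega) (by norm_num) (by omega)
    have hle := U _ _ hSs (hsub he) hco hco'.1
    obtain ⟨x, hx⟩ := n1.nonempty
    obtain ⟨u, hu⟩ := n2.nonempty
    have hne : ∀ y : Fin n, y ≠ e.symm ((e y).1, (e y).2 + 1) := fun y h => by
      have := congrArg (fun y => (e y).2) h
      simp at this
    obtain ⟨w, hw, h1, -⟩ := pair_trans_alt (fib e) (by norm_num) (by omega) (Or.inl le_rfl)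
      (hne x) (hne u) (by simp)
    exact hu (h1 ▸ hmv ⟨w, hw.2⟩ (hle hw) x hx)
  · obtain ⟨x, hx⟩ := hS.nonempty_fixed_point_of_prime_not_dvd_card (Fin n) (by simpa using h3)
    obtain ⟨a, ha, hax⟩ := n1.exists_ne x
    obtain ⟨b, hb, hbx⟩ := n2.exists_ne x
    have hab : a ≠ b := fun h => hb (h ▸ ha)
    have hle := U _ (stabilizer (alternatingGroup (Fin n)) x) hSs (fun g hg => hx ⟨g, hg⟩) hco
      (fun h => by
        have h1 : (⟨_, ss_alt (x := a) (y := b) (u := x) (v := a) hab hax.symm⟩ :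
          alternatingGroup (Fin n)) ∈ stabilizer (alternatingGroup (Fin n)) x := h ▸ mem_top _
        have h2 : (swap a b * swap x a) x = x := h1
        rw [Perm.mul_apply, swap_apply_left, swap_apply_left] at h2
        exact hbx h2)
    obtain ⟨g, hg, h1, h2⟩ := H30.SM.alt_trans (by omega) hax hbx
    exact hb (h2 ▸ hmv ⟨g, hg⟩ (hle h1) a ha)

theorem card_out {n : ℕ} (hn : 5 ≤ n) : Nat.card (Out (alternatingGroup (Fin n))) ∣ 4 := by
  by_cases h6 : n = 6
  · subst h6
    have : Fact (Nat.Prime 3) := ⟨Nat.prime_three⟩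
    let _ := Fintype.ofFinite (GaloisField 3 2)
    have hc : Fintype.card (GaloisField 3 2) = 3 ^ 2 := by
      rw [← Nat.card_eq_fintype_card, GaloisField.card 3 2 two_ne_zero]
    obtain ⟨e⟩ := Cfsg.Agent.S0254.result hc
    obtain ⟨φ, h1, -, h3⟩ := Cfsg.Agent.S2602.result (by norm_num) hc (by norm_num)
    rw [← Nat.card_congr (H56.outCongr e).toEquiv, ← φ.ker.card_mul_index, h3, index_ker,
      MonoidHom.range_eq_top.2 h1, card_top]
    simp
  · have hs := (Cfsg.Agent.S2119.result n (by omega) h6).2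
    have : Nontrivial (Fin n) := Fin.nontrivial_iff_two_le.2 (by omega)
    let f : Equiv.Perm (Fin n) →* Out (alternatingGroup (Fin n)) :=
      (QuotientGroup.mk' _).comp MulAut.conjNormal
    have hf : Function.Surjective f := (QuotientGroup.mk'_surjective _).comp hs
    have hk : alternatingGroup (Fin n) ≤ f.ker := fun g hg =>
      (QuotientGroup.eq_one_iff _).2 ⟨⟨g, hg⟩, by ext x; rfl⟩
    have h1 := index_dvd_of_le hk
    rw [alternatingGroup.index_eq_two, index_ker, MonoidHom.range_eq_top.2 hf, card_top] at h1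
    exact h1.trans (by decide)

/-- Let X be a finite 3-minimal group (a Sylow 3-subgroup is not normal and lies in a unique maximal subgroup) whose generalized Fitting subgroup is isomorphic to an alternating group of degree n ≥ 5. Then X = F*(X), and n = 6, n = 9, or n = 3ᵃ + 1 for some a ≥ 2. -/
theorem result {X : Type*} [Group X] [Finite X] (hX : Cfsg.IsPMinimal 3 X) (n : ℕ) (hn : 5 ≤ n) (hF : Nonempty (↥(Cfsg.generalizedFittingSubgroup X) ≃* ↥(alternatingGroup (Fin n)))) : Cfsg.generalizedFittingSubgroup X = ⊤ ∧ (n = 6 ∨ n = 9 ∨ ∃ a : ℕ, 2 ≤ a ∧ n = 3 ^ a + 1) := by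
  have : Fact (Nat.Prime 3) := ⟨Nat.prime_three⟩
  obtain ⟨e⟩ := hF
  obtain ⟨S⟩ : Nonempty (Sylow 3 X) := inferInstance
  obtain ⟨hSn, M, ⟨hM, hSM⟩, hu⟩ := hX S
  have hle : ∀ H : Subgroup X, H ≠ ⊤ → (S : Subgroup X) ≤ H → H ≤ M := fun H h1 h2 => by
    obtain ⟨K, hK, hHK⟩ := (eq_top_or_exists_le_coatom H).resolve_left h1
    exact hu K ⟨hK, h2.trans hHK⟩ ▸ hHK
  have hN := H14.fstar_normal X
  have hSA : (S : Subgroup X) ≤ generalizedFittingSubgroup X := by
    intro s hs
    let ψ : X →* Out (generalizedFittingSubgroup X) :=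
      (QuotientGroup.mk' _).comp MulAut.conjNormal
    have h1 : orderOf (ψ s) ∣ 4 := by
      refine (_root_.orderOf_dvd_natCard _).trans ?_
      rw [Nat.card_congr (H56.outCongr e).toEquiv]
      exact card_out hn
    obtain ⟨k, hk⟩ := S.isPGroup' ⟨s, hs⟩
    have h2 : orderOf (ψ s) ∣ 3 ^ k := by
      apply orderOf_dvd_of_pow_eq_one
      rw [← map_pow, show s ^ 3 ^ k = 1 from congrArg Subtype.val hk, map_one]
    have h3 : ψ s = 1 := orderOf_eq_one_iff.1 (Nat.eq_one_of_dvd_coprimes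
      (Nat.Coprime.pow_right k (by norm_num)) h1 h2)
    obtain ⟨a, ha⟩ := (QuotientGroup.eq_one_iff _).1 h3
    have h4 : (a : X)⁻¹ * s ∈ centralizer (generalizedFittingSubgroup X : Set X) := by
      intro y hy
      have h5 := congrArg (fun φ : MulAut (generalizedFittingSubgroup X) => (φ ⟨y, hy⟩ : X)) ha
      have h6 : (a : X) * y * (a : X)⁻¹ = s * y * s⁻¹ := h5
      calc y * ((a : X)⁻¹ * s) = (a : X)⁻¹ * ((a : X) * y * (a : X)⁻¹) * s := by group
        _ = _ := by rw [h6]; group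
    have h5 := mul_mem a.2 (H14.centralizer_fstar_le h4)
    rwa [mul_inv_cancel_left] at h5
  have htop : generalizedFittingSubgroup X = ⊤ := by
    by_contra h
    have h1 := Sylow.normalizer_sup_eq_top' S hSA
    apply hM.1
    rw [eq_top_iff, ← h1]
    exact sup_le (hle _ (fun h => hSn (normalizer_eq_top_iff.1 h)) le_normalizer) (hle _ h hSA)
  refine ⟨htop, ?_⟩
  let e' : X ≃* alternatingGroup (Fin n) :=
    (topEquiv.symm.trans (MulEquiv.subgroupCongr htop.symm)).trans e
  refine alt_case hn ((S : Subgroup X).map e'.toMonoidHom) (S.isPGroup'.map _) ?_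
  intro H1 H2 h1 h2 hc hne
  have hc' : IsCoatom (H1.comap e'.toMonoidHom) := (isCoatom_comap e').2 hc
  have h3 := hu _ ⟨hc', map_le_iff_le_comap.1 h1⟩
  have h4 := hle (H2.comap e'.toMonoidHom) (fun h => hne (by
    rw [eq_top_iff]
    intro y _
    have : e'.symm y ∈ H2.comap e'.toMonoidHom := h ▸ mem_top _
    simpa using this)) (map_le_iff_le_comap.1 h2)
  rw [← h3] at h4
  intro y hy
  simpa using h4 (x := e'.symm y) (by simpa using hy)

end Cfsg.Agent.S2930
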