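import Cfsg.Statements.S1279
import Cfsg.Agent.Base
import Cfsg.Agent.H15.Core

set_option autoImplicit false
open Cfsg

namespace Cfsg.Agent.S1279

/-- Let A be a noncyclic elementary abelian p-subgroup of the finite group G such that C_G(a) is solvable for every non-identity a ∈ A. Then a ↦ O_{p'}(C_G(a)) is a solvable A-signalizer functor on G. -/
theorem result {G : Type*} [Group G] [Finite G] (p : ℕ) [Fact p.Prime] (A : Subgroup G) (hA : Cfsg.IsElementaryAbelian p A) (hA2 : p ^ 2 ≤ Nat.card ↥A) (hsolv : ∀ a ∈ A, a ≠ 1 → Group.IsSolvable ↥(Subgroup.centralizer ({a} : Set G))) : Cfsg.IsSolvableSignalizerFunctor p A (fun a => Cfsg.centralizerPPrimeCore p a) := by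
  have hp : p.Prime := Fact.out
  have _ := hA2
  have e : (fun a : G => Cfsg.centralizerPPrimeCore p a) = fun a => H46.Op' p (H46.Cent1 a) :=
    funext fun a => (H46.Op'_eq_pPrimeCore hp _).symm
  rw [e]
  refine H15.SF.isSolvableSignalizerFunctor ⟨hp, hA, fun a _ _ => H46.piCoreOf_le _ _,
    fun a _ _ => H46.isPi_piCoreOf _ _,
    fun a ha _ => H46.nrm_piCoreOf _ (H46.nrm_of_le (H15.elem_le_cent1 hA ha)),
    fun a ha _ b hb h1 => H15.Op'_cent1_bal hp ((H46.isPi_of_elem hp hA).elt ha)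
      (H15.elem_le_cent1 hA hb ha) (hsolv b hb h1),
    fun a ha h1 => H46.sol_of_le (hsolv a ha h1) (H46.piCoreOf_le _ _)⟩

end Cfsg.Agent.S1279
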