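import Cfsg.Statements.S5217
import Cfsg.Agent.H8.BCMain
import Cfsg.Agent.H16.BCCon

set_option autoImplicit false
open Cfsg

namespace Cfsg.Agent.S5217

/-- Let S be a finite bicyclic 2-group (S = ⟨x⟩⟨y⟩) that is not metacyclic. Then S supports a saturated fusion system other than its inner fusion system if and only if the commutator subgroup of S is cyclic. -/
theorem result {Ω : Type*} [Group Ω] {S : Subgroup Ω} [Finite S] (hS : IsPGroup 2 S) (hb : ∃ x y : ↥S, ∀ g : ↥S, ∃ i j : ℤ, g = x ^ i * y ^ j) (hm : ¬ Cfsg.IsMetacyclic ↥S) : (∃ F : Cfsg.FusionSystem S, F.IsSaturated 2 ∧ ¬ ∀ P : Subgroup Ω, F.Hom P = (Cfsg.innerFusionSystem S).Hom P) ↔ IsCyclic ↥(commutator ↥S) := by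
  obtain ⟨x, y, hb⟩ := hb
  obtain ⟨M₁, M₂, M₃, h⟩ := H8.BC.exists_bd hS hb hm
  refine ⟨fun ⟨F, hF, hne⟩ => ?_, fun hc => ?_⟩
  · by_contra hA
    refine hne fun P => congrArg (·.Hom P) (H92.eq_inner_of_isPGroup hS hF ?_)
    rintro P (rfl | hP)
    · exact (H92.sylIn_Inn_top hS hF).isPGroup.to_le (H9.autGroup_le_Inn hS hF (h.no_odd hS))
    · obtain ⟨s, σ, D⟩ := h.exists_ld hS hF hP
      exact absurd (D.cyclic hS h) hA
  · obtain ⟨a, ha⟩ := h.ex3
    obtain ⟨R, hR, h1, h2⟩ := h.exR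
    obtain ⟨b, h3, h4, h5⟩ := h.sq3 R hR h1 h2
    have h6 := h.top_of hS h3 h4 ha (Subgroup.closure {a, b}) (Subgroup.subset_closure (by simp))
      (Subgroup.subset_closure (by simp))
    refine H16.BC.jobCon S hS a b h6 hc ?_ hm
    haveI := H19.normal_of_le_cyclic (Subgroup.zpowers_le.2 (Subgroup.commutator_mem_commutator
      (Subgroup.mem_top a) (Subgroup.mem_top b)) : _ ≤ commutator S)
    have h7 := H19.commutator_eq_zpowers_of_pair h6
    obtain ⟨k, hk⟩ := h7.le (h1 h5)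
    obtain ⟨j, rfl | rfl⟩ := Int.even_or_odd' k
    · exact ⟨j, by rw [← hk]; simp [zpow_mul, zpow_ofNat]⟩
    · have h8 := H8.BC.mem_of_odd hS (odd_two_mul_add_one j) (hk ▸ h5 :)
      rw [Subgroup.relIndex_eq_one.2 (h7.le.trans (Subgroup.zpowers_le.2 h8))] at h2
      omega

end Cfsg.Agent.S5217
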