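import Cfsg.Statements.S3347
import Cfsg.Agent.H56.ST4
import Cfsg.Agent.H18.GY

set_option autoImplicit false
open Cfsg

namespace Cfsg.Agent.S3347

/-- Let G be a finite group, p an odd prime, and P an abelian, non-cyclic Sylow p-subgroup of G with [N_G(P) : C_G(P)] = 2. Then either O^p(G) is a proper subgroup of G, or G has p-length 1 (G = O_{p',p,p'}(G)). -/
theorem result {G : Type*} [Group G] [Finite G]
    (p : ℕ) [Fact p.Prime] (hp : p ≠ 2) (P : Sylow p G) (hab : IsMulCommutative (P : Subgroup G)) (hnc : ¬ IsCyclic (P : Subgroup G))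
    (hidx : ((Subgroup.centralizer ((P : Subgroup G) : Set G)).subgroupOf (Subgroup.normalizer ((P : Subgroup G) : Set G))).index = 2) :
    Cfsg.pResidual p G ≠ ⊤ ∨ Cfsg.PLengthLE p 1 G := by
  refine or_iff_not_imp_left.2 fun h => ?_
  rw [Ne, not_not] at h
  obtain ⟨t, ht, h1⟩ := H56.ST.exists_of_relIndex hidx
  have h2 := H56.ST.st_top hp (H98.isSyl_sylow P) (Subgroup.le_centralizer_iff_isMulCommutative.2 hab)
    ht h1 (by rwa [← commutator_def, inf_of_le_left (H56.ST.le_commutator_of_pResidual h P.isPGroup')])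
  refine H18.pLengthLE_add_of_normal (k := 0) (l := 1) (pPrimeCore p G)
    (H18.pLengthLE_zero_iff.2 (H2.coprime_card_pPrimeCore p G)) (H18.GY.pLengthLE_one_of_index fun e => ?_)
  exact P.not_dvd_index ((e.trans (Subgroup.index_dvd_of_le (H18.le_pCore (P.isPGroup'.map _)))).trans
    (Subgroup.index_map_dvd _ (QuotientGroup.mk'_surjective _)))

end Cfsg.Agent.S3347
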