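import Cfsg.Statements.S2660
import Cfsg.Agent.Base
import Cfsg.Agent.H55.AltSec3

set_option autoImplicit false
open scoped MatrixGroups
open Cfsg

namespace Cfsg.Agent.S2660

/-- Alternating sections of the triality-twisted groups ³D₄. Let `q = p^a` be a prime power and `K` a field with `q³` elements, and let `G` be the twisted group ³D₄(q) realised over `K`. If some subgroup of `G` has a quotient isomorphic to the alternating group of degree `r`, then `r` is at most 6, or 7 in characteristic 5. (Only an upper bound is asserted.) -/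
theorem result {K : Type*} [Field K] [Fintype K] (p a : ℕ) [Fact p.Prime] [CharP K p]
    (ha : 1 ≤ a) (hK : Fintype.card K = (p ^ a) ^ 3) (r : ℕ) (H : Subgroup ↥(Cfsg.Lie.twistedD4 K (p ^ a))) (N : Subgroup ↥H) [N.Normal]
    (h : Nonempty (↥H ⧸ N ≃* ↥(alternatingGroup (Fin r)))) :
    r ≤ 6 + (if p = 5 then 1 else 0) := by
  have hp : p.Prime := Fact.out
  have hq : IsPrimePow (p ^ a) := hp.isPrimePow.pow (by omega)
  split_ifs with h5
  · subst h5
    exact H55.Alt.D4_le_seven hq hK (by rw [Nat.pow_mod]; simp) h
  · refine H55.Alt.D4_le_six hq hK (fun hd => h5 ?_) h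
    exact ((Nat.prime_dvd_prime_iff_eq Nat.prime_five hp).1
      (Nat.prime_five.dvd_of_dvd_pow hd)).symm

end Cfsg.Agent.S2660
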