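import Cfsg.Statements.S4775
import Cfsg.Agent.H66.SzDeg
import Cfsg.Agent.H66.SzInst

set_option autoImplicit false
open Cfsg

namespace Cfsg.Agent.S4775

/-- Let F be a finite field with q = 2^(2m+1) ≥ 8 elements and let S be isomorphic to the Suzuki group over F. Then the vertices of the character degree graph of S are 2 and the primes dividing (q − 1)(q² + 1); the primes dividing (q − 1)(q² + 1) are pairwise adjacent, and 2 is adjacent exactly to the primes dividing q − 1. -/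
theorem result (F : Type*) [Field F] [Fintype F] (m : ℕ) (hm : 1 ≤ m) (q : ℕ) (hq : Fintype.card F = q) (hqm : q = 2 ^ (2 * m + 1)) {S : Type*} [Group S] [Finite S] (hS : Nonempty (S ≃* ↥(Cfsg.Lie.Sz F (2 ^ (m + 1))))) : Cfsg.degreePrimes S = {r : ℕ | r.Prime ∧ (r = 2 ∨ r ∣ (q - 1) * (q ^ 2 + 1))} ∧ ∀ r s : ℕ, (Cfsg.degreeGraph S).Adj r s ↔ (r ≠ s ∧ r.Prime ∧ s.Prime ∧ ((r ∣ (q - 1) * (q ^ 2 + 1) ∧ s ∣ (q - 1) * (q ^ 2 + 1)) ∨ (r = 2 ∧ s ∣ q - 1) ∨ (s = 2 ∧ r ∣ q - 1))) := by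
  have hT := H66.titsOf_isFin F hm (hq.trans hqm)
  obtain ⟨e⟩ := hS
  have M := (H66.modelB hT).ofEquiv e
  have := Fintype.ofFinite S
  obtain ⟨h1, ⟨χ₁, i1, d1⟩, ⟨χ₂, i2, d2⟩, ⟨χ₃, i3, d3⟩, χ₄, i4, d4⟩ := M.degrees hT
  have hG := M.card_G
  have hm' := hT.aP_mul_aM
  have hc := hT.coprime_sub_one
  have h2 := hT.card
  rw [show Nat.card F = q by rw [Nat.card_eq_fintype_card, hq]] at *
  have dv : ∀ d ∈ charDegrees S, ∀ r : ℕ, r.Prime → r ∣ d → r = 2 ∨ r ∣ (q - 1) * (q ^ 2 + 1) := by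
    rintro d ⟨χ, rfl⟩ r hr h
    have := h.trans (H28.Cfsg.IsIrrCharacter.charDegree_dvd_card χ.2)
    rw [hG, mul_assoc, hr.dvd_mul] at this
    refine this.imp_left fun h => ?_
    rw [h2, ← pow_mul] at h
    exact (Nat.prime_dvd_prime_iff_eq hr Nat.prime_two).mp (hr.dvd_of_dvd_pow h)
  have ev : ∀ d ∈ charDegrees S, ∀ s : ℕ, s.Prime → s ≠ 2 → 2 ∣ d → s ∣ d → s ∣ q - 1 := by
    rintro d hd s hs s2 h h'
    have := (dv d hd s hs h').resolve_left s2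
    obtain ⟨χ, rfl⟩ := hd
    exact (hs.dvd_mul.mp this).resolve_right fun h'' =>
      hs.one_lt.ne' (Nat.eq_one_of_dvd_coprimes (h1 χ χ.2 h) h' h'')
  have ex : ∀ r s : ℕ, r.Prime → s.Prime → r ∣ q - 1 → s ∣ (q - 1) * (q ^ 2 + 1) →
      ∃ d ∈ charDegrees S, r ∣ d ∧ s ∣ d := fun r s hr hs h h' => by
    rw [← hm', hs.dvd_mul, hs.dvd_mul] at h'
    rcases h' with h' | h' | h'
    · exact ⟨_, ⟨⟨χ₄, i4⟩, rfl⟩, (h.mul_left _).trans d4, (h'.mul_left _).trans d4⟩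
    · exact ⟨_, ⟨⟨χ₂, i2⟩, rfl⟩, (h.mul_right _).trans d2, (h'.mul_left _).trans d2⟩
    · exact ⟨_, ⟨⟨χ₃, i3⟩, rfl⟩, (h.mul_right _).trans d3, (h'.mul_left _).trans d3⟩
  have ex' : ∀ r s : ℕ, r.Prime → s.Prime → r ∣ (q - 1) * (q ^ 2 + 1) →
      s ∣ (q - 1) * (q ^ 2 + 1) → ∃ d ∈ charDegrees S, r ∣ d ∧ s ∣ d := fun r s hr hs h h' => by
    rcases hr.dvd_mul.mp h with a | a
    · exact ex r s hr hs a h'
    rcases hs.dvd_mul.mp h' with b | b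
    · obtain ⟨d, hd, c, c'⟩ := ex s r hs hr b h
      exact ⟨d, hd, c', c⟩
    · exact ⟨_, ⟨⟨χ₁, i1⟩, d1⟩, a, b⟩
  refine ⟨Set.ext fun r => ⟨fun ⟨hr, d, hd, h⟩ => ⟨hr, dv d hd r hr h⟩, ?_⟩, fun r s => ⟨?_, ?_⟩⟩
  · rintro ⟨hr, rfl | h⟩
    · exact ⟨hr, _, ⟨⟨χ₄, i4⟩, rfl⟩, (dvd_mul_right _ _).trans d4⟩
    · obtain ⟨d, hd, c, -⟩ := ex' r r hr hr h h
      exact ⟨hr, d, hd, c⟩
  · rintro ⟨hne, hr, hs, d, hd, h⟩
    have a := (dvd_mul_right r s).trans h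
    have b := (dvd_mul_left s r).trans h
    refine ⟨hne, hr, hs, ?_⟩
    rcases dv d hd r hr a with rfl | a'
    · exact Or.inr (Or.inl ⟨rfl, ev d hd s hs hne.symm a b⟩)
    rcases dv d hd s hs b with rfl | b'
    · exact Or.inr (Or.inr ⟨rfl, ev d hd r hr hne b a⟩)
    · exact Or.inl ⟨a', b'⟩
  · rintro ⟨hne, hr, hs, h⟩
    refine ⟨hne, hr, hs, ?_⟩
    rcases h with ⟨a, b⟩ | ⟨rfl, b⟩ | ⟨rfl, b⟩
    · obtain ⟨d, hd, c, c'⟩ := ex' r s hr hs a b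
      exact ⟨d, hd, ((Nat.coprime_primes hr hs).mpr hne).mul_dvd_of_dvd_of_dvd c c'⟩
    · exact ⟨_, ⟨⟨χ₄, i4⟩, rfl⟩, (Nat.mul_dvd_mul_left 2 b).trans d4⟩
    · exact ⟨_, ⟨⟨χ₄, i4⟩, rfl⟩, mul_comm 2 r ▸ (Nat.mul_dvd_mul_left 2 b).trans d4⟩

end Cfsg.Agent.S4775
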