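import Cfsg.Statements.S1534
import Cfsg.Agent.H28.FeitCoh
import Cfsg.Agent.H6.Fcore

set_option autoImplicit false
open Cfsg

namespace Cfsg.Agent.S1534
open _root_.H28

open H42 H44 H45 Submodule H46

/-- Let G be a finite group and K a nontrivial nilpotent subgroup whose underlying set is a TI-subset of G, properly contained in its set normaliser N, with C_G(k) ≤ K for every non-identity k ∈ K; let e be the index of K in N and S the set of irreducible characters χ of N with χ k ≠ χ 1 for some k ∈ K. Then one of: S has exactly one member, Nat.card K = e + 1 and K is an elementary abelian p-group for some prime p; or K is a Sylow 2-subgroup of G (Nat.card K is the largest power of 2 dividing Nat.card G) and [K : [K,K]] < 4e²; or (S, N minus 1, induction to G) is coherent. -/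
theorem result {G : Type*} [Group G] [Fintype G] (K : Subgroup G) (hK1 : K ≠ ⊥) (hnil : Group.IsNilpotent K) (hTI : Cfsg.IsTISubset (K : Set G)) (hlt : K < Subgroup.normalizer (K : Set G)) (hC : ∀ k ∈ K, k ≠ 1 → Subgroup.centralizer ({k} : Set G) ≤ K) [Fintype ↥(Subgroup.normalizer (K : Set G))] : (Nat.card {χ : ↥(Subgroup.normalizer (K : Set G)) → ℂ // Cfsg.IsIrrCharacter ↥(Subgroup.normalizer (K : Set G)) χ ∧ ∃ k : ↥(Subgroup.normalizer (K : Set G)), (k : G) ∈ K ∧ χ k ≠ χ 1} = 1 ∧ Nat.card K = (K.subgroupOf (Subgroup.normalizer (K : Set G))).index + 1 ∧ ∃ p : ℕ, p.Prime ∧ Cfsg.IsElementaryAbelian p K) ∨ (Nat.card K = 2 ^ (Nat.card G).factorization 2 ∧ (⁅K, K⁆.subgroupOf K).index < 4 * (K.subgroupOf (Subgroup.normalizer (K : Set G))).index ^ 2) ∨ Cfsg.IsCoherent {χ : ↥(Subgroup.normalizer (K : Set G)) → ℂ | Cfsg.IsIrrCharacter ↥(Subgroup.normalizer (K : Set G)) χ ∧ ∃ k : ↥(Subgroup.normalizer (K : Set G)), (k : G) ∈ K ∧ χ k ≠ χ 1} {1}ᶜ (fun α => Cfsg.indFun (Subgroup.normalizer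 (K : Set G)) α) := by
  have hTI' := H6.normedTI_of_isTISubset hTI hK1
  have hKL := normalIn_nrm K
  have hc : ∀ x ∈ K, x ≠ 1 → Nrm K ⊓ Cent1 x ≤ K :=
    fun x hx h1 => inf_le_right.trans (hC x hx h1)
  have him := ext_image_not_ker hKL hc le_rfl hKL.2
  have hF : FrobKer K (Nrm K) := ⟨hlt, hK1, le_rfl, hc⟩
  rcases feit_sibley hF hTI' with ⟨h1, h2, h3⟩ | ⟨h1, -, h3⟩ | ⟨h1, h2⟩
  · refine Or.inl ⟨?_, h2, h3⟩
    rw [← h1, ← Set.ncard_coe_finset, ← him, Set.ncard_image_of_injective _ (ext_injective _)]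
    rfl
  · refine Or.inr (Or.inl ⟨?_, h3⟩)
    obtain ⟨m, hm⟩ := h1.isPi.exists_pow Nat.prime_two
    have h4 : ¬ 2 ∣ K.index := by
      have := (pnat_compl_singleton Nat.prime_two).1 h1.idx
      rwa [Subgroup.relIndex_top_right] at this
    rw [← K.card_mul_index, Nat.factorization_mul Nat.card_pos.ne' K.index_ne_zero_of_finite,
      Finsupp.add_apply, Nat.factorization_eq_zero_of_not_dvd h4, add_zero, hm,
      Nat.prime_two.factorization_pow, Finsupp.single_eq_same]
  · exact Or.inr (Or.inr (isCoherent_of_coh_sub h1 him (fun θ => (ind_top_ext _ θ).symm) h2))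

end Cfsg.Agent.S1534
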