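import Cfsg.Statements.S1237
import Cfsg.Agent.H86.R2Main
import Cfsg.Agent.S0520

set_option autoImplicit false
open Cfsg

namespace Cfsg.Agent.S1237

/-- Let T be a finite 2-group of 2-rank exactly 2 (it has a Klein four-subgroup but no elementary abelian subgroup of order 8) admitting an automorphism φ such that any two involutions of T are carried to one another by a power of φ. Then T ≅ Z_{2^n} × Z_{2^n} for some n ≥ 1, or T is isomorphic to a Sylow 2-subgroup of PSU(3) over the field with 16 elements. -/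
theorem result {T : Type*} [Group T] [Finite T] (hT : IsPGroup 2 T) (h2 : Cfsg.PRankLE 2 2 T) (h1 : ¬ Cfsg.PRankLE 2 1 T) (φ : MulAut T) (htrans : ∀ s t : T, orderOf s = 2 → orderOf t = 2 → ∃ k : ℕ, (φ ^ k) s = t) {F : Type*} [Field F] [Fintype F] (hF : Fintype.card F = 16) (P : Sylow 2 (Cfsg.PSU 3 F 4)) : (∃ n : ℕ, 1 ≤ n ∧ Nonempty (T ≃* Multiplicative (ZMod (2 ^ n) × ZMod (2 ^ n)))) ∨ Nonempty (T ≃* (P : Subgroup (Cfsg.PSU 3 F 4))) := by
  open H86 in
  have := charP_two_of_card (n := 4) hF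
  have ho : ∀ x : T, x ≠ 1 → x * x = 1 → orderOf x = 2 := fun x h1 h2 =>
    orderOf_eq_prime ((pow_two x).trans h2) h1
  have ht : ∀ x y : T, x ≠ 1 → x * x = 1 → y ≠ 1 → y * y = 1 → ∃ k : ℕ, (φ ^ k) x = y :=
    fun x y h1 h2 h3 h4 => htrans x y (ho x h1 h2) (ho y h3 h4)
  obtain ⟨V, -, hK⟩ := (Cfsg.Agent.S0520.not_rank_iff (⊤ : Subgroup T)).mp fun h => h1 fun A hA hA' => by
    have := h (A.subgroupOf ⊤) inferInstance fun a ha => Subtype.ext (hA' a ha)
    rwa [Nat.card_congr (Subgroup.subgroupOfEquivOfLe le_top).toEquiv] at this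
  have hV : ∀ x, x ∈ V ↔ x * x = 1 := fun x => ⟨four_sq hK, fun h => mem_four_of_rank h2 hK h
    fun v _ => (comm_of_trans hT ht h v).symm⟩
  rcases r2_cases hT hV hK ht (F := F) hF with ⟨hab, e, hexp, hroot⟩ | ⟨⟨ψ⟩⟩
  · obtain ⟨a, ha, b, hb, ha1, hb1, hne⟩ := four_exists hK
    obtain ⟨x, rfl⟩ := hroot a (four_sq hK ha)
    obtain ⟨y, rfl⟩ := hroot b (four_sq hK hb)
    obtain ⟨-, -, -, ⟨ψ⟩⟩ := homocyclic_basis (U := ⊤) (fun a _ b _ => hab a b)
      (fun a _ => hexp a) (Subgroup.mem_top x) (Subgroup.mem_top y) ha1 hb1 hne fun t _ htt =>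
      (mem_closure_four (four_sq hK ha) (four_sq hK hb) (hab _ _) t).mpr
        ((four_mem_iff hK ha hb ha1 hb1 hne t).mp ((hV t).mpr htt))
    exact Or.inl ⟨e + 1, by omega, ⟨Subgroup.topEquiv.symm.trans ψ⟩⟩
  · obtain ⟨e⟩ := UH.nonempty_equiv_PSU (q := 4) hF P
    exact Or.inr ⟨ψ.symm.trans e⟩

end Cfsg.Agent.S1237
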