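import Cfsg.Statements.S4244
import Cfsg.Agent.Base

set_option autoImplicit false
open Cfsg

namespace Cfsg.Agent.S4244

theorem aux {G : Type*} [Group G] [Finite G] (H : Subgroup G) (hH : H.IsSubnormal) (K : Subgroup G) :
    K.relIndex H ∣ K.index := by
  induction hH with
  | top => simp
  | step H L hle _ hN ih =>
    refine dvd_trans ?_ ih
    have h1 : K.relIndex H = (K.subgroupOf L).relIndex (H.subgroupOf L) := by
      rw [Subgroup.relIndex_subgroupOf hle]
    rw [h1]
    change _ ∣ (K.subgroupOf L).index
    generalize K.subgroupOf L = K'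
    generalize H.subgroupOf L = H' at *
    have h2 : K'.relIndex H' = K'.relIndex (H' ⊔ K') := by
      have a1 := Subgroup.relIndex_sup_right K' H'
      have a2 := Subgroup.relIndex_mul_relIndex (H' ⊓ K') H' (H' ⊔ K') inf_le_left le_sup_left
      have a3 := Subgroup.relIndex_mul_relIndex (H' ⊓ K') K' (H' ⊔ K') inf_le_right le_sup_right
      rw [Subgroup.inf_relIndex_right] at a3
      rw [inf_comm, Subgroup.inf_relIndex_right] at a2
      rw [sup_comm] at a1
      rw [a1, inf_comm, ← a3, mul_comm] at a2
      have : H'.relIndex K' ≠ 0 := Subgroup.index_ne_zero_of_finite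
      exact Nat.eq_of_mul_eq_mul_left (Nat.pos_of_ne_zero this) a2
    rw [h2]
    exact Subgroup.relIndex_dvd_index_of_le le_sup_right

/-- Let H be a subnormal subgroup of a finite group G. Then for every subgroup K of G the index of H ∩ K in H divides the index of K in G. -/
theorem result {G : Type*} [Group G] [Finite G] (H : Subgroup G) (hH : H.IsSubnormal) (K : Subgroup G) :
    (H ⊓ K).relIndex H ∣ K.index := by
  rw [inf_comm, Subgroup.inf_relIndex_right]
  exact aux H hH K

end Cfsg.Agent.S4244
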