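import Cfsg.Statements.S4263
import Cfsg.Agent.Base
import Cfsg.Agent.H2.Fitting
import Cfsg.Agent.S4244

set_option autoImplicit false
open Cfsg

namespace Cfsg.Agent.S4263

theorem pow_index_mem_of_isNilpotent {G : Type*} [Group G] [Finite G] [Group.IsNilpotent G]
    (H : Subgroup G) (x : G) : x ^ H.index ∈ H := by
  induction hn : H.index using Nat.strong_induction_on generalizing H with
  | _ n ih =>
  subst hn
  by_cases hH : H = ⊤
  · subst hH; exact Subgroup.mem_top _
  have hlt : H < Subgroup.normalizer (H : Set G) :=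
    normalizerCondition_of_isNilpotent H (lt_top_iff_ne_top.mpr hH)
  set N := Subgroup.normalizer (H : Set G) with hN
  have hmul : H.relIndex N * N.index = H.index := Subgroup.relIndex_mul_index hlt.le
  have hne : H.relIndex N ≠ 1 := fun h => hlt.not_ge (Subgroup.relIndex_eq_one.mp h)
  have h0 : H.relIndex N ≠ 0 := Subgroup.index_ne_zero_of_finite
  have h0' : N.index ≠ 0 := Subgroup.index_ne_zero_of_finite
  have hlt' : N.index < H.index := by
    rw [← hmul]
    exact lt_mul_of_one_lt_left (Nat.pos_of_ne_zero h0') (by omega)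
  have h1 : x ^ N.index ∈ N := ih _ hlt' N rfl
  have h2 := (H.subgroupOf N).pow_index_mem ⟨_, h1⟩
  rw [Subgroup.mem_subgroupOf] at h2
  rw [← hmul, mul_comm, pow_mul]
  exact h2

/-- Let G be a finite group. An element x lies in the Fitting subgroup F(G) if and only if, for every subgroup H of G, the power x^[G : H] lies in H. -/
theorem result {G : Type*} [Group G] [Finite G] (x : G) :
    x ∈ Cfsg.fittingSubgroup G ↔ ∀ H : Subgroup G, x ^ H.index ∈ H := by
  constructor
  · intro hx H
    obtain ⟨c, hc⟩ := Cfsg.Agent.S4244.aux (fittingSubgroup G) (Subgroup.Normal.isSubnormal inferInstance) H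
    have h2 := pow_index_mem_of_isNilpotent (H.subgroupOf (fittingSubgroup G)) ⟨x, hx⟩
    rw [Subgroup.mem_subgroupOf] at h2
    rw [hc, pow_mul]
    exact H.pow_mem h2 c
  · intro h
    rw [← QuotientGroup.eq_one_iff, ← orderOf_eq_one_iff]
    by_contra hne
    obtain ⟨p, hp, hpd⟩ := Nat.exists_prime_and_dvd hne
    have : Fact p.Prime := ⟨hp⟩
    have hn : orderOf x ≠ 0 := (orderOf_pos x).ne'
    set y := x ^ ordCompl[p] (orderOf x) with hy
    have hyp : y ^ p ^ (orderOf x).factorization p = 1 := by
      rw [hy, ← pow_mul, mul_comm, Nat.ordProj_mul_ordCompl_eq_self, pow_orderOf_eq_one]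
    have hyP : ∀ P : Sylow p G, y ∈ (P : Subgroup G) := by
      intro P
      have h1 : y ^ (P : Subgroup G).index ∈ (P : Subgroup G) := by
        rw [hy, ← pow_mul, mul_comm, pow_mul]
        exact Subgroup.pow_mem _ (h P) _
      have hcop : ((P : Subgroup G).index).Coprime (orderOf y) :=
        Nat.Coprime.of_dvd_right (orderOf_dvd_of_pow_eq_one hyp)
          (Nat.Coprime.pow_right _ ((Nat.Prime.coprime_iff_not_dvd hp).mpr P.not_dvd_index).symm)
      obtain ⟨m, hm⟩ := exists_pow_eq_self_of_coprime hcop
      rw [← hm]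
      exact Subgroup.pow_mem _ h1 _
    have hyF : y ∈ fittingSubgroup G := by
      apply H2.pCore_le_fitting p G
      rw [H2.pCore_eq_iInf_sylow, Subgroup.mem_iInf]
      exact hyP
    have h3 : orderOf (QuotientGroup.mk x : G ⧸ fittingSubgroup G) ∣ ordCompl[p] (orderOf x) := by
      rw [orderOf_dvd_iff_pow_eq_one, ← QuotientGroup.mk_pow, QuotientGroup.eq_one_iff]
      exact hyF
    exact Nat.not_dvd_ordCompl hp hn (hpd.trans h3)

end Cfsg.Agent.S4263
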