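import Cfsg.Statements.S1159
import Cfsg.Agent.H30.ReeRep

set_option autoImplicit false
open Cfsg

namespace Cfsg.Agent.S1159

/-- In the small Ree group ²G₂(q), q = 3^(2m+1) with m ≥ 1, realised as G¹ inside the Chevalley group G₂ over the field with q elements (θ the 3^m-th power map), with `r = 3^(m+1)`: a natural number is the order of an element of `G¹` iff it divides one of `6`, `9`, `q - 1`, `(q + 1)/2`, `q - r + 1`, `q + r + 1`. -/
theorem result {K : Type*} [Field K] [Fintype K] {m : ℕ} (hm : 1 ≤ m) (hK : Fintype.card K = 3 ^ (2 * m + 1)) (d : ℕ) :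
    (∃ g : ↥(Cfsg.Lie.twistedG2 K (3 ^ m)), orderOf g = d) ↔
      (d ∣ 6 ∨ d ∣ 9 ∨ d ∣ 3 ^ (2 * m + 1) - 1 ∨ d ∣ (3 ^ (2 * m + 1) + 1) / 2 ∨
        d ∣ 3 ^ (2 * m + 1) - 3 ^ (m + 1) + 1 ∨ d ∣ 3 ^ (2 * m + 1) + 3 ^ (m + 1) + 1) := by
  have := (H68.simple_G2 hK hm).1
  obtain ⟨A, B, TA, TB⟩ := H30.ree_tori hK hm
  have R := H30.reeG2 hK
  have := R.finite_G
  have h27 := H30.le_three_pow hm
  have hdiv : ∀ {n : ℕ}, 0 < Nat.card {g : ↥(Cfsg.Lie.twistedG2 K (3 ^ m)) // orderOf g = n} →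
      d ∣ n → n ≠ 0 → ∃ g : ↥(Cfsg.Lie.twistedG2 K (3 ^ m)), orderOf g = d := fun h hd h0 => by
    obtain ⟨⟨g, rfl⟩⟩ := (Nat.card_pos_iff.1 h).1
    exact ⟨_, orderOf_pow_orderOf_div h0 hd⟩
  constructor
  · rintro ⟨g, rfl⟩
    rcases R.orderOf_cases hm g with h | h | h | h | h
    · exact Or.inl h
    · exact Or.inr (Or.inl (h ▸ dvd_rfl))
    · exact Or.inr (Or.inr (Or.inl h))
    · exact Or.inr (Or.inr (Or.inr (Or.inl h)))
    · by_cases h1 : orderOf g = 1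
      · exact Or.inl (h1 ▸ one_dvd _)
      obtain ⟨t, ht, h3⟩ := Nat.exists_prime_and_dvd h1
      refine Or.inr (Or.inr (Or.inr (Or.inr ?_)))
      exact (ht.dvd_mul.1 (H30.Ree.a_mul_a (m := m) ▸ h3.trans h)).imp (TA.orderOf_dvd ht h3)
        (TB.orderOf_dvd ht h3)
  · rintro (h | h | h | h | h | h)
    · exact hdiv (R.card_six ▸ Nat.mul_pos (Nat.mul_pos (by positivity) (by omega)) (by positivity))
        h (by decide)
    · exact hdiv (R.card_nine ▸ Nat.mul_pos (Nat.mul_pos (by positivity) (by omega)) (by positivity))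
        h (by decide)
    · have := R.isCyclic_H
      obtain ⟨g, hg⟩ := IsCyclic.exists_ofOrder_eq_natCard (α := R.H)
      rw [R.card_H, ← Subgroup.orderOf_coe] at hg
      exact ⟨_, orderOf_pow_orderOf_div (orderOf_pos (g : ↥(Cfsg.Lie.twistedG2 K (3 ^ m)))).ne' (hg ▸ h)⟩
    · obtain ⟨D⟩ := R.nonempty_NS
      obtain ⟨k, hk⟩ := H30.exists_k m
      have hg : orderOf (R.ψ D.s) = (3 ^ (2 * m + 1) + 1) / 2 := by
        rw [orderOf_injective _ R.ψ_injective, D.ord]; omega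
      exact ⟨_, orderOf_pow_orderOf_div (orderOf_pos (R.ψ D.s)).ne' (hg ▸ h)⟩
    · exact (TA.tor.exists_orderOf h).imp fun _ h => h.2
    · exact (TB.tor.exists_orderOf h).imp fun _ h => h.2

end Cfsg.Agent.S1159
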