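import Cfsg.Statements.S2244
import Cfsg.Agent.Base
import Cfsg.Agent.H67.WeakClosed

set_option autoImplicit false
open Cfsg

namespace Cfsg.Agent.S2244

open Cfsg.Lie H63 H64

theorem wcA_G2 : H67.wcA chevG2 true [(8, (6, 7)), (9, (7, 6)), (10, (7, 6)), (11, (6, 10))] = true := by decide +kernel

theorem wcB_G2 : H67.wcB chevG2 true [[[], [2, 3]], [[1, 2], []]] = true := by decide +kernel

theorem wcA_B2 : H67.wcA chevB2 true [(6, (4, 5)), (7, (5, 4))] = true := by decide +kernel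

theorem wcB_B2 : H67.wcB chevB2 true [[[], [1, 1]], [[1, 2], []]] = true := by decide +kernel

theorem wcA_D4 : H67.wcA chevD4 true [(15, (12, 14)), (16, (13, 14)), (17, (12, 16)), (19, (14, 18)), (20, (12, 19)), (21, (13, 19)), (22, (12, 21)), (23, (14, 22))] = true := by decide +kernel

theorem wcB_D4 : H67.wcB chevD4 true [[[], [0, -1, -2, 0], [1, 0, 0, 0], [1, 0, 0, 0]], [[0, 0, -1, 0], [], [-1, 0, 0, 0], [-1, 0, 0, 0]], [[0, 0, 1, 0], [-2, -1, 0, 0], [], [0, 0, 1, 0]], [[0, 0, 0, 1], [-2, -1, 0, 0], [0, 0, 0, 1], []]] = true := by decide +kernel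

theorem wcA_F4 : H67.wcA chevF4 true [(26, (24, 25)), (28, (25, 27)), (29, (24, 28)), (30, (27, 25)), (31, (24, 30)), (32, (25, 31)), (34, (27, 33)), (35, (25, 34)), (36, (24, 35)), (37, (27, 35)), (38, (24, 37)), (39, (25, 38)), (40, (27, 39)), (41, (33, 30)), (42, (24, 41)), (43, (25, 42)), (44, (27, 43)), (45, (27, 43)), (46, (25, 45)), (47, (24, 46))] = true := by decide +kernel

theorem wcB_F4 : H67.wcB chevF4 true [[[], [0, -1, -2, 0], [0, -1, -1, 0], [0, -1, 0, 0]], [[0, 0, -1, 0], [], [-1, 0, 0, 0], [-1, 0, 0, 0]], [[0, 0, 0, -1], [0, 0, 0, -1], [], [0, 1, 2, 1]], [[0, 0, -1, 0], [1, 0, -1, 0], [0, -1, -1, 0], []]] = true := by decide +kernel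

theorem wcA_E6 : H67.wcA chevE6 false [(38, (36, 37)), (40, (37, 39)), (41, (36, 40)), (43, (39, 42)), (44, (37, 43)), (45, (36, 44)), (47, (39, 46)), (48, (37, 47)), (49, (36, 48)), (50, (42, 47)), (51, (37, 50)), (52, (36, 51)), (53, (39, 51)), (54, (36, 53)), (55, (37, 54)), (57, (42, 56)), (58, (39, 57)), (59, (37, 58)), (60, (36, 59)), (61, (46, 58)), (62, (37, 61)), (63, (36, 62)), (64, (39, 62)), (65, (36, 64)), (66, (37, 65)), (67, (42, 64)), (68, (36, 67)), (69, (37, 68)), (70, (39, 69)), (71, (46, 70))] = true := by decide +kernel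

theorem wcB_E6 : H67.wcB chevE6 false [[[], [0, 0, -1, 0, 0, 0], [0, 0, -1, -2, 0, 0], [0, 1, -1, 0, 0, 0], [0, 0, -1, 0, 0, 0], [0, 0, -1, 0, 0, 0]], [[0, 0, 0, -1, 0, 0], [], [1, 0, 0, -1, 0, 0], [0, 0, -2, -1, 0, 0], [0, 0, 0, -1, 0, 1], [0, 0, 0, -1, 0, 0]], [[0, 0, 0, -1, 0, 0], [-1, 0, 0, 0, 0, 0], [], [-1, 0, 0, 0, 0, 0], [-1, 0, 0, 0, 0, 0], [-1, 0, 0, 0, 0, 0]], [[0, -1, 0, 0, 0, 0], [0, 0, -1, 0, 0, 0], [0, -1, 0, 0, 0, 0], [], [0, -1, 0, 0, 0, 0], [0, -1, 0, 0, 0, 0]], [[0, 0, 0, -1, 0, 0], [0, 0, 0, 0, 0, -1], [0, 0, 0, 0, 0, -1], [0, 0, 0, 0, 0, -1], [], [0, 0, 0, -1, 0, 0]], [[0, 0, 0, 0, -1, 0], [0, 0, 0, 0, -1, 0], [0, 0, 0, 0, -1, 0], [0, 1, 0, 0, -1, 0], [0, 0, 0, -2, -1, 0], []]] = true := by decide +kernel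

theorem wcA_E7 : H67.wcA chevE7 false [(65, (63, 64)), (67, (64, 66)), (68, (63, 67)), (70, (66, 69)), (71, (64, 70)), (72, (63, 71)), (74, (69, 73)), (75, (66, 74)), (76, (64, 75)), (77, (63, 76)), (79, (69, 78)), (80, (66, 79)), (81, (64, 80)), (82, (63, 81)), (83, (73, 79)), (84, (66, 83)), (85, (64, 84)), (86, (63, 85)), (87, (69, 84)), (88, (64, 87)), (89, (63, 88)), (90, (66, 88)), (91, (63, 90)), (92, (64, 91)), (94, (73, 93)), (95, (69, 94)), (96, (66, 95)), (97, (64, 96)), (98, (63, 97)), (99, (78, 95)), (100, (66, 99)), (101, (64, 100)), (102, (63, 101)), (103, (69, 100)), (104, (64, 103)), (105, (63, 104)), (106, (66, 104)), (107, (63, 106)), (108, (64, 107)), (109, (73, 103)), (110, (64, 109)), (111, (63, 110)), (112, (66, 110)), (113, (63, 112)), (114, (64, 113)), (115, (69, 112)), (116, (63, 115)), (117, (64, 116)), (118, (66, 117)), (119, (78, 115)), (120, (63, 119)),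 (121, (64, 120)), (122, (66, 121)), (123, (69, 122)), (124, (73, 123)), (125, (93, 124))] = true := by decide +kernel

theorem wcB_E7 : H67.wcB chevE7 false [[[], [0, 0, -1, 0, 0, 0, 0], [0, 0, -1, -2, 0, 0, 0], [0, 1, -1, 0, 0, 0, 0], [0, 0, -1, 0, 0, 0, 0], [0, 0, -1, 0, 0, 0, 0], [0, 0, -1, 0, 0, 0, 0]], [[0, 0, 0, -1, 0, 0, 0], [], [1, 0, 0, -1, 0, 0, 0], [0, 0, -2, -1, 0, 0, 0], [0, 0, 0, -1, 0, 1, 0], [0, 0, 0, -1, 0, 0, 0], [0, 0, 0, -1, 0, 0, 0]], [[0, 0, 0, -1, 0, 0, 0], [-1, 0, 0, 0, 0, 0, 0], [], [-1, 0, 0, 0, 0, 0, 0], [-1, 0, 0, 0, 0, 0, 0], [-1, 0, 0, 0, 0, 0, 0], [-1, 0, 0, 0, 0, 0, 0]], [[0, -1, 0, 0, 0, 0, 0], [0, 0, -1, 0, 0, 0, 0], [0, -1, 0, 0, 0, 0, 0], [], [0, -1, 0, 0, 0, 0, 0], [0, -1, 0, 0, 0, 0, 0], [0, -1, 0, 0, 0, 0, 0]], [[0, 0, 0, -1, 0, 0, 0], [0, 0, 0, 0, 0, -1, 0], [0, 0, 0, 0, 0, -1, 0], [0, 0, 0, 0, 0, -1, 0], [], [0, 0, 0, -1, 0, 0, 0], [0, 0, 0, -1,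 0, 0, 0]], [[0, 0, 0, 0, -1, 0, 0], [0, 0, 0, 0, -1, 0, 0], [0, 0, 0, 0, -1, 0, 0], [0, 0, 0, 0, 0, 0, -1], [0, 0, 0, 0, 0, 0, -1], [], [0, 0, 0, 0, -1, 0, 0]], [[0, 0, 0, 0, 0, -1, 0], [0, 0, 0, 0, 0, -1, 0], [0, 0, 0, 0, 0, -1, 0], [0, 0, 0, 0, 0, -1, 0], [0, 0, 0, 1, 0, -1, 0], [0, 0, 0, 0, -2, -1, 0], []]] = true := by decide +kernel

theorem wcA_E8 : H67.wcA chevE8 false [(122, (120, 121)), (124, (121, 123)), (125, (120, 124)), (127, (123, 126)), (128, (121, 127)), (129, (120, 128)), (131, (126, 130)), (132, (123, 131)), (133, (121, 132)), (134, (120, 133)), (136, (130, 135)), (137, (126, 136)), (138, (123, 137)), (139, (121, 138)), (140, (120, 139)), (142, (130, 141)), (143, (126, 142)), (144, (123, 143)), (145, (121, 144)), (146, (120, 145)), (147, (135, 142)), (148, (126, 147)), (149, (123, 148)), (150, (121, 149)), (151, (120, 150)), (152, (130, 148)), (153, (123, 152)), (154,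 (121, 153)), (155, (120, 154)), (156, (126, 153)), (157, (121, 156)), (158, (120, 157)), (159, (123, 157)), (160, (120, 159)), (161, (121, 160)), (163, (135, 162)), (164, (130, 163)), (165, (126, 164)), (166, (123, 165)), (167, (121, 166)), (168, (120, 167)), (169, (141, 164)), (170, (126, 169)), (171, (123, 170)), (172, (121, 171)), (173, (120, 172)), (174, (130, 170)), (175, (123, 174)), (176, (121, 175)), (177, (120, 176)), (178, (126, 175)), (179, (121, 178)), (180, (120, 179)), (181, (123, 179)), (182, (120, 181)), (183, (121, 182)), (184, (135, 174)), (185, (123, 184)), (186, (121, 185)), (187, (120, 186)), (188, (126, 185)), (189, (121, 188)), (190, (120, 189)), (191, (123, 189)), (192, (120, 191)), (193, (121, 192)), (194, (130, 188)), (195, (121, 194)), (196, (120, 195)), (197, (123, 195)), (198, (120, 197)), (199, (121, 198)), (200, (126, 197)), (201, (120, 200)), (202, (121,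 201)), (203, (123, 202)), (204, (141, 194)), (205, (121, 204)), (206, (120, 205)), (207, (123, 205)), (208, (120, 207)), (209, (121, 208)), (210, (126, 207)), (211, (120, 210)), (212, (121, 211)), (213, (123, 212)), (214, (130, 210)), (215, (120, 214)), (216, (121, 215)), (217, (123, 216)), (218, (126, 217)), (219, (135, 214)), (220, (120, 219)), (221, (121, 220)), (222, (123, 221)), (223, (126, 222)), (224, (130, 223)), (225, (141, 224)), (226, (162, 219)), (227, (120, 226)), (228, (121, 227)), (229, (123, 228)), (230, (126, 229)), (231, (130, 230)), (232, (135, 231)), (233, (141, 231)), (234, (135, 233)), (235, (130, 234)), (236, (126, 235)), (237, (123, 236)), (238, (121, 237)), (239, (120, 238))] = true := by decide +kernel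

theorem wcB_E8 : H67.wcB chevE8 false [[[], [0, 0, -1, 0, 0, 0, 0, 0], [0, 0, -1, -2, 0, 0, 0, 0], [0, 1, -1, 0, 0, 0, 0, 0], [0, 0, -1, 0, 0, 0, 0, 0], [0, 0, -1, 0, 0, 0, 0, 0], [0, 0, -1, 0, 0, 0, 0, 0], [0, 0, -1, 0, 0, 0, 0, 0]], [[0, 0, 0, -1, 0, 0, 0, 0], [], [1, 0, 0, -1, 0, 0, 0, 0], [0, 0, -2, -1, 0, 0, 0, 0], [0, 0, 0, -1, 0, 1, 0, 0], [0, 0, 0, -1, 0, 0, 0, 0], [0, 0, 0, -1, 0, 0, 0, 0], [0, 0, 0, -1, 0, 0, 0, 0]], [[0, 0, 0, -1, 0, 0, 0, 0], [-1, 0, 0, 0, 0, 0, 0, 0], [], [-1, 0, 0, 0, 0, 0, 0, 0], [-1, 0, 0, 0, 0, 0, 0, 0], [-1, 0, 0, 0, 0, 0, 0, 0], [-1, 0, 0, 0, 0, 0, 0, 0], [-1, 0, 0, 0, 0, 0, 0, 0]], [[0, -1, 0, 0, 0, 0, 0, 0], [0, 0, -1, 0, 0, 0, 0, 0], [0, -1, 0, 0, 0, 0, 0, 0], [], [0, -1, 0, 0, 0, 0, 0, 0], [0, -1, 0, 0, 0, 0, 0, 0], [0, -1, 0, 0, 0, 0, 0, 0], [0, -1, 0, 0, 0, 0, 0, 0]], [[0, 0, 0, -1, 0, 0, 0, 0], [0, 0, 0, 0, 0, -1, 0, 0], [0, 0, 0, 0, 0, -1,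 0, 0], [0, 0, 0, 0, 0, -1, 0, 0], [], [0, 0, 0, -1, 0, 0, 0, 0], [0, 0, 0, -1, 0, 0, 0, 0], [0, 0, 0, -1, 0, 0, 0, 0]], [[0, 0, 0, 0, -1, 0, 0, 0], [0, 0, 0, 0, -1, 0, 0, 0], [0, 0, 0, 0, -1, 0, 0, 0], [0, 0, 0, 0, 0, 0, -1, 0], [0, 0, 0, 0, 0, 0, -1, 0], [], [0, 0, 0, 0, -1, 0, 0, 0], [0, 0, 0, 0, -1, 0, 0, 0]], [[0, 0, 0, 0, 0, -1, 0, 0], [0, 0, 0, 0, 0, -1, 0, 0], [0, 0, 0, 0, 0, -1, 0, 0], [0, 0, 0, 0, 0, -1, 0, 0], [0, 0, 0, 0, 0, 0, 0, -1], [0, 0, 0, 0, 0, 0, 0, -1], [], [0, 0, 0, 0, 0, -1, 0, 0]], [[0, 0, 0, 0, 0, 0, -1, 0], [0, 0, 0, 0, 0, 0, -1, 0], [0, 0, 0, 0, 0, 0, -1, 0], [0, 0, 0, 0, 0, 0, -1, 0], [0, 0, 0, 0, 0, 0, -1, 0], [0, 0, 0, 0, 1, 0, -1, 0], [0, 0, 0, 0, 0, -2, -1, 0], []]] = true := by decide +kernel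

theorem main {F : Type*} [Field F] [Fintype F] (D : Cfsg.Lie.ChevalleyDatum) [RS D] [H65.Tab D]
    (h : MatOK D F) {big : Bool} {L : List (ℕ × ℕ × ℕ)} (hA : H67.wcA D big L = true)
    {L' : List (List (List ℤ))} (hB : H67.wcB D big L' = true)
    (h2 : Fintype.card F ≠ 2) (h3 : big = true → Fintype.card F ≠ 3)
    (X : Subgroup (GL D.Idx F)) (hXU : X ≤ D.posUnipotent F)
    (hwc : ∀ g ∈ D.group F, X.map (MulAut.conj g).toMonoidHom ≤ D.posUnipotent F →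
      X.map (MulAut.conj g).toMonoidHom = X) :
    ∃ J : Set ℕ, (∀ j ∈ J, j < D.rank) ∧ X = D.unipotentRadical F J := by
  classical
  have hc : 1 < Fintype.card F := Fintype.one_lt_card
  have key : ∀ S : Finset F, S.card < Fintype.card F → ∃ a, a ∉ S := fun S hS => by
    by_contra! e
    rw [Finset.eq_univ_of_forall e, Finset.card_univ] at hS
    exact lt_irrefl _ hS
  obtain ⟨a, ha⟩ := key {0, 1} (lt_of_le_of_lt Finset.card_le_two (by omega))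
  simp only [Finset.mem_insert, Finset.mem_singleton, not_or] at ha
  rw [h.U_eq] at hXU hwc
  rw [h.G_eq] at hwc
  obtain ⟨J, hJ⟩ := H67.weakly_closed h.stB
    (fun d => ⟨tor D F d, h.tor_range ▸ ⟨d, rfl⟩, h.tor_conj d⟩) hA hB ⟨a, ha⟩ (fun hb => by
      obtain ⟨b, hb⟩ := key {0, 1, a} (lt_of_le_of_lt Finset.card_le_three (by
        have := h3 hb; omega))
      simp only [Finset.mem_insert, Finset.mem_singleton, not_or] at hb
      exact ⟨a, b, ha.1, ha.2, hb.1, hb.2.1, Ne.symm hb.2.2⟩) hXU hwc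
  refine ⟨Fin.val '' J, ?_, ?_⟩
  · rintro _ ⟨j, -, rfl⟩; exact j.2
  · rw [h.UJ_eq, show nodes D (Fin.val '' J) = J by ext i; simp [nodes, Fin.val_inj]]
    exact hJ

/-- Weakly closed unipotent subgroups of Chevalley groups: let G be the Chevalley group of type G₂, B₂, D₄, F₄, E₆, E₇ or E₈ over a finite field F (the matrix group generated by the root elements), with |F| ≠ 2, and |F| ≠ 3 as well for the types G₂, B₂, D₄, F₄. Let U be the subgroup generated by the positive root subgroups. If X ≤ U is weakly closed in U with respect to G (every G-conjugate of X lying in U equals X), then X is the unipotent radical U_J of a standard parabolic subgroup for some set J of fundamental roots. -/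
theorem result {F : Type*} [Field F] [Fintype F] (D : Cfsg.Lie.ChevalleyDatum) (hD : D ∈ [Cfsg.Lie.chevG2, Cfsg.Lie.chevB2, Cfsg.Lie.chevD4, Cfsg.Lie.chevF4, Cfsg.Lie.chevE6, Cfsg.Lie.chevE7, Cfsg.Lie.chevE8])
    (h2 : Fintype.card F ≠ 2) (h3 : D ∈ [Cfsg.Lie.chevG2, Cfsg.Lie.chevB2, Cfsg.Lie.chevD4, Cfsg.Lie.chevF4] → Fintype.card F ≠ 3)
    (X : Subgroup (GL D.Idx F)) (hXU : X ≤ D.posUnipotent F)
    (hwc : ∀ g ∈ D.group F, X.map (MulAut.conj g).toMonoidHom ≤ D.posUnipotent F → X.map (MulAut.conj g).toMonoidHom = X) :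
    ∃ J : Set ℕ, (∀ j ∈ J, j < D.rank) ∧ X = D.unipotentRadical F J := by
  obtain ⟨_, _, h⟩ := H64.matOK_of_mem hD F
  simp only [List.mem_cons, List.not_mem_nil, or_false] at hD
  rcases hD with rfl | rfl | rfl | rfl | rfl | rfl | rfl
  · exact main _ h wcA_G2 wcB_G2 h2 (fun _ => h3 (by simp)) X hXU hwc
  · exact main _ h wcA_B2 wcB_B2 h2 (fun _ => h3 (by simp)) X hXU hwc
  · exact main _ h wcA_D4 wcB_D4 h2 (fun _ => h3 (by simp)) X hXU hwc
  · exact main _ h wcA_F4 wcB_F4 h2 (fun _ => h3 (by simp)) X hXU hwc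
  · exact main _ h wcA_E6 wcB_E6 h2 (by simp) X hXU hwc
  · exact main _ h wcA_E7 wcB_E7 h2 (by simp) X hXU hwc
  · exact main _ h wcA_E8 wcB_E8 h2 (by simp) X hXU hwc

end Cfsg.Agent.S2244
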