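import Cfsg.Agent.Base
import Cfsg.Agent.H89.Derange
import Cfsg.Statements.S3549

set_option autoImplicit false
open Cfsg

namespace Cfsg.Agent.S3549

open MulAction

/-- Let G act faithfully, transitively but imprimitively on a finite set with n points, and let D be the subgroup generated by the derangements. Then the index of D in G is at most √n − 1. -/
theorem result {G Ω : Type*} [Group G] [Finite G] [MulAction G Ω] [FaithfulSMul G Ω] [Finite Ω]
    (htrans : MulAction.IsPretransitive G Ω) (himp : ¬ MulAction.IsPreprimitive G Ω) :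
    ((Subgroup.closure {g : G | ∀ ω : Ω, g • ω ≠ ω}).index : ℝ) ≤ Real.sqrt (Nat.card Ω) - 1 := by
  set D := Subgroup.closure {g : G | ∀ ω : Ω, g • ω ≠ ω}
  have hD : ∀ g : G, (∀ ω : Ω, g • ω ≠ ω) → g ∈ D := fun g hg => Subgroup.subset_closure hg
  have : D.Normal := H89.normal_closure_derangements
  have : Nontrivial Ω := by
    by_contra h
    rw [not_nontrivial_iff_subsingleton] at h
    exact himp IsPreprimitive.of_subsingleton
  obtain ⟨a, b, hab⟩ := exists_pair_ne Ω
  rw [← isCoatom_stabilizer_iff_preprimitive G a, IsCoatom, not_and] at himp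
  obtain ⟨g, hg⟩ := exists_smul_eq G a b
  have h1 := himp fun h => hab (by
    rw [← hg]; exact (show g ∈ stabilizer G a from h ▸ Subgroup.mem_top g).symm)
  push Not at h1
  obtain ⟨M, hM, hMt⟩ := h1
  have h2 : D.index ∣ (orbit M a).ncard - 1 := H89.index_dvd_ncard_sub_one D hD
    (mem_orbit_self a) fun k hk x hx => mem_orbit_of_mem_orbit (⟨k, hM.le hk⟩ : M) hx
  have h3 : D.index ∣ M.index - 1 := by
    rw [M.index_eq_card, ← Set.ncard_univ (G ⧸ M)]
    refine H89.index_dvd_ncard_sub_one (Ω := G ⧸ M) D (fun k hk => hD k fun ω hω => ?_)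
      (Set.mem_univ ((1 : G) : G ⧸ M)) fun _ _ _ _ => Set.mem_univ _
    obtain ⟨x, rfl⟩ := exists_smul_eq G a ω
    refine hk (x : G ⧸ M) ?_
    change ((k * x : G) : G ⧸ M) = x
    rw [eq_comm, QuotientGroup.eq]
    apply hM.le
    rw [mem_stabilizer_iff, mul_smul, mul_smul, hω, inv_smul_smul]
  have h4 : (orbit M a).ncard * M.index = Nat.card Ω := by
    rw [← index_stabilizer, ← index_stabilizer_of_transitive G a]
    exact Subgroup.relIndex_mul_index (H := stabilizer G a) hM.le
  have h5 : 1 < (orbit M a).ncard := by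
    obtain ⟨x, hx, hx'⟩ := SetLike.exists_of_lt hM
    exact (Set.one_lt_ncard_iff (s := orbit M a)).2
      ⟨_, _, mem_orbit a (⟨x, hx⟩ : M), mem_orbit_self a, hx'⟩
  have h6 : 1 < M.index := Subgroup.one_lt_index_of_ne_top hMt
  have h7 := Nat.le_of_dvd (by omega) h2
  have h8 := Nat.le_of_dvd (by omega) h3
  rw [le_sub_iff_add_le]
  apply Real.le_sqrt_of_sq_le
  have : (D.index + 1) ^ 2 ≤ Nat.card Ω := by
    rw [← h4, sq]
    exact Nat.mul_le_mul (by omega) (by omega)
  exact_mod_cast this

end Cfsg.Agent.S3549
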