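import Cfsg.Statements.S3550
import Cfsg.Agent.H70.DerQ

set_option autoImplicit false
open Cfsg

namespace Cfsg.Agent.S3550

/-- Let G act faithfully and primitively on a finite set with n ≥ 2 points and suppose G has no non-trivial abelian normal subgroup (G is not of affine type). Let D be the subgroup generated by the derangements. Then the index of D in G is at most √n − 1. -/
theorem result {G Ω : Type*} [Group G] [Finite G] [MulAction G Ω] [FaithfulSMul G Ω] [Finite Ω]
    (hprim : MulAction.IsPreprimitive G Ω) (hΩ : 2 ≤ Nat.card Ω) (hna : ∀ N : Subgroup G, N.Normal → IsMulCommutative ↥N → N = ⊥) :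
    ((Subgroup.closure {g : G | ∀ ω : Ω, g • ω ≠ ω}).index : ℝ) ≤ Real.sqrt (Nat.card Ω) - 1 := by
  set D := Subgroup.closure {g : G | ∀ ω : Ω, g • ω ≠ ω}
  have : D.Normal := H89.normal_closure_derangements
  obtain ⟨h1, h2⟩ := H89.transitive_of_derangements_mem (Ω := Ω) D
    fun g hg => Subgroup.subset_closure hg
  have c : H70.Der.PC Ω D := ⟨h1, fun g a b ha hb h => by
    by_contra hg
    exact h (H89.eq_of_card_fixedBy_eq_one (h2 g hg) ha hb)⟩
  rw [le_sub_iff_add_le]
  apply Real.le_sqrt_of_sq_le
  exact_mod_cast c.main hΩ hna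

end Cfsg.Agent.S3550
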