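import Cfsg.Statements.S4396
import Cfsg.Agent.H30.FrobFree
import Cfsg.Agent.H5.FrobThm
import Cfsg.Agent.H90.PermMod
import Cfsg.Agent.H2.Fitting

set_option autoImplicit false
open Cfsg

namespace Cfsg.Agent.S4396

open Module

theorem exB {k V A : Type*} [Field k] [AddCommGroup V] [Module k V] [Group A] [Finite A]
    (ρ : Representation k A V) (Fk : Subgroup A) [Fk.Normal] (hnil : Group.IsNilpotent ↥Fk)
    (hCF : ∀ v : V, (∀ f ∈ Fk, ρ f v = v) → v = 0) :
    ∃ B : Subgroup A, B ≤ Fk ∧ B.Normal ∧ (Nat.card B : k) ≠ 0 ∧ H22.fixSp ρ B = ⊥ := by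
  obtain ⟨p, hp⟩ := CharP.exists k
  rcases CharP.char_is_prime_or_zero k p with h | rfl
  · haveI := Fact.mk h
    haveI := H2.pPrimeCore_characteristic p Fk
    refine ⟨(pPrimeCore p Fk).map Fk.subtype, Subgroup.map_subtype_le _, inferInstance, ?_, by_contra fun hne => ?_⟩
    · rw [Subgroup.card_subtype, Ne, CharP.cast_eq_zero_iff k p]
      exact h.coprime_iff_not_dvd.1 (H2.coprime_card_pPrimeCore p Fk).symm
    · obtain ⟨v, h1, h2, h3⟩ := H90.exists_fixed_of_isPGroup (H2.pCore_isPGroup p Fk)
        (ρ.comp (Fk.subtype.comp (pCore p Fk).subtype)) _ hne fun g w hw b hb => by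
          have := hw _ (Subgroup.Normal.conj_mem inferInstance b hb (g.1.1 : A)⁻¹)
          conv_rhs => rw [← this]
          simp [← Module.End.mul_apply, ← map_mul, mul_assoc]
      refine h2 (hCF v fun f hf => ?_)
      have : (⟨f, hf⟩ : Fk) ∈ pCore p Fk ⊔ pPrimeCore p Fk := (H2.pCore_sup_pPrimeCore_eq_top (G := Fk) p).ge (Subgroup.mem_top _)
      obtain ⟨a, ha, b, hb, e⟩ := Subgroup.mem_sup_of_normal_right.1 this
      rw [show f = a * b from (congrArg Subtype.val e).symm, map_mul, Module.End.mul_apply, h1 b ⟨b, hb, rfl⟩]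
      exact h3 ⟨a, ha⟩
  · haveI := CharP.charP_to_charZero k
    exact ⟨Fk, le_rfl, inferInstance, Nat.cast_ne_zero.2 Nat.card_pos.ne', eq_bot_iff.2 hCF⟩

/-- Let the finite group A act faithfully and linearly on a finite-dimensional vector space V over a field k, and suppose A is a Frobenius group with nilpotent kernel F (every Frobenius kernel is nilpotent) and complement H such that F fixes no nonzero vector. Then V is free as a module for H: there is a subspace W with V the direct sum of the translates hW, h ∈ H. (No assumption on the characteristic of k.) -/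
theorem result {k V A : Type*} [Field k] [AddCommGroup V] [Module k V] [FiniteDimensional k V] [Group A] [Finite A] [DecidableEq A]
    (ρ : Representation k A V) (hρ : Function.Injective ρ)
    (Fk Hc : Subgroup A) [Fk.Normal] (hHc : Cfsg.IsFrobeniusComplement Hc) (hker : Cfsg.frobeniusKernel Hc = (Fk : Set A)) (hnil : Group.IsNilpotent ↥Fk)
    (hCF : ∀ v : V, (∀ f ∈ Fk, ρ f v = v) → v = 0) :
    ∃ W : Submodule k V, DirectSum.IsInternal (fun h : ↥Hc => W.map (ρ (h : A))) := by
  obtain ⟨B, hB, _, hc, h0⟩ := exB ρ Fk hnil hCF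
  haveI : Group.IsSolvable B := solvable_of_solvable_injective (Subgroup.inclusion_injective hB)
  haveI := Fintype.ofFinite B
  haveI := Fintype.ofFinite Hc
  have hs : ∀ e ∈ Hc, e ≠ 1 → ∀ b ∈ B, e * b = b * e → b = 1 := fun e he h1 b hb h =>
    H5.frob_eq_one_of_commute hHc he h1 (hker ▸ hB hb) h
  have hco : Hc.IsComplement' Fk := by
    have : H5.frobKer hHc = Fk := Subgroup.ext fun x => by rw [H5.mem_frobKer, hker]; rfl
    exact (this ▸ H5.frobKer_isComplement' hHc).symm
  let π : A →* Hc := hco.QuotientMulEquiv.toMonoidHom.comp (QuotientGroup.mk' Fk)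
  have p1 : ∀ h : Hc, π h = h := fun h => hco.QuotientMulEquiv.apply_symm_apply h
  have p2 : ∀ b ∈ B, π b = 1 := fun b hb =>
    (congrArg hco.QuotientMulEquiv ((QuotientGroup.eq_one_iff b).2 (hB hb))).trans (map_one _)
  obtain ⟨m, hm, -⟩ := H30.FF.num Hc B hc hs ρ h0
  let σ : Representation k Hc V := ρ.comp Hc.subtype
  obtain ⟨v, hv⟩ := H30.FF.gen (k := k) (R := MonoidAlgebra k Hc) (V := σ.asModule) m fun S _ _ _ _ _ => by
    let τ : Representation k A S := (Representation.ofModule' S).comp π
    obtain ⟨n, h1, h2⟩ := H30.FF.num Hc B hc hs (ρ.linHom τ) (eq_bot_iff.2 fun φ hφ => LinearMap.ext fun w => by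
      have e := H30.FF.sum_fix ρ B w
      rw [h0, Submodule.mem_bot] at e
      have : ∀ b : B, φ (ρ b w) = φ w := fun b => by
        simpa [τ, p2 _ (inv_mem b.2)] using LinearMap.congr_fun (hφ _ (inv_mem b.2)) w
      have e2 := congrArg φ e
      rw [map_sum, Finset.sum_congr rfl fun b _ => this b, map_zero, Finset.sum_const, Finset.card_univ,
        ← Nat.card_eq_fintype_card, ← Nat.cast_smul_eq_nsmul k] at e2
      exact (smul_eq_zero.1 e2).resolve_left hc)
    rw [Module.finrank_linearMap, hm, mul_assoc] at h1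
    rw [Nat.eq_of_mul_eq_mul_left Nat.card_pos h1]
    let Φ : (σ.asModule →ₗ[MonoidAlgebra k Hc] S) →ₗ[k] H22.fixSp (ρ.linHom τ) Hc :=
      { toFun := fun g => ⟨g.restrictScalars k ∘ₗ σ.asModuleEquiv.symm.toLinearMap, fun e he => LinearMap.ext fun w => by
          have : σ ⟨e, he⟩ (ρ e⁻¹ w) = w := H5.rep_apply_inv ρ e w
          simp [τ, p1 ⟨e, he⟩, Representation.ofModule', ← map_smul]
          exact congrArg g this⟩
        map_add' := fun _ _ => rfl, map_smul' := fun _ _ => rfl }
    exact (LinearMap.finrank_le_finrank_of_injective (f := Φ) fun a b e =>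
      LinearMap.ext fun x => LinearMap.congr_fun (congrArg Subtype.val e) x).trans h2
  let W : Submodule k V := Submodule.span k (Set.range fun i => σ.asModuleEquiv (v i))
  have hW : finrank k W ≤ m := (finrank_range_le_card (R := k) fun i => σ.asModuleEquiv (v i)).trans_eq (Fintype.card_fin m)
  have ht : ⨆ h : Hc, W.map (ρ h) = ⊤ := by
    refine eq_top_iff.2 fun x _ => ?_
    obtain ⟨c, rfl⟩ := (Submodule.mem_span_range_iff_exists_fun _).1 (hv.ge (Submodule.mem_top (x := σ.asModuleEquiv.symm x)))
      |>.imp fun c h => (congrArg σ.asModuleEquiv h).trans (σ.asModuleEquiv.apply_symm_apply x)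
    rw [map_sum]
    refine Submodule.sum_mem _ fun i _ => ?_
    rw [Representation.asModuleEquiv_map_smul]
    induction c i using MonoidAlgebra.induction_linear with
    | zero => simp
    | add a b ha hb => rw [map_add]; exact add_mem ha hb
    | single g r =>
      rw [Representation.asAlgebraHom_single]
      exact Submodule.smul_mem _ r (Submodule.mem_iSup_of_mem g ⟨_, Submodule.subset_span ⟨i, rfl⟩, rfl⟩)
  have su : Function.Surjective (DirectSum.coeLinearMap fun h : Hc => W.map (ρ h)) := by
    rw [← LinearMap.range_eq_top, DirectSum.range_coeLinearMap, ht]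
  refine ⟨W, (LinearMap.injective_iff_surjective_of_finrank_eq_finrank
    (f := DirectSum.coeLinearMap fun h : Hc => W.map (ρ h)) (le_antisymm ?_
      (LinearMap.finrank_le_finrank_of_surjective su))).2 su, su⟩
  rw [Module.finrank_directSum, hm, Nat.card_eq_fintype_card, ← smul_eq_mul, ← Finset.card_univ]
  exact Finset.sum_le_card_nsmul _ _ _ fun h _ => (Submodule.finrank_map_le _ _).trans hW

end Cfsg.Agent.S4396
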