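import Cfsg.Statements.S4706
import Cfsg.Agent.Base
import Cfsg.Agent.H45.BrPerm
import Cfsg.Agent.S0676
import Cfsg.Agent.S4702
import Cfsg.Agent.S1013

set_option autoImplicit false
open Cfsg

namespace Cfsg.Agent.S4706

/-- Let p > 2 be a prime and G a permutation group on p letters whose Sylow p-subgroup P has normalizer of order 2p. Then either P is normal in G, or p − 1 = 2^a for some a and G is isomorphic to SL(2, 2^a). -/
theorem result {α : Type*} [Fintype α] [DecidableEq α] {p : ℕ} [Fact p.Prime] (hp : 2 < p) (hα : Fintype.card α = p) (G : Subgroup (Equiv.Perm α)) (P : Sylow p G) (hN : Nat.card (Subgroup.normalizer ((P : Subgroup G) : Set G)) = 2 * p) : (P : Subgroup G).Normal ∨ ∃ (a : ℕ) (F : Type) (_ : Field F) (_ : Fintype F), p = 2 ^ a + 1 ∧ Fintype.card F = 2 ^ a ∧ Nonempty (G ≃* Matrix.SpecialLinearGroup (Fin 2) F) := by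
  have hpp : p.Prime := Fact.out
  have hα' : Nat.card α = p := by rw [Nat.card_eq_fintype_card, hα]
  by_cases hn : (P : Subgroup G).Normal
  · exact Or.inl hn
  right
  have hP : Nat.card (P : Subgroup G) = p := by
    obtain ⟨k, hk⟩ := P.isPGroup'.exists_card_eq
    have h1 : Nat.card (P : Subgroup G) ∣ 2 * p :=
      hN ▸ Subgroup.card_dvd_of_le Subgroup.le_normalizer
    rw [hk] at h1 ⊢
    rcases k with _ | _ | k
    · exact absurd (by rw [Subgroup.card_eq_one.1 (hk.trans (pow_zero p))]; infer_instance) hn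
    · simp
    · exfalso
      have h2 : p * p ∣ 2 * p := (Dvd.intro (p ^ k) (by ring)).trans h1
      have := Nat.le_of_dvd two_pos (Nat.dvd_of_mul_dvd_mul_right hpp.pos h2)
      omega
  obtain ⟨x, hx, hx1⟩ := H87.exists_ne_one_mem_prime hP
  have hox := H87.orderOf_eq_of_mem_prime hP hx hx1
  have : MulAction.IsPretransitive G α := by
    obtain ⟨a, ha⟩ : ∃ a, x • a ≠ a := by
      by_contra! h
      exact hx1 (eq_of_smul_eq_smul (α := α) fun a => by rw [h, one_smul])
    obtain ⟨e, -, he⟩ := H90.exists_coord hα' (hox ▸ pow_orderOf_eq_one x) ha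
    refine ⟨fun a b => ?_⟩
    obtain ⟨i, rfl⟩ := e.surjective a
    obtain ⟨j, rfl⟩ := e.surjective b
    exact ⟨x ^ (j - i).val, by rw [H90.coord_pow he, ZMod.natCast_zmod_val, add_sub_cancel]⟩
  have hs : IsSimpleGroup G := by
    refine Cfsg.Agent.S1013.result hα G P ?_ ?_
    · by_contra h
      have : Subsingleton (Sylow p G) := by
        rw [← Finite.card_le_one_iff_subsingleton]; omega
      exact hn (Sylow.normal_of_subsingleton P)
    · have h1 := ((P : Subgroup G).subgroupOf
        (Subgroup.normalizer ((P : Subgroup G) : Set G))).index_mul_card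
      rw [Nat.card_congr (Subgroup.subgroupOfEquivOfLe Subgroup.le_normalizer).toEquiv, hP,
        hN] at h1
      rw [Nat.eq_of_mul_eq_mul_right hpp.pos h1]
      exact Nat.prime_two
  have hns : ¬ Group.IsSolvable G := fun h => by
    have := IsSimpleGroup.comm_iff_isSolvable.2 h
    exact hn ⟨fun n hn g => by rw [this g n, mul_inv_cancel_right]; exact hn⟩
  have h3 := Cfsg.Agent.S0676.result hα G hns P (hN ▸ even_two_mul p)
  obtain ⟨a, -, h1, F, _, _, h2, h4⟩ := Cfsg.Agent.S4702.result (by omega)
    (hα ▸ hpp.odd_of_ne_two (by omega)) G h3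
    (H45.sharp_of_normalizer_two_p hp hα' h3 P hP hN)
  exact ⟨a, F, inferInstance, inferInstance, hα ▸ h1, h2, h4⟩

end Cfsg.Agent.S4706
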