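import Cfsg.Statements.S5185
import Cfsg.Agent.H9.EssMeta

set_option autoImplicit false
universe u
open Cfsg

namespace Cfsg.Agent.S5185

/-- Let F be a saturated fusion system over a finite p-group S and H an essential subgroup of order p². Then H is elementary abelian (isomorphic to C_p × C_p) and its F-automorphism group contains a subgroup isomorphic to SL(2,p). -/
theorem result {Ω : Type u} [Group Ω] {S : Subgroup Ω} [Finite S] (p : ℕ) [Fact p.Prime] (hS : IsPGroup p S)
    (F : Cfsg.FusionSystem S) (hF : F.IsSaturated p) (H : Subgroup Ω) (hH : F.IsEssential p H) (hcard : Nat.card H = p ^ 2) :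
    Cfsg.IsElementaryAbelian p H ∧
      ∃ K : Subgroup ↥(F.autGroup H), Nonempty (↥K ≃* Matrix.SpecialLinearGroup (Fin 2) (ZMod p)) := by
  open H9 H92 Cfsg.FusionSystem Subgroup in
  have := finite_of_le hH.1.1
  have hHp := hS.to_le hH.1.1
  obtain ⟨x, hx, hxE, -⟩ := exists_normalizes_pow_mem_top hS (essential_lt hS hF hH)
  obtain ⟨π, D⟩ := exists_sl2_phi hS (centralizerIn_le_of_centric hH.1) (essential_radical hS hF hH)
    le_rfl (fun α _ y hy => af_mem α hy)
    (hcard ▸ Nat.le_of_dvd Nat.card_pos (frattini H).index_dvd_card) hx hxE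
    fun y hy => H.mul_mem (H.inv_mem hy) (conj_mem_of_normalizerIn hx hy)
  have h1 := D.coord.relIndex
  rw [relIndex_phi, H27.card_fin_zmod, ← hcard] at h1
  have h2 : frattini H = ⊥ := by
    have h3 := (frattini H).card_mul_index
    rw [h1] at h3
    exact card_eq_one.mp ((Nat.mul_eq_right Nat.card_pos.ne').mp h3)
  have h3 : phi H = ⊥ := by rw [phi, h2, Subgroup.map_bot]
  refine ⟨⟨isMulCommutative_iff_forall.mpr fun a ha b hb =>
    commutatorElement_eq_one_iff_mul_comm.mp (mem_bot.mp (h3 ▸ commutator_mem_phi hHp ha hb)),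
    fun a ha => mem_bot.mp (h3 ▸ pow_mem_phi hHp ha)⟩, ?_⟩
  choose g hg _ _ e using D.surj
  have hinj : ∀ y ∈ H, ∀ z ∈ H, π y = π z → y = z := fun y hy z hz h =>
    inv_mul_eq_one.mp (mem_bot.mp (h3 ▸ (D.coord.eq_iff hy hz).mp h))
  let φ : Matrix.SpecialLinearGroup (Fin 2) (ZMod p) →* F.autGroup H :=
    MonoidHom.mk' (fun m => ⟨g m, hg m⟩) fun m m' => Subtype.ext (aut_ext fun y hy =>
      hinj _ (af_mem _ hy) _ (af_mem _ hy) (by
        change π (af (g (m * m')) y) = π (af (g m * g m') y)
        rw [af_mul_apply, e (m * m') _ hy, e m _ (af_mem _ hy), e m' _ hy, Matrix.mulVec_mulVec]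
        rfl))
  have hφ : Function.Injective φ := fun m m' h => Subtype.ext (D.coord.mat_ext fun y hy => by
    rw [← e m _ hy, ← e m' _ hy, show g m = g m' from congrArg Subtype.val h])
  exact ⟨φ.range, ⟨(MonoidHom.ofInjective hφ).symm⟩⟩

end Cfsg.Agent.S5185
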