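import Cfsg.Statements.S5186
import Cfsg.Agent.H9.EssSmall
import Cfsg.Agent.H9.Cube

set_option autoImplicit false
universe u
open Cfsg

namespace Cfsg.Agent.S5186

/-- Let F be a saturated fusion system over a finite p-group S and H an essential subgroup of order p³. Then H is elementary abelian, or p is odd and H is extraspecial of exponent p, or p = 2 and H is the quaternion group of order 8. -/
theorem result {Ω : Type u} [Group Ω] {S : Subgroup Ω} [Finite S] (p : ℕ) [Fact p.Prime] (hS : IsPGroup p S)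
    (F : Cfsg.FusionSystem S) (hF : F.IsSaturated p) (H : Subgroup Ω) (hH : F.IsEssential p H) (hcard : Nat.card H = p ^ 3) :
    Cfsg.IsElementaryAbelian p H ∨ (Odd p ∧ Cfsg.IsExtraspecial p ↥H ∧ ∀ x ∈ H, x ^ p = 1) ∨
      (p = 2 ∧ Nonempty (↥H ≃* QuaternionGroup 2)) := by
  open H9 H92 Subgroup in
  have := finite_of_le hH.1.1
  have hHp := hS.to_le hH.1.1
  have hp0 := (Fact.out : p.Prime)
  by_cases hΦ : frattini H = ⊥
  · obtain ⟨h1, h2⟩ := (H3.frattini_eq_bot_iff_pgroup hHp).mp hΦ
    exact Or.inl ⟨h1, fun a ha => congrArg Subtype.val (h2 ⟨a, ha⟩)⟩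
  have h1 := (frattini H).card_mul_index
  have h2 := mul_card_le_of_lt hHp (bot_lt_iff_ne_bot.mpr hΦ)
  rw [card_bot, mul_one] at h2
  obtain ⟨h3, h4⟩ := exists_aut_trans_frattini hS hF hH (Nat.le_of_mul_le_mul_left (by
    rw [← pow_succ', ← hcard, ← h1]
    exact Nat.mul_le_mul_right _ h2) hp0.pos)
  have h5 : Nat.card (frattini H) = p := by
    rw [h3, hcard, pow_succ' p 2] at h1
    exact Nat.eq_of_mul_eq_mul_right (pow_pos hp0.pos 2) h1
  have h6 := le_center_of_card_le hHp h5.le
  have h7 : ∀ y ∈ frattini H, y ^ p = 1 := fun y hy =>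
    congrArg Subtype.val (h5 ▸ pow_card_eq_one' (x := (⟨y, hy⟩ : frattini H)))
  by_cases h : ∃ y ∉ frattini H, y ^ p = 1
  · obtain ⟨y, hy, hy'⟩ := h
    have h8 : ∀ w : H, w ^ p = 1 := fun w => by
      by_cases hw : w ∈ frattini H
      · exact h7 w hw
      obtain ⟨g, hg⟩ := h4 y hy w hw
      rw [← mul_inv_cancel_left (g y) w, (commute_of_mem_center (h6 hg) _).mul_pow, h7 _ hg,
        ← map_pow, hy', map_one, one_mul]
    have hna : ¬ IsMulCommutative H := fun h => hΦ (H3.frattini_eq_bot_of_elementary h h8)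
    refine Or.inr (Or.inl ⟨hp0.odd_of_ne_two ?_, isExtraspecial_of_card_cube hcard hna,
      fun a ha => congrArg Subtype.val (h8 ⟨a, ha⟩)⟩)
    rintro rfl
    exact hna ⟨⟨fun a b => (Commute.of_orderOf_dvd_two
      (fun g => orderOf_dvd_of_pow_eq_one (h8 g)) a b).eq⟩⟩
  · push Not at h
    have h8 : ∀ K : Subgroup H, Nat.card K = p → K = frattini H := fun K hK =>
      eq_of_le_of_card_ge (fun y hy => by_contra fun hy' => h y hy'
        (congrArg Subtype.val (hK ▸ pow_card_eq_one' (x := (⟨y, hy⟩ : K))))) (h5.trans hK.symm).le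
    rcases H3.isCyclic_or_quaternion_of_unique hHp fun K L hK hL => (h8 K hK).trans (h8 L hL).symm
      with hc | ⟨rfl, n, ⟨e⟩⟩
    · have h9 := index_frattini_le_of_isCyclic hHp hc
      rw [h3] at h9
      exact absurd h9 (not_le.mpr (lt_self_pow₀ hp0.one_lt one_lt_two))
    · have h9 := Nat.card_congr e.toEquiv
      rw [hcard, Nat.card_eq_fintype_card, QuaternionGroup.card] at h9
      obtain rfl : n = 0 := by
        rcases n with _ | n
        · rfl
        · rw [pow_succ 2 (n + 1), pow_succ 2 n] at h9; omega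
      exact Or.inr (Or.inr ⟨rfl, ⟨e⟩⟩)

end Cfsg.Agent.S5186
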