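import Cfsg.Statements.S3633
import Cfsg.Agent.S1475
import Cfsg.Agent.H4.Hall
import Cfsg.Agent.H5.FrobCompl

set_option autoImplicit false
open Cfsg

namespace Cfsg.Agent.S3633

/-- Let G be a finite group and ρ a set of at least three prime divisors of the order of G that are pairwise non-adjacent in the prime graph (no element of order rs for distinct r, s ∈ ρ). Then at most one prime of ρ divides the order of any given solvable normal subgroup of G; in particular G is not solvable. -/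
theorem result {G : Type*} [Group G] [Finite G] (ρ : Finset ℕ) (hρ : 3 ≤ ρ.card) (hc : ((∀ r ∈ ρ, r.Prime ∧ r ∣ Nat.card G) ∧ (∀ r ∈ ρ, ∀ s ∈ ρ, r ≠ s → ¬ ∃ x : G, orderOf x = r * s)))
    (K : Subgroup G) [K.Normal] (hK : Group.IsSolvable ↥K) :
    (∀ r ∈ ρ, ∀ s ∈ ρ, r ∣ Nat.card ↥K → s ∣ Nat.card ↥K → r = s) ∧ ¬ Group.IsSolvable G := by
  have key : ∀ X : Subgroup G, Group.IsSolvable X → ∀ r ∈ ρ, ∀ s ∈ ρ, ∀ t ∈ ρ, r ≠ s → t ≠ r → t ≠ s →
      r ∣ Nat.card X → s ∣ Nat.card X → t ∣ Nat.card X → False := by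
    intro X hX r hr s hs t ht h1 h2 h3 k1 k2 k3
    obtain ⟨H, hH, hH1, hH2⟩ := H4.exists_isPiHallOf (ρ : Set ℕ) X
    have : Group.IsSolvable H := Group.isSolvable_of_isSolvable_injective (Subgroup.inclusion_injective hH)
    have h4 := Cfsg.Agent.S1475.result (G := H) fun g => by
      refine or_iff_not_imp_right.2 fun g1 => isPrimePow_iff_unique_prime_dvd.2 ?_
      obtain ⟨a, ha⟩ := Nat.exists_prime_and_dvd (mt orderOf_eq_one_iff.1 g1)
      refine ⟨a, ha, fun b hb => by_contra fun e => hc.2 b (hH1 b hb.1 (hb.2.trans (orderOf_dvd_natCard g)))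
        a (hH1 a ha.1 (ha.2.trans (orderOf_dvd_natCard g))) e ⟨(g ^ (orderOf g / (b * a)) : H), ?_⟩⟩
      rw [Subgroup.orderOf_coe]
      exact orderOf_pow_orderOf_div (orderOf_pos g).ne'
        (((Nat.coprime_primes hb.1 ha.1).2 e).mul_dvd_of_dvd_of_dvd hb.2 ha.2)
    have h5 : ∀ a ∈ ρ, a ∣ Nat.card X → a ∈ (Nat.card H).primeFactors := fun a ha k => by
      have k1 := (H.subgroupOf X).card_mul_index
      rw [Nat.card_congr (Subgroup.subgroupOfEquivOfLe hH).toEquiv] at k1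
      rw [← k1, (hc.1 a ha).1.dvd_mul] at k
      exact Nat.mem_primeFactors.2 ⟨(hc.1 a ha).1, k.resolve_right (hH2 a (hc.1 a ha).1 ha),
        Nat.card_pos.ne'⟩
    have h6 := Finset.two_lt_card.2 ⟨r, h5 r hr k1, s, h5 s hs k2, t, h5 t ht k3, h1, h2.symm, h3.symm⟩
    omega
  refine ⟨fun r hr s hs k1 k2 => by_contra fun e => ?_, fun h => ?_⟩
  · obtain ⟨t, ht, h1⟩ := Finset.exists_mem_notMem_of_card_lt_card
      (lt_of_le_of_lt (Finset.card_le_two (a := r) (b := s)) hρ)
    simp only [Finset.mem_insert, Finset.mem_singleton, not_or] at h1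
    have := Fact.mk (hc.1 t ht).1
    obtain ⟨P⟩ : Nonempty (Sylow t G) := inferInstance
    have := P.isPGroup'.isNilpotent
    exact key (K ⊔ P) (H5.isSolvable_sup_of_le_normalizer Subgroup.le_normalizer_of_normal) r hr s hs t ht
      e h1.1 h1.2 (k1.trans (Subgroup.card_dvd_of_le le_sup_left))
      (k2.trans (Subgroup.card_dvd_of_le le_sup_left))
      ((P.dvd_card_of_dvd_card (hc.1 t ht).2).trans (Subgroup.card_dvd_of_le le_sup_right))
  · obtain ⟨r, hr, s, hs, t, ht, h1, h2, h3⟩ := Finset.two_lt_card.1 hρ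
    have e : ∀ a ∈ ρ, a ∣ Nat.card (⊤ : Subgroup G) := fun a ha => by
      rw [Subgroup.card_top]; exact (hc.1 a ha).2
    exact key ⊤ inferInstance r hr s hs t ht h1 h2.symm h3.symm (e r hr) (e s hs) (e t ht)

end Cfsg.Agent.S3633
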