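import Cfsg.Statements.S4337
import Cfsg.Agent.H61.PSLMin
import Cfsg.Agent.H5.FrobCompl

set_option autoImplicit false
open Cfsg

namespace Cfsg.Agent.S4337

open Equiv in
theorem small {α : Type*} [Fintype α] [DecidableEq α] (s : Finset α) (hs : s.card ≤ 4)
    (S : Set (Perm α)) (hS : ∀ g ∈ S, g.support ⊆ s) :
    Group.IsSolvable (Subgroup.closure S) := by
  have h1 : Group.IsSolvable (Perm {x // x ∈ s}) := by
    apply H61.isSolvable_of_card_dvd_24
    rw [Nat.card_eq_fintype_card, Fintype.card_perm, Fintype.card_coe]
    exact Nat.factorial_dvd_factorial hs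
  have h2 : Group.IsSolvable (Perm.ofSubtype : Perm {x // x ∈ s} →* Perm α).range :=
    Group.isSolvable_of_surjective (MonoidHom.rangeRestrict_surjective _)
  have h3 : Subgroup.closure S ≤ (Perm.ofSubtype : Perm {x // x ∈ s} →* Perm α).range := by
    rw [Subgroup.closure_le]
    intro g hg
    rw [SetLike.mem_coe, Perm.mem_range_ofSubtype_iff]
    intro x hx
    exact hS g hg hx
  exact Group.isSolvable_of_isSolvable_injective (f := Subgroup.inclusion h3)
    (Subgroup.inclusion_injective h3)

open Equiv in
theorem comm_case {α : Type*} [Fintype α] [DecidableEq α] (a b c : Perm α)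
    (ha : a.IsSwap) (hb : b.IsSwap) (hac : Disjoint a.support c.support)
    (hbc : Disjoint b.support c.support) :
    Group.IsSolvable (Subgroup.closure ({a, b, c} : Set (Perm α))) := by
  have hK : Group.IsSolvable (Subgroup.closure ({a, b} : Set (Perm α))) := by
    apply small (a.support ∪ b.support)
    · have := Finset.card_union_le a.support b.support
      rw [Perm.card_support_eq_two.2 ha, Perm.card_support_eq_two.2 hb] at this
      omega
    · intro g hg
      rcases hg with rfl | rfl
      · exact Finset.subset_union_left
      · exact Finset.subset_union_right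
  have hC : Group.IsSolvable (Subgroup.zpowers c) := inferInstance
  have hn : Subgroup.zpowers c ≤
      Subgroup.normalizer ((Subgroup.closure ({a, b} : Set (Perm α)) : Subgroup (Perm α)) : Set (Perm α)) := by
    refine le_trans ?_ (Subgroup.centralizer_le_normalizer _)
    rw [Subgroup.zpowers_le, ← Subgroup.zpowers_le, Subgroup.le_centralizer_iff, Subgroup.closure_le]
    intro g hg
    rw [SetLike.mem_coe, Subgroup.mem_centralizer_iff]
    intro h hh
    obtain ⟨k, rfl⟩ := hh
    rcases hg with rfl | rfl
    · exact ((Perm.disjoint_iff_disjoint_support.2 hac).commute.symm.zpow_left k).eq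
    · exact ((Perm.disjoint_iff_disjoint_support.2 hbc).commute.symm.zpow_left k).eq
  have h := H5.isSolvable_sup_of_le_normalizer hn
  have e : Subgroup.closure ({a, b, c} : Set (Perm α)) =
      Subgroup.closure ({a, b} : Set (Perm α)) ⊔ Subgroup.zpowers c := by
    rw [Subgroup.zpowers_eq_closure, ← Subgroup.closure_union]
    congr 1
    ext x; simp; tauto
  rw [e]; exact h

open Equiv in
theorem conn_case {α : Type*} [Fintype α] [DecidableEq α] (a b c : Perm α)
    (ha : a.IsSwap) (hb : b.IsSwap) (hc : c.IsSwap) (hab : ¬ Disjoint a.support b.support)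
    (hbc : ¬ Disjoint b.support c.support) :
    Group.IsSolvable (Subgroup.closure ({a, b, c} : Set (Perm α))) := by
  apply small (a.support ∪ b.support ∪ c.support)
  · have h1 := Finset.card_union_add_card_inter a.support b.support
    have h2 := Finset.card_union_add_card_inter (a.support ∪ b.support) c.support
    have h3 : 0 < (a.support ∩ b.support).card := by
      rw [Finset.card_pos]
      exact Finset.not_disjoint_iff_nonempty_inter.1 hab
    have h4 : 0 < ((a.support ∪ b.support) ∩ c.support).card := by
      rw [Finset.card_pos]
      obtain ⟨x, hx⟩ := Finset.not_disjoint_iff_nonempty_inter.1 hbc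
      rw [Finset.mem_inter] at hx
      exact ⟨x, Finset.mem_inter.2 ⟨Finset.mem_union_right _ hx.1, hx.2⟩⟩
    rw [Perm.card_support_eq_two.2 ha, Perm.card_support_eq_two.2 hb] at h1
    rw [Perm.card_support_eq_two.2 hc] at h2
    omega
  · intro g hg
    rcases hg with rfl | rfl | rfl
    · exact Finset.subset_union_left.trans Finset.subset_union_left
    · exact Finset.subset_union_right.trans Finset.subset_union_left
    · exact Finset.subset_union_right

/-- In a finite symmetric group, any three transpositions generate a solvable subgroup. -/
theorem result (n : ℕ) (a b c : Equiv.Perm (Fin n))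
    (ha : a.IsSwap) (hb : b.IsSwap) (hc : c.IsSwap) :
    Group.IsSolvable (Subgroup.closure ({a, b, c} : Set (Equiv.Perm (Fin n)))) := by
  have p1 : ({a, b, c} : Set (Equiv.Perm (Fin n))) = {b, c, a} := by ext x; simp; tauto
  have p2 : ({a, b, c} : Set (Equiv.Perm (Fin n))) = {a, c, b} := by ext x; simp; tauto
  have p3 : ({a, b, c} : Set (Equiv.Perm (Fin n))) = {b, a, c} := by ext x; simp; tauto
  by_cases hab : Disjoint a.support b.support
  · by_cases hac : Disjoint a.support c.support
    · rw [p1]; exact comm_case b c a hb hc hab.symm hac.symm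
    · by_cases hbc : Disjoint b.support c.support
      · rw [p2]; exact comm_case a c b ha hc hab hbc.symm
      · rw [p2]; exact conn_case a c b ha hc hb hac (fun h => hbc h.symm)
  · by_cases hac : Disjoint a.support c.support
    · by_cases hbc : Disjoint b.support c.support
      · exact comm_case a b c ha hb hac hbc
      · exact conn_case a b c ha hb hc hab hbc
    · rw [p3]; exact conn_case b a c hb ha hc (fun h => hab h.symm) hac

end Cfsg.Agent.S4337
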