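import Cfsg.Statements.S2208
import Cfsg.Agent.H82.HRMain
import Cfsg.Agent.H90.HrLK
import Cfsg.Agent.H38.HRSC
import Cfsg.Agent.H98.HrPR
import Cfsg.Agent.H90.HrFull
import Cfsg.Agent.H1.HRL
import Cfsg.Agent.H92.HrSoc
import Cfsg.Agent.H92.HrG
import Cfsg.Agent.H31.HRK
import Cfsg.Agent.H3.HrG2
import Cfsg.Agent.H3.HrI
import Cfsg.Agent.H1.HRB
import Cfsg.Agent.H72.HRU3
import Cfsg.Agent.H98.HrG1
import Cfsg.Agent.H66.HrModel

set_option autoImplicit false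
open Cfsg

namespace Cfsg.Agent.S2208

/-- Let a finite group G act faithfully and 2-transitively on a finite set Ω, and suppose the stabilizer of a point has a normal subgroup N isomorphic to PSL₂(q), to a Suzuki group Sz(q), or to PSU₃(q), with q = 2^n ≥ 4. Then either Ω has 6 points, G is isomorphic to A₆ or S₆ and N ≅ PSL₂(4); or Ω has 11 points, G ≅ PSL₂(11) and N ≅ PSL₂(4); or G has a normal subgroup acting regularly on Ω. -/
theorem result {G Ω : Type*} [Group G] [Finite G] [Fintype Ω] [MulAction G Ω] [FaithfulSMul G Ω] (h2 : MulAction.IsMultiplyPretransitive G Ω 2) (a : Ω) (N : Subgroup G) (hNle : N ≤ MulAction.stabilizer G a) (hNnormal : ∀ g ∈ MulAction.stabilizer G a, ∀ n ∈ N, g * n * g⁻¹ ∈ N)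
    (hN : ∃ (F : Type) (_ : Field F) (_ : Fintype F) (m : ℕ), Fintype.card F = 2 ^ m ∧ 2 ≤ m ∧
      (Nonempty (↥N ≃* Matrix.ProjectiveSpecialLinearGroup (Fin 2) F) ∨ (Odd m ∧ Nonempty (↥N ≃* ↥(Cfsg.Lie.Sz F (2 ^ ((m + 1) / 2))))) ∨
       (∃ (K : Type) (_ : Field K) (_ : Fintype K), Fintype.card K = (2 ^ m) ^ 2 ∧ Nonempty (↥N ≃* Cfsg.PSU 3 K (2 ^ m))))) :
    (Fintype.card Ω = 6 ∧ (Nonempty (G ≃* ↥(alternatingGroup (Fin 6))) ∨ Nonempty (G ≃* Equiv.Perm (Fin 6))) ∧ ∃ (F : Type) (_ : Field F) (_ : Fintype F), Fintype.card F = 4 ∧ Nonempty (↥N ≃* Matrix.ProjectiveSpecialLinearGroup (Fin 2) F)) ∨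
    (Fintype.card Ω = 11 ∧ (∃ (F : Type) (_ : Field F) (_ : Fintype F), Fintype.card F = 11 ∧ Nonempty (G ≃* Matrix.ProjectiveSpecialLinearGroup (Fin 2) F)) ∧ ∃ (F : Type) (_ : Field F) (_ : Fintype F), Fintype.card F = 4 ∧ Nonempty (↥N ≃* Matrix.ProjectiveSpecialLinearGroup (Fin 2) F)) ∨
    (∃ R : Subgroup G, R.Normal ∧ (∀ x y : Ω, ∃ r ∈ R, r • x = y) ∧ ∀ x : Ω, ∀ r ∈ R, r • x = x → r = 1) := by
  have hB : H99.BenderGroup N := by
    obtain ⟨F, _, _, m, h1, h3, r | ⟨⟨k, rfl⟩, r⟩ | ⟨K, _, _, h4, r⟩⟩ := hN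
    · exact .inl ⟨F, _, _, ⟨m, h3, h1⟩, r⟩
    · rw [show (2 * k + 1 + 1) / 2 = k + 1 by omega] at r
      exact .inr (.inl ⟨F, _, _, k, by omega, h1, r⟩)
    · exact .inr (.inr ⟨K, _, _, m, h3, h4, r⟩)
  have bg := H82.HR.jobBG H66.HR.jobL2 H66.HR.jobSz H72.HRU.jobU3
  obtain ⟨q, hq⟩ := bg G N hB
  have hT : H89.K.T2 G Ω := H89.K.T2.of_mult h2 (by
    obtain ⟨U, V, h⟩ := hq
    obtain ⟨y, hy, z, hz, h1, h3, h4⟩ := h.two
    have k : ∀ x ∈ N, ∀ w ∈ N, x ≠ w → ∃ c : Ω, x • c ≠ w • c ∧ c ≠ a := fun x hx w hw r => by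
      by_contra! e
      refine r (eq_of_smul_eq_smul (α := Ω) fun c => by_contra fun r' => r' ?_)
      rw [e c r', show x • a = a from hNle hx, show w • a = a from hNle hw]
    obtain ⟨c, h5, h6⟩ := k y (h.sylU.le hy.1) 1 N.one_mem h1
    rw [one_smul] at h5
    rw [Nat.card_eq_fintype_card]
    exact Fintype.two_lt_card_iff.2 ⟨a, c, y • c, h6.symm, fun e => h6 (MulAction.injective y
      (e.symm.trans (hNle (h.sylU.le hy.1) : y • a = a).symm)), h5.symm⟩)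
  obtain ⟨M, rfl, H⟩ := H82.HR.exists_hy hT hNle
    (fun g hg => Subgroup.mem_normalizer_fintype (hNnormal g hg)) hq
  have := (H.bg a).choose_spec.choose_spec.simple
  rw [← Nat.card_eq_fintype_card]
  have ka := H31.HRK.jobKA
  have kb := H31.HRK.jobKB
  have kp := H98.Hr.jobPR kb
  exact (H82.HR.main (H1.HRL.jobLU ka) H90.HR.jobLK H90.HR.jobFull (H3.HR.jobI ka kb kp)
    (H1.HRB.jobBad kp) H92.HR.jobSoc H92.HR.jobH (H98.Hr.jobG1 ka kb)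
    (H3.HR.jobG2 kb (H1.HRL.jobLZ ka)) (H38.HR.jobSC bg) H92.HR.jobG11 H92.HR.jobN6
    H a).imp (fun r => ⟨r.1, r.2.1, H82.HR.l24 r.2.2⟩)
    (Or.imp_left fun r => ⟨r.1, r.2.1, H82.HR.l24 r.2.2⟩)

end Cfsg.Agent.S2208
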