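import Cfsg.Statements.S3905
import Cfsg.Agent.H1.Coprime2
import Cfsg.Agent.H2.MinNormal
import Cfsg.Agent.H26.FPSpec
import Cfsg.Agent.H24.PiPart
import Cfsg.Agent.H99.Sidki
import Cfsg.Agent.H5.CK
import Cfsg.Agent.H42.OddOrder
import Cfsg.Agent.H3.FrattiniP
import Cfsg.Agent.H3.Frattini
import Cfsg.Agent.H98.Block
import Cfsg.Agent.H4.Cover

set_option autoImplicit false
open Cfsg

namespace Cfsg.Agent.S3905

open Subgroup H26.FP H98
open scoped commutatorElement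

variable {G : Type*} [Group G] [Finite G] {N : Subgroup G} [N.Normal]

theorem exists_V (h : ∀ x : G, x ∈ N → x ∉ C[N] → IsCoatom C1[x]) (hN : ¬ N ≤ C[N]) :
    ∃ p : ℕ, p.Prime ∧ ∃ V : Subgroup G, V.Normal ∧ IsPGroup p V ∧ V ≤ N ∧ ¬ V ≤ C[N] := by
  by_contra! hc
  have nil : ∀ B : Subgroup G, B.Normal → B ≤ N → Group.IsNilpotent B → B ≤ C[N] := fun B _ hB _ => by
    have e := congrArg (map B.subtype) (H2.fitting_eq_iSup_pCore B)
    rw [top_le_iff.1 (H2.le_fitting (⊤ : Subgroup B)), ← MonoidHom.range_eq_map, range_subtype,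
      Subgroup.map_iSup] at e
    refine e.le.trans (iSup_le fun p => ?_)
    haveI := Fact.mk p.2
    exact hc p p.2 _ inferInstance (isPGroup_pCoreOf B) ((map_subtype_le _).trans hB)
  by_cases hs : Group.IsSolvable N
  · have h1 := nil ((fittingSubgroup N).map N.subtype) inferInstance (map_subtype_le _)
      (H2.isNilpotent_map_fitting_subtype N)
    exact hN fun x hx => h1 ⟨⟨x, hx⟩, H2.centralizer_fitting_le N fun y hy => Subtype.ext
      (h1 ⟨y, hy, rfl⟩ x hx).symm, rfl⟩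
  set f := QuotientGroup.mk' (N ⊓ C[N]) with hf
  have kf : f.ker = N ⊓ C[N] := QuotientGroup.ker_mk' _
  have sf : Function.Surjective f := QuotientGroup.mk'_surjective _
  haveI : (N.map f).Normal := Normal.map inferInstance f sf
  have cN : (N.map f).comap f = N := comap_map_eq_self (kf.le.trans inf_le_left)
  have nil' : ∀ A : Subgroup (G ⧸ (N ⊓ C[N])), (A.comap f).Normal → A ≤ N.map f →
      Group.IsNilpotent A → A = ⊥ := fun A _ hA _ => by
    have h1 : A.comap f ≤ N := (comap_mono hA).trans cN.le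
    have : Group.IsNilpotent (A.comap f) := Subgroup.isNilpotent_of_ker_le_center (f.subgroupComap A)
      fun x hx => mem_center_iff.2 fun y => Subtype.ext ((kf.le (congrArg Subtype.val hx)).2 y (h1 y.2))
    rw [← map_comap_eq_self_of_surjective sf A, Subgroup.map_eq_bot_iff, kf]
    exact le_inf h1 (nil _ inferInstance h1 this)
  have ev : 2 ∣ Nat.card (N.map f) := by
    by_contra h2
    haveI := H42.odd_order (Nat.odd_iff.2 (Nat.two_dvd_ne_zero.1 h2))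
    haveI : IsMulCommutative (f.subgroupMap N).ker := ⟨⟨fun x y => Subtype.ext (Subtype.ext
      ((kf.le (congrArg Subtype.val y.2)).2 _ x.1.2))⟩⟩
    haveI := H1.isSolvable_of_isMulCommutative (f.subgroupMap N).ker
    exact hs (Group.isSolvable_of_ker_le_range (f.subgroupMap N).ker.subtype (f.subgroupMap N) (by simp))
  obtain ⟨⟨_, t, ht, rfl⟩, o2⟩ := exists_prime_orderOf_dvd_card' 2 ev
  replace o2 : orderOf (f t) = 2 := (orderOf_coe _).trans o2
  have t2 : f t * f t = 1 := by rw [← sq, ← o2, pow_orderOf_eq_one]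
  obtain ⟨u, u1, uo, e⟩ := H99.exists_inverted_of_not_mem t2 fun h2 => by
    have := nil' (pCore 2 _ ⊓ N.map f) inferInstance inf_le_right
      (H2.pCore_isPGroup 2 _).to_inf_left.isNilpotent
    rw [mem_bot.1 (this.le ⟨h2, t, ht, rfl⟩), orderOf_one] at o2
    omega
  have u2 : ∀ A : Subgroup (G ⧸ (N ⊓ C[N])), u ^ 2 ∈ A → u ∈ A := fun A hA =>
    (zpowers_le.2 hA) (mem_zpowers_pow_iff.2 (Nat.coprime_two_left.2 uo))
  have uN : u ∈ N.map f := u2 _ (by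
    have := mul_mem (‹(N.map f).Normal›.conj_mem _ ⟨t, ht, rfl⟩ u) (inv_mem (⟨t, ht, rfl⟩ : f t ∈ N.map f))
    rwa [show u * f t * u⁻¹ * (f t)⁻¹ = u * (f t * u * (f t)⁻¹)⁻¹ by group, e, inv_inv, ← sq] at this)
  obtain ⟨y, hy, rfl⟩ := uN
  have nz : ∀ g, f g * f y * (f g)⁻¹ ∈ zpowers (f y) → g ∈ N[(zpowers (f y)).comap f] := fun g hg =>
    le_normalizer_comap f (mem_normalizer_fintype (by
      rintro _ ⟨k, rfl⟩
      simpa only [conj_zpow, SetLike.mem_coe] using zpow_mem hg k))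
  refine u1 (zpowers_eq_bot.1 (nil' _ (normalizer_eq_top_iff.1 ((h y hy fun hc =>
    u1 (kf.ge ⟨hy, hc⟩)).2 _ (lt_of_le_of_ne (fun g hg => nz g ?_) fun e' => u1 (mem_bot.1 (u2 ⊥ ?_)))))
    (zpowers_le.2 ⟨y, hy, rfl⟩) (open IsMulCommutative in CommGroup.isNilpotent)))
  · rw [← map_mul, mem_centralizer_singleton_iff.1 hg, map_mul, mul_inv_cancel_right]
    exact mem_zpowers _
  · have := mem_centralizer_singleton_iff.1 (e'.ge (nz t (e ▸ inv_mem (mem_zpowers _))))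
    rw [← map_mul, this, map_mul, mul_inv_cancel_right, eq_inv_iff_mul_eq_one, ← sq] at e
    exact e

omit [N.Normal] in
theorem cen_eq (h : ∀ x : G, x ∈ N → x ∉ C[N] → IsCoatom C1[x]) {x y : G} (hx : x ∈ N) (hx' : x ∉ C[N])
    (hy : y ∈ N) (hy' : y ∉ C[N]) (hc : x * y = y * x) (ho : (orderOf x).Coprime (orderOf y)) :
    C1[x] = C1[y] := by
  have k : ∀ {x y : G}, x ∈ N → x ∉ C[N] → y ∈ N → x * y = y * x → (orderOf x).Coprime (orderOf y) →
      C1[x * y] = C1[x] := fun {x y} hx hx' hy hc ho => by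
    have h1 : x ∈ zpowers (x * y) := by
      have : (x * y) ^ orderOf y = x ^ orderOf y := by rw [Commute.mul_pow hc, pow_orderOf_eq_one, mul_one]
      exact (zpowers_le.2 (this ▸ npow_mem_zpowers _ _)) (mem_zpowers_pow_iff.2 ho.symm)
    refine ((h _ (mul_mem hx hy) fun e => hx' ((zpowers_le.2 e) h1)).le_iff.1 fun g hg => ?_).resolve_left
      (h x hx hx').1 |>.symm
    obtain ⟨k, hk⟩ := h1
    rw [← hk]
    exact mem_centralizer_singleton_iff.2 (Commute.zpow_right (mem_centralizer_singleton_iff.1 hg) k)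
  rw [← k hx hx' hy hc ho, hc, k hy hy' hx hc.symm ho.symm]

omit [N.Normal] in
theorem frat {p : ℕ} [Fact p.Prime] {V : Subgroup G} (hV : IsPGroup p V) {a b : G} (ha : a ∈ V)
    (hb : b ∈ V) : ⁅a, b⁆ ∈ (frattini V).map V.subtype ∧ a ^ p ∈ (frattini V).map V.subtype :=
  ⟨⟨⁅(⟨a, ha⟩ : V), ⟨b, hb⟩⁆, H3.commutator_le_frattini_pgroup hV
    (commutator_mem_commutator (mem_top _) (mem_top _)), rfl⟩,
    ⟨_, H3.pow_mem_frattini_pgroup hV ⟨a, ha⟩, rfl⟩⟩

omit [Finite G] [N.Normal] in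
theorem dec {V M : Subgroup G} [V.Normal] (h : V ⊔ M = ⊤) (g : G) : ∃ v ∈ V, ∃ m ∈ M, g = v * m := by
  obtain ⟨v, hv, m, hm, e⟩ := mem_sup_of_normal_left.1 (h.ge (mem_top g))
  exact ⟨v, hv, m, hm, e.symm⟩

theorem raw (h : ∀ x : G, x ∈ N → x ∉ C[N] → IsCoatom C1[x]) (hN : ¬ N ≤ C[N]) :
    ∃ p : ℕ, p.Prime ∧ ((∀ a ∈ N, ∀ b ∈ N, ⁅a, b⁆ ∈ C[N] ∧ a ^ p ∈ C[N]) ∨
    ∃ (q : ℕ) (D : Subgroup G), q.Prime ∧ D.Normal ∧ N ⊓ C[N] ≤ D ∧ ¬ N ≤ D ∧ ¬ N ⊓ D ≤ C[N] ∧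
      (∀ a ∈ N ⊓ D, ∀ b ∈ N ⊓ D, ⁅a, b⁆ ∈ C[N] ∧ a ^ p ∈ C[N]) ∧
      (∀ d ∈ N ⊓ D, d ∉ C[N] → ∀ n ∈ N, ⁅n, d⁆ ∈ C[N] → n ∈ D) ∧
      ∀ a ∈ N, ∀ b ∈ N, ⁅a, b⁆ ∈ D ∧ a ^ q ∈ D) := by
  obtain ⟨p, hp, hV⟩ := exists_V h hN
  haveI := Fact.mk hp
  obtain ⟨V, ⟨_, Vp, VN, VC⟩, hm⟩ := H2.exists_minimal_subgroup _ hV
  have hm' : ∀ W : Subgroup G, W.Normal → W ≤ V → W ≠ V → W ≤ C[N] := fun W hW h1 h2 =>
    by_contra fun h3 => h2 (hm W ⟨hW, Vp.to_le h1, h1.trans VN, h3⟩ h1)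
  have ZV : C[N] ≤ C[V] := centralizer_le VN
  have mc : ∀ {x g : G}, g ∈ C1[x] ↔ g * x = x * g := mem_centralizer_singleton_iff
  have FV : (frattini V).map V.subtype ≤ C[N] := hm' _ inferInstance (map_subtype_le _) fun e => by
    have := eq_of_sup_frattini (bot_le : ⊥ ≤ V) (e.ge.trans le_sup_right)
    exact VC (this ▸ bot_le)
  have top : ∀ x ∈ N, x ∉ C[V] → V ⊔ C1[x] = ⊤ := fun x hx hx' =>
    (h x hx fun e => hx' (ZV e)).2 _ (right_lt_sup.2 fun e => hx' fun v hv => mc.1 (e hv))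
  have fix : ∀ x ∈ N, x ∉ C[V] → V ⊓ C1[x] ≤ C[N] := fun x hx hx' => by
    refine hm' _ (normalizer_eq_top_iff.1 (top_le_iff.1 ((top x hx hx').ge.trans (sup_le ?_
      (H1.le_normalizer_inf le_normalizer_of_normal le_normalizer))))) inf_le_left
      fun e => hx' fun v hv => mc.1 (e.ge hv).2
    refine H1.le_normalizer_of_conj_mem fun a ha w hw => ⟨‹V.Normal›.conj_mem w hw.1 a, ?_⟩
    have := C1[x].mul_mem (mc.2 (FV (frat Vp ha hw.1).1 x hx).symm) hw.2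
    rwa [commutatorElement_def, inv_mul_cancel_right] at this
  have VV : V ≤ C[V] := fun x hx => by_contra fun hx' => hx' (ZV (fix x (VN hx) hx' ⟨hx, mc.2 rfl⟩))
  obtain ⟨v, hv, hv'⟩ := SetLike.not_le_iff_exists.1 VC
  have vo : ∀ {w : G}, ¬ p ∣ orderOf w → ∀ {v : G}, v ∈ V → (orderOf w).Coprime (orderOf v) :=
    fun {w} hw {v} hv => by
      obtain ⟨k, hk⟩ := IsPGroup.iff_orderOf.1 Vp ⟨v, hv⟩
      rw [orderOf_mk] at hk
      exact hk ▸ Nat.Coprime.pow_right k (hp.coprime_iff_not_dvd.2 hw).symm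
  have cv : ∀ n ∈ N, n ∈ C1[v] → n ∈ C[V] := fun n hn hc => by_contra fun h0 =>
    hv' (fix n hn h0 ⟨hv, mc.2 (mc.1 hc).symm⟩)
  have NV : ¬ N ≤ C[V] := fun e => VC (le_centralizer_iff.1 e)
  refine ⟨p, hp, ?_⟩
  by_cases hq : ∀ x ∈ N, ¬ p ∣ orderOf x → x ∈ C[V]
  · left
    obtain ⟨x, hx, hx', k, hk⟩ : ∃ x ∈ N, x ∉ C[V] ∧ ∃ k, orderOf x = p ^ k := by
      obtain ⟨x, hx, hx'⟩ := SetLike.not_le_iff_exists.1 NV
      obtain ⟨e, f, e1, e2, e3⟩ := H24.exists_p_decomp hp x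
      exact ⟨_, pow_mem hx e, fun h0 => hx' (e1 ▸ mul_mem h0 (hq _ (pow_mem hx f) e3)), e2⟩
    have hz : ∀ w ∈ N, ¬ p ∣ orderOf w → w ∈ C[N] := fun w hw ho => by_contra fun hw' => by
      obtain ⟨u, hu, m, hm, e⟩ := dec (top x hx hx') w
      obtain ⟨j, hj⟩ := Vp ⟨u⁻¹, inv_mem hu⟩
      have hj : u⁻¹ ^ p ^ j = 1 := congrArg Subtype.val hj
      have h1 : w ^ p ^ j ∈ C1[x] := by
        have := pow_mem hm (p ^ j)
        rwa [eq_inv_mul_of_mul_eq e.symm, Commute.mul_pow (hq w hw ho _ (inv_mem hu)), hj, one_mul] at this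
      have h2 : w ∈ C1[x] := (zpowers_le.2 h1) (mem_zpowers_pow_iff.2
        (Nat.Coprime.pow_left j (hp.coprime_iff_not_dvd.2 ho)))
      have h3 := cen_eq h hw hw' hx (fun e => hx' (ZV e)) (mc.1 h2)
        (hk ▸ Nat.Coprime.pow_right k (hp.coprime_iff_not_dvd.2 ho).symm)
      exact hx' fun a ha => mc.1 (h3.le (mc.2 (hq w hw ho a ha)))
    set f := QuotientGroup.mk' (N ⊓ C[N]) with hf
    have kf : f.ker = N ⊓ C[N] := QuotientGroup.ker_mk' _
    have sf : Function.Surjective f := QuotientGroup.mk'_surjective _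
    haveI : (N.map f).Normal := Normal.map inferInstance f sf
    have Np : IsPGroup p (N.map f) := by
      rintro ⟨_, x, hx, rfl⟩
      obtain ⟨e, g, e1, ⟨k, e2⟩, e3⟩ := H24.exists_p_decomp hp x
      refine ⟨k, Subtype.ext ?_⟩
      have : f (x ^ g) = 1 := kf.ge ⟨pow_mem hx g, hz _ (pow_mem hx g) e3⟩
      change f x ^ p ^ k = 1
      rw [← e1, map_mul, this, mul_one, ← map_pow, ← e2, pow_orderOf_eq_one, map_one]
    have key : ∀ z, f z ∈ (frattini (N.map f)).map (N.map f).subtype → z ∈ C[N] := fun z hz y hy => by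
      have h1 : N ⊓ C[N] ≤ C1[y] := fun a ha => mc.2 (ha.2 y hy).symm
      by_cases hy' : y ∈ C[N]
      · obtain ⟨⟨_, a, ha, rfl⟩, -, e⟩ := hz
        have : z ∈ N := (comap_map_eq_self (kf.le.trans inf_le_left)).le ⟨a, ha, e⟩
        exact (hy' z this).symm
      have h2 := frattini_le_coatom (H3.isCoatom_map_of_surjective_of_ker_le f sf (h y hy hy') (kf.le.trans h1))
        (H3.map_frattini_subtype_le _ hz)
      exact (mc.1 ((comap_map_eq_self (kf.le.trans h1)).le h2)).symm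
    intro a ha b hb
    have := frat Np (mem_map_of_mem f ha) (mem_map_of_mem f hb)
    exact ⟨key _ (by rw [map_commutatorElement]; exact this.1), key _ (by rw [map_pow]; exact this.2)⟩
  right
  obtain ⟨q, hq, qp, x, hx, hx', k, hk⟩ : ∃ q : ℕ, q.Prime ∧ q ≠ p ∧ ∃ x ∈ N, x ∉ C[V] ∧
      ∃ k, orderOf x = q ^ k := by
    push Not at hq
    obtain ⟨x, hx, ho, hx'⟩ := hq
    by_contra! h0
    exact hx' (H4.mem_of_forall_primePow_mem x fun e q k hq hd e' => by_contra fun h1 =>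
      h0 q hq (fun e2 => ho (e2 ▸ hd)) _ (pow_mem hx e) h1 k e')
  haveI := Fact.mk hq
  have xq : ∀ {w : G} {j : ℕ}, orderOf w = q ^ j → ¬ p ∣ orderOf w := fun e h0 =>
    qp ((Nat.prime_dvd_prime_iff_eq hp hq).1 (hp.dvd_of_dvd_pow (e ▸ h0))).symm
  have xZ : x ∉ C[N] := fun e => hx' (ZV e)
  have DH : ∀ d ∈ N, d ∈ C[V] → d ∈ C1[x] → d ∈ C[N] := fun d hd h1 h2 => by
    obtain ⟨e, f, e1, ⟨j, e2⟩, e3⟩ := H24.exists_p_decomp hq d
    refine e1 ▸ mul_mem (by_contra fun h3 => ?_) (by_contra fun h3 => ?_)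
    · have := cen_eq h (pow_mem hd e) h3 (VN hv) hv' (pow_mem h1 e v hv).symm (vo (xq e2) hv)
      exact hx' (cv x hx (this.le (mc.2 (mc.1 (pow_mem h2 e)).symm)))
    · have := cen_eq h (pow_mem hd f) h3 hx xZ (mc.1 (pow_mem h2 f))
        (hk ▸ Nat.Coprime.pow_right k (hq.coprime_iff_not_dvd.2 e3).symm)
      exact hx' fun a ha => mc.1 (this.le (mc.2 (pow_mem h1 f a ha)))
  have DV : ∀ d ∈ N ⊓ C[V], ∃ u ∈ V, ∃ z ∈ C[N], d = u * z := fun d hd => by
    obtain ⟨u, hu, m, hm, e⟩ := dec (top x hx hx') d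
    have e' := eq_inv_mul_of_mul_eq e.symm
    exact ⟨u, hu, m, DH m (e' ▸ mul_mem (inv_mem (VN hu)) hd.1) (e' ▸ mul_mem (inv_mem (VV hu)) hd.2) hm, e⟩
  have Y : ∀ a ∈ N, ∀ b ∈ N, ⁅a, b⁆ ∈ C[V] ∧ a ^ q ∈ C[V] := by
    set f := QuotientGroup.mk' C[V] with hf
    have kf : f.ker = C[V] := QuotientGroup.ker_mk' _
    have sf : Function.Surjective f := QuotientGroup.mk'_surjective _
    haveI : (N.map f).Normal := Normal.map inferInstance f sf
    have mn : ∀ K : Subgroup (G ⧸ C[V]), K.Normal → K ≤ N.map f → K = ⊥ ∨ K = N.map f := fun K _ hK => by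
      refine or_iff_not_imp_left.2 fun h0 => le_antisymm hK ?_
      rintro _ ⟨n, hn, rfl⟩
      obtain ⟨_, hy, y1⟩ := (K.bot_or_exists_ne_one).resolve_left h0
      obtain ⟨y, yN, rfl⟩ := hK hy
      have : (N ⊓ K.comap f) ⊔ C1[v] = ⊤ := (h v (VN hv) hv').2 _ (right_lt_sup.2 fun e =>
        y1 (kf.ge (cv y yN (e ⟨yN, hy⟩))))
      obtain ⟨u, hu, m, hm, e⟩ := dec this n
      have : f m = 1 := kf.ge (cv m (eq_inv_mul_of_mul_eq e.symm ▸ mul_mem (inv_mem hu.1) hn) hm)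
      rw [e, map_mul, this, mul_one]
      exact hu.2
    have x1 : f x ≠ 1 := fun e => hx' (kf.le e)
    have ab : N.map f ≤ C[N.map f] := by
      refine inf_eq_left.1 ((mn _ inferInstance inf_le_left).resolve_left fun e => x1 (mem_bot.1
        (e.le ⟨⟨x, hx, rfl⟩, ?_⟩)))
      rintro _ ⟨n, -, rfl⟩
      obtain ⟨u, hu, m, hm, rfl⟩ := dec (top x hx hx') n
      rw [map_mul, show f u = 1 from kf.ge (VV hu), one_mul, ← map_mul, mc.1 hm, map_mul]
    haveI := le_centralizer_iff_isMulCommutative.1 ab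
    haveI := H1.isSolvable_of_isMulCommutative (N.map f)
    intro a ha b hb
    rw [← kf, MonoidHom.mem_ker, MonoidHom.mem_ker, map_commutatorElement, map_pow]
    refine ⟨commutatorElement_eq_one_iff_mul_comm.2 (ab ⟨b, hb, rfl⟩ _ ⟨a, ha, rfl⟩),
      H2.pow_eq_one_of_minimal_normal mn hq ?_ _ ⟨a, ha, rfl⟩⟩
    obtain ⟨j, -, hj⟩ := (Nat.dvd_prime_pow hq).1 (hk ▸ orderOf_map_dvd f x)
    refine (hj ▸ dvd_pow_self q ?_ : q ∣ orderOf (f x)).trans (orderOf_dvd_natCard _ ⟨x, hx, rfl⟩)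
    rintro rfl
    exact x1 (orderOf_eq_one_iff.1 hj)
  refine ⟨q, C[V], hq, inferInstance, inf_le_right.trans ZV, NV, fun e => hv' (e ⟨VN hv, VV hv⟩),
    fun a ha b hb => ?_, fun d hd hd' n hn hc => by_contra fun hn' => ?_, Y⟩
  · obtain ⟨u, hu, z, hz, rfl⟩ := DV a ha
    refine ⟨?_, ?_⟩
    · rw [commutatorElement_eq_one_iff_commute.2 (Commute.mul_left (hb.2 u hu) (hz b hb.1).symm)]
      exact one_mem _
    · rw [Commute.mul_pow (hz u (VN hu))]
      exact mul_mem (FV (frat Vp hu hu).2) (pow_mem hz p)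
  obtain ⟨u, hu, z, hz, rfl⟩ := DV d hd
  obtain ⟨e, f, e1, ⟨j, e2⟩, e3⟩ := H24.exists_p_decomp hq n
  have n1 : n ^ f ∈ C[V] := (zpowers_le.2 (Y _ (pow_mem hn f) 1 (one_mem _)).2)
    (mem_zpowers_pow_iff.2 (hq.coprime_iff_not_dvd.2 e3))
  have n2 : n ^ e ∉ C[V] := fun h0 => hn' (e1 ▸ mul_mem h0 n1)
  obtain ⟨w, hw, hw'⟩ := H1.exists_centralizer_mem_coset' (A := zpowers (n ^ e)) (N := V ⊓ C[N])
    le_normalizer_of_normal (by
      rw [Nat.card_zpowers]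
      exact H1.coprime_card_of_isPGroup Vp.to_inf_left (hp.coprime_iff_not_dvd.2 (xq e2)).symm)
    (Or.inr (H1.isSolvable_of_isPGroup Vp.to_inf_left)) u (by
      intro a ha
      refine ⟨V.mul_mem (‹V.Normal›.conj_mem u hu a) (V.inv_mem hu), ?_⟩
      have k : ∀ a, ⁅a, u⁆ ∈ C[N] ↔ a ∈ C1[QuotientGroup.mk' C[N] u].comap (QuotientGroup.mk' C[N]) :=
        fun a => by
          rw [← QuotientGroup.eq_one_iff, mem_comap, mem_centralizer_singleton_iff,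
            ← commutatorElement_eq_one_iff_mul_comm, ← map_commutatorElement]
          rfl
      refine (k a).2 ((zpowers_le.2 (pow_mem ((k n).1 ?_) e)) ha)
      rwa [commutatorElement_def, ← mul_assoc, mul_assoc _ z, ← hz _ (N.inv_mem hn), mul_inv_rev,
        ← mul_assoc, ← mul_assoc, mul_inv_cancel_right] at hc)
  have := fix _ (pow_mem hn e) n2 ⟨mul_mem hw.1 hu, mc.2 (hw' _ (mem_zpowers _)).symm⟩
  exact hd' (mul_mem ((C[N].mul_mem_cancel_left hw.2).1 this) hz)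

/-- Let N be a normal subgroup of the finite group G such that for every element x of N outside the center of N the centralizer C_G(x) is a maximal subgroup of G. Then N/Z(N) is either an elementary abelian p-group for some prime p, or a Frobenius group whose kernel is an elementary abelian normal subgroup and whose complement has prime order. -/
theorem result {G : Type*} [Group G] [Finite G] (N : Subgroup G) [N.Normal]
    (h : ∀ x : G, x ∈ N → x ∉ Subgroup.centralizer (N : Set G) → IsCoatom (Subgroup.centralizer ({x} : Set G))) :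
    (∃ p : ℕ, p.Prime ∧ Cfsg.IsElementaryAbelian p (⊤ : Subgroup (↥N ⧸ Subgroup.center ↥N))) ∨
    (∃ (Q K : Subgroup (↥N ⧸ Subgroup.center ↥N)) (p : ℕ), p.Prime ∧ Cfsg.IsFrobeniusComplement Q ∧ (Nat.card ↥Q).Prime ∧
      K.Normal ∧ (K : Set (↥N ⧸ Subgroup.center ↥N)) = Cfsg.frobeniusKernel Q ∧ Cfsg.IsElementaryAbelian p K) := by
  set π := QuotientGroup.mk' (center N) with hπ
  have sπ : Function.Surjective π := QuotientGroup.mk'_surjective _
  have k1 : ∀ a : N, π a = 1 ↔ (a : G) ∈ C[N] := fun a => by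
    rw [hπ, QuotientGroup.mk'_apply, QuotientGroup.eq_one_iff, mem_center_iff]
    exact ⟨fun h b hb => congrArg Subtype.val (h ⟨b, hb⟩), fun h b => Subtype.ext (h b b.2)⟩
  have ea : ∀ (p : ℕ) (D : Subgroup G), (∀ a ∈ N ⊓ D, ∀ b ∈ N ⊓ D, ⁅a, b⁆ ∈ C[N] ∧ a ^ p ∈ C[N]) →
      IsElementaryAbelian p ((D.subgroupOf N).map π) := fun p D hD => by
    refine ⟨⟨⟨?_⟩⟩, ?_⟩
    · rintro ⟨_, a, ha, rfl⟩ ⟨_, b, hb, rfl⟩
      exact Subtype.ext (commutatorElement_eq_one_iff_mul_comm.1 ((map_commutatorElement π a b).symm.trans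
        ((k1 _).2 (hD a ⟨a.2, ha⟩ b ⟨b.2, hb⟩).1)))
    · rintro _ ⟨a, ha, rfl⟩
      exact (map_pow π a p).symm.trans ((k1 _).2 (hD a ⟨a.2, ha⟩ a ⟨a.2, ha⟩).2)
  have et : ((⊤ : Subgroup G).subgroupOf N).map π = ⊤ := by
    rw [top_subgroupOf, map_top_of_surjective π sπ]
  by_cases hN : N ≤ C[N]
  · exact Or.inl ⟨2, Nat.prime_two, et ▸ ea 2 ⊤ fun a ha b hb =>
      ⟨hN (commutator_le_self N (commutator_mem_commutator ha.1 hb.1)), hN (pow_mem ha.1 2)⟩⟩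
  obtain ⟨p, hp, h1 | ⟨q, D, hq, _, ZD, ND, DC, h1, h2, h3⟩⟩ := raw h hN
  · exact Or.inl ⟨p, hp, et ▸ ea p ⊤ fun a ha b hb => h1 a ha.1 b hb.1⟩
  set K := (D.subgroupOf N).map π with hK
  haveI : K.Normal := Normal.map inferInstance π sπ
  have mK : ∀ a : N, π a ∈ K ↔ (a : G) ∈ D := fun a => by
    rw [hK, ← mem_comap, comap_map_eq_self fun (b : N) hb => mem_subgroupOf.2 (ZD ⟨b.2, (k1 b).1 hb⟩), mem_subgroupOf]
  have ck : H5.CK K := by
    rintro _ ⟨d, hd, rfl⟩ d1 g hg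
    obtain ⟨n, rfl⟩ := sπ g
    refine (mK n).2 (h2 d ⟨d.2, hd⟩ (fun e => d1 ((k1 d).2 e)) n n.2 ((k1 ⁅n, d⁆).1 ?_))
    rw [map_commutatorElement, commutatorElement_eq_one_iff_mul_comm, hg]
  have K0 : K ≠ ⊥ := fun e => DC fun a ha => (k1 ⟨a, ha.1⟩).1 (mem_bot.1 (e.le ((mK _).2 ha.2)))
  have K1 : K ≠ ⊤ := fun e => ND fun a ha => (mK ⟨a, ha⟩).1 (e.ge (mem_top _))
  obtain ⟨Q, hQ, e⟩ := ck.exists_frob K0 K1
  refine Or.inr ⟨Q, K, p, hp, hQ, ?_, inferInstance, e.symm, ea p D h1⟩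
  have e2 : H5.frobKer hQ = K := Subgroup.ext fun x => by rw [H5.mem_frobKer, e]; rfl
  rw [← H5.index_frobKer hQ, e2]
  have sj : ∀ x : (N ⧸ center N) ⧸ K, ∃ a : N, x = (π a : _) := fun x => by
    obtain ⟨y, rfl⟩ := QuotientGroup.mk_surjective x
    obtain ⟨a, rfl⟩ := sπ y
    exact ⟨a, rfl⟩
  haveI := (ck.free K0).isCyclic_of_comm fun x y => by
    obtain ⟨a, rfl⟩ := sj x
    obtain ⟨b, rfl⟩ := sj y
    refine commutatorElement_eq_one_iff_mul_comm.1 ((QuotientGroup.eq_one_iff (π ⁅a, b⁆)).2 ?_)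
    exact (mK _).2 (h3 a a.2 b b.2).1
  have : K.index ∣ q := by
    rw [index_eq_card, ← IsCyclic.exponent_eq_card]
    refine Monoid.exponent_dvd_of_forall_pow_eq_one fun x => ?_
    obtain ⟨a, rfl⟩ := sj x
    exact (QuotientGroup.eq_one_iff (π (a ^ q))).2 ((mK _).2 (h3 a a.2 a a.2).2)
  rwa [((Nat.dvd_prime hq).1 this).resolve_left fun e => K1 (index_eq_one.1 e)]

end Cfsg.Agent.S3905
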