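import Cfsg.Statements.S5138
import Cfsg.Agent.H92.Layer

set_option autoImplicit false
open Cfsg

namespace Cfsg.Agent.S5138
open H92 H93 Cfsg.FusionSystem

/-- Let F be a saturated fusion system over a finite p-group S and E₁, E₂ normal subsystems over T₁, T₂ with [T₁, T₂] = 1. Then there is a normal subsystem of F over T₁T₂ which, if moreover T₁ ∩ T₂ lies in the centre of E₁ and in the centre of E₂, is a central product of E₁ and E₂ (the factor system of a direct product of E₁ and E₂ modulo a subgroup of its centre meeting both factors trivially). -/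
theorem result {Ω : Type*} [Group Ω] {S : Subgroup Ω} [Finite S] (p : ℕ) [Fact p.Prime] (hS : IsPGroup p S) (F : Cfsg.FusionSystem S) (hF : F.IsSaturated p) {T₁ T₂ : Subgroup Ω} (E₁ : Cfsg.FusionSystem T₁) (E₂ : Cfsg.FusionSystem T₂) (hE₁ : E₁.IsNormalIn F p) (hE₂ : E₂.IsNormalIn F p) (hc : ⁅T₁, T₂⁆ = ⊥) : ∃ D : Cfsg.FusionSystem (T₁ ⊔ T₂), D.IsNormalIn F p ∧ (T₁ ⊓ T₂ ≤ E₁.center → T₁ ⊓ T₂ ≤ E₂.center → Cfsg.FusionSystem.IsCentralProductOf E₁ E₂ D) := by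
  obtain ⟨a, b, S', F', h, hA⟩ := exists_satA hS hF
  have h₁ := H94.le_of_isNormalIn hE₁
  have h₂ := H94.le_of_isNormalIn hE₂
  have := finite_of_le h₁
  have := finite_of_le h₂
  have hc' : T₁ ≤ Ct T₂ := Subgroup.commutator_eq_bot_iff_le_centralizer.1 hc
  obtain ⟨G₁, k₁⟩ := exists_tr_sub h h₁ E₁
  obtain ⟨G₂, k₂⟩ := exists_tr_sub h h₂ E₂
  have n1 := nrA_of hA (h.isNormalIn k₁ hE₁)
  have n2 := nrA_of hA (h.isNormalIn k₂ hE₂)
  by_cases hz : T₁ ⊓ T₂ ≤ E₁.center ∧ T₁ ⊓ T₂ ≤ E₂.center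
  · obtain ⟨D, hD, -⟩ := exists_cp hc' (isCentral_of_le (isCentral_center _) hz.1)
      (isCentral_of_le (isCentral_center _) hz.2)
    obtain ⟨D', k⟩ := exists_tr_sub h (sup_le h₁ h₂) D
    exact ⟨D, h.symm.isNormalIn k.symm
      ((cp_of (k.isCentralProductOf k₁ k₂ hD)).nrA n1 n2).isNormalIn, fun _ _ => hD⟩
  · obtain ⟨D', hD⟩ := exists_nrA_sup n1 n2 (le_trans (img_mono a (le_inf h₁ hc'))
      ((h.iso.img_centralizerIn' h₂).le.trans inf_le_right))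
    obtain ⟨D, k⟩ := h.iso.symm.exists_tr_sub hD.inv.le (T' := T₁ ⊔ T₂) (by
      rw [← h.iso.img_sup h₁ h₂, h.iso.img_img (sup_le h₁ h₂)]) D'
    exact ⟨D, h.symm.isNormalIn k hD.isNormalIn, fun z1 z2 => absurd ⟨z1, z2⟩ hz⟩

end Cfsg.Agent.S5138
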