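import Cfsg.Statements.S5149
import Cfsg.Agent.H92.Layer

set_option autoImplicit false
open Cfsg

namespace Cfsg.Agent.S5149
open H92 H93 Cfsg.FusionSystem

/-- A saturated fusion system F over a finite p-group has a layer: a normal subsystem containing every component of F as a subsystem and contained in every normal subsystem of F that contains every component. -/
theorem result {Ω : Type*} [Group Ω] {S : Subgroup Ω} [Finite S] (p : ℕ) [Fact p.Prime] (hS : IsPGroup p S) (F : Cfsg.FusionSystem S) (hF : F.IsSaturated p) : ∃ (T : Subgroup Ω) (E : Cfsg.FusionSystem T), E.IsLayerOf F p := by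
  obtain ⟨a, b, S', F', h, hA⟩ := exists_satA hS hF
  obtain ⟨T, E, hE⟩ := SatA.exists_layer hA
  obtain ⟨E', k⟩ := exists_tr_sub h.symm (H94.le_of_isNormalIn hE.1) E
  exact ⟨_, E', h.symm.isLayerOf k hE⟩

end Cfsg.Agent.S5149
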