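import Cfsg.Statements.S4730
import Cfsg.Agent.H41.RealBlock
import Cfsg.Agent.H29.GalChar

set_option autoImplicit false
open Cfsg

namespace Cfsg.Agent.S4730

/-- Let p be a prime, M a maximal ideal of the algebraic integers containing p, and G a finite group with trivial centre, Sylow p-subgroup P of order p^a and centre Z(P) of order p^b. If χ is a faithful irreducible character of G whose degree is a power of p, then the p-block of χ has defect at most a − b; in particular, if P is abelian then χ lies in a block of defect zero. -/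
theorem result {G : Type*} [Group G] [Finite G] (p : ℕ) [Fact p.Prime] (M : Ideal Cfsg.AlgInt) (hM : Cfsg.IsPModular p M) (hZ : Subgroup.center G = ⊥) (P : Sylow p G) (a b : ℕ) (ha : Nat.card P = p ^ a) (hb : Nat.card (Subgroup.center ↥(P : Subgroup G)) = p ^ b) (χ : Cfsg.IrrCharacter G) (hfaith : ∀ g : G, (χ : G → ℂ) g = (χ : G → ℂ) 1 → g = 1) (n : ℕ) (hdeg : Cfsg.charDegree (χ : G → ℂ) = p ^ n) : Cfsg.blockDefect p (Cfsg.blockOf M (χ : G → ℂ)) ≤ a - b ∧ (IsMulCommutative ↥(P : Subgroup G) → Cfsg.blockDefect p (Cfsg.blockOf M (χ : G → ℂ)) = 0) := by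
  open H28 H34 H35 in
  have := hM.2.1
  have := Fintype.ofFinite G
  have hp := hM.1
  have hB := isPBlock_blockOf (M := M) χ
  have := Fintype.ofFinite (Subgroup.center (P : Subgroup G))
  have hidx : ∀ z : Subgroup.center (P : Subgroup G),
      ¬ p ∣ (Subgroup.centralizer ({((z : P) : G)} : Set G)).index := fun z h =>
    P.not_dvd_index (h.trans (Subgroup.index_dvd_of_le fun x hx =>
      mem_centralizer_singleton.2 (congrArg Subtype.val (Subgroup.mem_center_iff.1 z.2 ⟨x, hx⟩))))
  have h0 : ∀ z : Subgroup.center (P : Subgroup G), z ≠ 1 → (χ : G → ℂ) ((z : P) : G) = 0 := by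
    intro z hz
    have hk : charKer (χ : G → ℂ) = ⊥ := eq_bot_iff.2 fun g hg => hfaith g (apply_of_mem_charKer hg)
    have hc := χ.2.charCenter_eq_center hk
    have hm := χ.2.mem_charCenter (g := ((z : P) : G))
    obtain ⟨d, ρ, hρ, hχ⟩ := χ.2
    rw [hc, hZ, Subgroup.mem_bot] at hm
    rw [← hχ] at hdeg hm ⊢
    rw [charDegree_rep] at hdeg
    refine (H29.char_eq_zero_or_norm_eq_of_coprime ρ _ ?_).resolve_right fun h => hz ?_
    · rw [hdeg]
      exact ((hp.coprime_iff_not_dvd).2 (hidx z)).pow_left _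
    · have := hm.2 (by rw [h, Representation.char_one, Complex.natCast_re])
      exact Subtype.ext (Subtype.ext this)
  have h1 : Cfsg.blockDefect p (Cfsg.blockOf M (χ : G → ℂ)) ≤ a - b := by
    obtain ⟨ψ, hψ, h2⟩ := exists_eq_minNu p (block_nonempty hB)
    have h3 : MemLocalIdeal M (∑ z : Subgroup.center (P : Subgroup G),
        ((χ : G → ℂ) ((z : P) : G) / (χ : G → ℂ) 1 - (ψ : G → ℂ) ((z : P) : G) / (ψ : G → ℂ) 1)) := by
      refine P_sum _ _ fun z _ => ?_
      have h5 : ((Subgroup.centralizer ({((z : P) : G)} : Set G)).index : ℂ) ≠ 0 :=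
        Nat.cast_ne_zero.2 Subgroup.index_ne_zero_of_finite
      convert P_mul_left (inv_natCast_mem_S hM (hidx z)) (hψ ((z : P) : G)) using 1
      simp only [centralChar]
      field_simp
    obtain ⟨m, hm⟩ := (ψ.2.isCharacter.comp ((P : Subgroup G).subtype.comp
      (Subgroup.center (P : Subgroup G)).subtype)).classInner_nat isCharacter_one
    have h4 := congrArg ((Nat.card (Subgroup.center (P : Subgroup G)) : ℂ) * ·) hm
    simp only [card_mul_classInner, map_one, mul_one, MonoidHom.comp_apply,
      Subgroup.coe_subtype] at h4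
    rw [Finset.sum_sub_distrib, Finset.sum_eq_single 1 (fun z _ hz => by rw [h0 z hz, zero_div])
      (by simp), ← Finset.sum_div, h4, hb, ← coe_deg ψ, ← Nat.cast_mul] at h3
    simp only [OneMemClass.coe_one, div_self χ.2.apply_one_ne_zero] at h3
    have h5 : ¬ MemLocalIdeal M (((p ^ b * m : ℕ) : ℂ) / (charDegree (ψ : G → ℂ) : ℂ)) :=
      fun h => P_not_one (by simpa using P_add h3 h)
    have hm0 : m ≠ 0 := by
      rintro rfl
      exact h5 (by simpa using P_zero)
    rw [P_natCast_div_natCast_iff hM (mul_ne_zero (pow_ne_zero _ hp.ne_zero) hm0) (deg_ne_zero ψ),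
      Nat.factorization_mul (pow_ne_zero _ hp.ne_zero) hm0, Finsupp.add_apply,
      hp.factorization_pow, Finsupp.single_eq_same] at h5
    have h6 : a = (Nat.card G).factorization p :=
      Nat.pow_right_injective hp.two_le (ha.symm.trans P.card_eq_multiplicity)
    rw [blockDefect_eq, ← h6]
    omega
  refine ⟨h1, fun h => ?_⟩
  have h2 : Subgroup.center (P : Subgroup G) = ⊤ :=
    eq_top_iff.2 fun x _ => Subgroup.mem_center_iff.2 fun y => h.1.1 y x
  rw [h2, Subgroup.card_top, ha] at hb
  have := Nat.pow_right_injective hp.two_le hb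
  omega

end Cfsg.Agent.S4730
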