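import Cfsg.Statements.S3968
import Cfsg.Agent.S4730
import Cfsg.Agent.H28.Degree
import Cfsg.Agent.H35.Loc

set_option autoImplicit false
open Cfsg

namespace Cfsg.Agent.S3968

/-- Let `p` be a prime and `G` a finite group with a faithful irreducible complex character of degree `p` (so `G` is an irreducible linear group in `p` variables). If `p ^ 2` divides the order of `G`, then the centre of `G` is nontrivial. -/
theorem result {G : Type*} [Group G] [Finite G] (p : ℕ) (hp : p.Prime) (χ : Cfsg.IrrCharacter G) (hdeg : χ.1 1 = p) (hfaith : ∀ g : G, χ.1 g = χ.1 1 → g = 1) (hdiv : p ^ 2 ∣ Nat.card G) : Subgroup.center G ≠ ⊥ := by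
  open H28 in
  intro hZ
  have := Fact.mk hp
  have := Fintype.ofFinite G
  obtain ⟨P⟩ : Nonempty (Sylow p G) := inferInstance
  have := Fintype.ofFinite P
  obtain ⟨M, hM⟩ := H35.exists_isPModular p hp
  have h2 : 2 ≤ (Nat.card G).factorization p :=
    (hp.pow_dvd_iff_le_factorization Nat.card_pos.ne').1 hdiv
  have hd : charDegree χ.1 = p := χ.2.isCharacter.charDegree_eq_iff.2 hdeg
  have hk : charKer χ.1 = ⊥ := charKer_eq_bot_of_forall hfaith
  have hc := χ.2.isCharacter.restrict (P : Subgroup G)
  have ab : IsMulCommutative (P : Subgroup G) := by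
    by_contra na
    obtain ⟨ψ, hψ, h1, h3⟩ : ∃ ψ, IsIrrCharacter P ψ ∧
        classInner (fun x : P => χ.1 x) ψ ≠ 0 ∧ charDegree ψ ≠ 1 := by
      by_contra! h
      refine na ⟨⟨fun a b => commutatorElement_eq_one_iff_mul_comm.1 ?_⟩⟩
      have := hc.mem_charKer_iff_constituents.2 fun ψ hψ h1 => hψ.charDegree_eq_one_iff.1
        (h ψ hψ h1) (Subgroup.commutator_mem_commutator (Subgroup.mem_top a) (Subgroup.mem_top b))
      rw [χ.2.isCharacter.charKer_restrict, hk, Subgroup.mem_subgroupOf, Subgroup.mem_bot] at this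
      exact Subtype.ext this
    obtain ⟨k, e⟩ := hψ.exists_pow_charDegree P.isPGroup'
    have l := hc.charDegree_le_of_constituent hψ h1
    have k1 : p ∣ charDegree ψ := e ▸ dvd_pow_self p fun k0 => h3 (by rw [e, k0, pow_zero])
    have e1 : charDegree ψ = p := le_antisymm (l.trans_eq hd) (Nat.le_of_dvd hψ.charDegree_pos k1)
    rw [← hc.eq_irr_of_degree_eq hψ h1 (hdeg.trans (hψ.isCharacter.charDegree_eq_iff.1 e1).symm)]
      at hψ
    have : Nontrivial P := by
      by_contra t
      have := not_nontrivial_iff_subsingleton.1 t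
      exact na ⟨⟨fun a b => Subsingleton.elim _ _⟩⟩
    have := P.isPGroup'.center_nontrivial
    obtain ⟨z, z1⟩ := exists_ne (1 : Subgroup.center P)
    have := χ.2.mem_charCenter.2 (hψ.mem_charCenter.1 (hψ.center_le_charCenter z.2))
    rw [χ.2.charCenter_eq_center hk, hZ] at this
    exact z1 (Subtype.ext (Subtype.ext this))
  obtain ⟨b, hb⟩ := IsPGroup.iff_card.1 (P.isPGroup'.to_subgroup (Subgroup.center P))
  have h0 := (S4730.result p M hM hZ P _ b P.card_eq_multiplicity hb χ hfaith 1
    (by rw [hd, pow_one])).2 ab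
  have := hM.2.1
  have := H35.minNu_le p (H34.self_mem_blockOf (M := M) χ)
  rw [H35.blockDefect_eq] at h0
  rw [hd, hp.factorization_self] at this
  omega

end Cfsg.Agent.S3968
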