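import Cfsg.Statements.S2238
import Cfsg.Agent.H66.SzPart

set_option autoImplicit false
open Cfsg

namespace Cfsg.Agent.S2238

/-- The partition of the Suzuki group: with q = 2^(2m+1), m ≥ 1, r = 2^m and the Suzuki group realised as the stabiliser in SL₄ of the Suzuki–Tits ovoid, every non-identity element lies in exactly one subgroup that is either a Sylow 2-subgroup or a cyclic subgroup of order q − 1, q + 2r + 1 or q − 2r + 1. -/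
theorem result {F : Type*} [Field F] [Fintype F] {m : ℕ} (hm : 1 ≤ m) (hF : Fintype.card F = 2 ^ (2 * m + 1)) (g : ↥(Cfsg.Sz F m)) (hg : g ≠ 1) :
    ∃! U : Subgroup ↥(Cfsg.Sz F m), ((∃ P : Sylow 2 ↥(Cfsg.Sz F m), U = (P : Subgroup ↥(Cfsg.Sz F m))) ∨
      (IsCyclic ↥U ∧ Nat.card ↥U ∈ ({2 ^ (2 * m + 1) - 1, 2 ^ (2 * m + 1) + 2 ^ (m + 1) + 1, 2 ^ (2 * m + 1) - 2 ^ (m + 1) + 1} : Set ℕ))) ∧ g ∈ U := by
  have hT := H66.titsOf_isFin F hm hF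
  let M := H66.modelA hT
  have key : ∀ U : Subgroup ↥(Cfsg.Sz F m),
      ((∃ P : Sylow 2 ↥(Cfsg.Sz F m), U = (P : Subgroup ↥(Cfsg.Sz F m))) ∨
      (IsCyclic ↥U ∧ Nat.card ↥U ∈ ({2 ^ (2 * m + 1) - 1, 2 ^ (2 * m + 1) + 2 ^ (m + 1) + 1,
        2 ^ (2 * m + 1) - 2 ^ (m + 1) + 1} : Set ℕ))) ↔
      ((∃ x, U = (M.conj x).Q) ∨ H66.IsTorus m U) := by
    intro U
    refine or_congr ⟨?_, ?_⟩ Iff.rfl
    · rintro ⟨P, rfl⟩
      exact M.sylow_eq hT P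
    · rintro ⟨x, rfl⟩
      exact ⟨(M.conj x).sylowQ hT, rfl⟩
  simp only [key]
  rcases M.mem_cases hT g with ⟨x, hx⟩ | ⟨A, hA, hx⟩
  · refine ⟨_, ⟨Or.inl ⟨x, rfl⟩, hx⟩, ?_⟩
    rintro U ⟨⟨y, rfl⟩ | hU, hy⟩
    · exact M.conj_Q_eq hy hx hg
    · exact absurd (H66.Model.eq_one_of_mem_torus hU hy ((M.conj x).pow_four_of_mem_Q hx)) hg
  · refine ⟨_, ⟨Or.inr hA, hx⟩, ?_⟩
    rintro U ⟨⟨y, rfl⟩ | hU, hy⟩
    · exact absurd (H66.Model.eq_one_of_mem_torus hA hx ((M.conj y).pow_four_of_mem_Q hy)) hg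
    · exact (M.isCC_of_isTorus hT hU).eq_of_mem (M.isCC_of_isTorus hT hA) hy hx hg

end Cfsg.Agent.S2238
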