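import Cfsg.Statements.S4221
import Cfsg.Agent.Base
import Cfsg.Agent.H76.Hall4B

set_option autoImplicit false
open Cfsg

namespace Cfsg.Agent.S4221

/-- Let `G` be a `4`-fold transitive permutation group on a finite set of `n` points in which the pointwise stabilizer of some four distinct points has odd order. Then `n = 4` or `n = 5` with `G` the full symmetric group, or `n = 6` or `n = 7` with `G` the alternating group, or `n = 11` and `G` has order `7920`. -/
theorem result {α : Type*} [Fintype α] [DecidableEq α] (G : Subgroup (Equiv.Perm α)) (hG : MulAction.IsMultiplyPretransitive G α 4) (x : Fin 4 ↪ α) (hodd : Odd (Nat.card (MulAction.stabilizer G x))) : ((Fintype.card α = 4 ∨ Fintype.card α = 5) ∧ G = ⊤) ∨ ((Fintype.card α = 6 ∨ Fintype.card α = 7) ∧ G = alternatingGroup α) ∨ (Fintype.card α = 11 ∧ Nat.card G = 7920) := by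
  have dx : H76.Tits4.D4 (x 0) (x 1) (x 2) (x 3) := by
    refine ⟨?_, ?_, ?_, ?_, ?_, ?_⟩ <;> exact fun e => absurd (x.injective e) (by decide)
  have h : H76.Hall4.O4 G α := ⟨hG, fun g hg => Subtype.ext (Equiv.ext hg), fun {a b c d} hd g ga gb gc gd => by
    have h' : MulAction.IsPretransitive G (Fin 4 ↪ α) := hG
    obtain ⟨l, hl⟩ := MulAction.exists_smul_eq G x (H76.Tits4.emb hd)
    have k : ∀ i, l • x i = H76.Tits4.emb hd i := fun i => by
      have := congrArg (fun y : Fin 4 ↪ α => y i) hl
      simpa using this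
    have hm : l⁻¹ * g * l ∈ MulAction.stabilizer G x := by
      refine (H76.mem_stabilizer_emb_iff (G := G) x _).2 fun i => ?_
      rw [mul_smul, mul_smul, inv_smul_eq_iff, k]
      fin_cases i
      exacts [ga, gb, gc, gd]
    have := Odd.of_dvd_nat hodd (Subgroup.orderOf_dvd_natCard _ hm)
    rwa [show l⁻¹ * g * l = MulAut.conj l⁻¹ g by simp, MulEquiv.orderOf_eq] at this⟩
  have h4 : 4 ≤ Fintype.card α := by simpa using Fintype.card_le_of_embedding x
  have hc : Nat.card α = Fintype.card α := Nat.card_eq_fintype_card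
  have halt : 6 ≤ Fintype.card α → alternatingGroup α ≤ G → G = alternatingGroup α := by
    intro h6 hle
    refine le_antisymm (fun g hg => ?_) hle
    by_contra hne
    obtain ⟨a, b, hab, hs⟩ : ∃ a b : α, a ≠ b ∧ ∀ i, x i ≠ a ∧ x i ≠ b := by
      have h1 : 1 < (Finset.univ.map x)ᶜ.card := by
        rw [Finset.card_compl, Finset.card_map, Finset.card_univ, Fintype.card_fin]; omega
      obtain ⟨a, ha, b, hb, hab⟩ := Finset.one_lt_card.1 h1
      refine ⟨a, b, hab, fun i => ⟨?_, ?_⟩⟩
      · rintro rfl; simp at ha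
      · rintro rfl; simp at hb
    have hsw : Equiv.swap a b ∈ G := by
      have h1 : Equiv.swap a b * g⁻¹ ∈ alternatingGroup α := by
        rw [Equiv.Perm.mem_alternatingGroup] at hne ⊢
        rw [map_mul, map_inv, Equiv.Perm.sign_swap hab,
          (Int.units_eq_one_or (Equiv.Perm.sign g)).resolve_left hne]
        simp
      simpa using G.mul_mem (hle h1) hg
    have f : ∀ i, (⟨_, hsw⟩ : G) • x i = x i := fun i =>
      Equiv.swap_apply_of_ne_of_ne (hs i).1 (hs i).2
    have := h.inv1 dx (g := ⟨_, hsw⟩) (Subtype.ext (Equiv.swap_mul_self a b)) (f 0) (f 1) (f 2) (f 3)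
    exact hab (Equiv.swap_eq_one_iff.1 (congrArg Subtype.val this))
  by_cases h8 : 8 ≤ Fintype.card α
  · have hS := h.sharp (hc ▸ h8)
    have h11 := H76.Tits4.deg4 hS (hc ▸ h4)
    refine Or.inr (Or.inr ⟨by omega, (hS.simple_eleven (by omega)).2⟩)
  obtain h1 | h1 | h1 | h1 : Fintype.card α = 4 ∨ Fintype.card α = 5 ∨ Fintype.card α = 6 ∨
    Fintype.card α = 7 := by omega
  · exact Or.inl ⟨Or.inl h1, Equiv.Perm.eq_top_of_isMultiplyPretransitive
      (MulAction.isMultiplyPretransitive_of_le (n := 4) (by omega) (by omega))⟩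
  · exact Or.inl ⟨Or.inr h1, Equiv.Perm.eq_top_of_isMultiplyPretransitive
      (MulAction.isMultiplyPretransitive_of_le (n := 4) (by omega) (by omega))⟩
  · exact Or.inr (Or.inl ⟨Or.inl h1, halt (by omega) (IsMultiplyPretransitive.alternatingGroup_le α G
      (MulAction.isMultiplyPretransitive_of_le (n := 4) (by omega) (by omega)))⟩)
  · refine Or.inr (Or.inl ⟨Or.inr h1, halt (by omega) ?_⟩)
    obtain ⟨y, hy⟩ : ∃ y : Fin 4 ↪ α, MulAction.stabilizer G y ≠ ⊥ := by
      by_contra hne
      push Not at hne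
      exact H76.SharpT.four_ne_seven (G := G) (α := α) ⟨hG, hne⟩ (hc.trans h1)
    obtain ⟨⟨k, hk⟩, hk1⟩ := Subgroup.ne_bot_iff_exists_ne_one.1 hy
    have hk2 : (k : Equiv.Perm α) ≠ 1 := fun e => hk1 (Subtype.ext (Subtype.ext e))
    replace hk := (H76.mem_stabilizer_emb_iff (G := G) y k).1 hk
    have ho := h.od (a := y 0) (b := y 1) (c := y 2) (d := y 3) (by
      refine ⟨?_, ?_, ?_, ?_, ?_, ?_⟩ <;> exact fun e => absurd (y.injective e) (by decide))
      (hk 0) (hk 1) (hk 2) (hk 3)
    have h3 : (k : Equiv.Perm α).support.card ≤ 3 := by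
      have : (k : Equiv.Perm α).support ⊆ (Finset.univ.map y)ᶜ := fun z hz => by
        rw [Finset.mem_compl, Finset.mem_map]
        rintro ⟨i, -, rfl⟩
        exact Equiv.Perm.mem_support.1 hz (hk i)
      have := Finset.card_le_card this
      rwa [Finset.card_compl, Finset.card_map, Finset.card_univ, Fintype.card_fin, h1] at this
    have h2 := Equiv.Perm.two_le_card_support_of_ne_one hk2
    have h2' : (k : Equiv.Perm α).support.card ≠ 2 := fun e => by
      rw [← Subgroup.orderOf_coe, (Equiv.Perm.card_support_eq_two.1 e).orderOf] at ho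
      exact absurd ho (by decide)
    exact Equiv.Perm.alternatingGroup_le_of_isPreprimitive_of_isThreeCycle_mem
      (MulAction.isPreprimitive_of_is_two_pretransitive
        (MulAction.isMultiplyPretransitive_of_le (n := 4) (by omega) (by omega)))
      (card_support_eq_three_iff.1 (by omega)) k.2

end Cfsg.Agent.S4221
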