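import Cfsg.Agent.Base
import Cfsg.Agent.H90.ZassSolv
import Cfsg.Agent.H21.DihedralMult
import Cfsg.Statements.S4291

set_option autoImplicit false
open Cfsg

namespace Cfsg.Agent.S4291

/-- No non-trivial normal subgroup has cyclic Sylow subgroups. -/
def NoZ (X : Type*) [Group X] : Prop := ∀ N : Subgroup X, N.Normal → IsZGroup N → N = ⊥

theorem noZ_of {X : Type*} [Group X] [Finite X]
    (h : ∀ x : X, (Subgroup.zpowers x).Normal → x = 1) : NoZ X := by
  have key : ∀ N : Subgroup X, N.Normal → IsCyclic N → N = ⊥ := fun N hN hc => by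
    obtain ⟨x, rfl⟩ := (Subgroup.isCyclic_iff_exists_zpowers_eq_top N).1 hc
    rw [h x hN, Subgroup.zpowers_one_eq_bot]
  intro N hN hZ
  have h1 : (commutator N).map N.subtype = ⊥ :=
    key _ (H2.normal_map_subtype_of_characteristic N _) (by
      have := IsZGroup.isCyclic_commutator N
      exact isCyclic_of_surjective _
        (Subgroup.equivMapOfInjective _ _ N.subtype_injective).surjective)
  rw [Subgroup.map_eq_bot_iff_of_injective _ N.subtype_injective] at h1
  have : IsMulCommutative N := (commutator_eq_bot_iff N).1 h1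
  have := H2.isNilpotent_of_isMulCommutative N
  exact key N hN inferInstance

theorem not_normal_of {X : Type*} [Group X] {x g : X} {n : ℕ} [NeZero n] (hx : x ^ n = 1)
    (h : ∀ k : Fin n, g * x * g⁻¹ ≠ x ^ (k : ℕ)) : ¬ (Subgroup.zpowers x).Normal := fun hN => by
  have h1 := hN.conj_mem x (Subgroup.mem_zpowers x) g
  rw [← (isOfFinOrder_iff_pow_eq_one.2 ⟨n, NeZero.pos n, hx⟩).mem_powers_iff_mem_zpowers] at h1
  obtain ⟨k, hk⟩ := h1
  refine h ⟨k % n, Nat.mod_lt _ (NeZero.pos n)⟩ ?_
  rw [← pow_eq_pow_mod k hx]; exact hk.symm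

theorem noZ_S4 : NoZ (Equiv.Perm (Fin 4)) := noZ_of fun x hN => by
  by_contra h1
  have : ∀ x : Equiv.Perm (Fin 4), x ≠ 1 → x ^ 12 = 1 ∧
    ∃ g : Equiv.Perm (Fin 4), ∀ k : Fin 12, g * x * g⁻¹ ≠ x ^ (k : ℕ) := by decide +kernel
  obtain ⟨h2, g, h3⟩ := this x h1
  exact not_normal_of h2 h3 hN

theorem noZ_A4 : NoZ (alternatingGroup (Fin 4)) := noZ_of fun x hN => by
  by_contra h1
  have : ∀ x : alternatingGroup (Fin 4), x ≠ 1 → x ^ 6 = 1 ∧
    ∃ g : alternatingGroup (Fin 4), ∀ k : Fin 6, g * x * g⁻¹ ≠ x ^ (k : ℕ) := by decide +kernel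
  obtain ⟨h2, g, h3⟩ := this x h1
  exact not_normal_of h2 h3 hN

theorem noZ_S5 : NoZ (Equiv.Perm (Fin 5)) := noZ_of fun x hN => by
  by_contra h1
  have h2 := Equiv.Perm.alternatingGroup_le_of_normal (α := Fin 5) (by simp)
    ((Subgroup.nontrivial_iff_ne_bot (Subgroup.zpowers x)).2 (by simpa using h1))
  obtain ⟨s, hs⟩ := h2 (show (Equiv.swap 0 1 * Equiv.swap 1 2 : Equiv.Perm (Fin 5)) ∈
    alternatingGroup _ from Equiv.Perm.mem_alternatingGroup.2 (by decide))
  obtain ⟨t, ht⟩ := h2 (show (Equiv.swap 2 3 * Equiv.swap 3 4 : Equiv.Perm (Fin 5)) ∈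
    alternatingGroup _ from Equiv.Perm.mem_alternatingGroup.2 (by decide))
  have := zpow_mul_comm x s t
  simp only at hs ht
  rw [hs, ht] at this
  exact absurd this (by decide)

theorem noZ_A5 : NoZ (alternatingGroup (Fin 5)) := noZ_of fun x hN => by
  by_contra h1
  have h2 := (hN.eq_bot_or_eq_top).resolve_left (by simpa using h1)
  obtain ⟨s, hs⟩ : (⟨Equiv.swap 0 1 * Equiv.swap 1 2, Equiv.Perm.mem_alternatingGroup.2
      (by decide)⟩ : alternatingGroup (Fin 5)) ∈ Subgroup.zpowers x :=
    h2 ▸ Subgroup.mem_top _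
  obtain ⟨t, ht⟩ : (⟨Equiv.swap 2 3 * Equiv.swap 3 4, Equiv.Perm.mem_alternatingGroup.2
      (by decide)⟩ : alternatingGroup (Fin 5)) ∈ Subgroup.zpowers x :=
    h2 ▸ Subgroup.mem_top _
  have := zpow_mul_comm x s t
  simp only at hs ht
  rw [hs, ht] at this
  exact absurd this (by decide)

theorem NoZ.le_ker {G X : Type*} [Group G] [Finite G] [Group X] (h : NoZ X) (f : G →* X)
    (hf : Function.Surjective f) (N : Subgroup G) (hN : N.Normal) (hZ : IsZGroup N) :
    N ≤ f.ker := by
  rw [← Subgroup.map_eq_bot_iff]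
  exact h _ (hN.map f hf) (IsZGroup.of_surjective (f.subgroupMap_surjective N))

theorem index_ker_eq {G X : Type*} [Group G] [Group X] (f : G →* X)
    (hf : Function.Surjective f) : f.ker.index = Nat.card X := by
  rw [Subgroup.index_ker, MonoidHom.range_eq_top.2 hf, Subgroup.card_top]

theorem not_isZGroup_V : ¬ IsZGroup (DihedralGroup 2) := fun h => by
  have : IsMulCommutative (DihedralGroup 2) := ⟨⟨by decide⟩⟩
  have := H2.isNilpotent_of_isMulCommutative (DihedralGroup 2)
  exact IsKleinFour.not_isCyclic (G := DihedralGroup 2) inferInstance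

theorem exists_two_gen {G : Type*} [Group G] [Finite G] (h : H90.Free G) (P : Sylow 2 G) :
    ∃ a b : G, (P : Subgroup G) = Subgroup.closure {a, b} := by
  rcases h.isCyclic_or_quaternion_two P.isPGroup' with hc | ⟨n, -, ⟨e⟩⟩
  · obtain ⟨x, hx⟩ := (Subgroup.isCyclic_iff_exists_zpowers_eq_top _).1 hc
    exact ⟨x, x, by rw [← hx, Subgroup.zpowers_eq_closure]; simp⟩
  · refine ⟨e.symm (.a 1), e.symm (.xa 0), ?_⟩
    have := congrArg (Subgroup.map ((P : Subgroup G).subtype.comp e.symm.toMonoidHom))
      (H21.quaternion_closure (2 ^ n))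
    rw [← MonoidHom.range_eq_map, MonoidHom.range_comp, MonoidHom.range_eq_top.2 e.symm.surjective,
      ← MonoidHom.range_eq_map, Subgroup.range_subtype, MonoidHom.map_closure,
      Set.image_pair] at this
    exact this.symm

theorem ker_eq_of_V {G : Type*} [Group G] [Finite G] (h : H90.Free G)
    (f₁ f₂ : G →* DihedralGroup 2) (h₁ : Function.Surjective f₁) : f₁.ker ≤ f₂.ker := by
  obtain ⟨P⟩ : Nonempty (Sylow 2 G) := inferInstance
  obtain ⟨a, b, hab⟩ := exists_two_gen h P
  let F := f₁.prod f₂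
  have hsq : ∀ v : DihedralGroup 2 × DihedralGroup 2, v * v = 1 := by decide
  have hp : IsPGroup 2 (DihedralGroup 2 × DihedralGroup 2) := fun v => ⟨1, by
    rw [pow_one, sq, hsq]⟩
  have hF : F.range = Subgroup.closure {F a, F b} := by
    rw [MonoidHom.range_eq_map, ← H7.pResidual_sup_sylow P, Subgroup.map_sup,
      (Subgroup.map_eq_bot_iff _).2 (H7.pResidual_le_ker hp F), bot_sup_eq, hab,
      MonoidHom.map_closure, Set.image_pair]
  have hle : Nat.card F.range ≤ 4 := by
    have hsub : (F.range : Set (DihedralGroup 2 × DihedralGroup 2)) ⊆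
        (({1, F a, F b, F a * F b} : Finset (DihedralGroup 2 × DihedralGroup 2)) : Set _) := by
      rw [hF]
      intro v hv
      have hcomm : ∀ v w : DihedralGroup 2 × DihedralGroup 2, v * w = w * v := by decide
      have hinv : ∀ v : DihedralGroup 2 × DihedralGroup 2, v⁻¹ = v := by decide
      generalize F a = s at *
      generalize F b = t at *
      have e1 : s * (s * t) = t := by rw [← mul_assoc, hsq, one_mul]
      have e2 : t * (s * t) = s := by rw [hcomm s t, ← mul_assoc, hsq, one_mul]
      induction hv using Subgroup.closure_induction_left with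
      | one => simp
      | mul_left x hx y _ hy =>
        simp only [Finset.coe_insert, Finset.coe_singleton, Set.mem_insert_iff,
          Set.mem_singleton_iff] at hx hy ⊢
        rcases hx with hx | hx <;> rcases hy with hy | hy | hy | hy <;> rw [hx, hy] <;>
          simp [hsq, e1, e2, hcomm t s]
      | inv_mul_cancel x hx y _ hy =>
        rw [hinv]
        simp only [Finset.coe_insert, Finset.coe_singleton, Set.mem_insert_iff,
          Set.mem_singleton_iff] at hx hy ⊢
        rcases hx with hx | hx <;> rcases hy with hy | hy | hy | hy <;> rw [hx, hy] <;>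
          simp [hsq, e1, e2, hcomm t s]
    have := Set.ncard_le_ncard hsub
    rw [Set.ncard_coe_finset] at this
    exact this.trans Finset.card_le_four
  have hk : F.ker = f₁.ker ⊓ f₂.ker := by ext g; simp [F, MonoidHom.mem_ker]
  rw [← Subgroup.index_ker, hk] at hle
  have h4 : f₁.ker.index = 4 := by rw [index_ker_eq f₁ h₁]; simp [DihedralGroup.card]
  have h5 := Subgroup.relIndex_mul_index (inf_le_left : f₁.ker ⊓ f₂.ker ≤ f₁.ker)
  have h6 : (f₁.ker ⊓ f₂.ker).relIndex f₁.ker ≠ 0 := Subgroup.index_ne_zero_of_finite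
  have h7 : (f₁.ker ⊓ f₂.ker).relIndex f₁.ker = 1 := by rw [h4] at h5; omega
  exact (Subgroup.relIndex_eq_one.1 h7).trans inf_le_right

theorem alt_or_perm {G : Type*} [Group G] {n : ℕ} (f : G →* Equiv.Perm (Fin (n + 2)))
    (h : alternatingGroup _ ≤ f.range) :
    (∃ f' : G →* alternatingGroup (Fin (n + 2)), Function.Surjective f' ∧ f'.ker = f.ker) ∨
      Function.Surjective f := by
  have h1 := Subgroup.index_dvd_of_le h
  rw [alternatingGroup.index_eq_two] at h1
  rcases (Nat.dvd_prime Nat.prime_two).1 h1 with h2 | h2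
  · exact Or.inr (MonoidHom.range_eq_top.1 (Subgroup.index_eq_one.1 h2))
  · have h3 := Equiv.Perm.eq_alternatingGroup_of_index_eq_two h2
    refine Or.inl ⟨f.codRestrict _ fun g => h3 ▸ ⟨g, rfl⟩, fun s => ?_, f.ker_codRestrict _ _⟩
    obtain ⟨g, hg⟩ := h s.2
    exact ⟨g, Subtype.ext hg⟩

/-- The kernel of a map onto a group of order at least twelve without normal Z-subgroups. -/
def Big {G : Type*} [Group G] (N : Subgroup G) : Prop :=
  12 ≤ N.index ∧ ∀ M : Subgroup G, M.Normal → IsZGroup M → M ≤ N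

theorem big_of {G X : Type*} [Group G] [Finite G] [Group X] (h : NoZ X) (hX : 12 ≤ Nat.card X)
    {N : Subgroup G} (hf : ∃ f : G →* X, Function.Surjective f ∧ f.ker = N) : Big N := by
  obtain ⟨f, hf, rfl⟩ := hf
  exact ⟨by rwa [index_ker_eq f hf], h.le_ker f hf⟩


/-- Let G be a finite group that occurs as a Frobenius complement. Then G has exactly one normal subgroup N such that every Sylow subgroup of N is cyclic and the quotient of G by N is trivial or isomorphic to one of the following five groups: the Klein four-group, the alternating group of degree 4, the symmetric group of degree 4, the alternating group of degree 5, the symmetric group of degree 5. (The quotient is described by a surjective homomorphism with kernel N; the Klein four-group is written as the dihedral group of order 4.) -/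
theorem result {G : Type*} [Group G] [Finite G]
    (hFC : (∃ (L : Type) (_ : Group L) (_ : Finite L) (H : Subgroup L), Cfsg.IsFrobeniusComplement H ∧ Nonempty (G ≃* H))) :
    ∃! N : Subgroup G, N.Normal ∧ (∀ (p : ℕ) [Fact p.Prime] (P : Sylow p N), IsCyclic P) ∧
      (N = ⊤ ∨
        (∃ f : G →* DihedralGroup 2, Function.Surjective f ∧ f.ker = N) ∨
        (∃ f : G →* alternatingGroup (Fin 4), Function.Surjective f ∧ f.ker = N) ∨
        (∃ f : G →* Equiv.Perm (Fin 4), Function.Surjective f ∧ f.ker = N) ∨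
        (∃ f : G →* alternatingGroup (Fin 5), Function.Surjective f ∧ f.ker = N) ∨
        (∃ f : G →* Equiv.Perm (Fin 5), Function.Surjective f ∧ f.ker = N)) := by

  have h := H90.Free.of_FC hFC
  have hZ : ∀ N : Subgroup G, (∀ (p : ℕ) [Fact p.Prime] (P : Sylow p N), IsCyclic P) ↔
      IsZGroup N := fun N =>
    ⟨fun h1 => ⟨fun p hp P => @h1 p ⟨hp⟩ P⟩, fun _ _ _ _ => inferInstance⟩
  simp only [hZ]
  apply existsUnique_of_exists_of_unique
  · by_cases hs : Group.IsSolvable G
    · by_cases hn : HasNormalPComplement 2 G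
      · rcases h.npc_structure hn with h1 | ⟨f, h1, h2⟩
        · exact ⟨⊤, inferInstance, inferInstance, Or.inl rfl⟩
        · exact ⟨f.ker, inferInstance, h2, Or.inr (Or.inl ⟨f, h1, rfl⟩)⟩
      · obtain ⟨φ, f, -, -, -, -, h1, h2⟩ := h.solvable_structure hn
        refine ⟨f.ker, inferInstance, (h.subgroup _).isZGroup_of_sq fun c k hk =>
          Subtype.ext (h2 c c.2 k (by simpa using congrArg Subtype.val hk)), ?_⟩
        rcases alt_or_perm f h1 with h3 | h3
        · exact Or.inr (Or.inr (Or.inl h3))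
        · exact Or.inr (Or.inr (Or.inr (Or.inl ⟨f, h3, rfl⟩)))
    · obtain ⟨φ, f, M, -, -, -, h1, -, h2, h3, -⟩ := h.nonsolvable_structure hs
      have h4 : ∀ c ∈ M, ∀ k, c ^ 2 ^ k = 1 → c = 1 := fun c hc k hk =>
        orderOf_eq_one_iff.1 (Nat.eq_one_of_dvd_coprimes
          ((h2.coprime_dvd_right (show 2 ∣ 30 by norm_num)).pow_right k)
          (M.orderOf_dvd_natCard hc) (orderOf_dvd_of_pow_eq_one hk))
      have hz : φ (-1) * φ (-1) = 1 := by rw [← map_mul]; simp
      refine ⟨f.ker, inferInstance, (h.subgroup _).isZGroup_of_sq fun c k hk => ?_, ?_⟩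
      · have hk' : (c : G) ^ 2 ^ k = 1 := by simpa using congrArg Subtype.val hk
        apply Subtype.ext
        rcases h3 c c.2 with h5 | h5
        · simp [h4 _ h5 k hk']
        · have h6 := h4 _ h5 (k + 1) (by
            rw [Commute.mul_pow (h.mul_comm_of_sq hz c), pow_succ' 2, pow_mul, sq, hz, one_pow,
              mul_comm 2, pow_mul, hk', one_pow, one_mul])
          rw [Subgroup.coe_mul, eq_inv_of_mul_eq_one_right h6, ← mul_inv_rev, hz, inv_one]
          rfl
      · rcases alt_or_perm f (h1 ▸ Subgroup.map_le_range _ _) with h5 | h5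
        · exact Or.inr (Or.inr (Or.inr (Or.inr (Or.inl h5))))
        · exact Or.inr (Or.inr (Or.inr (Or.inr (Or.inr ⟨f, h5, rfl⟩))))
  · have key : ∀ N : Subgroup G, (N = ⊤ ∨
        (∃ f : G →* DihedralGroup 2, Function.Surjective f ∧ f.ker = N) ∨
        (∃ f : G →* alternatingGroup (Fin 4), Function.Surjective f ∧ f.ker = N) ∨
        (∃ f : G →* Equiv.Perm (Fin 4), Function.Surjective f ∧ f.ker = N) ∨
        (∃ f : G →* alternatingGroup (Fin 5), Function.Surjective f ∧ f.ker = N) ∨
        (∃ f : G →* Equiv.Perm (Fin 5), Function.Surjective f ∧ f.ker = N)) →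
        (N = ⊤ ∨ (∃ f : G →* DihedralGroup 2, Function.Surjective f ∧ f.ker = N)) ∨ Big N := by
      rintro N (h1 | h1 | h1 | h1 | h1 | h1)
      · exact Or.inl (Or.inl h1)
      · exact Or.inl (Or.inr h1)
      · exact Or.inr (big_of noZ_A4 (by
          rw [alternatingGroup.card_of_card_eq_four (by simp)]) h1)
      · exact Or.inr (big_of noZ_S4 (by
          rw [Nat.card_eq_fintype_card, Fintype.card_perm, Fintype.card_fin]; decide) h1)
      · exact Or.inr (big_of noZ_A5 (by
          rw [nat_card_alternatingGroup, Nat.card_eq_fintype_card, Fintype.card_fin]; decide) h1)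
      · exact Or.inr (big_of noZ_S5 (by
          rw [Nat.card_eq_fintype_card, Fintype.card_perm, Fintype.card_fin]; decide) h1)
    have small : ∀ N M : Subgroup G, N.Normal → IsZGroup N →
        (N = ⊤ ∨ (∃ f : G →* DihedralGroup 2, Function.Surjective f ∧ f.ker = N)) → ¬ Big M := by
      rintro N M h1 h2 h3 ⟨h4, h5⟩
      have h6 := Subgroup.index_dvd_of_le (h5 N h1 h2)
      have h7 : N.index ∣ 4 := by
        rcases h3 with rfl | ⟨f, hf, rfl⟩
        · simp
        · rw [index_ker_eq f hf]; simp [DihedralGroup.card]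
      have := Nat.le_of_dvd (by norm_num) (h6.trans h7)
      omega
    have topV : IsZGroup (⊤ : Subgroup G) → ∀ f : G →* DihedralGroup 2,
        ¬ Function.Surjective f := fun h1 f hf =>
      not_isZGroup_V (IsZGroup.of_surjective (f := f.comp (⊤ : Subgroup G).subtype)
        (hf.comp fun g => ⟨⟨g, trivial⟩, rfl⟩))
    rintro N M ⟨h1, h2, h3⟩ ⟨h4, h5, h6⟩
    rcases key N h3 with h7 | h7 <;> rcases key M h6 with h8 | h8
    · rcases h7 with rfl | ⟨f, hf, rfl⟩ <;> rcases h8 with rfl | ⟨f', hf', rfl⟩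
      · rfl
      · exact absurd hf' (topV h2 _)
      · exact absurd hf (topV h5 _)
      · exact le_antisymm (ker_eq_of_V h f f' hf) (ker_eq_of_V h f' f hf')
    · exact absurd h8 (small N M h1 h2 h7)
    · exact absurd h7 (small M N h4 h5 h8)
    · exact le_antisymm (h8.2 N h1 h2) (h7.2 M h4 h5)

end Cfsg.Agent.S4291
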