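import Cfsg.Statements.S0192
import Cfsg.Agent.H28.CharKer

set_option autoImplicit false
open Cfsg

namespace Cfsg.Agent.S0192

theorem inner_eq_finrank {G : Type*} [Group G] {V : Type*} [AddCommGroup V] [Module ℂ V]
    [FiniteDimensional ℂ V] (ρ : Representation ℂ G V) (H : Subgroup G) [Fintype H] :
    Cfsg.classInner (fun x : H => ρ.character x) (fun _ => 1)
      = Module.finrank ℂ (Representation.invariants (ρ.comp H.subtype)) := by
  have : Invertible (Nat.card H : ℂ) := invertibleOfNonzero (H28.card_ne_zero' H)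
  rw [H28.classInner_one_right]
  exact Representation.card_inv_mul_sum_char_eq_finrank (ρ.comp H.subtype)

/-- Brauer's generation criterion. Let G be a finite simple group, H₁ and H₂ subgroups, and χ a non-principal irreducible character. If the multiplicity of the principal character in χ restricted to H₁ ⊓ H₂ is less than the sum of the corresponding multiplicities for H₁ and H₂, then H₁ and H₂ do not generate G. -/
theorem result {G : Type*} [Group G] [Fintype G] [IsSimpleGroup G] (H₁ H₂ : Subgroup G) [Fintype H₁] [Fintype H₂] [Fintype ↥(H₁ ⊓ H₂)] (χ : G → ℂ) (hχ : Cfsg.IsIrrCharacter G χ) (hχ1 : χ ≠ fun _ => 1) (hlt : (Cfsg.classInner (fun x : ↥(H₁ ⊓ H₂) => χ x) (fun _ => 1)).re < (Cfsg.classInner (fun x : H₁ => χ x) (fun _ => 1)).re + (Cfsg.classInner (fun x : H₂ => χ x) (fun _ => 1)).re) : H₁ ⊔ H₂ ≠ ⊤ := by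
  intro htop
  obtain ⟨n, ρ, hρ, rfl⟩ := id hχ
  rw [inner_eq_finrank, inner_eq_finrank, inner_eq_finrank] at hlt
  simp only [Complex.natCast_re] at hlt
  set A := Representation.invariants (ρ.comp H₁.subtype)
  set B := Representation.invariants (ρ.comp H₂.subtype)
  have h1 : A ⊔ B ≤ Representation.invariants (ρ.comp (H₁ ⊓ H₂).subtype) :=
    sup_le (fun v hv x => hv ⟨x, x.2.1⟩) (fun v hv x => hv ⟨x, x.2.2⟩)
  have h2 : A ⊓ B = ⊥ := by
    have hfix : ∀ v ∈ A ⊓ B, ∀ g, ρ g v = v := by
      intro v hv g
      let S : Subgroup G :=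
        { carrier := {g | ρ g v = v}
          one_mem' := by simp
          mul_mem' := fun {a b} ha hb => by
            change ρ (a * b) v = v
            rw [map_mul, Module.End.mul_apply, hb, ha]
          inv_mem' := fun {a} ha => by
            change ρ a⁻¹ v = v
            have ha' : ρ a v = v := ha
            conv_lhs => rw [← ha']
            rw [← Module.End.mul_apply, ← map_mul, inv_mul_cancel, map_one, Module.End.one_apply] }
      have : H₁ ⊔ H₂ ≤ S := sup_le (fun x hx => hv.1 ⟨x, hx⟩) (fun x hx => hv.2 ⟨x, hx⟩)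
      exact this (htop ▸ Subgroup.mem_top g)
    rcases ((H28.isIrreducible_iff_submodule ρ).1 hρ).2 (A ⊓ B)
      (fun g v hv => by rw [hfix v hv g]; exact hv) with h | h
    · exact h
    · exfalso
      apply hχ1
      rw [← H28.Cfsg.IsIrrCharacter.charKer_eq_top_iff hχ, eq_top_iff]
      intro g _
      rw [H28.mem_charKer_rep]
      exact LinearMap.ext fun v => hfix v (h ▸ Submodule.mem_top) g
  have h3 := Submodule.finrank_sup_add_finrank_inf_eq A B
  rw [h2, finrank_bot, add_zero] at h3
  have h4 := Submodule.finrank_mono h1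
  rw [h3] at h4
  have h5 : ((Module.finrank ℂ A + Module.finrank ℂ B : ℕ) : ℝ) ≤ _ := Nat.cast_le.2 h4
  push_cast at h5
  exact absurd hlt (not_lt.2 h5)

end Cfsg.Agent.S0192
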