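import Cfsg.Statements.S2910
import Cfsg.Agent.H7.MinAct

set_option autoImplicit false
open Cfsg

namespace Cfsg.Agent.S2910

/-- Let p be an odd prime dividing the order of the finite group G and P a Sylow p-subgroup of G. If Ω₁(P) (generated by the elements of order dividing p) is contained in the centre of G, then G has a normal p-complement. In particular, if G is quasisimple then Ω₁(P) is not central in G. -/
theorem result {G : Type*} [Group G] [Finite G] {p : ℕ} [Fact p.Prime] (hp : p ≠ 2) (hdiv : p ∣ Nat.card G) (P : Sylow p G) (hZ : Cfsg.omegaOne p (P : Subgroup G) ≤ Subgroup.center G) : Cfsg.HasNormalPComplement p G ∧ ¬ Cfsg.IsQuasisimple G := by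
  have h1 : HasNormalPComplement p G := by
    refine H7.hasNPC_of_controls_fusion_omega P fun a ha h2 g _ => ⟨1, one_mem _, ?_⟩
    have h3 := hZ (Subgroup.subset_closure ⟨ha, h2.resolve_right fun h => hp h.1⟩)
    rw [Subgroup.mem_center_iff.mp h3 g]
    simp
  refine ⟨h1, fun hq => ?_⟩
  have := hq.1
  have h2 : Nontrivial (G ⧸ pResidual p G) := by
    rw [QuotientGroup.nontrivial_iff]
    intro e
    rw [H7.hasNPC_iff_not_dvd, e, Subgroup.card_top] at h1
    exact h1 hdiv
  have h3 := (H7.isPGroup_quotient_pResidual (p := p) (G := G)).isNilpotent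
  have h4 : Group.IsPerfect (G ⧸ pResidual p G) := inferInstance
  exact Group.IsPerfect.not_isSolvable (G ⧸ pResidual p G) inferInstance

end Cfsg.Agent.S2910
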