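import Cfsg.Statements.S2302
import Cfsg.Agent.Base
import Cfsg.Agent.H33.SL2Unip

set_option autoImplicit false
open Cfsg

namespace Cfsg.Agent.S2302

/-- Over a finite field with q elements of characteristic 2, the involutions of SL₂ (the non-identity unipotent elements) form a single conjugacy class, of size q² − 1. -/
theorem result {F : Type*} [Field F] [Fintype F] [CharP F 2] (g h : Matrix.SpecialLinearGroup (Fin 2) F) (hg : orderOf g = 2) (hh : orderOf h = 2) :
    IsConj g h ∧ Nat.card (ConjClasses.mk g).carrier = Fintype.card F ^ 2 - 1 := by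
  have hF : ringChar F = 2 := ringChar.eq F 2
  have hev := FiniteField.even_card_iff_char_two.1 hF
  have h1 := Fintype.one_lt_card (α := F)
  obtain ⟨b, hb, hc⟩ := H33.exists_isConj_uS_of_orderOf 2 hg
  obtain ⟨b', hb', hc'⟩ := H33.exists_isConj_uS_of_orderOf 2 hh
  refine ⟨hc.trans (((H33.isConj_uS_iff hb hb').2
    (FiniteField.isSquare_of_char_two hF _)).trans hc'.symm), ?_⟩
  have := H33.card_carrier_unip hb hc
  rwa [Nat.Coprime.gcd_eq_one (by rw [Nat.coprime_two_right, Nat.odd_iff]; omega), mul_one] at this

end Cfsg.Agent.S2302
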