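import Cfsg.Statements.S0109
import Cfsg.Agent.H7.NormalJ
import Cfsg.Agent.S0625
import Cfsg.Agent.S0626
import Cfsg.Agent.H12.Factor
import Cfsg.Agent.H18.PSolv
import Cfsg.Agent.H2.MinNormal

set_option autoImplicit false
open Cfsg

namespace Cfsg.Agent.S0109

/-- The Thompson factorization Theorem for solvable groups states that, with p odd (and abelian Sylow 2-subgroups when p = 3) and no nontrivial normal subgroup of order prime to p, every element of G is a product of an element normalizing J(P) and an element centralizing the elements of order dividing p in the centre of P. -/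
theorem result {G : Type*} [Group G] [Finite G] {p : ℕ} [Fact p.Prime] (hp : p ≠ 2) (hs : Group.IsSolvable G) (h3 : p = 3 → ∀ T : Sylow 2 G, IsMulCommutative T) (hF : ∀ N : Subgroup G, N.Normal → Nat.Coprime (Nat.card N) p → N = ⊥) (P : Sylow p G) (g : G) : ∃ a ∈ Subgroup.normalizer (Cfsg.thompsonSubgroupOf p (P : Subgroup G) : Set G), ∃ c ∈ Subgroup.centralizer {x : G | x ∈ (P : Subgroup G) ∧ (∀ y ∈ (P : Subgroup G), x * y = y * x) ∧ x ^ p = 1}, g = a * c := by
  have hpp : p.Prime := Fact.out
  have hO : pPrimeCore p G = ⊥ := hF _ inferInstance (H2.coprime_card_pPrimeCore p G)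
  have hc := H2.centralizer_pCore_le hO
  have hst : IsActionPStable p G := by
    by_cases h : p = 3
    · exact Cfsg.Agent.S0626.result hp (h3 h)
    · refine Cfsg.Agent.S0625.result ?_ (H18.isPSolvable_of_isSolvable p)
      have := hpp.two_le
      by_contra h5
      have : p = 4 := by omega
      subst this
      exact absurd hpp (by norm_num)
  have hV := H12.ea_omV hc
  have h1 := H7.thompson_le_centralizer_of_stable (P := P) (H12.omV p G) hV
    ((H12.omV_le_center_pCore hc).trans (inf_le_left.trans (H2.pCore_le_sylow P)))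
    (hst.1 _ hV) H12.pCore_quotient_omV
  have h2 := H12.frattini_thompson P _ h1
  have h4 : g ∈ Subgroup.normalizer (thompsonSubgroupOf p (P : Subgroup G) : Set G) ⊔
      Subgroup.centralizer (H12.omV p G : Set G) := by rw [sup_comm, h2]; trivial
  rw [← SetLike.mem_coe, Subgroup.mul_normal] at h4
  obtain ⟨a, ha, c, hc', rfl⟩ := h4
  refine ⟨a, ha, c, fun x hx => hc' x (H12.omZ_le_omV P ?_), rfl⟩
  exact H12.mem_omegaOne ⟨hx.1, fun y hy => (hx.2.1 y hy).symm⟩ hx.2.2

end Cfsg.Agent.S0109
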