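import Cfsg.Statements.S0214
import Cfsg.Agent.H88.SE

set_option autoImplicit false
open Cfsg

namespace Cfsg.Agent.S0214

/-- Let H be a proper subgroup of the finite group G and P a nontrivial Sylow 2-subgroup of H. Then H is strongly embedded in G if and only if N_G(X) ≤ H for every nontrivial subgroup X of P. -/
theorem result {G : Type*} [Group G] [Finite G] (H : Subgroup G) (hH : H ≠ ⊤) (P : Sylow 2 ↥H) (hP : (P : Subgroup ↥H) ≠ ⊥) : Cfsg.IsStronglyEmbedded H ↔ (∀ X : Subgroup ↥H, X ≤ (P : Subgroup ↥H) → X ≠ ⊥ → Subgroup.normalizer ((X.map H.subtype : Subgroup G) : Set G) ≤ H) := by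
  constructor
  · intro h X hX hX1
    refine H88.se_normalizer_le h (Subgroup.map_subtype_le X) ?_
    rw [H88.even_card_iff_exists_involution]
    refine H88.exists_involution_of_isPGroup ((P.isPGroup'.to_le hX).map _) ?_
    intro h0
    exact hX1 ((Subgroup.map_eq_bot_iff_of_injective _ H.subtype_injective).mp h0)
  · intro h
    have hS := H17.sylIn_map_subtype P
    refine H88.se_of_normalizers_le hH ?_ ?_
    · obtain ⟨t, ht, h2⟩ := H88.exists_involution_of_isPGroup P.isPGroup' hP
      exact ⟨t, t.2, by rw [Subgroup.orderOf_coe]; exact h2⟩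
    · intro X hX hXp hX1
      obtain ⟨g, hg, hgX⟩ := hS.exists_conj_le hX hXp
      have hle : X.map (MulAut.conj g).toMonoidHom ≤ (P : Subgroup H).map H.subtype := by
        rintro _ ⟨x, hx, rfl⟩
        exact hgX x hx
      have hleH : X.map (MulAut.conj g).toMonoidHom ≤ H := hle.trans (Subgroup.map_subtype_le _)
      have h1 := h ((X.map (MulAut.conj g).toMonoidHom).subgroupOf H) (by
        intro y hy
        obtain ⟨z, hz, hzy⟩ := hle hy
        rwa [← H.subtype_injective hzy]) (by
        intro h0
        rw [Subgroup.subgroupOf_eq_bot, disjoint_iff, inf_eq_left.mpr hleH] at h0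
        exact hX1 ((Subgroup.map_eq_bot_iff_of_injective _ (MulAut.conj g).injective).mp h0))
      rw [Subgroup.subgroupOf_map_subtype, inf_eq_left.mpr hleH] at h1
      intro n hn
      have : g * n * g⁻¹ ∈ H := by
        apply h1
        rw [← H17.map_conj_eq_iff_mem_normalizer] at hn ⊢
        rw [H17.map_conj_map_conj]
        conv_rhs => rw [← hn, H17.map_conj_map_conj]
        congr 3
        group
      simpa [mul_assoc] using H.mul_mem (H.mul_mem (H.inv_mem hg) this) hg

end Cfsg.Agent.S0214
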