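import Cfsg.Statements.S0224
import Cfsg.Agent.H88.SE

set_option autoImplicit false
open Cfsg

namespace Cfsg.Agent.S0224

/-- Let H be a proper subgroup of even order of the finite group G. Then H is strongly embedded if and only if each involution of H fixes exactly one point (namely the coset H) in the action of G on the cosets of H. -/
theorem result {G : Type*} [Group G] [Finite G] (H : Subgroup G) (hH : H ≠ ⊤) (heven : Even (Nat.card H)) : Cfsg.IsStronglyEmbedded H ↔ ∀ t ∈ H, orderOf t = 2 → Nat.card {c : G ⧸ H // t • c = c} = 1 := by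
  constructor
  · intro h t _ h2
    obtain ⟨c, hc, hu⟩ := H88.se_existsUnique_fixed h h2
    rw [Nat.card_eq_one_iff_exists]
    exact ⟨⟨c, hc⟩, fun y => Subtype.ext (hu y.1 y.2)⟩
  · intro h
    rw [H88.isStronglyEmbedded_iff]
    refine ⟨hH, (H88.even_card_iff_exists_involution H).mp heven, fun t ht ht2 g hg => ?_⟩
    obtain ⟨c, hc⟩ := Nat.card_eq_one_iff_exists.mp (h t ht ht2)
    have h1 : t • ((1 : G) : G ⧸ H) = ((1 : G) : G ⧸ H) := by
      show ((t * 1 : G) : G ⧸ H) = ((1 : G) : G ⧸ H)
      rw [QuotientGroup.eq]; simpa using ht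
    have h2 : t • ((g⁻¹ : G) : G ⧸ H) = ((g⁻¹ : G) : G ⧸ H) := by
      show ((t * g⁻¹ : G) : G ⧸ H) = ((g⁻¹ : G) : G ⧸ H)
      rw [QuotientGroup.eq]
      have := H.inv_mem hg
      convert this using 1
      group
    have h3 := congrArg Subtype.val ((hc ⟨_, h1⟩).trans (hc ⟨_, h2⟩).symm)
    simp only at h3
    rw [QuotientGroup.eq] at h3
    simpa using h3

end Cfsg.Agent.S0224
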