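import Cfsg.Statements.S0322
import Cfsg.Agent.Base
import Cfsg.Agent.H67.BNPar

set_option autoImplicit false
open Cfsg

namespace Cfsg.Agent.S0322

/-- A group with a (B,N)-pair of rank one acts doubly transitively on the left cosets of `B`. -/
theorem result {G : Type*} [Group G] (P : Cfsg.BNPair G) (h : P.rank = 1) : MulAction.IsMultiplyPretransitive G (G ⧸ P.B) 2 := by
  obtain ⟨s, hs⟩ := Nat.card_eq_one_iff_exists.1 h
  have hW : ∀ w : H67.Weyl P, w = 1 ∨ w = H67.sim P s := by
    intro w
    obtain ⟨l, rfl⟩ := H67.weyl_exists_word P w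
    induction l with
    | nil => simp
    | cons i l ih =>
      rw [H67.wp_cons, hs i]
      rcases ih with h1 | h1
      · right; rw [h1, mul_one]
      · left; rw [h1, H67.sim_sq]
  have hcell : ∀ g : G, g ∉ P.B → H67.InCell P (H67.sim P s) g := by
    intro g hg
    obtain ⟨w, hw⟩ := H67.exists_inCell P g
    rcases hW w with rfl | rfl
    · exact absurd ((H67.inCell_one_iff g).1 hw) hg
    · exact hw
  rw [MulAction.is_two_pretransitive_iff]
  intro a b c d hab hcd
  obtain ⟨a, rfl⟩ := QuotientGroup.mk_surjective a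
  obtain ⟨b, rfl⟩ := QuotientGroup.mk_surjective b
  obtain ⟨c, rfl⟩ := QuotientGroup.mk_surjective c
  obtain ⟨d, rfl⟩ := QuotientGroup.mk_surjective d
  rw [Ne, QuotientGroup.eq] at hab hcd
  obtain ⟨x, hx, y, hy, e⟩ := (hcell _ hab).exists_eq (hcell _ hcd)
  refine ⟨c * x * a⁻¹, ?_, ?_⟩
  · rw [MulAction.Quotient.smul_mk, QuotientGroup.eq]
    simpa using hx
  · rw [MulAction.Quotient.smul_mk, QuotientGroup.eq]
    have : (c * x * a⁻¹ * b)⁻¹ * d = y := by
      have e' : d = c * (x * (a⁻¹ * b) * y) := by rw [← e]; group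
      rw [e']; group
    rw [smul_eq_mul, this]
    exact hy

end Cfsg.Agent.S0322
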