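import Cfsg.Statements.S0349
import Cfsg.Agent.Base
import Cfsg.Agent.H20.CN
import Cfsg.Agent.S0322
import Cfsg.Agent.H99.Idx
import Cfsg.Agent.H99.BenderB
import Cfsg.Agent.H82.Hub
import Cfsg.Agent.H51.GoldHub
import Cfsg.Agent.H86.Fusion

set_option autoImplicit false
open Cfsg

namespace Cfsg.Agent.S0349

open Subgroup H98 in
theorem se {G : Type*} [Group G] [Finite G] [IsSimpleGroup G]
    (P : BNPair G) (hrank : P.rank = 1) (U : Subgroup G) (hUB : U ≤ P.B)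
    (hUn : (U.subgroupOf P.B).Normal) (hUnil : Group.IsNilpotent U) (hsplit : U ⊔ (P.B ⊓ P.N) = P.B)
    (hind : Odd P.B.index) (hH : Odd (Nat.card ↥(P.B ⊓ P.N))) :
    ∃ H : Subgroup G, IsStronglyEmbedded H := by
  obtain ⟨⟨s, hs⟩, -⟩ := Nat.card_eq_one_iff_exists.1 hrank
  have hn : P.B ≤ normalizer (U : Set G) := (normal_subgroupOf_iff_le_normalizer hUB).1 hUn
  have sN := P.subset hs
  have sB : s ∉ P.B := fun h => P.conj_ne s hs (Set.ext fun x => ⟨by
    rintro ⟨b, hb, rfl⟩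
    exact mul_mem (mul_mem h hb) h, fun hx =>
      ⟨s⁻¹ * x * s⁻¹, mul_mem (mul_mem (inv_mem h) hx) (inv_mem h), by simp [mul_assoc]⟩⟩)
  have hB : P.B ≠ ⊤ := fun e => sB (e ▸ mem_top s)
  have tr : ∀ g ∉ P.B, ∃ u ∈ U, (u * s)⁻¹ * g ∈ P.B := fun g hg => by
    have h0 := S0322.result P hrank
    rw [MulAction.is_two_pretransitive_iff] at h0
    obtain ⟨b, h1, h2⟩ := @h0 ((1 : G) : G ⧸ P.B) (s : G ⧸ P.B) ((1 : G) : G ⧸ P.B) (g : G ⧸ P.B)
      (fun e => sB (by simpa using QuotientGroup.eq.1 e)) fun e => hg (by simpa using QuotientGroup.eq.1 e)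
    have h3 : b ∈ P.B ⊓ P.N ⊔ U := by
      rw [sup_comm, hsplit]
      simpa using QuotientGroup.eq.1 h1
    obtain ⟨h, hh, u, hu, rfl⟩ := (mem_sup_left_norm (inf_le_left.trans hn)).1 h3
    refine ⟨_, conj_mem_of_mem_normalizer (hn hh.1) hu, ?_⟩
    have := mul_mem (P.conj_mem _ (inv_mem sN) h hh) (QuotientGroup.eq.1 h2)
    simpa [mul_assoc] using this
  have key : ∀ z ∈ U, (∀ u ∈ U, u * z = z * u) → z ≠ 1 → ∀ g : G, g * z * g⁻¹ ∈ P.B → g ∈ P.B := by
    intro z hz hc z1 g hg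
    by_contra h
    have k : ∀ g : G, g⁻¹ ∉ P.B → (g * z * g⁻¹ ∈ P.B ↔ s⁻¹ * z * s ∈ P.B) := fun g h => by
      obtain ⟨u, hu, e⟩ := tr _ h
      rw [mem_normalizer_iff.1 (le_normalizer e)]
      congr! 1
      simp only [mul_inv_rev, inv_inv, mul_assoc, inv_mul_cancel_left]
      rw [← mul_assoc z, ← hc u hu, mul_assoc, inv_mul_cancel_left]
    refine z1 (((normalCore_normal P.B).eq_bot_or_eq_top.resolve_right fun e =>
      hB (eq_top_iff.2 (e.ge.trans (normalCore_le _)))).le fun b => ?_)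
    by_cases hb : b⁻¹ ∈ P.B
    · simpa using mul_mem (mul_mem (inv_mem hb) (hUB hz)) hb
    · exact (k b hb).2 ((k g (by simpa using h)).1 hg)
  have h1 : U.relIndex P.B ∣ Nat.card ↥(P.B ⊓ P.N) := by
    conv_lhs => rw [← hsplit, sup_comm, H99.relIndex_sup_of_le_normalizer (inf_le_left.trans hn)]
    exact relIndex_dvd_card _ _
  have h2 : ¬ 2 ∣ U.index := by
    rw [← relIndex_mul_index hUB, ← even_iff_two_dvd, Nat.not_even_iff_odd]
    exact (hH.of_dvd_nat h1).mul hind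
  have h3 : 2 ∣ Nat.card U := by
    refine ((Nat.Prime.dvd_mul Nat.prime_two).1 ?_).resolve_right h2
    rw [card_mul_index]
    refine ((H86.two_dvd_relIndex (K := P.B ⊓ P.N) (le_normalizer_iff.2 fun n hn t ht =>
      ⟨P.conj_mem n hn t ht, P.N.mul_mem (P.N.mul_mem hn ht.2) (P.N.inv_mem hn)⟩) sN (fun h => sB h.1)
      ⟨P.sq_mem s hs, mul_mem sN sN⟩).trans (relIndex_dvd_card _ _)).trans (card_subgroup_dvd_card _)
  obtain ⟨z, hz, z2, hc⟩ := H20.exists_center_prime_of_nil hUnil h3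
  have z1 : z ≠ 1 := by rintro rfl; simp at z2
  have zz : z * z = 1 := by rw [← sq, ← z2, pow_orderOf_eq_one]
  have kz := key z hz hc z1
  refine H51.asch P.B hB z z2 (hUB hz) ?_ kz fun g h4 h5 c h6 => ?_
  · obtain ⟨T, hT, h4⟩ := exists_isSyl_le (isPGroup_zpowers (x := z) (k := 1) (by rwa [pow_one, sq]))
      (zpowers_le.2 hz)
    obtain ⟨S, rfl⟩ := isSyl_top_iff.1 (isSyl_of_not_dvd_relIndex le_top hT.isPGroup (by
      rw [relIndex_top_right, ← relIndex_mul_index hT.le, Nat.Prime.dvd_mul Nat.prime_two, not_or]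
      exact ⟨hT.not_dvd_relIndex, h2⟩))
    exact ⟨S, h4 (mem_zpowers z), fun t ht => hc t (hT.le ht)⟩
  have h7 := hn (kz g (kz _ (by rw [← h4.eq, mul_inv_cancel_right]; exact hUB hz)))
  have h8 := mul_mem hz (conj_mem_of_mem_normalizer h7 hz)
  refine key _ h8 (fun u hu => ?_) (fun e => h5 ?_) c ?_
  · have := (hc _ (conj_mem_of_mem_normalizer' h7 hu)).eq
    rw [← mul_assoc, (hc u hu).eq, mul_assoc, mul_assoc z]
    congr 1
    calc u * (g * z * g⁻¹) = g * (g⁻¹ * u * g * z) * g⁻¹ := by group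
      _ = _ := by rw [this]; group
  · exact mul_left_cancel (e.trans zz.symm)
  · rw [← mem_centralizer_iff.1 h6 _ rfl, mul_inv_cancel_right]
    exact hUB h8

/-- Let a finite simple group have a (B,N)-pair of rank one which is strongly split (`B = U (B ⊓ N)` with `U` nilpotent,
normal in `B` and meeting `N` trivially), with `[G : B]` and `|B ⊓ N|` odd. Then the group is isomorphic to `PSL₂(F)` with
`|F|` a power of `2`, or is simple of Suzuki order, or is isomorphic to `PSU₃` realised over a field with `q²` elements,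
`q = 2^n`, `n ≥ 2`. -/
theorem result {G : Type*} [Group G] [Finite G] [IsSimpleGroup G]
    (P : Cfsg.BNPair G) (hrank : P.rank = 1) (U : Subgroup G) (hUB : U ≤ P.B)
    (hUn : (U.subgroupOf P.B).Normal) (hUnil : Group.IsNilpotent U) (hsplit : U ⊔ (P.B ⊓ P.N) = P.B)
    (hdisj : U ⊓ P.N = ⊥) (hind : Odd P.B.index) (hH : Odd (Nat.card ↥(P.B ⊓ P.N))) :
    (∃ (F : Type) (_ : Field F) (_ : Fintype F), (∃ n : ℕ, Fintype.card F = 2 ^ n) ∧ Nonempty (G ≃* Matrix.ProjectiveSpecialLinearGroup (Fin 2) F)) ∨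
      Cfsg.IsSuzuki G ∨
      (∃ (F : Type) (_ : Field F) (_ : Fintype F) (n : ℕ), 2 ≤ n ∧ Fintype.card F = (2 ^ n) ^ 2 ∧
        Nonempty (G ≃* Cfsg.PSU 3 F (2 ^ n))) := by
  obtain ⟨H, h⟩ := se P hrank U hUB hUn hUnil hsplit hind hH
  rcases H99.bender_simple H82.hub h with ⟨F, i, j, ⟨n, -, e⟩, f⟩ | h | h
  exacts [.inl ⟨F, i, j, ⟨n, e⟩, f⟩, .inr (.inl (H30.isSuzuki_of_iso h)), .inr (.inr h)]

end Cfsg.Agent.S0349
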