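import Cfsg.Agent.Base
import Cfsg.Agent.H90.LyPerm
import Cfsg.Statements.S0454

set_option autoImplicit false
open Cfsg

namespace Cfsg.Agent.S0454

/-- Existence of the Lyons group: there is a transitive permutation group of degree 8835156, simple of order 51765179004000000, whose point stabiliser is simple of the order of a group of type G2, and which has an involution whose centraliser is a non-split double cover of the alternating group of degree 11. -/
theorem result : ∃ H : Subgroup (Equiv.Perm (Fin 8835156)), Cfsg.IsLy H ∧ MulAction.IsPretransitive H (Fin 8835156) ∧ Cfsg.IsG2 (MulAction.stabilizer H (0 : Fin 8835156)) ∧ ∃ t : H, orderOf t = 2 ∧ Cfsg.IsNonsplitDoubleCover (Subgroup.centralizer ({t} : Set H)) (alternatingGroup (Fin 11)) := by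
  have := H73.LyT.simple
  obtain ⟨H, e, h1, ⟨f⟩⟩ := H90.perm_real H73.LyT.φ.range H73.LyT.res.index H73.LyT.res.ne
  have h2 := (Cfsg.Agent.S1055.result (F := H90.Ly.F5) ⟨2, by decide, by decide⟩).1
  refine ⟨H, ⟨e.symm.isSimpleGroup, (Nat.card_congr e.toEquiv).symm.trans H73.LyT.card⟩, h1,
    ⟨(f.symm.trans H90.Ly.equiv_G2.some).isSimpleGroup, 5, (by norm_num : Nat.Prime 5).isPrimePow,
      by norm_num, ?_⟩, _, (H90.Ly.sitL.map e).ord, (H90.Ly.sitL.map e).nonsplit⟩
  rw [← Nat.card_congr f.toEquiv, H73.LyT.res.cardH, H73.LyT.exφ.1]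
  norm_num
end Cfsg.Agent.S0454
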