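import Cfsg.Statements.S0521
import Cfsg.Agent.H52.LocC

set_option autoImplicit false
open Cfsg

namespace Cfsg.Agent.S0521

/-- Let X be a finite solvable group of odd order, p a prime and S a Sylow p-subgroup of X whose commutator subgroup is
cyclic. Then the product of the largest normal subgroup of X of order prime to p with S is a normal subgroup of X. -/
theorem result {X : Type*} [Group X] [Finite X] [Group.IsSolvable X]
    (hX : Odd (Nat.card X)) (p : ℕ) [Fact p.Prime] (S : Sylow p X) (hS : IsCyclic (commutator (S : Subgroup X))) :
    (Cfsg.pPrimeCore p X ⊔ (S : Subgroup X)).Normal := by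
  by_cases h2 : p = 2
  · have h1 : (S : Subgroup X) = ⊥ := by
      rcases S.isPGroup'.card_eq_or_dvd with e | e
      · exact Subgroup.card_eq_one.1 e
      · exact absurd (h2 ▸ e.trans (Subgroup.card_subgroup_dvd_card _))
          (by simpa [← even_iff_two_dvd] using hX)
    rw [h1, sup_bot_eq]
    infer_instance
  · refine H52.Loc.sup_sylow_normal_of_cyclic h2 (H11.not_involves_qd_of_odd h2 hX)
      (H52.Loc.pcon_of_solvable inferInstance) (H98.isSyl_sylow S) ?_
    rw [← Subgroup.map_subtype_commutator]
    exact isCyclic_of_surjective _ ((S : Subgroup X).subtype.subgroupMap_surjective _)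

end Cfsg.Agent.S0521
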