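import Cfsg.Statements.S0522
import Cfsg.Agent.H52.LocC
import Cfsg.Agent.H42.OddOrder

set_option autoImplicit false
open Cfsg

namespace Cfsg.Agent.S0522

/-- Transitivity Theorem (odd-order setting). Let X be a finite group of odd order in which the normalizer of every
nontrivial p-subgroup is solvable, P a Sylow p-subgroup, and B an abelian subgroup of P, normalized by P, with
C_P(B) = B and containing an elementary abelian subgroup of order p^3. Then for every prime q ≠ p, any two q-subgroups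
that are maximal among the q-subgroups normalized by B are conjugate by an element of the centralizer of B. -/
theorem result {X : Type*} [Group X] [Finite X] (hX : Odd (Nat.card X)) (p : ℕ)
    [Fact p.Prime] (hloc : ∀ T : Subgroup X, IsPGroup p T → T ≠ ⊥ → Group.IsSolvable (Subgroup.normalizer (T : Set X)))
    (P : Sylow p X) (B : Subgroup X) (hBP : B ≤ (P : Subgroup X))
    (hBn : ∀ x ∈ (P : Subgroup X), ∀ b ∈ B, x * b * x⁻¹ ∈ B) (hBa : IsMulCommutative B)
    (hBc : (P : Subgroup X) ⊓ Subgroup.centralizer (B : Set X) = B)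
    (hB3 : ∃ E : Subgroup X, E ≤ B ∧ (∀ e ∈ E, e ^ p = 1) ∧ p ^ 3 ≤ Nat.card E)
    (q : ℕ) [Fact q.Prime] (hqp : q ≠ p) (Q₁ Q₂ : Subgroup X)
    (h₁ : IsPGroup q Q₁ ∧ B ≤ Subgroup.normalizer (Q₁ : Set X) ∧
      ∀ R : Subgroup X, IsPGroup q R → B ≤ Subgroup.normalizer (R : Set X) → Q₁ ≤ R → R = Q₁)
    (h₂ : IsPGroup q Q₂ ∧ B ≤ Subgroup.normalizer (Q₂ : Set X) ∧
      ∀ R : Subgroup X, IsPGroup q R → B ≤ Subgroup.normalizer (R : Set X) → Q₂ ≤ R → R = Q₂) :
    ∃ c ∈ Subgroup.centralizer (B : Set X), Q₂ = Q₁.map (MulAut.conj c).toMonoidHom := by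
  have hp : p.Prime := Fact.out
  have hq : q.Prime := Fact.out
  have hPB : (P : Subgroup X) ≤ Subgroup.normalizer (B : Set X) := fun x hx =>
    H98.mem_normalizer_of_cj_le (by rintro _ ⟨b, hb, rfl⟩; exact hBn x hx b hb)
  have hBp : IsPGroup p B := P.isPGroup'.to_le hBP
  have hn : B ≤ Subgroup.normalizer (pPrimeCore p X : Set X) := Subgroup.le_normalizer_of_normal
  have hc : (Nat.card B).Coprime (Nat.card (pPrimeCore p X)) := by
    obtain ⟨n, e⟩ := hBp.exists_card_eq
    rw [e]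
    exact (H2.coprime_card_pPrimeCore p X).symm.pow_left n
  have key : ∀ Q : Subgroup X, (IsPGroup q Q ∧ B ≤ Subgroup.normalizer (Q : Set X) ∧
      ∀ R : Subgroup X, IsPGroup q R → B ≤ Subgroup.normalizer (R : Set X) → Q ≤ R → R = Q) →
      H46.IsSylowOf q Q (pPrimeCore p X) := by
    rintro Q ⟨a, b, c⟩
    have h1 : Q ≤ pPrimeCore p X := by
      refine H52.Loc.le_pPrimeCore_of_scn (H52.Loc.pcon_of_solvable (H42.odd_order hX))
        (H98.isSyl_sylow P) hBP hPB hBc ?_ b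
      obtain ⟨n, e⟩ := a.exists_card_eq
      rw [e]
      exact ((Nat.coprime_primes hq hp).2 hqp).pow_left n
    obtain ⟨R, hR, r1, r2⟩ := H46.coprime_Sylow_subset hq hn hc
      (Or.inl (H46.sol_of_comm hBa)) h1 a b
    exact c R (H46.Cfsg.IsPiHallOf.isPGroup hR hq) r1 r2 ▸ hR
  obtain ⟨c, hc', e⟩ := H46.coprime_Sylow_trans hq hn hc (Or.inl (H46.sol_of_comm hBa))
    (key Q₁ h₁) h₁.2.1 (key Q₂ h₂) h₂.2.1
  exact ⟨c, hc'.2, e⟩

end Cfsg.Agent.S0522
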