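import Cfsg.Statements.S0649
import Cfsg.Agent.Base

set_option autoImplicit false
open Cfsg

namespace Cfsg.Agent.S0649

/-- In the Glauberman replacement situation, if B does not normalize A then some element of B normalizes N_S(A) without normalizing A. -/
theorem result {S : Type*} [Group S] [Finite S] {p : ℕ} [Fact p.Prime] (hS : IsPGroup p S) (B : Subgroup S) [B.Normal] (hB2 : p = 2 → IsMulCommutative B) (A : Subgroup S) (hA : IsMulCommutative A) (hBA : ⁅B, B⁆ ≤ A) (hnot : ¬ B ≤ Subgroup.normalizer (A : Set S)) : ∃ b ∈ B, b ∈ Subgroup.normalizer ((Subgroup.normalizer (A : Set S)) : Set S) ∧ b ∉ Subgroup.normalizer (A : Set S) := by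
  set N := Subgroup.normalizer (A : Set S) with hN
  haveI : Group.IsNilpotent S := hS.isNilpotent
  haveI : Group.IsNilpotent ↥(N ⊔ B) := inferInstance
  have hlt : N.subgroupOf (N ⊔ B) < ⊤ := by
    rw [lt_top_iff_ne_top, Ne, Subgroup.subgroupOf_eq_top]
    intro h
    exact hnot (le_sup_right.trans h)
  have h1 := normalizerCondition_of_isNilpotent (G := ↥(N ⊔ B)) _ hlt
  rw [← Subgroup.subgroupOf_normalizer_eq le_sup_left] at h1
  obtain ⟨x, hx, hx'⟩ := SetLike.exists_of_lt h1
  have hxm : (x : S) ∈ ((N ⊔ B : Subgroup S) : Set S) := x.2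
  rw [Subgroup.mul_normal] at hxm
  obtain ⟨n, hn, b, hb, hnb⟩ := hxm
  rw [Subgroup.mem_subgroupOf] at hx hx'
  refine ⟨b, hb, ?_, ?_⟩
  · have : b = n⁻¹ * x := by rw [← hnb]; group
    rw [this]
    exact mul_mem (inv_mem (Subgroup.le_normalizer hn)) hx
  · intro hb'
    apply hx'
    rw [← hnb]
    exact mul_mem hn hb'

end Cfsg.Agent.S0649
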