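import Cfsg.Statements.S0650
import Cfsg.Agent.H13.MaxAb

set_option autoImplicit false
open Cfsg

namespace Cfsg.Agent.S0650

/-- The Glauberman replacement Theorem: from an abelian A ⊇ [B, B] not normalized by the normal subgroup B and a suitable b ∈ B one gets the abelian subgroup A* = (A ∩ b⁻¹Ab)[A, b] of the same order, containing [B, B], meeting B strictly more than A does but not containing B, mutually normalizing with A, with strictly larger normalizer containing b, and (p odd) of no larger exponent. -/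
theorem result {S : Type*} [Group S] [Finite S] {p : ℕ} [Fact p.Prime] (hS : IsPGroup p S) (B : Subgroup S) [B.Normal] (hB2 : p = 2 → IsMulCommutative B) (A : Subgroup S) (hA : IsMulCommutative A) (hBA : ⁅B, B⁆ ≤ A) (hnot : ¬ B ≤ Subgroup.normalizer (A : Set S)) (b : S) (hb : b ∈ B) (hbN : b ∈ Subgroup.normalizer ((Subgroup.normalizer (A : Set S)) : Set S)) (hbA : b ∉ Subgroup.normalizer (A : Set S)) : Nat.card ↥((A ⊓ A.map (MulAut.conj (b⁻¹)).toMonoidHom) ⊔ Subgroup.closure {g : S | ∃ a ∈ A, g = a * b⁻¹ * a⁻¹ * b}) = Nat.card A ∧ IsMulCommutative ↥((A ⊓ A.map (MulAut.conj (b⁻¹)).toMonoidHom) ⊔ Subgroup.closure {g : S | ∃ a ∈ A, g = a * b⁻¹ * a⁻¹ * b}) ∧ ⁅B, B⁆ ≤ ((A ⊓ A.map (MulAut.conj (b⁻¹)).toMonoidHom) ⊔ Subgroup.closure {g : S | ∃ a ∈ A, g = a * b⁻¹ * a⁻¹ * b}) ∧ A ⊓ B < ((A ⊓ A.map (MulAut.conj (b⁻¹)).toMonoidHom) ⊔ Subgroup.closure {g : S | ∃ a ∈ A, g = a *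 b⁻¹ * a⁻¹ * b}) ⊓ B ∧ ((A ⊓ A.map (MulAut.conj (b⁻¹)).toMonoidHom) ⊔ Subgroup.closure {g : S | ∃ a ∈ A, g = a * b⁻¹ * a⁻¹ * b}) ⊓ B < B ∧ A ≤ Subgroup.normalizer (((A ⊓ A.map (MulAut.conj (b⁻¹)).toMonoidHom) ⊔ Subgroup.closure {g : S | ∃ a ∈ A, g = a * b⁻¹ * a⁻¹ * b} : Subgroup S) : Set S) ∧ ((A ⊓ A.map (MulAut.conj (b⁻¹)).toMonoidHom) ⊔ Subgroup.closure {g : S | ∃ a ∈ A, g = a * b⁻¹ * a⁻¹ * b}) ≤ Subgroup.normalizer (A : Set S) ∧ b ∈ Subgroup.normalizer (((A ⊓ A.map (MulAut.conj (b⁻¹)).toMonoidHom) ⊔ Subgroup.closure {g : S | ∃ a ∈ A, g = a * b⁻¹ * a⁻¹ * b} : Subgroup S) : Set S) ∧ Subgroup.normalizer (A : Set S) < Subgroup.normalizer (((A ⊓ A.map (MulAut.conj (b⁻¹)).toMonoidHom) ⊔ Subgroup.closure {g : S | ∃ a ∈ A, g = a * b⁻¹ * a⁻¹ * b} : Subgroup S) : Set S) ∧ (p ≠ 2 → Monoid.exponent ↥((A ⊓ A.map (MulAut.conj (b⁻¹)).toMonoidHom) ⊔ Subgroup.closure {g : S | ∃ a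 ∈ A, g = a * b⁻¹ * a⁻¹ * b}) ∣ Monoid.exponent A) := by
  have h2 : p ≠ 2 → ∀ w : S, w ^ 2 = 1 → w = 1 := fun hp w =>
    H13.eq_one_of_sq_eq_one_of_isPGroup hp (hS.to_subgroup ⊤) w (Subgroup.mem_top w)
  have hodd : IsMulCommutative B ∨ ∀ w ∈ B, w ^ 2 = 1 → w = 1 := by
    by_cases hp : p = 2
    · exact Or.inl (hB2 hp)
    · exact Or.inr fun w _ => h2 hp w
  obtain ⟨r1, r2, r3, r4, r5, r6, r7, r8⟩ := H13.repl_spec hA hBA Subgroup.le_normalizer le_rfl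
    Subgroup.le_normalizer_of_normal hb hbN hbA hodd
  refine ⟨r1, r2, r3, r4, ?_, Subgroup.le_normalizer.trans r7, r5, r6, ?_, fun hp => ?_⟩
  · refine lt_of_le_of_ne inf_le_right fun h => hbA (r5 ?_)
    have hb' := hb
    rw [← h] at hb'
    exact hb'.1
  · exact lt_of_le_of_ne r7 fun h => hbA (by rw [h]; exact r6)
  · rw [Monoid.exponent_dvd_iff_forall_pow_eq_one]
    intro g
    refine Subtype.ext (r8 (fun w _ => h2 hp w) _ (fun a ha => ?_) g g.2)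
    exact congrArg Subtype.val (Monoid.pow_exponent_eq_one (⟨a, ha⟩ : A))

end Cfsg.Agent.S0650
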