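import Cfsg.Statements.S0651
import Cfsg.Agent.H13.MaxAb

set_option autoImplicit false
open Cfsg

namespace Cfsg.Agent.S0651

theorem aux {S : Type*} [Group S] [Finite S] {p : ℕ} [Fact p.Prime] (hS : IsPGroup p S) (hp : p ≠ 2) (e : ℕ) (D : Subgroup S) [D.Normal] (B : Subgroup S) [B.Normal] (h : ∃ U ∈ H13.maxAb e D, ⁅B, B⁆ ≤ U ∧ ¬ B ≤ U) : ∃ A ∈ H13.maxAb e D, ⁅B, B⁆ ≤ A ∧ ¬ B ≤ A ∧ B ≤ Subgroup.normalizer (A : Set S) := by
  obtain ⟨A, ⟨hA, h1, h2⟩, hmax⟩ := Set.exists_max_image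
    {U : Subgroup S | U ∈ H13.maxAb e D ∧ ⁅B, B⁆ ≤ U ∧ ¬ B ≤ U}
    (fun U => Nat.card ↥(U ⊓ B)) (Set.toFinite _) h
  refine ⟨A, hA, h1, h2, ?_⟩
  by_contra hnot
  obtain ⟨A', hA', r1, r2, r3, -⟩ := H13.exists_replacement hp (hS.to_subgroup ⊤) le_top le_top
    Subgroup.le_normalizer_of_normal Subgroup.le_normalizer_of_normal hA h1 hnot
  exact r2.ne (Subgroup.eq_of_le_of_card_ge r2.le (hmax A' ⟨hA', r1, r3⟩))

/-- For odd p and D normal in the p-group S, the abelian subgroups of D of largest order satisfy the replacement property: a class-2 normal subgroup B of S with a member containing [B, B] but not B normalizes some such member. -/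
theorem result {S : Type*} [Group S] [Finite S] {p : ℕ} [Fact p.Prime] (hS : IsPGroup p S) (hp : p ≠ 2) (D : Subgroup S) [D.Normal] : ∀ (B : Subgroup S) [B.Normal], ⁅⁅B, B⁆, B⁆ = ⊥ → (∃ U ∈ (Set.image (fun A : Subgroup ↥D => A.map D.subtype) (Cfsg.maxAbelianSubgroups ↥D)), ⁅B, B⁆ ≤ U ∧ ¬ B ≤ U) → ∃ A ∈ (Set.image (fun A : Subgroup ↥D => A.map D.subtype) (Cfsg.maxAbelianSubgroups ↥D)), ⁅B, B⁆ ≤ A ∧ ¬ B ≤ A ∧ B ≤ Subgroup.normalizer (A : Set S) := by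
  intro B _ _ h
  rw [H13.maxAbelianSubgroups_eq, ← H13.maxAb_eq_image] at h ⊢
  exact aux hS hp 0 D B h

end Cfsg.Agent.S0651
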