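import Cfsg.Agent.Base
import Cfsg.Agent.H90.NearF2
import Cfsg.Statements.S0684

set_option autoImplicit false
open Cfsg

namespace Cfsg.Agent.S0684

/-- Point stabiliser of a sharply doubly transitive group not of semilinear type: a maximal normal abelian subgroup `A` of a linear group `H` that is regular on non-zero vectors and has no irreducible cyclic normal subgroup is cyclic and reducible, and the order of `A` divides `p ^ k - 1` for `k` the dimension of a minimal `A`-invariant subspace. -/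
theorem result {p : ℕ} [Fact p.Prime] {V : Type*} [AddCommGroup V] [Module (ZMod p) V] [Finite V] (H : Subgroup (V ≃ₗ[ZMod p] V)) (hreg : ∀ v w : V, v ≠ 0 → w ≠ 0 → ∃! h : H, (h : V ≃ₗ[ZMod p] V) v = w) (hI : ∀ A : Subgroup H, A.Normal → IsCyclic A → ∃ W : Submodule (ZMod p) V, W ≠ ⊥ ∧ W ≠ ⊤ ∧ ∀ a ∈ A, ∀ v ∈ W, ((a : H) : V ≃ₗ[ZMod p] V) v ∈ W) (A : Subgroup H) (hAn : A.Normal) (hAc : IsMulCommutative A) (hAmax : ∀ B : Subgroup H, B.Normal → IsMulCommutative B → A ≤ B → B = A) : IsCyclic A ∧ ∃ W : Submodule (ZMod p) V, W ≠ ⊥ ∧ W ≠ ⊤ ∧ (∀ a ∈ A, ∀ v ∈ W, ((a : H) : V ≃ₗ[ZMod p] V) v ∈ W) ∧ (∀ W' : Submodule (ZMod p) V, W' ≤ W → (∀ a ∈ A, ∀ v ∈ W', ((a : H) : V ≃ₗ[ZMod p] V) v ∈ W') → W' = ⊥ ∨ W' = W) ∧ Nat.card A ∣ p ^ Module.finrank (ZMod p) W - 1 := by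

  have h := H90.regNZ_of hreg
  have hI' := H90.noIrr_of hI
  have := hI'.nontrivial
  have := h.finite
  have hc := h.free.isCyclic_subgroup A
  obtain ⟨W₀, h1, h2, h3⟩ := hI A hAn hc
  have : Finite (Submodule (ZMod p) V) := Finite.of_injective _ SetLike.coe_injective
  obtain ⟨W, h4, ⟨h5, h6⟩, h7⟩ := Set.Finite.exists_le_minimal
    (s := {W : Submodule (ZMod p) V | W ≠ ⊥ ∧
      ∀ a ∈ A, ∀ v ∈ W, ((a : H) : V ≃ₗ[ZMod p] V) v ∈ W}) (Set.toFinite _) ⟨h1, h3⟩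
  refine ⟨hc, W, h5, fun h8 => h2 (top_le_iff.1 (h8 ▸ h4)), h6, fun W' h8 h9 => ?_, ?_⟩
  · exact or_iff_not_imp_left.2 fun h10 => le_antisymm h8 (h7 ⟨h10, h9⟩ h8)
  · have h8 := h.card_dvd A W.toAddSubgroup h6
    have h9 := Module.natCard_eq_pow_finrank (K := ZMod p) (V := W)
    rw [Nat.card_zmod] at h9
    rw [← h9]
    exact h8

end Cfsg.Agent.S0684
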