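import Cfsg.Agent.Base
import Cfsg.Agent.H90.NearF2
import Cfsg.Statements.S0689

set_option autoImplicit false
open Cfsg

namespace Cfsg.Agent.S0689

/-- The insoluble sharply doubly transitive groups: a non-solvable linear group over the prime field that is regular on the non-zero vectors of `V` occurs only for `|V| = 11², 29², 59²`, and is `SL(2,5) × C_m` with `m = 1, 7, 29` respectively. -/
theorem result {p : ℕ} [Fact p.Prime] {V : Type*} [AddCommGroup V] [Module (ZMod p) V] [Finite V] (H : Subgroup (V ≃ₗ[ZMod p] V)) (hreg : ∀ v w : V, v ≠ 0 → w ≠ 0 → ∃! h : H, (h : V ≃ₗ[ZMod p] V) v = w) (hsolv : ¬ Group.IsSolvable H) : (Nat.card V = 121 ∧ Nonempty (H ≃* Matrix.SpecialLinearGroup (Fin 2) (ZMod 5))) ∨ (Nat.card V = 841 ∧ Nonempty (H ≃* Matrix.SpecialLinearGroup (Fin 2) (ZMod 5) × Multiplicative (ZMod 7))) ∨ (Nat.card V = 3481 ∧ Nonempty (H ≃* Matrix.SpecialLinearGroup (Fin 2) (ZMod 5) × Multiplicative (ZMod 29))) := by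

  have h := H90.regNZ_of hreg
  have : Nontrivial V := by
    by_contra hV
    rw [not_nontrivial_iff_subsingleton] at hV
    have : Subsingleton H := ⟨fun a b => Subtype.ext (LinearEquiv.ext fun v =>
      Subsingleton.elim _ _)⟩
    exact hsolv inferInstance
  obtain ⟨φ, M, h1, h2, h3, h4, h5⟩ := h.nonsolvable hsolv
  obtain ⟨e⟩ := H90.nonempty_equiv_prod φ M h1 h2 h3 h4
  have : Fact (Nat.Prime 7) := ⟨by norm_num⟩
  have : Fact (Nat.Prime 29) := ⟨by norm_num⟩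
  rcases h5 with ⟨h5, h6⟩ | ⟨h5, h6⟩ | ⟨h5, h6⟩
  · have : Unique M := @uniqueOfSubsingleton _ (Nat.card_eq_one_iff_unique.1 h6).1 1
    exact Or.inl ⟨h5, ⟨e.trans MulEquiv.prodUnique⟩⟩
  · exact Or.inr (Or.inl ⟨h5, ⟨e.trans ((MulEquiv.refl _).prodCongr
      (mulEquivOfPrimeCardEq h6 (by simp)))⟩⟩)
  · exact Or.inr (Or.inr ⟨h5, ⟨e.trans ((MulEquiv.refl _).prodCongr
      (mulEquivOfPrimeCardEq h6 (by simp)))⟩⟩)

end Cfsg.Agent.S0689
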