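import Cfsg.Statements.S0727
import Cfsg.Agent.H88.Sharp3b

set_option autoImplicit false
open Cfsg

namespace Cfsg.Agent.S0727

/-- A sharply triply transitive permutation group of degree `2^f + 1` is isomorphic to the projective general linear group of degree 2 over the field with `2^f` elements. -/
theorem result {α : Type*} [Fintype α] [DecidableEq α] {f : ℕ} (hf : 1 ≤ f) (hα : Fintype.card α = 2 ^ f + 1) (G : Subgroup (Equiv.Perm α)) (h3 : MulAction.IsMultiplyPretransitive G α 3) (hsharp : ∀ x : Fin 3 ↪ α, MulAction.stabilizer G x = ⊥) : ∃ (F : Type) (_ : Field F) (_ : Fintype F), Fintype.card F = 2 ^ f ∧ Nonempty (G ≃* Matrix.ProjGenLinGroup (Fin 2) F) := by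
  have hΩ : Nat.card α = 2 ^ f + 1 := by rw [Nat.card_eq_fintype_card, hα]
  have h2 : 2 ^ 1 ≤ 2 ^ f := Nat.pow_le_pow_right two_pos hf
  have hZ := H88.preZ_of_sharp_three h3 hsharp (by omega)
  obtain ⟨a, b, -, hab, -⟩ := hZ.big
  obtain ⟨K, _, _, hK⟩ := H88.exists_field_of_isPrimePow
    (Nat.prime_two.isPrimePow.pow (show f ≠ 0 by omega))
  refine ⟨K, inferInstance, inferInstance, hK, H88.preZ_nonempty_equiv_pgl_of_odd hZ hab
    (H88.preZ_card_of_three_trans hZ h3 hab) ?_ K (by rw [hK, hΩ])⟩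
  rw [hΩ]
  exact (Nat.even_pow.2 ⟨even_two, by omega⟩).add_one

end Cfsg.Agent.S0727
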