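import Cfsg.Statements.S0728
import Cfsg.Agent.H88.Sharp3c

set_option autoImplicit false
open Cfsg

namespace Cfsg.Agent.S0728

/-- In a sharply triply transitive group of even degree at least 6 (degree `q + 1`, `q` odd), a two-point stabiliser has at most one subgroup of order 3. -/
theorem result {α : Type*} [Fintype α] [DecidableEq α] (heven : Even (Fintype.card α)) (h6 : 6 ≤ Fintype.card α) (G : Subgroup (Equiv.Perm α)) (h3 : MulAction.IsMultiplyPretransitive G α 3) (hsharp : ∀ x : Fin 3 ↪ α, MulAction.stabilizer G x = ⊥) {a b : α} (hab : a ≠ b) (A B : Subgroup G) (hA : A ≤ MulAction.stabilizer G a ⊓ MulAction.stabilizer G b) (hB : B ≤ MulAction.stabilizer G a ⊓ MulAction.stabilizer G b) (hA3 : Nat.card A = 3) (hB3 : Nat.card B = 3) : A = B := by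
  have hΩ : Nat.card α = Fintype.card α := Nat.card_eq_fintype_card
  have hZ := H88.preZ_of_sharp_three h3 hsharp (by omega)
  have hd := H88.preZ_card_of_three_trans hZ h3 hab
  set H := MulAction.stabilizer G a ⊓ MulAction.stabilizer G b with hH
  have : Fact (Nat.Prime 3) := ⟨Nat.prime_three⟩
  have gen : ∀ A : Subgroup G, Nat.card A = 3 → ∃ y ∈ A, orderOf y = 3 ∧ A = Subgroup.zpowers y := by
    intro A hA
    obtain ⟨y, hy⟩ := exists_prime_orderOf_dvd_card' (G := A) 3 (by rw [hA])
    have h1 : orderOf (y : G) = 3 := by rw [Subgroup.orderOf_coe, hy]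
    exact ⟨y, y.2, h1, (Subgroup.eq_of_le_of_card_ge (Subgroup.zpowers_le_of_mem y.2)
      (by rw [Nat.card_zpowers, h1, hA])).symm⟩
  obtain ⟨y, hy, hy3, rfl⟩ := gen A hA3
  obtain ⟨z, hz, hz3, rfl⟩ := gen B hB3
  have hyH := hA hy
  have hzH := hB hz
  have hy1 : y ≠ 1 := fun e => by rw [e, orderOf_one] at hy3; omega
  have h4 := H88.preZ_card_le_card_centralizer hZ hab hd hyH hy1 (by
    have := pow_orderOf_eq_one y
    rwa [hy3, pow_succ, pow_two] at this)
  set C := Subgroup.centralizer ({y} : Set G)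
  have h5 : H.relIndex C ≤ 2 := by
    rw [← hZ.relIndex_stab2_pairStab hab]
    exact Subgroup.relIndex_le_of_le_right (fun g hg => hZ.mem_pairStab_of_comm hab hyH hy1
      (Subgroup.mem_centralizer_singleton_iff.1 hg)) (by
        rw [hZ.relIndex_stab2_pairStab hab]; omega)
  have h6 : Nat.card (H.subgroupOf C) = Nat.card (C.subgroupOf H) := by
    rw [← Subgroup.inf_subgroupOf_right, ← Subgroup.inf_subgroupOf_left C,
      Nat.card_congr (Subgroup.subgroupOfEquivOfLe inf_le_right).toEquiv,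
      Nat.card_congr (Subgroup.subgroupOfEquivOfLe inf_le_left).toEquiv]
  have h7 := (H.subgroupOf C).index_mul_card
  have h8 := (C.subgroupOf H).index_mul_card
  have h9 : (C.subgroupOf H).index = 1 ∨ (C.subgroupOf H).index = 2 := by
    have e2 : (C.subgroupOf H).index ≠ 0 := Subgroup.index_ne_zero_of_finite
    have e3 : 0 < Nat.card (C.subgroupOf H) := Nat.card_pos
    by_contra e4
    have e5 : 3 * Nat.card (C.subgroupOf H) ≤ (C.subgroupOf H).index * Nat.card (C.subgroupOf H) :=
      Nat.mul_le_mul_right _ (by omega)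
    have e6 : (H.subgroupOf C).index * Nat.card (H.subgroupOf C) ≤ 2 * Nat.card (H.subgroupOf C) :=
      Nat.mul_le_mul_right _ h5
    rw [← hH] at h4
    omega
  have h10 : z ∈ C := by
    have e : (⟨z, hzH⟩ : H) * ⟨z, hzH⟩ ∈ C.subgroupOf H := by
      rcases h9 with h9 | h9
      · exact Subgroup.index_eq_one.1 h9 ▸ Subgroup.mem_top _
      · exact Subgroup.mul_self_mem_of_index_two h9 _
    have e1 : z * z ∈ C := e
    have e2 : z = (z * z) * (z * z) := by
      have := pow_orderOf_eq_one z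
      rw [hz3, pow_succ, pow_two] at this
      rw [← mul_assoc, this, one_mul]
    rw [e2]
    exact C.mul_mem e1 e1
  have hF : H90.Free H := H90.Free.of_subgroup_fpf (hZ.ker_ne_bot a)
    (hZ.stab2_le_normalizer_ker a b) (hZ.fpf_stab2 hab)
  obtain ⟨k, hk⟩ := hF.mem_zpowers_of_commute (x := ⟨y, hyH⟩) (y := ⟨z, hzH⟩)
    (Subtype.ext (Subgroup.mem_centralizer_singleton_iff.1 h10).symm) (by
      rw [Subgroup.orderOf_mk z hzH, Subgroup.orderOf_mk y hyH, hz3, hy3])
  have h11 : z ∈ Subgroup.zpowers y := ⟨k, congrArg Subtype.val hk⟩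
  exact (Subgroup.eq_of_le_of_card_ge (Subgroup.zpowers_le_of_mem h11) (by rw [hA3, hB3])).symm

end Cfsg.Agent.S0728
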