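import Cfsg.Statements.S0730
import Cfsg.Agent.H88.Sharp3b

set_option autoImplicit false
open Cfsg

namespace Cfsg.Agent.S0730

/-- A sharply triply transitive group of degree `p^f + 1`, `p` an odd prime and `f` odd, is isomorphic to the projective general linear group of degree 2 over the field with `p^f` elements (for even `f` there is a second, twisted, group). -/
theorem result {α : Type*} [Fintype α] [DecidableEq α] {p f : ℕ} (hp : p.Prime) (hp2 : p ≠ 2) (hfo : Odd f) (hα : Fintype.card α = p ^ f + 1) (G : Subgroup (Equiv.Perm α)) (h3 : MulAction.IsMultiplyPretransitive G α 3) (hsharp : ∀ x : Fin 3 ↪ α, MulAction.stabilizer G x = ⊥) : ∃ (F : Type) (_ : Field F) (_ : Fintype F), Fintype.card F = p ^ f ∧ Nonempty (G ≃* Matrix.ProjGenLinGroup (Fin 2) F) := by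
  have hΩ : Nat.card α = p ^ f + 1 := by rw [Nat.card_eq_fintype_card, hα]
  have h2 : p ^ 1 ≤ p ^ f := Nat.pow_le_pow_right hp.pos hfo.pos
  have h1 := hp.two_le
  have hZ := H88.preZ_of_sharp_three h3 hsharp (by rw [pow_one] at h2; omega)
  obtain ⟨a, b, -, hab, -⟩ := hZ.big
  obtain ⟨K, _, _, hK⟩ := H88.exists_field_of_isPrimePow (hp.isPrimePow.pow hfo.pos.ne')
  have hd := H88.preZ_card_of_three_trans hZ h3 hab
  exact ⟨K, inferInstance, inferInstance, hK, H88.preZ_nonempty_equiv_pgl_of_comm hZ hab hd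
    (H88.preZ_stab_comm_of_odd_exponent hZ hab hd hp hp2 hfo hΩ) K (by rw [hK, hΩ])⟩

end Cfsg.Agent.S0730
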