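import Cfsg.Statements.S0732
import Cfsg.Agent.H88.AffZ

set_option autoImplicit false
open Cfsg

namespace Cfsg.Agent.S0732

/-- A transitive permutation group on `p + 1` points (`p` prime) of order `(p+1) p d` with `d < p` is isomorphic to `PGL(2,p)` with `d = p - 1`, or to `PSL(2,p)` with `2d = p - 1`, or else `p + 1 = 2^q` for a prime `q`, `d = 1` or `d = q`, and the group is permutation-isomorphic to a group of semi-affine maps `x ↦ a φ(x) + b` of the field with `2^q` elements. -/
theorem result {α : Type*} [Fintype α] [DecidableEq α] {p d : ℕ} (hp : p.Prime) (hα : Fintype.card α = p + 1) (G : Subgroup (Equiv.Perm α)) [MulAction.IsPretransitive G α] (hG : Nat.card G = (p + 1) * p * d) (hd : d < p) : (d = p - 1 ∧ Nonempty (G ≃* Matrix.ProjGenLinGroup (Fin 2) (ZMod p))) ∨ (2 * d = p - 1 ∧ Nonempty (G ≃* Matrix.ProjectiveSpecialLinearGroup (Fin 2) (ZMod p))) ∨ (∃ q : ℕ, q.Prime ∧ p + 1 = 2 ^ q ∧ (d = 1 ∨ d = q) ∧ ∃ e : α ≃ GaloisField 2 q, ∀ g : G, (e.symm.trans (((g : Equiv.Perm α)).trans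 e)) ∈ Cfsg.semiaffineGroup (GaloisField 2 q)) := by
  have := Fact.mk hp
  have hΩ : Nat.card α = p + 1 := by rw [Nat.card_eq_fintype_card, hα]
  obtain ⟨a⟩ : Nonempty α := Fintype.card_pos_iff.1 (by omega)
  have hd0 : 0 < d := Nat.pos_of_ne_zero fun e => by
    rw [e, mul_zero] at hG; exact Nat.card_pos.ne' hG
  have hS : Nat.card (MulAction.stabilizer G a) = p * d := by
    have h1 := (MulAction.stabilizer G a).index_mul_card
    rw [MulAction.index_stabilizer_of_transitive, hΩ, hG, mul_assoc] at h1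
    exact Nat.eq_of_mul_eq_mul_left (Nat.succ_pos p) h1
  obtain ⟨P⟩ : Nonempty (Sylow p (MulAction.stabilizer G a)) := inferInstance
  have hpd : ¬ p ∣ d := Nat.not_dvd_of_pos_of_lt hd0 hd
  have hPc : Nat.card (P : Subgroup (MulAction.stabilizer G a)) = p := by
    rw [P.card_eq_multiplicity, hS, Nat.factorization_mul hp.ne_zero hd0.ne', Finsupp.add_apply,
      hp.factorization_self, Nat.factorization_eq_zero_of_not_dvd hpd, pow_one]
  have hPn : (P : Subgroup (MulAction.stabilizer G a)).Normal := by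
    have h1 := card_sylow_modEq_one p (MulAction.stabilizer G a)
    have h2 := P.card_dvd_index
    have h3 := (P : Subgroup (MulAction.stabilizer G a)).card_mul_index
    rw [hPc, hS] at h3
    rw [Nat.eq_of_mul_eq_mul_left hp.pos h3] at h2
    have h4 := Nat.le_of_dvd hd0 h2
    have h5 : Nat.card (Sylow p (MulAction.stabilizer G a)) = 1 :=
      Nat.ModEq.eq_of_lt_of_lt h1 (by omega) hp.one_lt
    have := (Nat.card_eq_one_iff_unique.1 h5).1
    exact Sylow.normal_of_subsingleton P
  have hD : H88.PrimeDeg G α p ((P : Subgroup (MulAction.stabilizer G a)).map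
      (MulAction.stabilizer G a).subtype) a :=
    ⟨by rw [Subgroup.card_map_of_injective (Subgroup.subtype_injective _), hPc],
      Subgroup.map_subtype_le _, (Subgroup.normal_subgroupOf_iff_le_normalizer
        (Subgroup.map_subtype_le _)).1 (by
          rwa [Subgroup.subgroupOf, Subgroup.comap_map_eq_self_of_injective
            (Subgroup.subtype_injective _)]),
      fun g hg => Subtype.ext (Equiv.ext hg), fun x => MulAction.exists_smul_eq G a x, hΩ⟩
  have hZ := hD.preZ
  obtain ⟨b, hb, -⟩ := hZ.exists_third a a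
  have hab := hb.symm
  have hH : Nat.card ↥(MulAction.stabilizer G a ⊓ MulAction.stabilizer G b) = d := by
    have h1 := hD.card_group hab
    rw [hG, mul_assoc] at h1
    exact (Nat.eq_of_mul_eq_mul_left hp.pos (Nat.eq_of_mul_eq_mul_left (Nat.succ_pos p) h1)).symm
  by_cases h1 : d + 1 = p
  · exact Or.inl ⟨by omega, H88.preZ_nonempty_equiv_pgl_of_comm hZ hab (by omega) (hD.stab_comm hab)
      (ZMod p) (by rw [ZMod.card, hΩ])⟩
  by_cases hreg : ∃ N : Subgroup G, N.Normal ∧ (∀ x, ∃ n ∈ N, n • a = x) ∧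
      ∀ n ∈ N, n • a = a → n = 1
  · obtain ⟨N, hN, htr, hreg⟩ := hreg
    obtain ⟨r, q, hr, hq, hc, hcomm, -⟩ := H90.elemab_of_semiregular_normal
      hZ.multiplyPretransitive a N (fun h => by
        obtain ⟨n, hn, e⟩ := htr b
        rw [h, Subgroup.mem_bot] at hn
        exact hab (by rw [← e, hn, one_smul])) hreg
    rw [H88.card_eq_of_regular htr hreg, hΩ] at hc
    obtain rfl : r = 2 := by
      have h2 : 2 ∣ r ^ q := hc ▸ (hp.odd_of_ne_two (by omega)).add_one.two_dvd
      exact ((Nat.prime_dvd_prime_iff_eq Nat.prime_two hr).1 (Nat.prime_two.dvd_of_dvd_pow h2)).symm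
    have hq' : q.Prime := (Nat.prime_of_pow_sub_one_prime (a := 2) (by
      rintro rfl; have := hp.two_le; omega) (by rw [← hc]; exact hp)).2
    have := Fintype.ofFinite (GaloisField 2 q)
    obtain ⟨e, he⟩ := H88.exists_semiaffine N hcomm hab htr hreg hD.le hD.le_normalizer
      (hD.ker_eq ▸ hD.ker_comm) (fun x y hx hy => hD.exists_smul hx hy) (GaloisField 2 q) (by
        rw [← Nat.card_eq_fintype_card, GaloisField.card 2 q hq'.ne_zero, hΩ, hc])
    refine Or.inr (Or.inr ⟨q, hq', hc, or_iff_not_imp_left.2 fun h2 => ?_, e, fun g => ?_⟩)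
    · have h3 := H88.preZ_card_eq_two_pow hZ hab N htr hreg le_rfl fun e => by
        rw [e, Subgroup.card_bot] at hH; exact h2 hH.symm
      rw [hΩ, hc, hH] at h3
      exact (Nat.pow_right_injective le_rfl h3).symm
    · obtain ⟨u, c, φ, h⟩ := he g
      exact ⟨u, c, φ, fun x => by
        have := h (e.symm x)
        rw [e.apply_symm_apply] at this
        exact this⟩
  have hZ' : Cfsg.IsZassenhausGroup G α := by
    refine ⟨hZ.faithful, hZ.multiplyPretransitive, fun g x y z h1 h2 h3 => hZ.three h1 h2 h3, ?_,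
      fun N hN htr => ?_⟩
    · by_contra hc
      push Not at hc
      have := hZ.nontrivial
      obtain ⟨K, -, -, hK, h2, h3, -⟩ := H90.exists_kernel_sharp_two hZ.multiplyPretransitive
        fun g x y hxy h1 h2 => by_contra fun h => hc g h x y hxy h1 h2
      exact hreg ⟨K, hK, h3 a, fun n hn e => ((h2 n).1 hn).resolve_right fun h => h a e⟩
    · refine ⟨a, fun h => hreg ⟨N, hN, fun x => ?_, fun n hn e => ?_⟩⟩
      · obtain ⟨n, e⟩ := htr.exists_smul_eq a x
        exact ⟨n, n.2, e⟩
      · have k : (⟨n, hn⟩ : N) ∈ MulAction.stabilizer N a := e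
        rw [h, Subgroup.mem_bot] at k
        exact congrArg Subtype.val k
  rcases H28.zass_abelian hZ' hab fun u v => Subtype.ext (hD.ker_comm u u.2 v v.2) with
    h2 | ⟨h2, K, _, _, hK, ⟨e⟩⟩
  · omega
  · exact Or.inr (Or.inl ⟨by omega, ⟨e.trans (H55.pslCongr (FiniteField.ringEquivOfCardEq
      (by rw [ZMod.card]; omega)))⟩⟩)

end Cfsg.Agent.S0732
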