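import Cfsg.Statements.S0737
import Cfsg.Agent.H42.Kantor
import Cfsg.Agent.H42.OddOrder
import Cfsg.Agent.S0735
import Cfsg.Agent.S0547
import Cfsg.Agent.S0548

set_option autoImplicit false
open Cfsg

namespace Cfsg.Agent.S0737

/-- A non-trivial 2-homogeneous permutation group that is not doubly transitive has odd order and degree `p^f ≡ 3 (mod 4)`, and is permutation-isomorphic to a group of semi-affine transformations `x ↦ a φ(x) + b` of the field with `p^f` elements containing all translations. -/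
theorem result {α : Type*} [Fintype α] [DecidableEq α] (G : Subgroup (Equiv.Perm α)) (hne : G ≠ ⊥) (h2 : MulAction.IsPretransitive G (Set.powersetCard α 2)) (hn2 : ¬ MulAction.IsMultiplyPretransitive G α 2) : Odd (Nat.card G) ∧ ∃ (p f : ℕ) (_ : Fact p.Prime), p ≠ 2 ∧ Fintype.card α = p ^ f ∧ p ^ f % 4 = 3 ∧ ∃ e : α ≃ GaloisField p f, (∀ g : G, e.symm.trans (((g : Equiv.Perm α)).trans e) ∈ Cfsg.semiaffineGroup (GaloisField p f)) ∧ ∀ b : GaloisField p f, ∃ g : G, ∀ x : α, e ((g : Equiv.Perm α) x) = e x + b := by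
  have hα : 3 ≤ Fintype.card α := by
    by_contra h
    have h3 : ∀ a b c : α, a ≠ b → a ≠ c → b = c := by
      intro a b c h1 h2
      by_contra h3
      exact h (Fintype.two_lt_card_iff.mpr ⟨a, b, c, h1, h2, h3⟩)
    refine hn2 (MulAction.is_two_pretransitive_iff.mpr fun {a b c d} hab hcd => ?_)
    by_cases hac : a = c
    · subst hac
      exact ⟨1, one_smul _ _, (one_smul _ _).trans (h3 a b d hab hcd)⟩
    · obtain rfl : b = c := h3 a b c hab hac
      obtain rfl : a = d := h3 b a d hab.symm hcd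
      obtain ⟨⟨σ, hσ⟩, hσ1⟩ := (Subgroup.ne_bot_iff_exists_ne_one).mp hne
      obtain ⟨x, hx⟩ : ∃ x, σ x ≠ x := by
        by_contra! h
        exact hσ1 (Subtype.ext (Equiv.ext h))
      have h4 : σ a ≠ a := by
        intro h4
        obtain rfl : b = x := h3 a b x hab fun h => hx (h ▸ h4)
        exact hab (σ.injective (h4.trans (h3 b a (σ b) hab.symm hx.symm)))
      have h5 : σ a = b := (h3 a b _ hab h4.symm).symm
      exact ⟨⟨σ, hσ⟩, h5, (h3 b a _ hab.symm fun h => hab (σ.injective (h5.trans h))).symm⟩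
  obtain ⟨he, hprim⟩ := Cfsg.Agent.S0735.result G h2 hα
  have hodd : Odd (Nat.card G) := Nat.not_even_iff_odd.mp fun h => hn2 (he h)
  have hprim := hprim hne
  have := H42.odd_order hodd
  have : Nontrivial G := (Subgroup.nontrivial_iff_ne_bot G).mpr hne
  have : Nontrivial α := Fintype.one_lt_card_iff_nontrivial.mp (by omega)
  obtain ⟨ω⟩ : Nonempty α := inferInstance
  obtain ⟨M, hMn, hM, hmin⟩ := H2.exists_minimal_normal G
  obtain ⟨htr, hst, p, f, hp, hf, hc1, hc2⟩ := Cfsg.Agent.S0547.result hprim M hM hmin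
  obtain ⟨-, hfaith, -⟩ := Cfsg.Agent.S0548.result hprim M hM hmin ω
  obtain ⟨q, hq, -, ⟨hcomm, hexp⟩, -⟩ := H2.exists_elementaryAbelian_of_minimal_normal hM hmin
  have hmod : p ^ f % 4 = 3 := by
    obtain ⟨b, hb⟩ := exists_ne ω
    have h1 := MulAction.index_stabilizer_of_transitive G
      (⟨{ω, b}, Finset.card_pair hb.symm⟩ : Set.powersetCard α 2)
    rw [Set.powersetCard.card, hc1] at h1
    have h3 : Odd ((p ^ f).choose 2) := Odd.of_dvd_nat hodd (h1 ▸ Subgroup.index_dvd_card _)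
    have h4 : Odd (p ^ f) := Odd.of_dvd_nat hodd (hc2 ▸ Subgroup.card_subgroup_dvd_card _)
    obtain ⟨k, hk⟩ := h4
    rw [Nat.choose_two_right, hk, Nat.add_sub_cancel, mul_left_comm,
      Nat.mul_div_cancel_left _ two_pos] at h3
    have := Nat.odd_iff.mp (Nat.odd_mul.mp h3).2
    omega
  have hp2 : p ≠ 2 := by
    rintro rfl
    have : 2 ∣ 2 ^ f := dvd_pow_self 2 hf.ne'
    omega
  have := Fact.mk hp
  refine ⟨hodd, p, f, this, hp2, by rw [← hc1, Nat.card_eq_fintype_card], hmod, ?_⟩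
  let _ : CommGroup M := IsMulCommutative.instCommGroup
  let D := MulAction.stabilizer G ω
  let _ : DistribMulAction D (Additive M) :=
    { smul := fun d x => Additive.ofMul (MulAut.conjNormal (d : G) x.toMul)
      one_smul := fun x => by
        show Additive.ofMul (MulAut.conjNormal (1 : G) x.toMul) = x
        rw [map_one]; rfl
      mul_smul := fun d e x => by
        show Additive.ofMul (MulAut.conjNormal ((d : G) * e) x.toMul) = _
        rw [map_mul]; rfl
      smul_zero := fun d => congrArg Additive.ofMul (map_one (MulAut.conjNormal (d : G)))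
      smul_add := fun d x y => congrArg Additive.ofMul (map_mul (MulAut.conjNormal (d : G)) _ _) }
  have hsm : ∀ (d : D) (x : Additive M), ((d • x).toMul : G) = d * x.toMul * (d : G)⁻¹ :=
    fun _ _ => rfl
  have : FaithfulSMul D (Additive M) := by
    refine ⟨fun {d e} h => ?_⟩
    have h1 : ((e⁻¹ * d : D) : G) ∈ D ⊓ Subgroup.centralizer (M : Set G) := by
      refine ⟨(e⁻¹ * d).2, fun m hm => ?_⟩
      have h3 := hsm (e⁻¹ * d) (Additive.ofMul ⟨m, hm⟩)
      rw [mul_smul, h, inv_smul_smul] at h3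
      exact eq_mul_inv_iff_mul_eq.mp h3
    rw [hfaith, Subgroup.mem_bot] at h1
    exact (inv_mul_eq_one.mp (Subtype.ext h1)).symm
  have hinj : ∀ x y : M, (x : G) • ω = (y : G) • ω → x = y := by
    intro x y h
    have h1 : y⁻¹ * x ∈ MulAction.stabilizer M ω := by
      show y⁻¹ • x • ω = ω
      exact inv_smul_eq_iff.mpr h
    rw [hst, Subgroup.mem_bot] at h1
    exact (inv_mul_eq_one.mp h1).symm
  have hact : ∀ (d : D) (x : Additive M), ((d • x).toMul : G) • ω = (d : G) • (x.toMul : G) • ω := by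
    intro d x
    rw [hsm, mul_smul, mul_smul, show (d : G)⁻¹ • ω = ω from (d⁻¹).2]
  have htrans : ∀ a b : Additive M, a ≠ 0 → b ≠ 0 → ∃ d : D, d • a = b ∨ d • a = -b := by
    intro a b ha hb
    have h1 : ∀ a : Additive M, a ≠ 0 → ω ≠ (a.toMul : G) • ω := fun a ha h =>
      ha (hinj a.toMul 1 (h.symm.trans (one_smul G ω).symm))
    obtain ⟨g, hg⟩ := (H89.homog_iff_perm G 2).mp h2 _ _ (Finset.card_pair (h1 a ha))
      (Finset.card_pair (h1 b hb))
    rcases H89.smul_pair_eq (h1 a ha) hg with ⟨h3, h4⟩ | ⟨h3, h4⟩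
    · exact ⟨⟨g, h3⟩, Or.inl (hinj _ _ ((hact _ _).trans h4))⟩
    · refine ⟨⟨(b.toMul : G)⁻¹ * g, ?_⟩, Or.inr (hinj _ _ ((hact _ _).trans ?_))⟩
      · show ((b.toMul : G)⁻¹ * g) • ω = ω
        rw [mul_smul, h3, inv_smul_smul]
      · show ((b.toMul : G)⁻¹ * g) • _ = (b.toMul : G)⁻¹ • ω
        rw [mul_smul, h4]
  have hoD : Odd (Nat.card D) := Odd.of_dvd_nat hodd D.card_subgroup_dvd_card
  have := H42.fitting_cyclic_half hoD hq (E := Additive M)
    (fun e => congrArg Additive.ofMul (Subtype.ext (hexp e.toMul e.toMul.2) : e.toMul ^ q = 1)) htrans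
  have : Nontrivial M := (Subgroup.nontrivial_iff_ne_bot M).mpr hM
  obtain ⟨K, _, e, he⟩ := H42.exists_field_of_half_trans (fittingSubgroup D)
    Cfsg.Agent.S0044.result hoD (E := Additive M)
    (Odd.of_dvd_nat hodd M.card_subgroup_dvd_card) htrans
  have : Finite K := Finite.of_equiv _ e.toEquiv
  have := Fintype.ofFinite K
  have := Fintype.ofFinite (GaloisField p f)
  let φ : K ≃+* GaloisField p f := FiniteField.ringEquivOfCardEq (by
    rw [← Nat.card_eq_fintype_card, ← Nat.card_eq_fintype_card, GaloisField.card p f hf.ne', ← hc2]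
    exact (Nat.card_congr e.toEquiv).symm)
  let ε : Additive M ≃ α := Equiv.ofBijective (fun x => (x.toMul : G) • ω)
    ⟨fun x y h => hinj _ _ h, fun y => by
      obtain ⟨m, hm⟩ := htr.exists_smul_eq ω y
      exact ⟨Additive.ofMul m, hm⟩⟩
  have hε : ∀ x, ε x = (x.toMul : G) • ω := fun _ => rfl
  have hadd : ∀ x y, ε (x + y) = (x.toMul : G) • ε y := fun x y =>
    mul_smul (x.toMul : G) (y.toMul : G) ω
  refine ⟨ε.symm.trans (e.toEquiv.trans φ.toEquiv), fun g => ?_, fun b => ?_⟩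
  · obtain ⟨m, hm⟩ := ε.surjective (g • ω)
    let d : D := ⟨(m.toMul : G)⁻¹ * g, by
      show ((m.toMul : G)⁻¹ * g) • ω = ω
      rw [mul_smul, ← hm, hε, inv_smul_smul]⟩
    obtain ⟨u, σ, hu⟩ := he d
    refine ⟨Units.map (φ : K →* GaloisField p f) u, φ (e m), φ.symm.trans (σ.trans φ), fun x => ?_⟩
    obtain ⟨x, rfl⟩ := φ.surjective x
    obtain ⟨x, rfl⟩ := e.surjective x
    have h1 : g • ε x = ε (m + d • x) := by
      rw [hadd, hε (d • x), hact, ← mul_smul]
      show _ = ((m.toMul : G) * ((m.toMul : G)⁻¹ * g)) • _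
      rw [mul_inv_cancel_left, hε]
    show φ (e (ε.symm (g • ε (e.symm (φ.symm (φ (e x))))))) = φ u * φ (σ (φ.symm (φ (e x)))) + _
    rw [φ.symm_apply_apply, e.symm_apply_apply, h1, ε.symm_apply_apply, map_add, map_add, hu,
      map_mul, add_comm]
  · refine ⟨(e.symm (φ.symm b)).toMul, fun x => ?_⟩
    obtain ⟨x, rfl⟩ := ε.surjective x
    show φ (e (ε.symm (((e.symm (φ.symm b)).toMul : G) • ε x))) = φ (e (ε.symm (ε x))) + b
    rw [← hadd, ε.symm_apply_apply, ε.symm_apply_apply, map_add, map_add, e.apply_symm_apply,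
      φ.apply_symm_apply, add_comm]

end Cfsg.Agent.S0737
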