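import Cfsg.Statements.S0739
import Cfsg.Agent.H30.ZassOdd

set_option autoImplicit false
open Cfsg

namespace Cfsg.Agent.S0739

/-- In a finite Zassenhaus group whose two-point stabiliser `H = G_{a,b}` has odd order `d`, and which has no normal `q`-complement for any prime `q ∣ d`, `H` is cyclic, `C_G(H) = H`, and every element swapping `a` and `b` inverts each element of `H`. -/
theorem result {G Ω : Type*} [Group G] [Finite G] [MulAction G Ω] [Fintype Ω] (hZ : Cfsg.IsZassenhausGroup G Ω) {a b : Ω} (hab : a ≠ b) (hodd : Odd (Nat.card ↥(MulAction.stabilizer G a ⊓ MulAction.stabilizer G b))) (hnil : ∀ q : ℕ, q.Prime → q ∣ Nat.card ↥(MulAction.stabilizer G a ⊓ MulAction.stabilizer G b) → ¬ ∃ N : Subgroup G, N.Normal ∧ N.index = q ^ (Nat.card G).factorization q) : IsCyclic ↥(MulAction.stabilizer G a ⊓ MulAction.stabilizer G b) ∧ Subgroup.centralizer ((MulAction.stabilizer G a ⊓ MulAction.stabilizer G b : Subgroup G) : Set G) = MulAction.stabilizer G a ⊓ MulAction.stabilizer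 G b ∧ ∀ s : G, s • a = b → s • b = a → ∀ h ∈ MulAction.stabilizer G a ⊓ MulAction.stabilizer G b, s * h * s⁻¹ = h⁻¹ := by
  have hP := H30.preZ_of_zass hZ
  obtain ⟨h1, h2⟩ := hP.cyclic_inv_of_odd hab hodd hnil
  refine ⟨h1, le_antisymm ?_ ?_, fun s hsa hsb h hh => h2 hab hsa hsb hh.1 hh.2⟩
  · obtain ⟨⟨x, hx⟩, hx1⟩ := Subgroup.ne_bot_iff_exists_ne_one.1 (H30.zass_stab2_ne_bot hZ hab)
    rw [← hP.centralizer_eq_stab2 h2 hab hodd hx (fun h => hx1 (Subtype.ext h))]
    refine Subgroup.centralizer_le (Set.singleton_subset_iff.2 ?_)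
    exact Subgroup.mem_centralizer_singleton_iff.2 rfl
  · obtain ⟨s, hsa, hsb⟩ := hP.exists_swap hab
    exact fun g hg k hk => H30.comm_of_inv (fun h hh => h2 hab hsa hsb hh.1 hh.2) hk hg

end Cfsg.Agent.S0739
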