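import Cfsg.Statements.S0745
import Cfsg.Agent.H19.LWa
import Cfsg.Agent.S0744
import Cfsg.Agent.H89.Homog

set_option autoImplicit false
open Cfsg

namespace Cfsg.Agent.S0745

open MulAction H76 H76.LW H19.LW

theorem alt_case {α : Type*} [Fintype α] [DecidableEq α] (G : Subgroup (Equiv.Perm α)) {k : ℕ}
    (hk : 3 ≤ k) (hkn : k ≤ Fintype.card α) (hA : alternatingGroup α ≤ G)
    (hnt : ¬ IsMultiplyPretransitive G α (k - 1)) :
    k = Fintype.card α ∧ G = alternatingGroup α := by
  have : Nontrivial α := Fintype.one_lt_card_iff_nontrivial.1 (by omega)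
  have hG : G = alternatingGroup α := by
    have h1 := Subgroup.index_dvd_of_le hA
    rw [alternatingGroup.index_eq_two] at h1
    rcases (Nat.dvd_prime Nat.prime_two).1 h1 with h | h
    · rw [Subgroup.index_eq_one] at h
      subst h
      refine absurd (tr_of fun x y => ?_) hnt
      obtain ⟨g, hg⟩ := ex_emb (Equiv.Perm.isMultiplyPretransitive α (k - 1)) x y
      exact ⟨⟨g, trivial⟩, hg⟩
    · exact Equiv.Perm.eq_alternatingGroup_of_index_eq_two h
  refine ⟨?_, hG⟩
  by_contra hne
  subst hG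
  have := alternatingGroup.isMultiplyPretransitive α
  exact hnt (isMultiplyPretransitive_of_le (n := Nat.card α - 2)
    (by rw [Nat.card_eq_fintype_card]; omega) (by omega))

theorem en3 : ∀ r ∈ Finset.range 3, ∀ e ∈ Finset.range 7, r ≠ 1 → r ∣ 2 → r * e ∣ 6 → r ∣ e + 1 →
    r = 2 ∧ (e = 1 ∨ e = 3) := by decide

theorem en4 : ∀ r ∈ Finset.range 7, ∀ e ∈ Finset.range 25, r ≠ 1 → r ∣ 6 → r * e ∣ 24 → r ∣ e + 1 →
    (r = 2 ∧ (e = 1 ∨ e = 3)) ∨ (r = 3 ∧ (e = 2 ∨ e = 8)) := by decide +kernel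

theorem en5 : ∀ r ∈ Finset.range 25, ∀ e ∈ Finset.range 121, r ≠ 1 → r ∣ 24 → r * e ∣ 120 →
    r ∣ e + 1 → (r = 2 ∧ (e = 1 ∨ e = 3 ∨ e = 5 ∨ e = 15)) ∨
      (r = 3 ∧ (e = 2 ∨ e = 5 ∨ e = 8 ∨ e = 20)) ∨ (r = 4 ∧ (e = 3 ∨ e = 15)) ∨
      (r = 6 ∧ e = 5) ∨ (r = 8 ∧ e = 15) := by decide +kernel

theorem no_count {p c : ℕ} (hp : 2 ≤ p)
    (h : ∀ d ∈ Finset.range p, d ∣ p - 1 → d ∣ c → (c / d) % p ≠ 1) :
    ¬ ∃ d, d ∣ p - 1 ∧ d ∣ c ∧ (c / d) % p = 1 := by
  rintro ⟨d, h1, h2, h3⟩
  exact h d (Finset.mem_range.2 (by have := Nat.le_of_dvd (by omega) h1; omega)) h1 h2 h3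

open scoped Pointwise in
theorem small {G α : Type*} [Group G] [MulAction G α] [Finite G] [Fintype α] [DecidableEq α]
    {k : ℕ} (fa : ∀ g : G, (∀ x : α, g • x = x) → g = 1) (hk : 3 ≤ k) (h6 : ¬ 6 ≤ k)
    (hkn : k ≤ Fintype.card α) (hkeq : k ≠ Fintype.card α)
    (ht : IsMultiplyPretransitive G α (k - 2)) (hnt : ¬ IsMultiplyPretransitive G α (k - 1))
    (H1 : Hom G α (k - 1)) (H2 : Hom G α k)
    (hf0 : ∀ s : Finset α, s.card = k - 1 → fixingSubgroup G (s : Set α) = ⊥) :
    (Fintype.card α = 5 ∧ k = 4 ∧ Nat.card G = 20) ∨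
      (Fintype.card α = 6 ∧ k = 5 ∧ Nat.card G = 120) ∨
      (Fintype.card α = 9 ∧ k = 5 ∧ (Nat.card G = 504 ∨ Nat.card G = 1512)) := by
  have hcard := Nat.card_eq_fintype_card (α := α)
  obtain ⟨s₁, -, hs₁⟩ := Finset.exists_subset_card_eq (s := (Finset.univ : Finset α))
    (n := k - 1) (by rw [Finset.card_univ]; omega)
  obtain ⟨s₂, -, hs₂⟩ := Finset.exists_subset_card_eq (s := (Finset.univ : Finset α))
    (n := k) (by rw [Finset.card_univ]; omega)
  have hf : ∀ x : Fin (k - 1) ↪ α, stabilizer G x = ⊥ := fun x => by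
    rw [stab_eq_fix, ← hf0 (Finset.univ.map x) (by simp), Finset.coe_map, Finset.coe_univ,
      Set.image_univ]
  obtain ⟨r, r1, hr⟩ := ex_orbits hf hnt
  obtain ⟨x⟩ : Nonempty (Fin (k - 2) ↪ α) := exists_emb_fin (by omega)
  have hd := card_of_multTrans ht x
  have ha := card_eq_choose H1 s₁ hs₁
  have hb := card_eq_choose H2 s₂ hs₂
  have h2 : 2 ∣ Nat.card (stabilizer G x) → 2 ∣ Nat.card (stabilizer G s₁) := fun h => by
    obtain ⟨s, hs, h⟩ := two_dvd (by omega) fa x h
    have := (card_eq_choose H1 s (by omega)).symm.trans ha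
    rwa [Nat.eq_of_mul_eq_mul_left (Nat.choose_pos (by omega)) this] at h
  have h7 : Nat.card (stabilizer G x) = 1 → SharpT G α (k - 2) := fun h => ⟨ht, fun y => by
    have := (card_of_multTrans ht y).symm.trans hd
    rw [← Subgroup.card_eq_one, Nat.eq_of_mul_eq_mul_left
      (Nat.descFactorial_pos.2 (by omega)) this, h]⟩
  have hc := fun p c hp h1 h2 h3 h4 => count hf (p := p) (c := c) hp h1 (by omega) h2 h3 h4
  rw [hcard] at hd
  generalize Nat.card (stabilizer G x) = d at *
  generalize Nat.card (stabilizer G s₁) = a at *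
  generalize Nat.card (stabilizer G s₂) = b at *
  obtain ⟨e, he⟩ : ∃ e, Fintype.card α = e + (k - 1) := ⟨Fintype.card α - (k - 1), by omega⟩
  have e1 : r * a = (k - 1).factorial := by
    refine Nat.eq_of_mul_eq_mul_right (Nat.choose_pos (n := Fintype.card α) (k := k - 1)
      (by omega)) ?_
    rw [← Nat.descFactorial_eq_factorial_mul_choose, ← hr, ha]; ring
  have e2 : r * e * b = k.factorial := by
    refine Nat.eq_of_mul_eq_mul_right (Nat.choose_pos (n := Fintype.card α) (k := k)
      (by omega)) ?_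
    have := Nat.descFactorial_succ (Fintype.card α) (k - 1)
    rw [show k - 1 + 1 = k by omega, show Fintype.card α - (k - 1) = e by omega] at this
    rw [← Nat.descFactorial_eq_factorial_mul_choose, this, ← hr, hb]; ring
  have e3 : r * d = e + 1 := by
    refine Nat.eq_of_mul_eq_mul_right (Nat.descFactorial_pos.2
      (show k - 2 ≤ Fintype.card α by omega)) ?_
    have := Nat.descFactorial_succ (Fintype.card α) (k - 2)
    rw [show k - 2 + 1 = k - 1 by omega, show Fintype.card α - (k - 2) = e + 1 by omega] at this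
    rw [← this, ← hr, hd]; ring
  have f1 : r ∣ (k - 1).factorial := Dvd.intro _ e1
  have f2 : r * e ∣ k.factorial := Dvd.intro _ e2
  have f3 : r ∣ e + 1 := Dvd.intro _ e3
  have g1 := Nat.le_of_dvd (Nat.factorial_pos _) f1
  have g2 := Nat.le_of_dvd (Nat.factorial_pos _) ((Dvd.intro_left _ rfl).trans f2)
  rw [he] at hd hc
  obtain rfl | rfl | rfl : k = 3 ∨ k = 4 ∨ k = 5 := by omega
  all_goals simp only [Nat.factorial, Nat.reduceSub, Nat.succ_eq_add_one, Nat.reduceAdd,
    Nat.reduceMul] at *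
  · obtain ⟨rfl, rfl | rfl⟩ := en3 r (by simp; omega) e (by simp; omega) r1 f1 f2 f3 <;> omega
  · rcases en4 r (by simp; omega) e (by simp; omega) r1 f1 f2 f3 with
      ⟨rfl, rfl | rfl⟩ | ⟨rfl, rfl | rfl⟩
    · omega
    · omega
    · obtain rfl : d = 1 := by omega
      exact Or.inl ⟨he, trivial, by rw [hd]; decide⟩
    · obtain rfl : d = 3 := by omega
      exact absurd (hc 11 30 (by norm_num) (by omega) (by omega) (by rw [hd]; decide) (by omega))
        (no_count (by omega) (by decide))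
  · rcases en5 r (by simp; omega) e (by simp; omega) r1 f1 f2 f3 with
      ⟨rfl, rfl | rfl | rfl | rfl⟩ | ⟨rfl, rfl | rfl | rfl | rfl⟩ | ⟨rfl, rfl | rfl⟩ |
      ⟨rfl, rfl⟩ | ⟨rfl, rfl⟩
    · omega
    · obtain rfl : d = 2 := by omega
      exact absurd (hc 7 60 (by norm_num) (by omega) (by omega) (by rw [hd]; decide) (by omega))
        (no_count (by omega) (by decide))
    · obtain rfl : d = 3 := by omega
      exact Or.inr (Or.inr ⟨he, trivial, Or.inr (by rw [hd]; decide)⟩)
    · obtain rfl : d = 8 := by omega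
      exact absurd (hc 19 2448 (by norm_num) (by omega) (by omega) (by rw [hd]; decide) (by omega))
        (no_count (by omega) (by decide))
    · obtain rfl : d = 1 := by omega
      exact Or.inr (Or.inl ⟨he, trivial, by rw [hd]; decide⟩)
    · obtain rfl : d = 2 := by omega
      exact absurd (hc 7 144 (by norm_num) (by omega) (by omega) (by rw [hd]; decide) (by omega))
        (no_count (by omega) (by decide))
    · obtain rfl : d = 3 := by omega
      exact absurd (hc 11 360 (by norm_num) (by omega) (by omega) (by rw [hd]; decide) (by omega))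
        (no_count (by omega) (by decide))
    · obtain rfl : d = 7 := by omega
      exact absurd (hc 23 3696 (by norm_num) (by omega) (by omega) (by rw [hd]; decide) (by omega))
        (no_count (by omega) (by decide))
    · exact (not_sharp_seven (h7 (by omega)) he).elim
    · obtain rfl : d = 4 := by omega
      exact absurd (hc 19 1224 (by norm_num) (by omega) (by omega) (by rw [hd]; decide) (by omega))
        (no_count (by omega) (by decide))
    · obtain rfl : d = 1 := by omega
      exact Or.inr (Or.inr ⟨he, trivial, Or.inl (by rw [hd]; decide)⟩)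
    · obtain rfl : d = 2 := by omega
      exact absurd (hc 19 612 (by norm_num) (by omega) (by omega) (by rw [hd]; decide) (by omega))
        (no_count (by omega) (by decide))


/-- Let `G` have degree `n` and `3 ≤ k ≤ n`; suppose `G` is `(k-2)`-transitive but not `(k-1)`-transitive, and is `(k-1)`-homogeneous and `k`-homogeneous. Then `k = n` and `G` is the alternating group, or `n = 5, k = 4, |G| = 20`, or `n = 6, k = 5, |G| = 120`, or `n = 9, k = 5, |G| ∈ {504, 1512}`. -/
theorem result {α : Type*} [Fintype α] [DecidableEq α] (G : Subgroup (Equiv.Perm α)) {k : ℕ} (hk : 3 ≤ k) (hkn : k ≤ Fintype.card α) (ht : MulAction.IsMultiplyPretransitive G α (k - 2)) (hnt : ¬ MulAction.IsMultiplyPretransitive G α (k - 1)) (hh1 : MulAction.IsPretransitive G (Set.powersetCard α (k - 1))) (hh : MulAction.IsPretransitive G (Set.powersetCard α k)) : (k = Fintype.card α ∧ G = alternatingGroup α) ∨ (Fintype.card α = 5 ∧ k = 4 ∧ Nat.card G = 20) ∨ (Fintype.card α = 6 ∧ k = 5 ∧ Nat.card G = 120)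 ∨ (Fintype.card α = 9 ∧ k = 5 ∧ (Nat.card G = 504 ∨ Nat.card G = 1512)) := by
  have fa : ∀ g : G, (∀ x : α, g • x = x) → g = 1 := fun g hg => Subtype.ext (Equiv.ext hg)
  have H1 : Hom G α (k - 1) := (H89.homog_iff _).1 hh1
  have H2 : Hom G α k := (H89.homog_iff _).1 hh
  have hcard := Nat.card_eq_fintype_card (α := α)
  by_cases hkeq : k = Fintype.card α
  · exact Or.inl (alt_case G hk hkn
      (IsMultiplyPretransitive.alternatingGroup_le α G (by rwa [hcard, ← hkeq])) hnt)
  by_cases h6 : 6 ≤ k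
  · have e : k - 1 = k - 2 + 1 := by omega
    rw [e] at H1 hnt
    obtain ⟨h3, -⟩ := big fa ht (by omega) (by omega) H1 hnt
    rw [← e] at hnt
    have := h3.alt (isMultiplyPretransitive_of_le (n := k - 2) (by omega) (by omega))
    refine Or.inl (alt_case G hk hkn (this.trans ?_) hnt)
    rintro _ ⟨g, rfl⟩
    exact g.2
  obtain ⟨s₂, -, hs₂⟩ := Finset.exists_subset_card_eq (s := (Finset.univ : Finset α))
    (n := k) (by rw [Finset.card_univ]; omega)
  refine Or.inr (small fa hk h6 hkn hkeq ht hnt H1 H2 fun t h1 => ?_)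
  by_contra hne
  exact hnt (S0744.result G (by omega) hkn _ _ ((Subgroup.one_lt_card_iff_ne_bot _).2 hne)
    (fun s hs => card_fix_hom H1 s _ hs h1) (fun s hs => card_fix_hom H2 s _ hs hs₂))

end Cfsg.Agent.S0745
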