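import Cfsg.Statements.S0746
import Cfsg.Agent.S0745
import Cfsg.Agent.S0736

set_option autoImplicit false
open Cfsg

namespace Cfsg.Agent.S0746

open MulAction

theorem homog_le {α : Type*} [Fintype α] [DecidableEq α] (G : Subgroup (Equiv.Perm α)) {k : ℕ}
    (hkn : 2 * k ≤ Fintype.card α) (hh : IsPretransitive G (Set.powersetCard α k)) :
    ∀ i j, j + i = k → 1 ≤ j → IsPretransitive G (Set.powersetCard α j) := by
  intro i
  induction i with
  | zero => rintro j rfl _; exact hh
  | succ i ih =>
    intro j hj h1
    exact S0736.result G (k := j + 1) (by omega) (ih (j + 1) (by omega) (by omega))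
      fun q _ hq => by have := Nat.le_of_dvd (by omega) hq; omega

/-- The Livingstone–Wagner Theorem, first form: a `k`-homogeneous group of degree `n` with `4 ≤ 2k ≤ n` is `(k-1)`-transitive. -/
theorem result {α : Type*} [Fintype α] [DecidableEq α] (G : Subgroup (Equiv.Perm α)) {k : ℕ} (hk : 2 ≤ k) (hkn : 2 * k ≤ Fintype.card α) (hh : MulAction.IsPretransitive G (Set.powersetCard α k)) : MulAction.IsMultiplyPretransitive G α (k - 1) := by
  have H := fun j (h1 : 1 ≤ j) (h2 : j ≤ k) => homog_le G hkn hh (k - j) j (by omega) h1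
  have key : ∀ j, j + 2 ≤ k → IsMultiplyPretransitive G α (j + 1) := by
    intro j
    induction j with
    | zero =>
      intro _
      refine is_one_pretransitive_iff.2 ⟨fun a b => ?_⟩
      obtain ⟨g, hg⟩ := (H89.homog_iff 1).1 (H 1 le_rfl (by omega)) {a} {b} (by simp) (by simp)
      exact ⟨g, by simpa using hg⟩
    | succ j ih =>
      intro hj
      by_contra hnt
      have := S0745.result G (k := j + 3) (by omega) (by omega) (ih (by omega)) hnt
        (H (j + 2) (by omega) (by omega)) (H (j + 3) (by omega) hj)
      omega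
  obtain ⟨j, rfl⟩ := Nat.exists_eq_add_of_le' hk
  exact key j le_rfl

end Cfsg.Agent.S0746
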