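import Cfsg.Statements.S0882
import Cfsg.Agent.H30.ZassCount

set_option autoImplicit false
open Cfsg

namespace Cfsg.Agent.S0882

/-- Let G be a finite simple Zassenhaus group on Ω with n = h + 1 points whose two-point stabilizer E has odd order e with 2e < h - 1. Then any two involutions of G are conjugate, and the number of involutions is e * (h + 1) if h is even and e * h if h is odd. -/
theorem result {G Ω : Type*} [Group G] [Finite G] [MulAction G Ω] [Fintype Ω] (hZ : Cfsg.IsZassenhausGroup G Ω) {a b : Ω} (hab : a ≠ b) [IsSimpleGroup G] (h e : ℕ) (hh : Fintype.card Ω = h + 1) (he : Nat.card ↥(MulAction.stabilizer G a ⊓ MulAction.stabilizer G b : Subgroup G) = e) (hodd : Odd e) (hlt : 2 * e < h - 1) : (∀ x y : G, orderOf x = 2 → orderOf y = 2 → IsConj x y) ∧ Nat.card {x : G // orderOf x = 2} = (if Even h then e * (h + 1) else e * h) := by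
  have := Fintype.ofFinite G
  have hO := H30.oz_of_simple hZ hab (Nat.card_eq_fintype_card.trans hh) he hodd
  have hm : ∀ x : G, orderOf x = 2 ↔ x ∈ H30.invols G := fun x => by
    rw [H30.mem_invols]
    exact ⟨fun h => ⟨fun e => by simp [e] at h, by rw [← pow_two, ← h, pow_orderOf_eq_one]⟩,
      fun h => H69.orderOf_eq_two_of h.1 h.2⟩
  refine ⟨fun x y hx hy => isConj_iff.mpr (hO.invols_conj ((hm y).mp hy) ((hm x).mp hx)), ?_⟩
  rw [Nat.subtype_card (H30.invols G) fun x => (hm x).symm]
  split_ifs with h2
  · exact hO.card_invols_even h2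
  · exact hO.card_invols_odd (Nat.not_even_iff_odd.mp h2)

end Cfsg.Agent.S0882
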