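import Cfsg.Statements.S0975
import Cfsg.Agent.H44.Sv4

set_option autoImplicit false
open Cfsg

namespace Cfsg.Agent.S0975

/-- No finite simple group has order 3744 = 2^5 * 3^2 * 13. -/
theorem result {G : Type*} [Group G] [Finite G] [IsSimpleGroup G] : Nat.card G ≠ 3744 := by
  intro h
  have h1 := H44.Sv.card_mem (G := G) (H87.nonabelian_of_card_not_prime (by rw [h]; norm_num))
    (by omega)
  rw [h] at h1
  simp at h1

end Cfsg.Agent.S0975
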