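import Cfsg.Statements.S0988
import Cfsg.Agent.S0998
import Cfsg.Agent.S0144
import Cfsg.Agent.H88.Moebius

set_option autoImplicit false
open Cfsg

namespace Cfsg.Agent.S0988

/-- If a finite simple group has order p^2 * q * r with p, q and r prime, then its order is 60. -/
theorem result {G : Type*} [Group G] [Finite G] [IsSimpleGroup G] (p q r : ℕ) (hp : p.Prime) (hq : q.Prime) (hr : r.Prime) (hG : Nat.card G = p ^ 2 * q * r) : Nat.card G = 60 := by
  have hc := H87.not_isCyclic_of_nonabelian
    (H87.nonabelian_of_card_not_prime (G := G) (by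
      rw [hG]
      exact Nat.not_prime_mul (by nlinarith [hp.two_le, hq.two_le]) hr.one_lt.ne'))
  have hns := H45.not_solvable_of_simple hc
  have hpq : p ≠ q := by
    rintro rfl
    exact hns (Cfsg.Agent.S0144.result p r 3 1 hp hr (by rw [hG]; ring))
  have hpr : p ≠ r := by
    rintro rfl
    exact hns (Cfsg.Agent.S0144.result p q 3 1 hp hq (by rw [hG]; ring))
  have hqr : q ≠ r := by
    rintro rfl
    exact hns (Cfsg.Agent.S0144.result p q 2 2 hp hq (by rw [hG]; ring))
  rcases Cfsg.Agent.S0998.result hc q p r 2 hq hp hr hpq.symm hqr hpr (by rw [hG]; ring) with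
    ⟨K, _, _, h4, ⟨f⟩⟩ | ⟨K, _, _, h4, ⟨f⟩⟩
  all_goals
    have h1 := H88.two_mul_card_psl_two (F := K) (by rw [h4]; decide)
    rw [← Nat.card_congr f.toEquiv, h4] at h1
  · omega
  · exfalso
    have h2 : p ^ 2 * q * r = 168 := by omega
    have h3 := congrArg (fun n => n.primeFactorsList.length) h2
    simp only [← ArithmeticFunction.cardFactors_apply] at h3
    rw [ArithmeticFunction.cardFactors_mul (by positivity [hp.pos, hq.pos]) hr.ne_zero,
      ArithmeticFunction.cardFactors_mul (by positivity [hp.pos]) hq.ne_zero,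
      ArithmeticFunction.cardFactors_apply_prime_pow hp,
      ArithmeticFunction.cardFactors_apply_prime hq,
      ArithmeticFunction.cardFactors_apply_prime hr, ArithmeticFunction.cardFactors_apply] at h3
    simp [Nat.primeFactorsList_ofNat] at h3

end Cfsg.Agent.S0988
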