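import Cfsg.Statements.S1002
import Cfsg.Agent.H45.SelfC
import Cfsg.Agent.H42.OddOrder
import Cfsg.Agent.H87.Simple

set_option autoImplicit false
open Cfsg

namespace Cfsg.Agent.S1002

/-- No finite simple group has order 1004913 = 3^3 * 7 * 13 * 409. -/
theorem result {G : Type*} [Group G] [Finite G] [IsSimpleGroup G] : Nat.card G ≠ 1004913 := by
  intro h
  exact H45.not_solvable_of_simple (H87.not_isCyclic_of_nonabelian
    (H87.nonabelian_of_card_not_prime (G := G) (by rw [h]; norm_num)))
    (H42.odd_order (by rw [h]; decide))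

end Cfsg.Agent.S1002
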