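import Cfsg.Statements.S1010
import Cfsg.Agent.H44.Sv4
import Cfsg.Agent.H25.SylowNot

set_option autoImplicit false
open Cfsg

namespace Cfsg.Agent.S1010

open H28 H87 H45 H39 Subgroup Finset H44.Sv

theorem simple {S : Type*} [Group S] [Finite S] [IsSimpleGroup S] (hna : ¬ IsMulCommutative S)
    (hd : 5 ∣ Nat.card S) : Nat.card (Sylow 5 S) ≠ 21 := fun hn => by
  classical
  have := Fact.mk Nat.prime_five
  cases nonempty_fintype S
  obtain ⟨P⟩ : Nonempty (Sylow 5 S) := inferInstance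
  have hP := H25.card_eq_prime_of_card_sylow_lt_sq hna hd (by omega) P
  have hG := commutator_eq_top hna
  obtain ⟨e, c, he1, he2, he, hc, -, hcard⟩ := prime_sylow_data hna P hP
  obtain ⟨t, X, Y, δ, ε, h'⟩ := exists_br H2.cycKey2 P hP
  have h : Br 5 e t X Y δ ε := he ▸ h'
  have hte := h.te
  have he3 : e = 2 ∨ e = 4 := by
    have := Nat.le_of_dvd (by norm_num) he2
    interval_cases e <;> omega
  have h3 : Nat.card (Cen (P : Subgroup S)) ≠ 5 := fun e1 => by
    have h1 := card_mem hna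
    rw [hcard, ← hc, e1, hn] at h1
    rcases he3 with rfl | rfl <;> simp at h1
  obtain ⟨x, hx, x1⟩ := exists_ne_one_mem_prime hP
  have ox := (orderOf_eq_of_mem_prime hP hx x1).symm.dvd
  have hidx : (centralizer ({x} : Set S)).index ∣ 84 := by
    have h1 := (centralizer ({x} : Set S)).index_mul_card
    rw [centralizer_singleton_eq_prime hP hx x1] at h1 ⊢
    rw [hcard, ← mul_assoc, ← hc] at h1
    rw [Nat.eq_of_mul_eq_mul_right Nat.card_pos h1, hn]
    rcases he3 with rfl | rfl <;> norm_num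
  obtain ⟨θ, hθ⟩ := h.Y_nonempty
  have hlt : ∀ ψ : IrrCharacter S, ψ ≠ one S → 1 < dg ψ := fun ψ h1 =>
    lt_of_le_of_ne (dg_pos ψ) fun e => h1 (eq_one_of_dg hG e.symm)
  have h4 : (7 : ℤ) ∣ ∑ χ ∈ X.erase (one S), δ χ * dg χ := dvd_sum fun χ hχ => by
    obtain ⟨h1, hχ⟩ := mem_erase.1 hχ
    have h5 := br_dvd_sub_one h hχ
    have h6 := k16_of hna (by norm_num) hP h3 h1 (h.sδ χ) (h.valX χ hχ) h5 (Int.natAbs_natCast _)
    have h7 := (h.dg_X_dvd hχ ox).trans hidx
    have h8 := hlt χ h1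
    have h9 := Nat.le_of_dvd (by norm_num) h7
    simp only [k16, Int.natAbs_natCast, Bool.and_eq_true, bne_iff_ne] at h6
    generalize dg χ = d at *
    clear * - h5 h6 h7 h8 h9 h
    rcases h.sδ χ with e | e <;> rw [e] at h5 ⊢ <;> interval_cases d <;> omega
  have h5 := h.deg_eq hθ
  rw [← add_sum_erase _ _ h.one_mem, h.δ_one, dg_one] at h5
  have h6 := br_dvd_Y h hθ
  have h7 := (h.dg_Y_dvd hθ ox).trans hidx
  have h8 := hlt θ (h.ne_one hθ)
  have h9 := Nat.le_of_dvd (by norm_num) h7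
  have h10 : dg θ = 6 ∧ ε = -1 := by
    generalize ∑ χ ∈ X.erase (one S), δ χ * dg χ = s at h4 h5
    generalize dg θ = d at *
    clear * - h4 h5 h7 h8 h9 h
    rcases h.sε with e | e <;> rw [e] at h5 ⊢ <;> interval_cases d <;> omega
  obtain ⟨h10, rfl⟩ := h10
  obtain rfl : e = 4 := by omega
  obtain ⟨η, hη⟩ := card_eq_one.1 (h.cardY.trans (by omega))
  obtain rfl : θ = η := by simpa [hη] using hθ
  have := k16_of hna (by norm_num) hP h3 (h.ne_one hθ) (δ := 1) (Or.inl rfl)
    (fun g hg => by simpa [hη] using h.valY g hg) (by omega) (Int.natAbs_natCast _)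
  simp [k16, h10] at this

/-- No finite group has exactly twenty-one Sylow 5-subgroups. -/
theorem result {G : Type*} [Group G] [Finite G] : Nat.card (Sylow 5 G) ≠ 21 := by
  have : Fact (Nat.Prime 5) := ⟨by norm_num⟩
  refine H25.card_sylow_ne_of_simple (by norm_num)
    (H25.not_isPrimePow_mul (a := 3) (b := 7) (by norm_num) (by norm_num) (by norm_num)) ?_
    (fun S _ _ _ => simple) G
  intro a b hab ha hb
  have h1 : a ≤ 21 := Nat.le_of_dvd (by norm_num) (Dvd.intro _ hab)
  interval_cases a <;> omega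

end Cfsg.Agent.S1010
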