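import Cfsg.Statements.S1244
import Cfsg.Agent.Base
import Cfsg.Agent.H8.TransferEval
import Cfsg.Agent.H8.Focal

set_option autoImplicit false
open Cfsg

namespace Cfsg.Agent.S1244

theorem exists_index_two {G A : Type*} [Group G] [Finite G] [Group A] (hA : IsPGroup 2 A)
    (f : G →* A) (x : G) (hx : f x ≠ 1) : ∃ H : Subgroup G, H.index = 2 := by
  have : Finite f.range := Finite.of_surjective _ f.rangeRestrict_surjective
  obtain ⟨k, hk⟩ := (hA.to_subgroup f.range).exists_card_eq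
  have hk0 : k ≠ 0 := by
    rintro rfl
    rw [pow_zero, Subgroup.card_eq_one] at hk
    exact hx (Subgroup.mem_bot.mp (hk ▸ ⟨x, rfl⟩))
  obtain ⟨j, rfl⟩ := Nat.exists_eq_succ_of_ne_zero hk0
  obtain ⟨K, hK⟩ := Sylow.exists_subgroup_card_pow_prime (G := f.range) 2 (n := j)
    (hk ▸ pow_dvd_pow 2 (Nat.le_succ j))
  refine ⟨K.comap f.rangeRestrict, ?_⟩
  rw [Subgroup.index_comap_of_surjective _ f.rangeRestrict_surjective]
  have := K.index_mul_card
  rw [hK, hk, pow_succ, mul_comm] at this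
  exact Nat.eq_of_mul_eq_mul_left (by positivity) this

/-- Let G be a finite group with no subgroup of index 2 whose Sylow 2-subgroup S is commutative, and let R ≤ S be a subgroup whose 2-rank is exactly one less than the 2-rank r of S. Then every involution of S is conjugate, by an element of N_G(S), to an element of R. -/
theorem result {G : Type*} [Group G] [Finite G] (hG : ∀ H : Subgroup G, H.index ≠ 2) (S : Sylow 2 G) (hS : IsMulCommutative (S : Subgroup G)) (r : ℕ) (hr1 : 1 ≤ r) (hSr : Cfsg.PRankLE 2 r (S : Subgroup G) ∧ ¬ Cfsg.PRankLE 2 (r - 1) (S : Subgroup G)) (R : Subgroup G) (hRS : R ≤ S) (hRr : Cfsg.PRankLE 2 (r - 1) R ∧ (r = 1 ∨ ¬ Cfsg.PRankLE 2 (r - 2) R)) (t : G) (ht : orderOf t = 2) (htS : t ∈ S) : ∃ n ∈ Subgroup.normalizer ((S : Subgroup G) : Set G), n * t * n⁻¹ ∈ R := by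
  by_contra hcon
  push Not at hcon
  let _ : CommGroup (S : Subgroup G) := { mul_comm := hS.1.1 }
  let Ω : Subgroup (S : Subgroup G) := (powMonoidHom 2).ker
  let R' : Subgroup (S : Subgroup G) := R.subgroupOf S
  have ht2 : t ^ 2 = 1 := ht ▸ pow_orderOf_eq_one t
  have htR : t ∉ R := by simpa using hcon 1 (one_mem _)
  have htΩ : (⟨t, htS⟩ : (S : Subgroup G)) ∈ Ω := Subtype.ext ht2
  have hΩ : Nat.card Ω ≤ 2 ^ r := hSr.1 Ω inferInstance fun a ha => ha
  have hR1 : 2 ^ (r - 1) ≤ Nat.card (R'.subgroupOf Ω) := by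
    rcases hRr.2 with h | h
    · rw [h]
      exact Nat.card_pos
    · simp only [Cfsg.PRankLE, not_forall, not_le] at h
      obtain ⟨A, -, hA2, hA⟩ := h
      have hAp : IsPGroup 2 A := fun a => ⟨1, Subtype.ext (by simpa using hA2 a a.2)⟩
      obtain ⟨k, hk⟩ := hAp.exists_card_eq
      have h1 : 2 ^ (r - 1) ≤ Nat.card A := by
        rw [hk] at hA ⊢
        have := (Nat.pow_lt_pow_iff_right (by norm_num)).mp hA
        exact Nat.pow_le_pow_right (by norm_num) (by omega)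
      refine h1.trans (Nat.card_le_card_of_injective
        (fun a : A => (⟨⟨⟨a.1.1, hRS a.1.2⟩, Subtype.ext (congrArg (fun z : R => (z : G)) (hA2 a.1 a.2))⟩,
          a.1.2⟩ : R'.subgroupOf Ω)) ?_)
      intro a b hab
      exact Subtype.ext (Subtype.ext (congrArg (fun z : R'.subgroupOf Ω => (z.1.1 : G)) hab))
  have hidx : (R'.subgroupOf Ω).index = 2 := by
    have h1 := (R'.subgroupOf Ω).index_mul_card
    have h2 : (R'.subgroupOf Ω).index ≠ 1 := by
      rw [Ne, Subgroup.index_eq_one]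
      intro h
      have : (⟨_, htΩ⟩ : Ω) ∈ R'.subgroupOf Ω := h ▸ Subgroup.mem_top _
      exact htR this
    have h3 : (R'.subgroupOf Ω).index ≠ 0 := Subgroup.index_ne_zero_of_finite
    have h4 : 2 ^ r = 2 * 2 ^ (r - 1) := by
      rw [← pow_succ', Nat.sub_add_cancel hr1]
    have h5 : 0 < 2 ^ (r - 1) := by positivity
    by_contra hne
    have h6 : 3 ≤ (R'.subgroupOf Ω).index := by omega
    nlinarith
  let ϕ : (S : Subgroup G) →* (S : Subgroup G) ⧸ R' := QuotientGroup.mk' R'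
  have hτ : ϕ ⟨t, htS⟩ ^ 2 = 1 := by
    rw [← map_pow, show (⟨t, htS⟩ : (S : Subgroup G)) ^ 2 = 1 from htΩ, map_one]
  have h1 : MonoidHom.transfer ϕ t = ϕ ⟨t, htS⟩ ^ (S : Subgroup G).index := by
    apply H8.transfer_eq_pow_of_forall
    intro k a ha
    rcases Nat.even_or_odd' k with ⟨j, rfl | rfl⟩
    · have : (⟨_, ha⟩ : (S : Subgroup G)) = 1 := Subtype.ext (by simp [pow_mul, ht2])
      rw [this, map_one, pow_mul, hτ, one_pow]
    · have e : t ^ (2 * j + 1) = t := by rw [pow_succ, pow_mul, ht2, one_pow, one_mul]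
      have ha' : a⁻¹ * t * a⁻¹⁻¹ ∈ S := by
        rw [inv_inv, ← e]
        exact ha
      obtain ⟨n, hn, hn'⟩ := H8.abelian_sylow_control S hS t htS a⁻¹ ha'
      have h2 : a⁻¹ * t ^ (2 * j + 1) * a ∉ R := by
        rw [e, ← inv_inv a, inv_inv a⁻¹, hn']
        exact hcon n hn
      have h3 : (⟨_, ha⟩ : (S : Subgroup G)) ∈ Ω := by
        apply Subtype.ext
        change (a⁻¹ * t ^ (2 * j + 1) * a) ^ 2 = 1
        rw [e, pow_two]
        calc a⁻¹ * t * a * (a⁻¹ * t * a) = a⁻¹ * t ^ 2 * a := by rw [pow_two]; group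
          _ = 1 := by rw [ht2]; group
      rw [pow_succ (ϕ _), pow_mul (ϕ _), hτ, one_pow, one_mul]
      have h4 := (Subgroup.mul_mem_iff_of_index_two hidx (a := (⟨_, h3⟩ : Ω)⁻¹)
        (b := ⟨_, htΩ⟩)).mpr ⟨fun h => (h2 ((inv_mem_iff (H := R'.subgroupOf Ω)).mp h)).elim,
          fun h => (htR h).elim⟩
      exact QuotientGroup.eq.mpr h4
  obtain ⟨j, hj⟩ := H8.odd_index_sylow_two S
  rw [hj, pow_succ, pow_mul, hτ, one_pow, one_mul] at h1
  obtain ⟨H, hH⟩ := exists_index_two (S.isPGroup'.to_quotient R') (MonoidHom.transfer ϕ) t (by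
    rw [h1]
    exact fun h => htR ((QuotientGroup.eq_one_iff (⟨t, htS⟩ : (S : Subgroup G))).mp h))
  exact hG H hH

end Cfsg.Agent.S1244
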