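import Cfsg.Statements.S1281
import Cfsg.Agent.Base
import Cfsg.Agent.H15.Fam

set_option autoImplicit false
open Cfsg

namespace Cfsg.Agent.S1281

/-- Let θ be a solvable A-signalizer functor on the finite group G (A a noncyclic elementary abelian p-subgroup) and N a normal subgroup of order prime to p. Then for all non-identity a, b ∈ A, the image of θ a in G / N meets the centralizer of the image of b inside the image of θ b. -/
theorem result {G : Type*} [Group G] [Finite G] (p : ℕ) [Fact p.Prime] (A : Subgroup G) (hA : Cfsg.IsElementaryAbelian p A) (hA2 : p ^ 2 ≤ Nat.card ↥A) (θ : G → Subgroup G) (hθ : Cfsg.IsSolvableSignalizerFunctor p A θ) (N : Subgroup G) [N.Normal] (hN : ¬ p ∣ Nat.card ↥N) (a b : G) (ha : a ∈ A) (ha1 : a ≠ 1) (hb : b ∈ A) (hb1 : b ≠ 1) : (θ a).map (QuotientGroup.mk' N) ⊓ Subgroup.centralizer {QuotientGroup.mk' N b} ≤ (θ b).map (QuotientGroup.mk' N) := by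
  have hp : p.Prime := Fact.out
  have _ := hA2
  have h := H15.sf_of hp hA hθ
  rintro _ ⟨⟨x, hx, rfl⟩, hc⟩
  have hz : Subgroup.zpowers b ≤ A := Subgroup.zpowers_le.2 hb
  have hf := (h.fam ha ha1).inf (V := N) (by rw [H46.Nrm, Subgroup.normalizer_eq_top]; exact le_top)
  obtain ⟨n, hn, e⟩ := H1.exists_centralizer_mem_coset (hz.trans hf.nrm) (hf.coprime' h hz)
    (Or.inr hf.sol) x fun c hc' => by
      refine ⟨(θ a).mul_mem ((θ a).inv_mem hx) (H46.conj_mem_of_mem_nrm (h.nrm a ha ha1 (hz hc')) hx), ?_⟩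
      have h1 : QuotientGroup.mk' N x ∈ H46.Cent1 (QuotientGroup.mk' N c) := by
        refine H46.cent1_le_of_mem_zpowers ?_ hc
        rw [← MonoidHom.map_zpowers]; exact ⟨c, hc', rfl⟩
      rw [H46.mem_cent1] at h1
      change _ ∈ N
      rw [← QuotientGroup.ker_mk' N, MonoidHom.mem_ker, map_mul, map_mul, map_mul, ← h1, map_inv, map_inv]
      group
  refine ⟨x * n, h.bal a ha ha1 b hb hb1 ⟨(θ a).mul_mem hx hn.1, ?_⟩, ?_⟩
  · rw [← H46.cent_zpowers]; exact e
  · have : QuotientGroup.mk' N n = 1 := (QuotientGroup.eq_one_iff n).2 hn.2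
    rw [map_mul, this, mul_one]

end Cfsg.Agent.S1281
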