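import Cfsg.Statements.S1305
import Cfsg.Agent.H14.Std
import Cfsg.Agent.H12.Basic

set_option autoImplicit false
open Cfsg

namespace Cfsg.Agent.S1305

/-- Let G be a finite group of component type with the B-property and no nontrivial normal subgroup of odd order. Let a be an involution and K a component of C_G(a) such that (a) |K| is maximal among the orders of components of centralizers of involutions of G, (b) subject to (a) the 2-rank of the centralizer of K in C_G(a) is as large as possible, and (c) K has 2-rank at least 2. If B is an elementary abelian 2-subgroup of that centralizer of the largest possible order, then K is a component of C_G(b) for every non-identity b ∈ B. -/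
theorem result {G : Type*} [Group G] [Finite G] (hO : Cfsg.oddCore G = ⊥) (hB : Cfsg.HasBProperty G) (hct : Cfsg.IsComponentType G) (a : G) (ha : orderOf a = 2) (K : Subgroup G) (hKa : K ≤ Subgroup.centralizer ({a} : Set G)) (hK : Cfsg.IsComponent (K.subgroupOf (Subgroup.centralizer ({a} : Set G)))) (hmax : ∀ y : G, orderOf y = 2 → ∀ K' : Subgroup G, K' ≤ Subgroup.centralizer ({y} : Set G) → Cfsg.IsComponent (K'.subgroupOf (Subgroup.centralizer ({y} : Set G))) → Nat.card ↥K' ≤ Nat.card ↥K ∧ (Nat.card ↥K' = Nat.card ↥K → ∀ k : ℕ, Cfsg.PRankLE 2 k ↥(Subgroup.centralizer ({a} : Set G) ⊓ Subgroup.centralizer (K : Set G)) → Cfsg.PRankLE 2 k ↥(Subgroup.centralizer ({y} : Set G) ⊓ Subgroup.centralizer (K' : Set G)))) (hrk : ¬ Cfsg.PRankLE 2 1 ↥K) (B : Subgroup G) (hBle : B ≤ Subgroup.centralizer ({a} : Set G) ⊓ Subgroup.centralizer (K : Set G)) (hBel : Cfsg.IsElementaryAbelian 2 B) (hBmax : ∀ B' : Subgroup G, B' ≤ Subgroup.centralizer ({a} : Set G) ⊓ Subgroup.centralizer (K : Set G) →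 Cfsg.IsElementaryAbelian 2 B' → Nat.card ↥B' ≤ Nat.card ↥B) (b : G) (hb : b ∈ B) (hb1 : b ≠ 1) : K ≤ Subgroup.centralizer ({b} : Set G) ∧ Cfsg.IsComponent (K.subgroupOf (Subgroup.centralizer ({b} : Set G))) := by
  open Subgroup H14 in
  have hKcp := cp_of hKa hK
  have hb2 : orderOf b = 2 := orderOf_eq_of_pow (hBel.2 b hb) hb1
  have hBC : B ≤ centralizer ({b} : Set G) := fun x hx =>
    mem_centralizer_singleton_iff.mpr (ea_comm hBel hx hb)
  have hKb : K ≤ centralizer ({b} : Set G) := le_centralizer_singleton_iff.mpr (hBle hb).2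
  have hab : a ∈ centralizer ({b} : Set G) := mem_centralizer_singleton_comm.mp (hBle hb).1
  set H := centralizer ({b} : Set G) with hH
  obtain ⟨V, hVK, hV, hV2⟩ : ∃ V ≤ K, IsElementaryAbelian 2 V ∧ 2 ^ 1 < Nat.card V := by
    rw [prankLE_iff] at hrk
    push Not at hrk
    exact hrk
  have hd : 2 ∣ Nat.card K := by
    refine Dvd.dvd.trans ?_ (card_dvd_of_le hVK)
    by_contra h
    rw [(H98.isSyl_self (ea_isPGroup hV)).eq_bot_iff.mpr h, card_bot] at hV2
    omega
  have hK1 : CP K (H ⊓ centralizer ({a} : Set G)) := hKcp.of_le (le_inf hKb hKa) inf_le_right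
  have haP := isPGroup_zpowers_of_orderOf ha
  have han : a ∈ normalizer (H : Set G) := le_normalizer hab
  have hL : ⁅pLayerOf 2 H, opp 2 H⁆ = ⊥ := by
    have := hB b hb2
    rw [hO, le_bot_iff, map_commutator] at this
    exact this
  have hKE : K ≤ layerOf H := by
    refine ((hK1.pc hd).le_two' haP han).trans (pLayerOf_le fun J hJ => CP.le_layerOf ⟨hJ.subN, ?_⟩)
    exact hJ.quasi_iff.mpr (commutator_eq_bot_mono hL hJ.le_pLayerOf le_rfl)
  obtain ⟨D, hD, hKD⟩ := exists_cp_commutator_ne_bot (quasi_sub_commutator_ne_bot hKcp.quasi) hKE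
  have haa : a ^ 2 = 1 := pow_eq_one_of_orderOf ha
  have hKo : K ≤ orb a 2 D := by
    rw [← orbP_zpowers two_pos (by rw [haa]; exact one_mem _)]
    refine hD.cp_le_orbP (zpowers_le.mpr han) ?_ hKE hKD
    rwa [H14.centralizer_zpowers]
  obtain ⟨h1, h2⟩ := hmax b hb2 D hD.le hD.comp
  refine ⟨hKb, ?_⟩
  by_cases hn : a ∈ normalizer (D : Set G)
  · rw [orb_eq_self two_pos hn] at hKo
    rw [eq_of_le_of_card_ge hKo h1]
    exact hD.comp
  exfalso
  have hs := hD.sep Nat.prime_two han (by rw [haa]; exact one_mem _) hn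
  have hKr := hD.eq_range han hs two_pos (by rw [haa]; exact one_mem _) hK1.subN hKcp.perfect
    hKcp.ne_bot hKo
  have hcard : Nat.card D = Nat.card K :=
    le_antisymm h1 (by rw [hKr]; exact Nat.le_of_dvd Nat.card_pos (card_range_dvd _))
  have hinj : Function.Injective hs.hom := by
    rw [← MonoidHom.ker_eq_bot_iff, ← card_eq_one]
    have h3 := hs.hom.ker.card_mul_index
    rw [index_ker, ← hKr, hcard] at h3
    exact (Nat.mul_eq_right Nat.card_pos.ne').mp h3
  obtain ⟨k, hk⟩ := (ea_isPGroup hBel).exists_card_eq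
  have hDa : CP (H98.cj a D) H := hD.cj_of_mem_normalizer han
  have h3 := prankLE_iff.mp ((hmax b hb2 _ hDa.le hDa.comp).2 (by rw [H98.card_cj, hcard]) k
    (prankLE_iff.mpr fun A hA hE => hk ▸ hBmax A hA hE))
  have hDD : ⁅D, H98.cj a D⁆ = ⊥ := by rw [← orb'_two]; exact hs.commutator_orb'
  have hperm : ∀ β ∈ B, H98.cj β D = D ∨ H98.cj β D = H98.cj a D := by
    intro β hβ
    have h4 : CP (H98.cj β D) H := hD.cj_of_mem_normalizer (le_normalizer (hBC hβ))
    by_contra h5
    push Not at h5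
    have h6 := commutator_sup_right_eq_bot ((h4.eq_or_commute hD).resolve_left h5.1)
      ((h4.eq_or_commute hDa).resolve_left h5.2)
    rw [← orb_two] at h6
    have h7 := commutator_eq_bot_symm (commutator_eq_bot_mono h6 le_rfl hKo)
    rw [← H98.cj_eq_self (centralizer_le_normalizer _ (hBle hβ).2), ← H98.cj_commutator,
      H98.cj_eq_bot_iff] at h7
    exact hKD h7
  have hidx : (normalizer (D : Set G)).relIndex B ∣ 2 := by
    rw [relIindex_dvd_two_iff']
    by_cases h4 : ∃ β ∈ B, H98.cj β D = H98.cj a D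
    · obtain ⟨β, hβ, e⟩ := h4
      refine ⟨β⁻¹, inv_mem hβ, fun γ hγ => ?_⟩
      rcases hperm γ hγ with h5 | h5
      · exact Or.inr (H98.cj_eq_self_iff.mp h5)
      · left
        rw [← H98.cj_eq_self_iff, ← H98.cj_cj, h5, ← e, H98.cj_inv_cj]
    · push Not at h4
      exact ⟨1, one_mem _, fun γ hγ =>
        Or.inr (H98.cj_eq_self_iff.mp ((hperm γ hγ).resolve_right (h4 γ hγ)))⟩
  set B₀ := normalizer (D : Set G) ⊓ B with hB₀
  have hB1 : Nat.card B ≤ Nat.card B₀ * 2 := by
    have h4 := ((normalizer (D : Set G)).subgroupOf B).card_mul_index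
    rw [← inf_subgroupOf_right, card_subgroupOf_of_le inf_le_right, inf_subgroupOf_right] at h4
    rw [← h4]
    exact Nat.mul_le_mul_left _ (Nat.le_of_dvd two_pos hidx)
  have hBa : ∀ g ∈ B, g * a = a * g := fun g hg => mem_centralizer_singleton_iff.mp (hBle hg).1
  have hB0D : B₀ ≤ centralizer (D : Set G) := fun g hg =>
    hs.mem_centralizer_of_range two_pos hD.perfect hg.1 (hBa g hg.2) (hKr ▸ (hBle hg.2).2)
  have hB0D' : B₀ ≤ centralizer (H98.cj a D : Set G) := fun g hg => by
    have := mem_centralizer_cj_pow (hB0D hg) (hBa g hg.2) 1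
    rwa [pow_one] at this
  set W := (V.comap hs.hom).map D.subtype with hW
  have hWD : W ≤ D := map_subtype_le _
  have hWc : Nat.card W = Nat.card V := by
    rw [hW, card_map_of_injective D.subtype_injective, ← card_map_of_injective hinj,
      map_comap_eq_self (hKr ▸ hVK)]
  have hWe : IsElementaryAbelian 2 W := by
    refine ea_map (ea_iff.mpr ⟨fun x hx y hy => hinj ?_, fun x hx => hinj ?_⟩) _
    · rw [map_mul, map_mul]; exact ea_comm hV hx hy
    · rw [map_pow, map_one]; exact hV.2 _ hx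
  have hBW : ⁅B₀, W⁆ = ⊥ :=
    commutator_eq_bot_iff_le_centralizer.mpr (hB0D.trans (H98.centralizer_anti hWD))
  have hdisj : B₀ ⊓ W = ⊥ := by
    rw [eq_bot_iff]
    intro g hg
    exact hs.eq_one_of_injective hinj (hWD hg.2) (hBa g hg.1.2) (hBel.2 g hg.1.2)
  have hE : IsElementaryAbelian 2 (B₀ ⊔ W) := by
    have hB0 : IsElementaryAbelian 2 B₀ := ea_of_le hBel inf_le_right
    have h4 : ⁅B₀ ⊔ W, B₀ ⊔ W⁆ = ⊥ := commutator_sup_left_eq_bot
      (commutator_sup_right_eq_bot (commutator_eq_bot_iff_le_centralizer.mpr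
        (ea_le_centralizer hB0)) hBW)
      (commutator_sup_right_eq_bot (commutator_eq_bot_symm hBW)
        (commutator_eq_bot_iff_le_centralizer.mpr (ea_le_centralizer hWe)))
    refine ea_iff.mpr ⟨commutator_eq_bot_iff_comm.mp h4, fun x hx => ?_⟩
    obtain ⟨u, hu, v, hv, rfl⟩ := mem_sup_of_commutator_eq_bot hBW hx
    rw [Commute.mul_pow (commutator_eq_bot_iff_comm.mp hBW u hu v hv), hB0.2 u hu, hWe.2 v hv,
      one_mul]
  have h4 := h3 _ (sup_le (le_inf (inf_le_right.trans hBC) hB0D') (le_inf (hWD.trans hD.le)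
    (commutator_eq_bot_iff_le_centralizer.mp (commutator_eq_bot_mono hDD hWD le_rfl)))) hE
  rw [H12.card_sup_of_disjoint (le_normalizer_of_commutator_eq_bot hBW) hdisj, hWc, ← hk] at h4
  have h5 : 0 < Nat.card B₀ := Nat.card_pos
  nlinarith

end Cfsg.Agent.S1305
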