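import Cfsg.Statements.S1307
import Cfsg.Agent.H14.Std
import Cfsg.Agent.S0016

set_option autoImplicit false
open Cfsg

namespace Cfsg.Agent.S1307

/-- Let G be finite, x an involution and L ≤ C_G(x) a component of C_G(x) of even order and 2-rank 1, such that L is a component of C_G(y) for every involution y ∈ C_G(L). Then some involution of L is a classical involution of G. -/
theorem result {G : Type*} [Group G] [Finite G] (x : G) (hx : orderOf x = 2) (L : Subgroup G) (hLx : L ≤ Subgroup.centralizer ({x} : Set G)) (hL : Cfsg.IsComponent (L.subgroupOf (Subgroup.centralizer ({x} : Set G)))) (heven : Even (Nat.card ↥L)) (hrk : Cfsg.PRankLE 2 1 ↥L) (hne : ∀ y : G, orderOf y = 2 → y ∈ Subgroup.centralizer (L : Set G) → L ≤ Subgroup.centralizer ({y} : Set G) ∧ Cfsg.IsComponent (L.subgroupOf (Subgroup.centralizer ({y} : Set G)))) : ∃ t ∈ L, Cfsg.IsClassicalInvolution t := by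
  open Subgroup H14 in
  have hq := (cp_of hLx hL).quasi
  have hperf := quasi_perfect hq
  obtain ⟨S⟩ : Nonempty (Sylow 2 L) := inferInstance
  have hd : 2 ∣ Nat.card L := even_iff_two_dvd.mp heven
  have huniq : ∀ a b : L, orderOf a = 2 → orderOf b = 2 → a ∈ (S : Subgroup L) →
      b ∈ (S : Subgroup L) → a = b := fun a b ha hb h1 h2 =>
    Subtype.ext (eq_of_prank_one_of_isPGroup hrk (S.isPGroup'.map L.subtype) (map_subtype_le _)
      (by rwa [orderOf_coe]) (by rwa [orderOf_coe]) ⟨a, h1, rfl⟩ ⟨b, h2, rfl⟩)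
  have hnc : ¬ IsCyclic (S : Subgroup L) := by
    intro hc
    have h1 := hc.isComplement' ((Nat.minFac_eq_two_iff _).2 hd)
    rcases quasi_normal hq (MonoidHom.transferSylow S
      (hc.normalizer_le_centralizer ((Nat.minFac_eq_two_iff _).2 hd))).ker with h2 | h2
    · rw [h2] at h1
      have h3 := h1.disjoint.eq_bot
      rw [top_inf_eq] at h3
      have h4 := (H98.isSyl_sylow S).eq_bot_iff.mp h3
      rw [card_top] at h4
      exact h4 hd
    · have h3 : (S : Subgroup L) = ⊤ := eq_top_of_sup_center_eq_top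
        (top_le_iff.mp (h1.sup_eq_top.ge.trans (by rw [sup_comm]; exact sup_le_sup_left h2 _)))
      have h4 := S.isPGroup'
      rw [h3, H98.isPGroup_top_iff] at h4
      have := h4.isNilpotent
      exact quasi_not_solvable hq inferInstance
  obtain ⟨n, ⟨e⟩⟩ : ∃ n : ℕ, Nonempty ((S : Subgroup L) ≃* QuaternionGroup (2 ^ (n + 1))) := by
    rcases Cfsg.Agent.S0016.result 2 S.isPGroup' (fun H K hH hK => by
      obtain ⟨a, ha, ha2⟩ := exists_involution_mem (H := H) hH.symm.dvd
      obtain ⟨b, hb, hb2⟩ := exists_involution_mem (H := K) hK.symm.dvd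
      have h1 : a = b := Subtype.ext
        (huniq a b (by rwa [orderOf_coe]) (by rwa [orderOf_coe]) a.2 b.2)
      have h2 : zpowers a = H := eq_of_le_of_card_ge (zpowers_le.mpr ha)
        (by rw [hH, Nat.card_zpowers, ha2])
      have h3 : zpowers b = K := eq_of_le_of_card_ge (zpowers_le.mpr hb)
        (by rw [hK, Nat.card_zpowers, hb2])
      rw [← h2, ← h3, h1]) with h | ⟨_, n, ⟨e⟩⟩
    · exact absurd h hnc
    · cases n with
      | zero =>
        have := QuaternionGroup.quaternionGroup_one_isCyclic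
        exact absurd (isCyclic_of_injective e.toMonoidHom e.injective) hnc
      | succ n => exact ⟨n, ⟨e⟩⟩
  obtain ⟨t, htS, ht⟩ := exists_involution_mem (H := (S : Subgroup L)) (by
    by_contra h
    have h4 := (H98.isSyl_sylow S).eq_bot_iff.mp ((H98.isSyl_self S.isPGroup').eq_bot_iff.mpr h)
    rw [card_top] at h4
    exact h4 hd)
  obtain ⟨N, hN, hodd, hc⟩ := zstarThm S t ht htS
    (fun g hg => huniq _ _ (by rw [orderOf_conj', ht]) ht hg htS)
  have hNZ : N ≤ center L := by
    rcases quasi_normal hq N with h | h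
    · rw [h, card_top] at hodd
      exact absurd heven (Nat.not_even_iff_odd.mpr hodd)
    · exact h
  have h1 : ⁅(⊤ : Subgroup L), zpowers t⁆ ≤ center L := by
    rw [zpowers_eq_closure]
    refine H98.commutator_closure_right_le (fun _ _ => by rw [normalizer_eq_top]; trivial) ?_
    rintro c - u hu
    rw [Set.mem_singleton_iff.mp hu]
    have h2 := inv_mem (hNZ (hc c))
    have e : (t * c * t⁻¹ * c⁻¹)⁻¹ = c * t * c⁻¹ * t⁻¹ := by group
    rwa [e] at h2
  have h2 : ⁅zpowers t, (⊤ : Subgroup L)⁆ = ⊥ := by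
    refine commutator_eq_bot_of_perfect Group.IsPerfect.commutator_eq_top ?_
    rw [commutator_comm (zpowers t), commutator_eq_bot_iff_le_centralizer,
      H98.centralizer_top']
    exact h1
  have h3 : (t : G) ∈ centralizer (L : Set G) := fun y hy =>
    (congrArg Subtype.val (commutator_eq_bot_iff_comm.mp h2 t (mem_zpowers t) ⟨y, hy⟩ trivial)).symm
  have ht' : orderOf (t : G) = 2 := by rwa [orderOf_coe]
  obtain ⟨h4, h5⟩ := hne t ht' h3
  exact ⟨t, t.2, ht', L, h4, t.2, comp_subnormal h5, S, n, ⟨e⟩⟩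

end Cfsg.Agent.S1307
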