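import Cfsg.Statements.S1308
import Cfsg.Agent.H97.NFCore
import Cfsg.Agent.H54.NFAb
import Cfsg.Agent.H54.NFN1
import Cfsg.Agent.H54.NFRE
import Cfsg.Agent.H85.X1D
import Cfsg.Agent.H14.CBCh
import Cfsg.Agent.H97.TECh

set_option autoImplicit false
open Cfsg

namespace Cfsg.Agent.S1308

/-- Aschbacher's Component Theorem. Let G be a non-abelian finite simple group with the B-property such that E(C_G(t)) ≠ 1 for some involution t. Then either some involution centralizer of G has a component of 2-rank 1, or there are an involution z and a subgroup K ≤ C = C_G(z) which is a component of C and a standard subgroup of G, such that C_C(K) has 2-rank 1, or C_C(K) is solvable and its Sylow 2-subgroups are elementary abelian or dihedral; moreover K is normal in C unless K has 2-rank 1. -/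
theorem result {G : Type*} [Group G] [Finite G] [IsSimpleGroup G] (hna : ¬ IsMulCommutative G) (hB : Cfsg.HasBProperty G) (t : G) (ht : orderOf t = 2) (hE : Cfsg.layer ↥(Subgroup.centralizer ({t} : Set G)) ≠ ⊥) :
    (∃ z : G, orderOf z = 2 ∧ ∃ K : Subgroup G, K ≤ Subgroup.centralizer ({z} : Set G) ∧
        Cfsg.IsComponent (K.subgroupOf (Subgroup.centralizer ({z} : Set G))) ∧ Cfsg.PRankLE 2 1 ↥K) ∨
    (∃ z : G, orderOf z = 2 ∧ ∃ K : Subgroup G, K ≤ Subgroup.centralizer ({z} : Set G) ∧ Cfsg.IsComponent (K.subgroupOf (Subgroup.centralizer ({z} : Set G))) ∧ Cfsg.IsStandardSubgroup K ∧ (Cfsg.PRankLE 2 1 ↥(Subgroup.centralizer ({z} : Set G) ⊓ Subgroup.centralizer (K : Set G)) ∨ (Group.IsSolvable ↥(Subgroup.centralizer ({z} : Set G) ⊓ Subgroup.centralizer (K : Set G)) ∧ ∀ S : Sylow 2 ↥(Subgroup.centralizer ({z} : Set G) ⊓ Subgroup.centralizer (K : Set G)), Cfsg.IsElementaryAbelian 2 (S : Subgroup ↥(Subgroup.centralizer ({z} : Set G) ⊓ Subgroup.centralizer (K : Set G))) ∨ ∃ n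 : ℕ, Nonempty (↥(S : Subgroup ↥(Subgroup.centralizer ({z} : Set G) ⊓ Subgroup.centralizer (K : Set G))) ≃* DihedralGroup n))) ∧ (Cfsg.PRankLE 2 1 ↥K ∨ (K.subgroupOf (Subgroup.centralizer ({z} : Set G))).Normal)) := by
  exact H51.CT.top (H97.NFCore.core_of H54.NF.chAb H54.NF.chN1 H54.NF.chRE H85.X1.ch H97.TECh.ch
    H14.CB.ch) hna hB t ht hE

end Cfsg.Agent.S1308
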