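import Cfsg.Statements.S1315
import Cfsg.Agent.H25.CI4

set_option autoImplicit false
open Cfsg

namespace Cfsg.Agent.S1315

/-- Let G be finite and J ≠ K subgroups, each containing exactly one involution, z(J) resp. z(K), each a 2-component of the centralizer of its involution, with J / O(J) and K / O(K) both isomorphic to SL(2, F) for one finite field F of odd order, or both non-split double covers of A7. Then (i) every 2-element of K of order at least 4 centralizing z(J) normalizes J; (ii) if z(J) normalizes K then z(K) normalizes J. -/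
theorem result {G : Type*} [Group G] [Finite G] (J K : Subgroup G) (hJK : J ≠ K) (zJ zK : G) (hzJ : zJ ∈ J ∧ orderOf zJ = 2 ∧ ∀ t ∈ J, orderOf t = 2 → t = zJ) (hzK : zK ∈ K ∧ orderOf zK = 2 ∧ ∀ t ∈ K, orderOf t = 2 → t = zK) (hJ : J ≤ Subgroup.centralizer ({zJ} : Set G) ∧ Cfsg.IsPComponent 2 (J.subgroupOf (Subgroup.centralizer ({zJ} : Set G)))) (hK : K ≤ Subgroup.centralizer ({zK} : Set G) ∧ Cfsg.IsPComponent 2 (K.subgroupOf (Subgroup.centralizer ({zK} : Set G)))) (htype : (∃ (F : Type) (_ : Field F) (_ : Fintype F), Odd (Fintype.card F) ∧ Nonempty (↥J ⧸ Cfsg.oddCore ↥J ≃* Matrix.SpecialLinearGroup (Fin 2) F) ∧ Nonempty (↥K ⧸ Cfsg.oddCore ↥K ≃* Matrix.SpecialLinearGroup (Fin 2) F)) ∨ (Cfsg.IsNonsplitDoubleCover (↥J ⧸ Cfsg.oddCore ↥J) ↥(alternatingGroup (Fin 7)) ∧ Cfsg.IsNonsplitDoubleCover (↥K ⧸ Cfsg.oddCore ↥K) ↥(alternatingGroup (Fin 7)))) : (∀ y ∈ K, IsPGroup 2 ↥(Subgroup.zpowers y) → 4 ≤ orderOf y → y * zJ = zJ * y → y ∈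 Subgroup.normalizer (J : Set G)) ∧ (zJ ∈ Subgroup.normalizer (K : Set G) → zK ∈ Subgroup.normalizer (J : Set G)) := by
  have mk : ∀ {z : G} {L : Subgroup G}, (z ∈ L ∧ orderOf z = 2 ∧ ∀ t ∈ L, orderOf t = 2 → t = z) →
      (L ≤ Subgroup.centralizer ({z} : Set G) ∧
        Cfsg.IsPComponent 2 (L.subgroupOf (Subgroup.centralizer ({z} : Set G)))) → H25.CI.IU z L :=
    fun h1 h2 => ⟨h1.2.1, H14.pc_iff.2 h2, h1.1, fun ht e => or_iff_not_imp_left.2 fun k =>
      h1.2.2 _ ht (H14.orderOf_two_of_mul_self e k)⟩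
  have h1 := mk hzJ hJ
  have h2 := mk hzK hK
  have h3 : H25.CI.TY K := by
    rcases htype with ⟨F, _, _, ho, -, ⟨e⟩⟩ | ⟨-, h⟩
    · refine (H25.CI.t3_sl (F := F) fun k => ?_).congr e.symm
      have : ringChar F = 2 := CharP.ringChar_of_prime_eq_zero Nat.prime_two (by exact_mod_cast k)
      have := FiniteField.even_card_of_char_two this
      exact absurd (Nat.odd_iff.1 ho) (by omega)
    · exact H25.CI.t3_a7 h2.pc.2.2 h
  refine ⟨fun y hy p ho c => H25.CI.main1 h1 h2 h3 hy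
    (H1.Gold.two_of_mem p (Subgroup.mem_zpowers y)) (fun e => ?_) c, H25.CI.main2 h1 h2 h3⟩
  have := Nat.le_of_dvd two_pos (orderOf_dvd_of_pow_eq_one (x := y) (n := 2) (by rw [pow_two, e]))
  omega

end Cfsg.Agent.S1315
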