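import Cfsg.Statements.S1323
import Cfsg.Agent.H14.Quasi

set_option autoImplicit false
open Cfsg

namespace Cfsg.Agent.S1323

open Equiv Equiv.Perm

section
variable {α : Type} [Fintype α] [DecidableEq α]

/-- even permutations supported in `s` -/
abbrev R (s : Finset α) : Subgroup (alternatingGroup α) := (alternatingGroup.ofSubtype s).range

theorem mem_R {s : Finset α} {k : alternatingGroup α} :
    k ∈ R s ↔ ∀ x, x ∉ s → (k : Perm α) x = x := by
  rw [alternatingGroup.mem_range_ofSubtype_iff]
  refine ⟨fun h x hx => ?_, fun h x hx => ?_⟩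
  · by_contra e; exact hx (h (mem_support.2 e))
  · by_contra e; exact mem_support.1 hx (h x e)

theorem mem_conj {s : Finset α} {g k : alternatingGroup α} :
    k ∈ (R s).map (MulAut.conj g).toMonoidHom ↔
      ∀ x, x ∉ s → (k : Perm α) ((g : Perm α) x) = (g : Perm α) x := by
  constructor
  · rintro ⟨m, hm, rfl⟩ x hx
    simp [mem_R.1 hm x hx]
  · intro h
    refine ⟨g⁻¹ * k * g, mem_R.2 fun x hx => ?_, by simp [mul_assoc]⟩
    simp [h x hx]

theorem conj_R (s : Finset α) (g : alternatingGroup α) :
    (R s).map (MulAut.conj g).toMonoidHom = R (s.image (g : Perm α)) := by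
  ext k
  rw [mem_conj, mem_R]
  refine ⟨fun h x hx => ?_, fun h x hx => h _ fun e => ?_⟩
  · have := h ((g : Perm α).symm x) fun e => hx (Finset.mem_image.2 ⟨_, e, by simp⟩)
    simpa using this
  · obtain ⟨y, hy, e⟩ := Finset.mem_image.1 e
    exact hx ((g : Perm α).injective e ▸ hy)

/-- a three-cycle inside `s` moving `y` and fixing `x` -/
theorem ex3 {s : Finset α} (hs : 4 ≤ s.card) {y : α} (hy : y ∈ s) (x : α) :
    ∃ c ∈ R s, (c : Perm α) y ≠ y ∧ (x ≠ y → (c : Perm α) x = x) := by
  have h2 : 1 < (s \ {x, y}).card := by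
    have := Finset.le_card_sdiff ({x, y} : Finset α) s
    have := Finset.card_le_two (a := x) (b := y)
    omega
  obtain ⟨a, ha, b, hb, ab⟩ := Finset.one_lt_card.1 h2
  simp only [Finset.mem_sdiff, Finset.mem_insert, Finset.mem_singleton, not_or] at ha hb
  have h3 := isThreeCycle_swap_mul_swap_same (Ne.symm ha.2.2) (Ne.symm hb.2.2) ab
  refine ⟨⟨_, h3.mem_alternatingGroup⟩, mem_R.2 fun z hz => ?_, ?_, fun h => ?_⟩
  · have e1 : z ≠ y := fun e => hz (e ▸ hy)
    have e2 : z ≠ a := fun e => hz (e ▸ ha.1)
    have e3 : z ≠ b := fun e => hz (e ▸ hb.1)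
    simp [swap_apply_of_ne_of_ne, e1, e2, e3]
  · simp [swap_apply_of_ne_of_ne hb.2.2 ab.symm, hb.2.2]
  · simp [swap_apply_of_ne_of_ne, h, Ne.symm ha.2.1, Ne.symm hb.2.1]

theorem sub_of_le {s t : Finset α} (hs : 4 ≤ s.card) (h : R s ≤ R t) : s ⊆ t := fun y hy => by
  obtain ⟨c, hc, h1, -⟩ := ex3 hs hy y
  by_contra e
  exact h1 (mem_R.1 (h hc) y e)

theorem cen_R {s : Finset α} (hs : 4 ≤ s.card) :
    Subgroup.centralizer (R s : Set (alternatingGroup α)) = R sᶜ := by
  ext k
  rw [Subgroup.mem_centralizer_iff]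
  constructor
  · intro h
    refine mem_R.2 fun x hx => ?_
    have hx : x ∈ s := by simpa using hx
    by_contra e
    by_cases hy : (k : Perm α) x ∈ s
    · obtain ⟨c, hc, h1, h2⟩ := ex3 hs hy x
      have := congrArg (fun m : alternatingGroup α => (m : Perm α) x) (h c hc)
      simp only [Subgroup.coe_mul, Perm.mul_apply] at this
      rw [h2 (Ne.symm e)] at this
      exact h1 this
    · obtain ⟨c, hc, h1, -⟩ := ex3 hs hx x
      have := congrArg (fun m : alternatingGroup α => (m : Perm α) x) (h c hc)
      simp only [Subgroup.coe_mul, Perm.mul_apply] at this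
      rw [mem_R.1 hc _ hy] at this
      exact h1 ((k : Perm α).injective this).symm
  · intro hk c hc
    refine Subtype.ext (Perm.Disjoint.commute fun x => ?_).eq
    by_cases hx : x ∈ s
    · exact Or.inr (mem_R.1 hk x (by simpa using hx))
    · exact Or.inl (mem_R.1 hc x hx)

theorem odd_R {s : Finset α} (hs : s.card ≤ 3) {K : Subgroup (alternatingGroup α)} (h : K ≤ R s) :
    Odd (Nat.card K) := by
  rw [← Nat.not_even_iff_odd, even_iff_two_dvd]
  intro h2
  obtain ⟨k, hk⟩ := exists_prime_orderOf_dvd_card' 2 h2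
  have ho : orderOf ((k : alternatingGroup α) : Perm α) = 2 := by
    rw [Subgroup.orderOf_coe, Subgroup.orderOf_coe, hk]
  have hc := (Finset.card_le_card ((alternatingGroup.mem_range_ofSubtype_iff s _).1 (h k.2))).trans hs
  rcases (by omega : ((k : alternatingGroup α) : Perm α).support.card ≤ 1 ∨
      ((k : alternatingGroup α) : Perm α).support.card = 2 ∨
      ((k : alternatingGroup α) : Perm α).support.card = 3) with e | e | e
  · rw [card_support_le_one.1 e, orderOf_one] at ho; omega
  · have := (card_support_eq_two.1 e).sign_eq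
    rw [mem_alternatingGroup.1 (k : alternatingGroup α).2] at this
    exact absurd this (by decide)
  · rw [(card_support_eq_three_iff.1 e).orderOf] at ho; omega

theorem mem_nor {s : Finset α} (hs : 4 ≤ s.card) {g : alternatingGroup α} :
    g ∈ Subgroup.normalizer (R s : Set (alternatingGroup α)) ↔ s.image (g : Perm α) = s := by
  rw [Subgroup.mem_normalizer_iff_map_conj_eq]
  show (R s).map (MulAut.conj g).toMonoidHom = R s ↔ _
  rw [conj_R]
  refine ⟨fun h => ?_, fun h => by rw [h]⟩
  exact (Finset.eq_of_subset_of_card_le (sub_of_le hs h.ge)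
    (Finset.card_image_of_injective _ (g : Perm α).injective).le).symm

theorem main {s : Finset α} (hs : 5 ≤ s.card) (hc : sᶜ.card = 4) : IsStandardSubgroup (R s) := by
  have h4 : 4 ≤ s.card := by omega
  have card : ∀ t : Finset α, Nat.card (R t) = Nat.card (alternatingGroup t) := fun t =>
    (Nat.card_congr (MonoidHom.ofInjective (alternatingGroup.ofSubtype_injective (s := t))).toEquiv).symm
  refine ⟨?_, ⟨?_, fun g hg => ?_⟩, fun g _ h => ?_, ?_⟩
  · have : IsSimpleGroup (alternatingGroup s) := alternatingGroup.isSimpleGroup (by simpa using hs)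
    have : IsSimpleGroup (R s) :=
      (MonoidHom.ofInjective (alternatingGroup.ofSubtype_injective (s := s))).symm.isSimpleGroup
    refine H14.quasi_of_simple fun h => ?_
    have : R s ≤ R sᶜ := by
      rw [← cen_R h4]
      intro a ha b hb
      exact congrArg Subtype.val (h.is_comm.comm (⟨b, hb⟩ : R s) ⟨a, ha⟩)
    obtain ⟨x, hx⟩ := Finset.card_pos.1 (by omega : 0 < s.card)
    exact Finset.mem_compl.1 (sub_of_le h4 this hx) hx
  · rw [cen_R h4, card, alternatingGroup.card_of_card_eq_four (by rw [Nat.card_eq_fintype_card, Fintype.card_coe, hc])]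
    decide
  · rw [cen_R h4] at hg ⊢
    rw [conj_R]
    rw [mem_nor hc.ge] at hg
    refine odd_R (s := sᶜ ∩ sᶜ.image (g : Perm α)) ?_ fun k hk => mem_R.2 fun x hx => ?_
    · by_contra e
      have e1 : sᶜ ∩ sᶜ.image (g : Perm α) = sᶜ :=
        Finset.eq_of_subset_of_card_le Finset.inter_subset_left (by omega)
      exact hg (Finset.eq_of_subset_of_card_le (Finset.inter_eq_left.1 e1)
        (Finset.card_image_of_injective _ (g : Perm α).injective).le).symm
    · rw [Finset.mem_inter, not_and_or] at hx
      exact hx.elim (mem_R.1 hk.1 x) (mem_R.1 hk.2 x)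
  · rw [Subgroup.commutator_comm, Subgroup.commutator_eq_bot_iff_le_centralizer, cen_R h4, conj_R] at h
    have e := Finset.card_image_of_injective s (g : Perm α).injective
    have := Finset.card_le_card (sub_of_le (by omega) h)
    omega
  · ext g
    rw [cen_R h4, mem_nor h4, mem_nor hc.ge]
    have key : ∀ t : Finset α, t.image (g : Perm α) = t → tᶜ.image (g : Perm α) = tᶜ := fun t ht => by
      refine Finset.eq_of_subset_of_card_le (fun x hx => ?_)
        (Finset.card_image_of_injective _ (g : Perm α).injective).ge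
      obtain ⟨y, hy, rfl⟩ := Finset.mem_image.1 hx
      refine Finset.mem_compl.2 fun e => Finset.mem_compl.1 hy ?_
      rw [← ht] at e
      obtain ⟨z, hz, e⟩ := Finset.mem_image.1 e
      exact (g : Perm α).injective e ▸ hz
    exact ⟨key s, fun h => by simpa using key _ h⟩

end


/-- For n ≥ 9, the subgroup of the alternating group on Fin n fixing each of the points 0, 1, 2, 3 is a standard subgroup. -/
theorem result (n : ℕ) (h4 : 4 ≤ n) (hn : 9 ≤ n) : Cfsg.IsStandardSubgroup (⨅ i : Fin 4, MulAction.stabilizer ↥(alternatingGroup (Fin n)) (Fin.castLE h4 i : Fin n)) := by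
  have hc : (Finset.univ.image fun i : Fin 4 => (Fin.castLE h4 i : Fin n)).card = 4 := by
    rw [Finset.card_image_of_injective _ (Fin.castLE_injective h4)]; simp
  have e : (⨅ i : Fin 4, MulAction.stabilizer ↥(alternatingGroup (Fin n)) (Fin.castLE h4 i : Fin n)) =
      R (Finset.univ.image fun i : Fin 4 => (Fin.castLE h4 i : Fin n))ᶜ := by
    ext k
    rw [mem_R, Subgroup.mem_iInf]
    refine ⟨fun h x hx => ?_, fun h i => h _ (by simp)⟩
    obtain ⟨i, -, rfl⟩ := Finset.mem_image.1 (not_not.1 fun e => hx (Finset.mem_compl.2 e))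
    exact h i
  rw [e]
  refine main ?_ (by rw [compl_compl, hc])
  rw [Finset.card_compl, hc, Fintype.card_fin]; omega

end Cfsg.Agent.S1323
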