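import Cfsg.Statements.S1329
import Cfsg.Agent.H19.GoldGen
import Cfsg.Agent.S0205

set_option autoImplicit false
open Cfsg

namespace Cfsg.Agent.S1329

/-- Let A be an abelian 2-subgroup of the finite group G, B ≤ A, and Y a subgroup of odd order normalized by A with ⁅Y, A⁆ = Y. Then Y ∩ C_G(B) is generated by the subgroups Y ∩ C_G(B) ∩ ⁅Y ∩ C_G(B₀), A⁆, B₀ ranging over the subgroups of B with B / B₀ cyclic. -/
theorem result {G : Type*} [Group G] [Finite G] (A B Y : Subgroup G) (hA2 : IsPGroup 2 ↥A) (hAc : IsMulCommutative ↥A) (hB : B ≤ A) (hYodd : Odd (Nat.card ↥Y)) (hAY : A ≤ Subgroup.normalizer (Y : Set G)) (hYA : ⁅Y, A⁆ = Y) : Y ⊓ Subgroup.centralizer (B : Set G) = ⨆ B₀ : {B₀ : Subgroup G // B₀ ≤ B ∧ ∀ [(B₀.subgroupOf B).Normal], IsCyclic (↥B ⧸ B₀.subgroupOf B)}, Y ⊓ Subgroup.centralizer (B : Set G) ⊓ ⁅Y ⊓ Subgroup.centralizer ((B₀ : Subgroup G) : Set G), A⁆ := by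
  refine le_antisymm ?_ (iSup_le fun _ => inf_le_left)
  have hs := S0205.result hYodd
  have : Fact (Nat.Prime 2) := ⟨Nat.prime_two⟩
  have hcop : (Nat.card A).Coprime (Nat.card Y) :=
    (H1.coprime_card_of_isPGroup hA2 (Nat.coprime_two_right.2 hYodd)).symm
  have hAB : A ≤ Subgroup.normalizer ((Y ⊓ Subgroup.centralizer (B : Set G) : Subgroup G) : Set G) :=
    H98.le_normalizer_inf hAY (H98.le_normalizer_of_le (H19.Gold.comm_le_cen hB))
  refine (H1.commutator_sup_centralizer hAB
    (hcop.coprime_dvd_right (Subgroup.card_dvd_of_le inf_le_left))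
    (Or.inr (H1.isSolvable_of_le inf_le_left hs))).ge.trans (sup_le ?_ ?_)
  · refine le_iSup_of_le ⟨B, le_rfl, ?_⟩ (le_inf (H98.commutator_le_left' hAB) le_rfl)
    intro _
    have : Subsingleton (B ⧸ B.subgroupOf B) := by
      rw [Subgroup.subgroupOf_self]; exact QuotientGroup.subsingleton_quotient_top
    infer_instance
  · refine (inf_le_inf_right _ inf_le_left).trans (H19.Gold.gen hAY hcop hs hYA fun A₀ h => ?_)
    have h1 := h.comap (MonoidHom.id G) (A := B) (by simpa using hB)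
    rw [Subgroup.comap_id] at h1
    have h2 : A ≤ Subgroup.normalizer
        ((Y ⊓ Subgroup.centralizer (A₀ : Set G) : Subgroup G) : Set G) :=
      H98.le_normalizer_inf hAY (H98.le_normalizer_of_le (H19.Gold.comm_le_cen h.1))
    exact le_iSup_of_le ⟨_, h1⟩ (le_inf (le_inf
      (inf_le_right.trans ((H98.commutator_le_left' h2).trans inf_le_left))
      (inf_le_left.trans (H98.centralizer_anti hB))) (inf_le_right.trans (Subgroup.commutator_mono
        (inf_le_inf_left _ (H98.centralizer_anti inf_le_left)) le_rfl)))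

end Cfsg.Agent.S1329
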