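import Cfsg.Statements.S1330
import Cfsg.Agent.H19.GoldGen
import Cfsg.Agent.S0205
import Cfsg.Agent.H14.TwoBal
import Cfsg.Agent.H14.LocBal3
import Cfsg.Agent.H14.Pump

set_option autoImplicit false
open Cfsg

namespace Cfsg.Agent.S1330

open Subgroup H14

local notation "𝒞" X:max => centralizer (SetLike.coe X)
local notation "𝒩" X:max => normalizer (SetLike.coe X)

section rel
variable {G : Type*} [Group G] [Finite G] {p : ℕ} [Fact p.Prime]

theorem top_map {P D : Subgroup G} (hP : IsPGroup p P) (hD : D ≤ opp p (𝒞 P)) :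
    D.map (pq p G) ≤ opp p (⊤ ⊓ 𝒞 (P.map (pq p G))) := by
  rw [top_inf_eq, ← map_centralizer_of_coprime_ker _ pq_surjective coprime_ker_pq hP]
  exact (map_mono hD).trans (map_opp_le _ _)

theorem top1 {P D : Subgroup G} (hP : IsPGroup p P) (hD : D ≤ opp p (𝒞 P))
    (h : ∀ K : Subgroup G, IsPComponent p K → ⁅K, D⁆ ≤ pPrimeCore p G) : D ≤ pPrimeCore p G := by
  rw [← map_pq_eq_bot_iff]
  have h1 := top_map hP hD
  refine eq_bot_of_commutator_cp (p := p) (H := ⊤) (opp_top_quotient G) le_top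
    (Nat.Coprime.coprime_dvd_left (card_dvd_of_le h1) (coprime_card_opp _)) (fun K hK => ?_)
    (commutator_eq_bot_mono (hat_commutator_pCoreOf (hP.map _) le_normalizer_of_normal)
      (h1.trans le_sup_right) le_rfl)
  obtain ⟨J, hJ, rfl⟩ := exists_pcomp_map_eq (cp_top_iff.1 hK)
  rw [← map_commutator, map_pq_eq_bot_iff]
  exact h J hJ

theorem top4 {P D K : Subgroup G} (hP : IsPGroup p P) (hD : D ≤ opp p (𝒞 P))
    (hK : IsPComponent p K) (h : ⁅K, P⁆ ≤ pPrimeCore p G) : ⁅K, D⁆ ≤ pPrimeCore p G := by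
  rw [← map_pq_eq_bot_iff, map_commutator] at h ⊢
  have h1 := cp_top_iff.2 (pcomp_comp_map hK)
  exact commutator_eq_bot_mono ((h1.of_le (le_inf le_top (commutator_eq_bot_iff_le_centralizer.1 h))
    inf_le_left).commutator_opp (h1.dvd_card (opp_top_quotient G))) le_rfl (top_map hP hD)

theorem sub_le {H P D : Subgroup G} (hPH : P ≤ H) (hD : D ≤ opp p (H ⊓ 𝒞 P)) :
    D.subgroupOf H ≤ opp p (𝒞 (P.subgroupOf H)) := by
  rw [subgroupOf_le_iff_le_map (hD.trans ((opp_le _).trans inf_le_left)),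
    map_opp_of_injective H.subtype_injective, H98.map_subtype_centralizer,
    map_subgroupOf_eq_of_le hPH]
  exact hD

theorem comm_iff {H X Y : Subgroup G} (hX : X ≤ H) (hY : Y ≤ H) :
    ⁅X.subgroupOf H, Y.subgroupOf H⁆ ≤ pPrimeCore p H ↔ ⁅X, Y⁆ ≤ opp p H := by
  rw [commutator_subgroupOf hX hY, subgroupOf_le_iff_le_map (H98.commutator_le_of_le hX hY)]

theorem r1 {H P D : Subgroup G} (hP : IsPGroup p P) (hPH : P ≤ H) (hD : D ≤ opp p (H ⊓ 𝒞 P))
    (h : ∀ K, PC p K H → ⁅K, D⁆ ≤ opp p H) : D ≤ opp p H := by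
  have hDH : D ≤ H := hD.trans ((opp_le _).trans inf_le_left)
  rw [← subgroupOf_le_iff_le_map hDH]
  refine top1 (H98.isPGroup_subgroupOf hP H) (sub_le hPH hD) fun K hK => ?_
  rw [← map_subtype_subgroupOf K, comm_iff (map_subtype_le _) hDH]
  exact h _ (pc_map_subtype hK)

theorem r4 {H P D K : Subgroup G} (hP : IsPGroup p P) (hPH : P ≤ H) (hD : D ≤ opp p (H ⊓ 𝒞 P))
    (hK : PC p K H) (h : ⁅K, P⁆ ≤ opp p H) : ⁅K, D⁆ ≤ opp p H := by
  rw [← comm_iff hK.le (hD.trans ((opp_le _).trans inf_le_left))]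
  exact top4 (H98.isPGroup_subgroupOf hP H) (sub_le hPH hD) hK.pcomp ((comm_iff hK.le hPH).2 h)

theorem r3 {H P D K U : Subgroup G} (hP : IsPGroup p P) (hPH : P ≤ H) (hD : D ≤ opp p (H ⊓ 𝒞 P))
    (hK : PC p K H) (hU : U ≤ H) (h : ⁅K, U⁆ ≤ opp p H) : ⁅K, ⁅D, U⁆⁆ ≤ opp p H := by
  have hDH : D ≤ H := hD.trans ((opp_le _).trans inf_le_left)
  have h1 : D ≤ 𝒩 K := by
    have := map_le_normalizer_of_subgroupOf hK.le (((sub_le hPH hD).trans le_sup_right).trans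
      (hat_le_normalizer_pcomp (H98.isPGroup_subgroupOf hP H) hK.pcomp))
    rwa [map_subgroupOf_eq_of_le hDH] at this
  have hn := self_le_normalizer_opp (p := p) H
  rw [commutator_comm]
  refine H98.three_subgroups (hDH.trans hn) (hU.trans hn) (hK.le.trans hn) ?_ ?_
  · rw [commutator_comm U]
    exact (commutator_mono h le_rfl).trans (H98.commutator_le_left' (hDH.trans hn))
  · exact (commutator_mono (H98.commutator_le_left' h1) le_rfl).trans h

end rel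

variable {G : Type*} [Group G] [Finite G]

/-- the hypotheses in ambient form -/
structure Sep (A₁ A₂ : Subgroup G) : Prop where
  ea : IsElementaryAbelian 2 (A₁ ⊔ A₂)
  nc : ¬ IsCyclic A₁
  nc' : ¬ IsCyclic A₂
  sep : ∀ a ∈ A₁ ⊔ A₂, a ≠ 1 → ∀ K, PC 2 K (centralizer {a}) →
    ⁅K, A₁⁆ ≤ opp 2 (centralizer {a}) ∨ ⁅K, A₂⁆ ≤ opp 2 (centralizer {a})

omit [Finite G] in
theorem Sep.symm {A₁ A₂ : Subgroup G} (h : Sep A₁ A₂) : Sep A₂ A₁ :=
  ⟨sup_comm A₁ A₂ ▸ h.ea, h.nc', h.nc, fun a ha h1 K hK => (h.sep a (sup_comm A₁ A₂ ▸ ha) h1 K hK).symm⟩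

instance : Fact (Nat.Prime 2) := ⟨Nat.prime_two⟩

omit [Finite G] in
theorem Sep.le_cen {A₁ A₂ : Subgroup G} (h : Sep A₁ A₂) {a : G} (ha : a ∈ A₁ ⊔ A₂) :
    A₁ ⊔ A₂ ≤ centralizer {a} := fun _ hx => mem_centralizer_singleton_iff.2 (ea_comm h.ea hx ha)

omit [Finite G] in
theorem Sep.le_cen' {A₁ A₂ : Subgroup G} (h : Sep A₁ A₂) : A₁ ⊔ A₂ ≤ 𝒞 A₁ :=
  (ea_le_centralizer h.ea).trans (H98.centralizer_anti le_sup_left)

theorem le_opp_inf {a : G} {D H : Subgroup G} (h1 : D ≤ opp 2 (centralizer {a})) (h2 : D ≤ H) :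
    D ≤ opp 2 (H ⊓ 𝒞 (zpowers a)) := by
  rw [centralizer_zpowers]
  exact (le_inf h1 (le_inf h2 (h1.trans (opp_le _)))).trans (opp_inf_le_of_le inf_le_right)

theorem Sep.star {A₁ A₂ : Subgroup G} (h : Sep A₁ A₂) {a : G} (ha : a ∈ A₁ ⊔ A₂) :
    ⁅opp 2 (centralizer {a}), A₁⁆ ⊓ 𝒞 A₁ ≤ opp 2 (𝒞 A₁) := by
  have e1 := ea_of_le h.ea (le_sup_left : A₁ ≤ _)
  have := e1.1
  have p1 := ea_isPGroup e1
  have pa := isPGroup_zpowers_of_mem (ea_isPGroup h.ea) ha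
  have hn : A₁ ≤ 𝒩 (opp 2 (centralizer {a})) :=
    (le_sup_left.trans (h.le_cen ha)).trans (self_le_normalizer_opp _)
  have hc := coprime_card_opp (p := 2) (centralizer {a})
  have hs : Group.IsSolvable (opp 2 (centralizer {a})) :=
    S0205.result (Nat.coprime_two_right.1 hc)
  have hcop := (H1.coprime_card_of_isPGroup p1 hc).symm
  have hY := H98.commutator_le_left' hn
  refine H19.Gold.gen (normalizer_commutator_ge_right _ _)
    (hcop.coprime_dvd_right (card_dvd_of_le hY)) (H1.isSolvable_of_le hY hs)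
    (H1.commutator_commutator_eq hn hcop (Or.inr hs)) fun B hB => ?_
  obtain ⟨b, hb, b1⟩ := H1.exists_ne_one_of_isCyclic_quotient h.nc (B.subgroupOf A₁) hB.2
  replace b1 : (b : G) ≠ 1 := fun e => b1 (Subtype.ext e)
  have hbA : (b : G) ∈ A₁ ⊔ A₂ := mem_sup_left b.2
  have hΓ : 𝒞 A₁ ≤ centralizer {(b : G)} := centralizer_le (by simp)
  have hAb := h.le_cen hbA
  set W := ⁅opp 2 (centralizer {a}), A₁⁆ ⊓ 𝒞 B
  have hW : W ≤ centralizer {(b : G)} :=
    inf_le_right.trans (centralizer_le (Set.singleton_subset_iff.2 hb))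
  have hAW : A₁ ≤ 𝒩 W := H98.le_normalizer_inf (normalizer_commutator_ge_right _ _)
    (H98.le_normalizer_of_le (H19.Gold.comm_le_cen hB.1))
  have hD := le_opp_inf (a := a) (D := 𝒞 A₁ ⊓ ⁅W, A₁⁆)
    (inf_le_right.trans ((H98.commutator_le_left' hAW).trans (inf_le_left.trans hY))) inf_le_left
  have haΓ : zpowers a ≤ 𝒞 A₁ := zpowers_le.2 (h.le_cen' ha)
  refine r1 pa haΓ hD fun I hI => ?_
  by_cases h1 : ⁅I, zpowers a⁆ ≤ opp 2 (𝒞 A₁)
  · exact r4 pa haΓ hD hI h1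
  have hI' : PC 2 I (centralizer {(b : G)} ⊓ 𝒞 A₁) := by rwa [inf_eq_right.2 hΓ]
  have hn' := H98.le_normalizer_of_le (le_sup_left.trans hAb)
  obtain ⟨J, hJ, -, hIJ⟩ := hI'.exists_orbP p1 hn' (hI'.le_two p1 hn')
  have down : ∀ U ≤ 𝒞 A₁, ⁅I, U⁆ ≤ opp 2 (centralizer {(b : G)}) → ⁅I, U⁆ ≤ opp 2 (𝒞 A₁) :=
    fun U hU h2 => (le_inf h2 (H98.commutator_le_of_le hI.le hU)).trans (opp_inf_le_of_le hΓ)
  rcases h.sep b hbA b1 J hJ with h2 | h2
  · rw [orbP_eq_self (hJ.le_normalizer_of_commutator_le (le_sup_left.trans hAb) h2)] at hIJ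
    exact down _ inf_le_left ((commutator_mono hIJ inf_le_right).trans
      (r3 pa (zpowers_le.2 (hAb ha)) (le_opp_inf (inf_le_left.trans hY) hW) hJ
        (le_sup_left.trans hAb) h2))
  · refine absurd ((commutator_mono le_rfl (zpowers_le.2 ha)).trans ?_) h1
    have hn2 := h.le_cen'.trans (self_le_normalizer_opp (p := 2) _)
    refine H98.commutator_sup_right_le (le_sup_left.trans hn2) (le_sup_right.trans hn2)
      ((commutator_eq_bot_iff_le_centralizer.2 hI.le).le.trans bot_le)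
      (down _ (le_sup_right.trans h.le_cen') ((commutator_mono hIJ le_rfl).trans ?_))
    rw [commutator_comm]
    refine H98.commutator_iSup_right_le (fun r => ((hJ.cj_of_mem_normalizer (hn' r.2)).le).trans
      (self_le_normalizer_opp _)) fun r => ?_
    have h3 := H98.cj_mono (r : G) h2
    rw [H98.cj_commutator, H98.cj_eq_self (H := A₂) (centralizer_le_normalizer _
      (h.symm.le_cen' (mem_sup_right r.2))),
      H98.cj_eq_self (normalizer_le_normalizer_opp _ (hn' r.2)), commutator_comm] at h3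
    exact h3

/-- one half of the functor -/
abbrev th (A : Subgroup G) (a : G) : Subgroup G :=
  ⁅opp 2 (centralizer {a}), A⁆ ⊔ (opp 2 (centralizer {a}) ⊓ opp 2 (𝒞 A))

theorem Sep.th_le {A₁ A₂ : Subgroup G} (h : Sep A₁ A₂) {a : G} (ha : a ∈ A₁ ⊔ A₂) :
    th A₁ a ≤ opp 2 (centralizer {a}) :=
  sup_le (H98.commutator_le_left' ((le_sup_left.trans (h.le_cen ha)).trans
    (self_le_normalizer_opp _))) inf_le_left

theorem Sep.th_norm {A₁ A₂ : Subgroup G} (h : Sep A₁ A₂) {a : G} (ha : a ∈ A₁ ⊔ A₂) :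
    A₁ ⊔ A₂ ≤ 𝒩 (th A₁ a) :=
  have h1 := (h.le_cen ha).trans (self_le_normalizer_opp (p := 2) _)
  H98.le_normalizer_sup (H98.le_normalizer_commutator h1
    (H98.le_normalizer_of_le_centralizer h.le_cen'))
    (H98.le_normalizer_inf h1 (h.le_cen'.trans (self_le_normalizer_opp _)))

theorem Sep.th_inf {A₁ A₂ : Subgroup G} (h : Sep A₁ A₂) {a : G} (ha : a ∈ A₁ ⊔ A₂) :
    th A₁ a ⊓ 𝒞 A₁ ≤ opp 2 (𝒞 A₁) := by
  rw [th, sup_comm, H98.sup_inf_of_le_left (inf_le_left.trans (normalizer_commutator_ge_left _ _))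
    (inf_le_right.trans (opp_le _))]
  exact sup_le inf_le_right (h.star ha)

theorem Sep.split {A₁ A₂ : Subgroup G} (h : Sep A₁ A₂) {a : G} {X : Subgroup G}
    (hX : X ≤ opp 2 (centralizer {a})) (hn : A₁ ≤ 𝒩 X) : ⁅X, A₁⁆ ⊔ (X ⊓ 𝒞 A₁) = X := by
  have hc : (Nat.card X).Coprime 2 := (coprime_card_opp _).coprime_dvd_left (card_dvd_of_le hX)
  exact H1.commutator_sup_centralizer hn (H1.coprime_card_of_isPGroup
    (ea_isPGroup (ea_of_le h.ea le_sup_left)) hc).symm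
    (Or.inr (S0205.result (Nat.coprime_two_right.1 hc)))

theorem Sep.comm_le {A₁ A₂ : Subgroup G} (h : Sep A₁ A₂) {a b : G} (ha : a ∈ A₁ ⊔ A₂)
    (hb : b ∈ A₁ ⊔ A₂) {X K : Subgroup G} (hX : X ≤ th A₁ a) (hXb : X ≤ centralizer {b})
    (hn : A₁ ≤ 𝒩 X) (hK : PC 2 K (centralizer {b})) (hc : ⁅K, A₁⁆ ≤ opp 2 (centralizer {b})) :
    ⁅K, X⁆ ≤ opp 2 (centralizer {b}) := by
  have h1 := hX.trans (h.th_le ha)
  have hAb := h.le_cen hb
  have hn2 := hXb.trans (self_le_normalizer_opp (p := 2) _)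
  rw [← h.split h1 hn]
  refine H98.commutator_sup_right_le ((H98.commutator_le_left' hn).trans hn2)
    (inf_le_left.trans hn2) (r3 (isPGroup_zpowers_of_mem (ea_isPGroup h.ea) ha)
      (zpowers_le.2 (hAb ha)) (le_opp_inf h1 hXb) hK (le_sup_left.trans hAb) hc)
    (r4 (ea_isPGroup (ea_of_le h.ea le_sup_left)) (le_sup_left.trans hAb) ?_ hK hc)
  exact (le_inf ((inf_le_inf_right _ hX).trans (h.th_inf ha)) (inf_le_inf_right _ hXb)).trans
    (opp_inf_le_of_le inf_le_right)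

theorem Sep.le_th {A₁ A₂ : Subgroup G} (h : Sep A₁ A₂) {a b : G} (ha : a ∈ A₁ ⊔ A₂)
    {X : Subgroup G} (hX : X ≤ th A₁ a) (hXb : X ≤ opp 2 (centralizer {b})) (hn : A₁ ≤ 𝒩 X) :
    X ≤ th A₁ b := by
  rw [← h.split hXb hn]
  exact sup_le_sup (commutator_mono hXb le_rfl)
    (le_inf (inf_le_left.trans hXb) ((inf_le_inf_right _ hX).trans (h.th_inf ha)))

theorem Sep.functor {A₁ A₂ : Subgroup G} (h : Sep A₁ A₂) :
    IsSignalizerFunctor 2 (A₁ ⊔ A₂) (fun a => th A₁ a ⊓ th A₂ a) := by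
  have sw : ∀ {a : G}, a ∈ A₁ ⊔ A₂ → a ∈ A₂ ⊔ A₁ := fun ha => sup_comm A₁ A₂ ▸ ha
  have nm : ∀ a ∈ A₁ ⊔ A₂, A₁ ⊔ A₂ ≤ 𝒩 (th A₁ a ⊓ th A₂ a) := fun a ha =>
    H98.le_normalizer_inf (h.th_norm ha) (sup_comm A₁ A₂ ▸ h.symm.th_norm (sw ha))
  refine ⟨fun a ha _ => inf_le_left.trans ((h.th_le ha).trans (opp_le _)), fun a ha _ => ?_,
    fun a ha _ b hb x hx => H1.conj_mem_of_le_normalizer (nm a ha) hb hx, fun a ha _ b hb b1 => ?_⟩
  · exact (Nat.Prime.coprime_iff_not_dvd Nat.prime_two).1 ((coprime_card_opp _).coprime_dvd_left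
      (card_dvd_of_le (inf_le_left.trans (h.th_le ha)))).symm
  have hn := H98.le_normalizer_inf (nm a ha) (H98.le_normalizer_of_le (h.le_cen hb))
  have h1 : th A₁ a ⊓ th A₂ a ⊓ centralizer {b} ≤ th A₁ a := inf_le_left.trans inf_le_left
  have h2 : th A₁ a ⊓ th A₂ a ⊓ centralizer {b} ≤ th A₂ a := inf_le_left.trans inf_le_right
  have h3 := r1 (isPGroup_zpowers_of_mem (ea_isPGroup h.ea) ha) (zpowers_le.2 (h.le_cen hb ha))
    (le_opp_inf (h1.trans (h.th_le ha)) inf_le_right) fun K hK => (h.sep b hb b1 K hK).elim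
      (h.comm_le ha hb h1 inf_le_right (le_sup_left.trans hn) hK)
      (h.symm.comm_le (sw ha) (sw hb) h2 inf_le_right (le_sup_right.trans hn) hK)
  exact le_inf (h.le_th ha h1 h3 (le_sup_left.trans hn))
    (h.symm.le_th (sw ha) h2 h3 (le_sup_right.trans hn))

omit [Finite G] in
theorem not_cyc {A : Subgroup G} (h : IsElementaryAbelian 2 A) (hc : Nat.card A = 4) :
    ¬ IsCyclic A := fun h1 => by
  obtain ⟨g, hg⟩ := IsCyclic.exists_generator (α := A)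
  have h2 := orderOf_dvd_of_pow_eq_one (show g ^ 2 = 1 from Subtype.ext (h.2 g g.2))
  rw [orderOf_eq_card_of_forall_mem_zpowers hg, hc] at h2
  omega

/-- Let A₁, A₂ be core-separated four-subgroups of the finite group G and A = A₁A₂. For a ∈ G put O_a = O(C_G(a)) and θ a = ⋂_{i=1,2} ( ⁅O_a, A_i⁆ · (O_a ∩ O(C_G(A_i))) ). Then θ is an A-signalizer functor for the prime 2. -/
theorem result {G : Type*} [Group G] [Finite G] (A₁ A₂ : Subgroup G) (hcs : Cfsg.IsCoreSeparated A₁ A₂) : Cfsg.IsSignalizerFunctor 2 (A₁ ⊔ A₂) (fun a => (⁅Cfsg.centralizerPPrimeCore 2 a, A₁⁆ ⊔ (Cfsg.centralizerPPrimeCore 2 a ⊓ ((Cfsg.oddCore ↥(Subgroup.centralizer ((A₁ : Subgroup G) : Set G))).map (Subgroup.centralizer ((A₁ : Subgroup G) : Set G)).subtype))) ⊓ (⁅Cfsg.centralizerPPrimeCore 2 a, A₂⁆ ⊔ (Cfsg.centralizerPPrimeCore 2 a ⊓ ((Cfsg.oddCore ↥(Subgroup.centralizer ((A₂ : Subgroup G) : Set G))).map (Subgroup.centralizer ((A₂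 : Subgroup G) : Set G)).subtype)))) := by
  obtain ⟨e1, e2, c1, c2, -, -, hc, hs⟩ := hcs
  have hn : A₂ ≤ 𝒞 A₁ := fun y hy x hx => hc x hx y hy
  have hm := fun x => (H98.mem_sup_right_norm (hn.trans (centralizer_le_normalizer _)) (x := x)).1
  refine Sep.functor ⟨ea_iff.2 ⟨fun a ha b hb => ?_, fun a ha => ?_⟩, not_cyc e1 c1, not_cyc e2 c2,
    fun a ha a1 K hK => ?_⟩
  · obtain ⟨x, hx, y, hy, rfl⟩ := hm a ha
    obtain ⟨z, hz, w, hw, rfl⟩ := hm b hb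
    exact (Commute.mul_left (Commute.mul_right (ea_comm e1 hx hz) (hc x hx w hw))
      (Commute.mul_right (hc z hz y hy).symm (ea_comm e2 hy hw)))
  · obtain ⟨x, hx, y, hy, rfl⟩ := hm a ha
    rw [Commute.mul_pow (hc x hx y hy), e1.2 x hx, e2.2 y hy, one_mul]
  · have := hs a ha a1 _ hK.pcomp
    rwa [map_subgroupOf_eq_of_le hK.le] at this

end Cfsg.Agent.S1330
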