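import Cfsg.Statements.S1339
import Cfsg.Agent.H98.CharP
import Cfsg.Agent.H14.FStar

set_option autoImplicit false
open Cfsg

namespace Cfsg.Agent.S1339

open Subgroup H98 Matrix

/-- Let F be a field with 2 elements, n ≥ 3, and t ∈ SL(n, F) a transvection (t = 1 + E_{ij}, i ≠ j). Then the generalized Fitting subgroup of C(t) is O_2(C(t)). -/
theorem result {F : Type*} [Field F] [Fintype F] [DecidableEq F] (hF : Fintype.card F = 2) (n : ℕ) (hn : 3 ≤ n) (i j : Fin n) (hij : i ≠ j) (t : Matrix.SpecialLinearGroup (Fin n) F) (ht : (t : Matrix (Fin n) (Fin n) F) = Matrix.transvection i j 1) : Cfsg.generalizedFittingSubgroup ↥(Subgroup.centralizer ({t} : Set (Matrix.SpecialLinearGroup (Fin n) F))) = Cfsg.pCore 2 ↥(Subgroup.centralizer ({t} : Set (Matrix.SpecialLinearGroup (Fin n) F))) := by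
  haveI : Fact (Nat.Prime 2) := ⟨Nat.prime_two⟩
  obtain rfl : t = SpecialLinearGroup.transvection hij 1 := Subtype.ext ht
  have h2 : (2 : F) = 0 := by simpa [hF] using FiniteField.cast_card_eq_zero F
  have h1 : ∀ c : F, c ≠ 0 → c = 1 := fun c hc => by simpa [hF] using FiniteField.pow_card_sub_one_eq_one c hc
  set e : Fin n → F := Pi.single i 1 with he
  have ext : ∀ g k : SpecialLinearGroup (Fin n) F, (∀ x : Fin n → F, g • x = k • x) → g = k := fun g k h =>
    Subtype.ext (Matrix.ext_iff_mulVec.2 h)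
  have lin : ∀ (g : SpecialLinearGroup (Fin n) F) (x y : Fin n → F) (c : F),
      g • (x + c • y) = g • x + c • g • y := fun g x y c => by
    rw [smul_add, smul_comm]
  have tv : ∀ l (h : i ≠ l) (x : Fin n → F), SpecialLinearGroup.transvection h (1 : F) • x = x + x l • e :=
    fun l h x => by
      rw [Matrix.SpecialLinearGroup.smul_def, SpecialLinearGroup.transvection_coe, smul_eq_mulVec, add_mulVec,
        one_mulVec, single_mulVec, he, ← Pi.single_smul', one_mul, smul_eq_mul, mul_one]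
      rfl
  have sq : ∀ g : SpecialLinearGroup (Fin n) F, g • e = e → (∀ x, ∃ c : F, g • x = x + c • e) → g * g = 1 :=
    fun g h h' => ext _ _ fun x => by
      obtain ⟨c, hc⟩ := h' x
      rw [mul_smul, hc, lin, hc, h, add_assoc, ← add_smul, ← two_mul, h2, zero_mul, zero_smul, add_zero, one_smul]
  let Q : Subgroup (SpecialLinearGroup (Fin n) F) :=
    { carrier := {g | g • e = e ∧ ∀ x, ∃ c : F, g • x = x + c • e}
      one_mem' := ⟨one_smul _ _, fun x => ⟨0, by simp⟩⟩
      mul_mem' := fun {g k} hg hk => ⟨by rw [mul_smul, hk.1, hg.1], fun x => by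
        obtain ⟨c, hc⟩ := hg.2 x
        obtain ⟨d, hd⟩ := hk.2 x
        exact ⟨c + d, by rw [mul_smul, hd, lin, hc, hg.1, add_smul, add_assoc]⟩⟩
      inv_mem' := fun {g} hg => by rwa [inv_eq_of_mul_eq_one_right (sq g hg.1 hg.2)] }
  have q1 : ∀ l (h : i ≠ l), SpecialLinearGroup.transvection h (1 : F) ∈ Q := fun l h =>
    ⟨SpecialLinearGroup.transvection_smul_single_fst h 1, fun x => ⟨_, tv l h x⟩⟩
  have q2 : IsPGroup 2 Q := isPGroup_iff_forall.2 fun g hg => ⟨1, by rw [pow_one, pow_two, sq g hg.1 hg.2]⟩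
  have q3 : ∀ k ∈ centralizer {SpecialLinearGroup.transvection hij (1 : F)}, k • e = e := fun k hk => by
    have := congrArg (· • (Pi.single j 1 : Fin n → F)) (mem_centralizer_singleton_iff.1 hk)
    simp only [mul_smul, tv, smul_add, Pi.single_eq_same, one_smul, add_right_inj] at this
    rw [this, h1 ((k • (Pi.single j 1 : Fin n → F)) j) fun e1 => ?_, one_smul]
    rw [e1, zero_smul, smul_eq_zero_iff_eq] at this
    simpa [he] using congrFun this i
  refine H14.fstar_eq_pCore_iff_centralizer.2 (H98.charP_iff.1 (charP_of_normal q2 (fun g hg => ?_)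
    (fun k hk => mem_normalizer_of_cj_le (map_le_iff_le_comap.2 fun g hg =>
      (⟨?_, fun x => ?_⟩ : k * g * k⁻¹ ∈ Q))) (q2.to_le fun k hk => ⟨q3 k hk.1, fun x => ?_⟩)))
  · refine mem_centralizer_singleton_iff.2 (ext _ _ fun x => ?_)
    obtain ⟨c, hc⟩ := hg.2 x
    rw [mul_smul, mul_smul, tv, lin, hc, lin, tv, hg.1, (q1 j hij).1, add_right_comm]
  · rw [mul_smul, mul_smul, q3 _ (inv_mem hk), hg.1, q3 k hk]
  · obtain ⟨c, hc⟩ := hg.2 (k⁻¹ • x)
    exact ⟨c, by rw [mul_smul, mul_smul, hc, lin, smul_inv_smul, q3 k hk]⟩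
  refine ⟨(k • x) i - x i, funext fun l => ?_⟩
  by_cases h : i = l
  · simp [← h, he]
  have := congrArg (fun g => (g • x) i) (hk.2 _ (q1 l h))
  simp only [mul_smul, tv, lin, q3 k hk.1] at this
  simpa [he, Pi.single_eq_of_ne' h] using this

end Cfsg.Agent.S1339
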