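import Cfsg.Statements.S1340
import Cfsg.Agent.H19.Blk

set_option autoImplicit false
open Cfsg

namespace Cfsg.Agent.S1340

/-- Let F be a finite field of odd order and n ≥ 3 with (n, |F|) ≠ (3, 3). Then GL(n, F) has a non-central involution t such that C(t) / O(C(t)) has a component. -/
theorem result {F : Type*} [Field F] [Fintype F] [DecidableEq F] (hF : Odd (Fintype.card F)) (n : ℕ) (hn : 3 ≤ n) (h33 : ¬ (n = 3 ∧ Fintype.card F = 3)) : ∃ t : Matrix.GeneralLinearGroup (Fin n) F, orderOf t = 2 ∧ t ∉ Subgroup.center (Matrix.GeneralLinearGroup (Fin n) F) ∧ Cfsg.HasComponent (↥(Subgroup.centralizer ({t} : Set (Matrix.GeneralLinearGroup (Fin n) F))) ⧸ Cfsg.oddCore ↥(Subgroup.centralizer ({t} : Set (Matrix.GeneralLinearGroup (Fin n) F)))) := by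
  obtain ⟨m, rfl⟩ : ∃ m, n = m + 1 := ⟨n - 1, by omega⟩
  have h2 := H19.Blk.two_ne hF
  let t : Matrix.GeneralLinearGroup (Fin (m + 1)) F :=
    ⟨H19.Blk.blk (-1) 1, H19.Blk.blk (-1) 1, by rw [H19.Blk.blk_mul, ← H19.Blk.blk_one]; simp,
      by rw [H19.Blk.blk_mul, ← H19.Blk.blk_one]; simp⟩
  have D : H19.Blk.Dat (Units.coeHom _) Matrix.SpecialLinearGroup.toGL t :=
    ⟨h2, Units.val_injective, fun _ => rfl, rfl⟩
  have q : IsQuasisimple (Matrix.SpecialLinearGroup (Fin m) F) := by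
    refine H19.Blk.quasi_sl (by omega) fun h => ?_
    have := Fintype.one_lt_card (α := F)
    obtain ⟨k, hk⟩ := hF
    omega
  refine ⟨t, D.orderOf_t (by omega), fun h => D.neg_ne ?_, by convert D.hasComponent (by omega) q⟩
  obtain ⟨a, ha⟩ := Matrix.GeneralLinearGroup.mem_center_iff_val_mem_range_scalar.1 h
  have e : Matrix.scalar _ a = Matrix.diagonal fun i : Fin (m + 1) =>
      if (i : ℕ) + 1 = m + 1 then (1 : F) else -1 := ha.trans H19.Blk.blk_diag
  have e1 := congrFun (congrFun e 0) 0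
  have e2 := congrFun (congrFun e (Fin.last m)) (Fin.last m)
  have : ¬ 0 = m := by omega
  simp [this] at e1 e2
  rw [← e1, e2]

end Cfsg.Agent.S1340
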