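import Cfsg.Statements.S1512
import Cfsg.Agent.H45.DadeGroup
import Cfsg.Agent.H46.Coprime
import Cfsg.Agent.H45.Bridge1

set_option autoImplicit false
open Cfsg

namespace Cfsg.Agent.S1512

/-- Let K be a normal subgroup of the finite group L and x a non-identity element whose order is coprime to the order of K, such that K ⊓ C_L(y) = W₂ for every non-identity element y of the cyclic group generated by x. Then the number of conjugacy classes of K mapped to themselves by conjugation by x is at most Nat.card W₂. -/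
theorem result {L : Type*} [Group L] [Finite L] (K W₂ : Subgroup L) [hK : K.Normal] (x : L) (hx1 : x ≠ 1) (hx : Nat.Coprime (orderOf x) (Nat.card K)) (hC : ∀ y ∈ Subgroup.zpowers x, y ≠ 1 → K ⊓ Subgroup.centralizer ({y} : Set L) = W₂) : Nat.card {C : ConjClasses K // ConjClasses.map (MulEquiv.toMonoidHom ((MulAut.conjNormal x : MulAut K))) C = C} ≤ Nat.card W₂ := by
  have hW : W₂ ≤ K := by rw [← hC x (Subgroup.mem_zpowers x) hx1]; exact inf_le_left
  have key : ∀ C : {C : ConjClasses K // ConjClasses.map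
      (MulEquiv.toMonoidHom ((MulAut.conjNormal x : MulAut K))) C = C},
      ∃ w : W₂, ConjClasses.mk (Subgroup.inclusion hW w) = C.1 := by
    rintro ⟨C, hfix⟩
    obtain ⟨k, rfl⟩ := ConjClasses.mk_surjective C
    have e : IsConj (MulAut.conjNormal x k) k := ConjClasses.mk_eq_mk_iff_isConj.1 hfix
    obtain ⟨a, ha⟩ := isConj_iff.1 e
    have ha' : (a : L) * (x * k * x⁻¹) * (a : L)⁻¹ = k := by simpa using congrArg Subtype.val ha
    obtain ⟨u, hu, c, hc, e1, e2⟩ := H45.coprime_coset_conj K x
      (H45.top_le_normalizer K (Subgroup.mem_top x)) hx a a.2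
    have hcx : x ∈ Subgroup.zpowers (x * c) := H46.mem_zpowers_mul_of_coprime e1.symm
      (hx.coprime_dvd_right (H46.orderOf_dvd_card hc))
    have hk' : x * c ∈ H46.Cent1 (u * k * u⁻¹) := by
      rw [H46.mem_cent1, ← e1, ← e2]
      calc u * (a * x) * u⁻¹ * (u * k * u⁻¹) = u * (a * (x * k * x⁻¹) * (a : L)⁻¹) * (a * x) * u⁻¹ := by
            group
        _ = _ := by rw [ha']; group
    have hm : u * k * u⁻¹ ∈ W₂ := by
      rw [← hC x (Subgroup.mem_zpowers x) hx1]
      exact ⟨K.mul_mem (K.mul_mem hu k.2) (K.inv_mem hu),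
        H46.mem_cent1_comm.1 (Subgroup.zpowers_le.2 hk' hcx)⟩
    refine ⟨⟨_, hm⟩, ConjClasses.mk_eq_mk_iff_isConj.2 (isConj_iff.2 ⟨⟨u, hu⟩⁻¹, ?_⟩)⟩
    apply Subtype.ext
    simp [mul_assoc]
  choose f hf using key
  exact Nat.card_le_card_of_injective f fun C D e => Subtype.ext (by rw [← hf C, ← hf D, e])

end Cfsg.Agent.S1512
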