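import Cfsg.Statements.S1524
import Cfsg.Agent.H44.Sibley
import Cfsg.Agent.H44.Bridge
import Cfsg.Agent.H6.Fcore

set_option autoImplicit false
open Cfsg

namespace Cfsg.Agent.S1524

open H42 H44 Submodule H46

/-- Let G be a finite group and H ≤ L subgroups with L of odd order, H ≠ ⊥ nilpotent and normal in L with a nontrivial complement W₁ in L (H ⊓ W₁ = ⊥, H ⊔ W₁ = L) acting on H without non-identity fixed points (L is a Frobenius group with kernel H), and suppose the underlying set of H is a TI-subset of G whose normaliser is L. Let S be the set of functions on L induced from the non-principal irreducible characters of H. Then (S, L minus 1, induction to G) is coherent. -/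
theorem result {G : Type*} [Group G] [Fintype G] (H L W₁ : Subgroup G) [Fintype L] (hodd : Odd (Nat.card L)) (hHL : H ≤ L) (hW₁L : W₁ ≤ L) (hH1 : H ≠ ⊥) (hW1 : W₁ ≠ ⊥) (hnil : Group.IsNilpotent H) (hHn : ∀ x ∈ L, ∀ h ∈ H, x * h * x⁻¹ ∈ H) (hinf : H ⊓ W₁ = ⊥) (hsup : H ⊔ W₁ = L) (hfpf : ∀ w ∈ W₁, w ≠ 1 → ∀ h ∈ H, w * h = h * w → h = 1) (hTI : Cfsg.IsTISubset (H : Set G)) (hN : Subgroup.normalizer (H : Set G) = L) : Cfsg.IsCoherent (Cfsg.inducedIrrAbove (H.subgroupOf L) ⊥) {1}ᶜ (fun α : L → ℂ => Cfsg.indFun L α) := by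
  have hTI' : NormedTI ((H : Set G) \ {1}) L := hN ▸ H6.normedTI_of_isTISubset hTI hH1
  have hn : L ≤ Nrm H := hN.ge
  have hF : IsFrob H W₁ L := ⟨⟨hW₁L.trans hn, hinf, hsup⟩, hH1, hW1, fun w hw h1 =>
    le_bot_iff.1 fun h hh => Subgroup.mem_bot.2 (hfpf w hw h1 h hh.1 (mem_cent1.1 hh.2).symm)⟩
  obtain ⟨φ, hφ⟩ := sIndD_nonempty (L := L) (H := H) (K := H) bot_le (NormalIn.bot H).2
    fun h => hH1 (le_bot_iff.1 h)
  exact isCoherent_of_coh_sub (sibley_coherence_frob hodd hnil hTI' hF) (ext_image_inducedIrrAbove hHL)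
    (fun θ => (ind_top_ext L θ).symm) (nondeg_of_star hφ (sIndD.star_mem hφ)
      (sIndT.isChar hHL (sIndD_subset_T hφ)) (sIndD.star_ne hHL hn hodd le_rfl hφ))

end Cfsg.Agent.S1524
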