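import Cfsg.Statements.S1527
import Cfsg.Agent.Base
import Cfsg.Agent.H45.Sec7c

set_option autoImplicit false
open Cfsg

namespace Cfsg.Agent.S1527

/-- Let G be a finite group and H i (i in a finite index type) subgroups of pairwise coprime orders, each of whose underlying sets is a TI-subset of G, such that every non-identity element of G is conjugate to an element of some H i. Then Nat.card G − 1 = Σ_i [G : N_G(H i)] · (Nat.card (H i) − 1). -/
theorem result {G : Type*} [Group G] [Finite G] {ι : Type*} [Fintype ι] (H : ι → Subgroup G) (hcop : ∀ i j, i ≠ j → Nat.Coprime (Nat.card (H i)) (Nat.card (H j))) (hTI : ∀ i, Cfsg.IsTISubset (H i : Set G)) (hcover : ∀ g : G, g ≠ 1 → ∃ i, ∃ x : G, x * g * x⁻¹ ∈ H i) : Nat.card G - 1 = ∑ i, (Subgroup.normalizer (H i : Set G)).index * (Nat.card (H i) - 1) := by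
  have h := H45.sum_cover Finset.univ
    (S := fun i => H45.dadeSupp ((H i : Set G) \ {1}) fun _ => ⊥)
    (fun i _ j _ hij => H45.disjoint_dadeSupp_of_coprime (hcop i j hij)) (G0 := {1}) (fun g => by
      simp only [Finset.mem_singleton, H45.mem_dadeSupp_diff_one, Finset.mem_univ, forall_true_left]
      refine ⟨fun h _ h' => h'.1 h, fun h => ?_⟩
      by_contra h1
      obtain ⟨i, hi⟩ := hcover g h1
      exact h i ⟨h1, hi⟩) fun _ => 1
  simp only [H45.finsum_mem_one_eq_card, Finset.sum_const, H42.card_els, Subgroup.card_top,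
    nsmul_eq_mul, mul_one, Finset.card_singleton, Nat.cast_one] at h
  apply Nat.cast_injective (R := ℝ)
  rw [Nat.cast_sub Nat.card_pos, h, Nat.cast_one, add_sub_cancel_left, Nat.cast_sum]
  refine Finset.sum_congr rfl fun i _ => ?_
  have h1 := H45.card_dadeSupp (H45.dade_of_TI_subgroup (hTI i))
  have hG : (Nat.card G : ℝ) ≠ 0 := Nat.cast_ne_zero.2 Nat.card_pos.ne'
  have hN : (Nat.card (Subgroup.normalizer (H i : Set G)) : ℝ) ≠ 0 :=
    Nat.cast_ne_zero.2 Nat.card_pos.ne'
  rw [H45.card_diff_one, inv_mul_eq_iff_eq_mul₀ hG,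
    ← (Subgroup.normalizer (H i : Set G)).index_mul_card] at h1
  rw [h1, Nat.cast_mul, Nat.cast_mul, Nat.cast_sub Nat.card_pos, Nat.cast_one]
  field_simp

end Cfsg.Agent.S1527
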