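import Cfsg.Statements.S1532
import Cfsg.Agent.H44.FeitSibley
import Cfsg.Agent.H6.Fcore

set_option autoImplicit false
open Cfsg

namespace Cfsg.Agent.S1532

open H42 H44 Submodule H46

/-- Let G be a finite group, p an odd prime and P a Sylow p-subgroup that is non-abelian, whose underlying set is a TI-subset of G, with P properly contained in its set normaliser N and C_G(x) ≤ P for every non-identity x ∈ P. Let Z be a nontrivial subgroup of the centre of P normalised by N. Then the set of irreducible characters χ of N with χ z ≠ χ 1 for some z ∈ Z is coherent for the map induced by induction from N to G. -/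
theorem result {G : Type*} [Group G] [Fintype G] (p : ℕ) [Fact p.Prime] (hp : p ≠ 2) (P : Sylow p G) (hna : ¬ IsMulCommutative (P : Subgroup G)) (hTI : Cfsg.IsTISubset ((P : Subgroup G) : Set G)) (hlt : (P : Subgroup G) < Subgroup.normalizer ((P : Subgroup G) : Set G)) (hC : ∀ k ∈ (P : Subgroup G), k ≠ 1 → Subgroup.centralizer ({k} : Set G) ≤ (P : Subgroup G)) [Fintype ↥(Subgroup.normalizer ((P : Subgroup G) : Set G))] (Z : Subgroup G) (hZ1 : Z ≠ ⊥) (hZP : ∀ z ∈ Z, z ∈ (P : Subgroup G) ∧ ∀ y ∈ (P : Subgroup G), z * y = y * z) (hZn : ∀ x ∈ Subgroup.normalizer ((P : Subgroup G) : Set G), ∀ z ∈ Z, x * z * x⁻¹ ∈ Z) : Cfsg.IsCoherent {χ : ↥(Subgroup.normalizer ((P : Subgroup G) : Set G)) → ℂ | Cfsg.IsIrrCharacter ↥(Subgroup.normalizer ((P : Subgroup G) : Set G)) χ ∧ ∃ z : ↥(Subgroup.normalizer ((P : Subgroup G) : Set G)), (z : G) ∈ Z ∧ χ z ≠ χ 1} {1}ᶜ (fun α => Cfsg.indFun (Subgroup.normalizer ((P : Subgroup G) : Set G)) α) := by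
  have hZK : Z ≤ P := fun z hz => (hZP z hz).1
  have hTI' := H6.normedTI_of_isTISubset hTI (ne_bot_of_le hZK hZ1)
  have hKL := normalIn_nrm (P : Subgroup G)
  have hc : ∀ x ∈ (P : Subgroup G), x ≠ 1 → Nrm P ⊓ Cent1 x ≤ P :=
    fun x hx h1 => inf_le_right.trans (hC x hx h1)
  obtain ⟨m, hm⟩ := P.isPGroup'.exists_card_eq
  have hodd : Odd (Nat.card (Nrm (P : Subgroup G))) := by_contra fun h => hna (comm_of_not_odd hKL hc
    (hm ▸ ((Fact.out : p.Prime).odd_of_ne_two hp).pow) h)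
  have hn : Nrm (P : Subgroup G) ≤ Nrm Z := Subgroup.le_normalizer_iff.2 hZn
  obtain ⟨φ, hφ⟩ := sIndD_nonempty (L := Nrm (P : Subgroup G)) (H := Z) (K := P) bot_le
    (NormalIn.bot _).2 fun h => hZ1 (le_bot_iff.1 h)
  exact isCoherent_of_coh_sub (coh_central_of_TI hTI' hc hodd P.isPGroup'.isNilpotent
    (fun z hz => ⟨hZK hz, mem_cent.2 fun y hy => ((hZP z hz).2 y hy).symm⟩) hn)
    (ext_image_not_ker hKL hc hZK hn) (fun θ => (ind_top_ext _ θ).symm)
    (nondeg_of_star hφ (sIndD.star_mem hφ) (sIndT.isChar hKL.1 (sIndD_subset_T hφ))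
      (sIndD.star_ne hKL.1 hKL.2 hodd hZK hφ))

end Cfsg.Agent.S1532
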