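import Cfsg.Statements.S1533
import Cfsg.Agent.H44.FeitSibley
import Cfsg.Agent.H6.Fcore

set_option autoImplicit false
open Cfsg

namespace Cfsg.Agent.S1533

open H42 H44 Submodule H46

/-- Let G be a finite group, p an odd prime, and P a nontrivial Sylow p-subgroup whose underlying set is a TI-subset of G, with P properly contained in its set normaliser N and C_G(x) ≤ P for every non-identity x ∈ P. Let S be the set of irreducible characters χ of N with χ x ≠ χ 1 for some x ∈ P. Then either S has exactly one member, P is elementary abelian and Nat.card P = [N:P] + 1; or (S, N minus 1, induction to G) is coherent. -/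
theorem result {G : Type*} [Group G] [Fintype G] (p : ℕ) [Fact p.Prime] (hp : p ≠ 2) (P : Sylow p G) (hP1 : (P : Subgroup G) ≠ ⊥) (hTI : Cfsg.IsTISubset ((P : Subgroup G) : Set G)) (hlt : (P : Subgroup G) < Subgroup.normalizer ((P : Subgroup G) : Set G)) (hC : ∀ k ∈ (P : Subgroup G), k ≠ 1 → Subgroup.centralizer ({k} : Set G) ≤ (P : Subgroup G)) [Fintype ↥(Subgroup.normalizer ((P : Subgroup G) : Set G))] : (Nat.card {χ : ↥(Subgroup.normalizer ((P : Subgroup G) : Set G)) → ℂ // Cfsg.IsIrrCharacter ↥(Subgroup.normalizer ((P : Subgroup G) : Set G)) χ ∧ ∃ x : ↥(Subgroup.normalizer ((P : Subgroup G) : Set G)), (x : G) ∈ (P : Subgroup G) ∧ χ x ≠ χ 1} = 1 ∧ Cfsg.IsElementaryAbelian p (P : Subgroup G) ∧ Nat.card (P : Subgroup G) = ((P : Subgroup G).subgroupOf (Subgroup.normalizer ((P : Subgroup G) : Set G))).index + 1) ∨ Cfsg.IsCoherent {χ : ↥(Subgroup.normalizer ((P : Subgroup G) : Set G)) → ℂ | Cfsg.IsIrrCharacter ↥(Subgroup.normalizer ((P : Subgroup G)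 : Set G)) χ ∧ ∃ x : ↥(Subgroup.normalizer ((P : Subgroup G) : Set G)), (x : G) ∈ (P : Subgroup G) ∧ χ x ≠ χ 1} {1}ᶜ (fun α => Cfsg.indFun (Subgroup.normalizer ((P : Subgroup G) : Set G)) α) := by
  have hTI' := H6.normedTI_of_isTISubset hTI hP1
  have hKL := normalIn_nrm (P : Subgroup G)
  have hc : ∀ x ∈ (P : Subgroup G), x ≠ 1 → Nrm P ⊓ Cent1 x ≤ P :=
    fun x hx h1 => inf_le_right.trans (hC x hx h1)
  obtain ⟨m, hm⟩ := P.isPGroup'.exists_card_eq
  have him := ext_image_not_ker hKL hc le_rfl hKL.2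
  by_cases hna : IsMulCommutative (P : Subgroup G)
  · rcases comm_TI_cases hTI' hc hna with ⟨h1, h2, h3⟩ | ⟨h1, h2⟩
    · refine Or.inl ⟨?_, h3 p Fact.out (hm ▸ dvd_pow_self p fun e =>
        hP1 (Subgroup.card_eq_one.1 (by rw [hm, e, pow_zero]))), h2⟩
      rw [← h1, ← Set.ncard_coe_finset, ← him, Set.ncard_image_of_injective _ (ext_injective _)]
      rfl
    · exact Or.inr (isCoherent_of_coh_sub h1 him (fun θ => (ind_top_ext _ θ).symm) h2)
  have hodd : Odd (Nat.card (Nrm (P : Subgroup G))) := by_contra fun h => hna (comm_of_not_odd hKL hc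
    (hm ▸ ((Fact.out : p.Prime).odd_of_ne_two hp).pow) h)
  obtain ⟨W, hW⟩ := H45.FrobKer.exists_isFrob ⟨hlt, hP1, le_rfl, hc⟩
  obtain ⟨φ, hφ⟩ := sIndD_nonempty (L := Nrm (P : Subgroup G)) (H := P) (K := P) bot_le
    (NormalIn.bot _).2 fun h => hP1 (le_bot_iff.1 h)
  exact Or.inr (isCoherent_of_coh_sub (sibley_coherence_frob hodd P.isPGroup'.isNilpotent hTI' hW) him
    (fun θ => (ind_top_ext _ θ).symm)
    (nondeg_of_star hφ (sIndD.star_mem hφ) (sIndT.isChar hKL.1 (sIndD_subset_T hφ))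
      (sIndD.star_ne hKL.1 hKL.2 hodd le_rfl hφ)))

end Cfsg.Agent.S1533
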