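import Cfsg.Statements.S1536
import Cfsg.Agent.Base
import Cfsg.Agent.H45.FrobChar
import Cfsg.Agent.H45.Bridge1

set_option autoImplicit false
open Cfsg

namespace Cfsg.Agent.S1536

/-- Let H be a normal subgroup of the finite group M whose order is coprime to its index. For x ∈ M: some non-principal irreducible character of H is unchanged under h ↦ θ(x h x⁻¹) if and only if some non-identity element of H commutes with x. -/
theorem result {M : Type*} [Group M] [Finite M] (H : Subgroup M) [hN : H.Normal] (hHall : Nat.Coprime (Nat.card H) H.index) (x : M) : (∃ θ : H → ℂ, Cfsg.IsIrrCharacter H θ ∧ θ ≠ (fun _ => 1) ∧ (fun h : H => θ ⟨x * h * x⁻¹, hN.conj_mem h h.2 x⟩) = θ) ↔ ∃ h ∈ H, h ≠ 1 ∧ x * h = h * x := by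
  have hn : ∀ g : M, g ∈ Subgroup.normalizer (H : Set M) := fun g =>
    H45.top_le_normalizer H (Subgroup.mem_top g)
  have key : ∀ g : M, (∃ θ : H → ℂ, Cfsg.IsIrrCharacter H θ ∧ θ ≠ (fun _ => 1) ∧
      (fun h : H => θ ⟨g * h * g⁻¹, hN.conj_mem h h.2 g⟩) = θ) ↔
      ∃ θ ∈ H42.Irr H, θ ≠ H42.one H ∧ H42.cj g θ = θ := fun g => by
    constructor
    · rintro ⟨θ, hθ, h1, e⟩
      refine ⟨H42.ext H θ, H42.ext_mem_Irr.2 hθ, fun h => h1 ?_,
        (H45.mem_inertia_ext H θ g).2 fun h => congrFun e h⟩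
      rw [← H42.ext_one] at h
      exact H42.ext_injective H h
    · rintro ⟨θ', hθ', h1, e⟩
      obtain ⟨θ, hθ, rfl⟩ := H42.mem_Irr_iff_exists.1 hθ'
      exact ⟨θ, hθ, fun h => h1 (by rw [h]; exact H42.ext_one H),
        funext ((H45.mem_inertia_ext H θ g).1 e)⟩
  rw [key]
  constructor
  · rintro ⟨θ, hθ, h1, e⟩
    have hb := Nat.gcd_eq_gcd_ab (Nat.card H) H.index
    rw [hHall.gcd_eq_one, Nat.cast_one] at hb
    set a := Nat.gcdA (Nat.card H) H.index
    set b := Nat.gcdB (Nat.card H) H.index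
    have hi : x ^ H.index ∈ H := H.pow_index_mem x
    have hu : (x ^ ((Nat.card H : ℤ) * a)) ^ H.index = 1 := by
      rw [← zpow_natCast, ← zpow_mul, mul_comm, zpow_mul, zpow_mul, zpow_natCast, zpow_natCast,
        H45.dade_pow_card_H (H := fun _ => H) (a := 1) hi, one_zpow]
    have hc : Nat.Coprime (orderOf (x ^ ((Nat.card H : ℤ) * a))) (Nat.card H) :=
      Nat.Coprime.coprime_dvd_left (orderOf_dvd_of_pow_eq_one hu) hHall.symm
    obtain ⟨h, hh, hh1, hcomm⟩ := (H45.exists_fixed_Irr_iff_of_coprime (hn _) hc).1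
      ⟨θ, hθ, h1, (H45.inertia θ).zpow_mem e _⟩
    by_cases hv : x ^ ((H.index : ℤ) * b) = 1
    · refine ⟨h, hh, hh1, ?_⟩
      have : x = x ^ ((Nat.card H : ℤ) * a) := by
        conv_lhs => rw [← zpow_one x, hb, zpow_add, hv, mul_one]
      rw [this]; exact hcomm
    · refine ⟨_, ?_, hv, (Commute.self_zpow x _)⟩
      rw [zpow_mul, zpow_natCast]
      exact H.zpow_mem hi b
  · rintro ⟨h, hh, h1, e⟩
    exact (H45.exists_fixed_Irr_iff (hn x)).2 ⟨h, hh, h1, 1, H.one_mem, by rw [e]; group⟩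

end Cfsg.Agent.S1536
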