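import Cfsg.Statements.S1740
import Cfsg.Agent.Base
import Cfsg.Agent.H27.Syl2K

set_option autoImplicit false
open Cfsg

namespace Cfsg.Agent.S1740

/-- Let G be a non-abelian finite simple group containing an elementary abelian subgroup of order 8, and S a Sylow 2-subgroup of G. Suppose S is isomorphic to a Sylow 2-subgroup of one of: the projective special linear group of dimension 2 or 3 over a field F with 2^n elements, the projective symplectic group of dimension 4 over such F (n ≥ 2), the projective special unitary group of dimension 3 over the field with 4^n elements, or the Suzuki group over the field with 2^n elements (n odd, n ≥ 3). Then G is isomorphic to that same group over the same field, or G is a Ree group of type G₂ in characteristic 3, or G is the first Janko group. -/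
theorem result {G : Type*} [Group G] [Finite G] [IsSimpleGroup G]
    (hG : ¬ IsMulCommutative G) (h3 : ¬ Cfsg.PRankLE 2 2 G) (S : Sylow 2 G) (n : ℕ)
    (hS : (∃ (F : Type) (_ : Field F) (_ : Fintype F), Fintype.card F = 2 ^ n ∧ ((∃ P : Sylow 2 (Matrix.ProjectiveSpecialLinearGroup (Fin 2) F), Nonempty (↥(S : Subgroup G) ≃* ↥(P : Subgroup (Matrix.ProjectiveSpecialLinearGroup (Fin 2) F)))) ∨ (∃ P : Sylow 2 (Matrix.ProjectiveSpecialLinearGroup (Fin 3) F), Nonempty (↥(S : Subgroup G) ≃* ↥(P : Subgroup (Matrix.ProjectiveSpecialLinearGroup (Fin 3) F)))) ∨ (2 ≤ n ∧ (∃ P : Sylow 2 (Cfsg.PSp 2 F), Nonempty (↥(S : Subgroup G) ≃* ↥(P : Subgroup (Cfsg.PSp 2 F))))))) ∨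
      (∃ (F : Type) (_ : Field F) (_ : Fintype F), Fintype.card F = 4 ^ n ∧ (∃ P : Sylow 2 (Cfsg.PSU 3 F (2 ^ n)), Nonempty (↥(S : Subgroup G) ≃* ↥(P : Subgroup (Cfsg.PSU 3 F (2 ^ n)))))) ∨
      (∃ m : ℕ, 1 ≤ m ∧ n = 2 * m + 1 ∧ ∃ (F : Type) (_ : Field F) (_ : Fintype F), Fintype.card F = 2 ^ n ∧ (∃ P : Sylow 2 ↥(Cfsg.Lie.Sz F (2 ^ (m + 1))), Nonempty (↥(S : Subgroup G) ≃* ↥(P : Subgroup ↥(Cfsg.Lie.Sz F (2 ^ (m + 1)))))))) :
    (∃ (F : Type) (_ : Field F) (_ : Fintype F), Fintype.card F = 2 ^ n ∧ (Nonempty (G ≃* Matrix.ProjectiveSpecialLinearGroup (Fin 2) F) ∨ Nonempty (G ≃* Matrix.ProjectiveSpecialLinearGroup (Fin 3) F) ∨ Nonempty (G ≃* Cfsg.PSp 2 F))) ∨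
      (∃ (F : Type) (_ : Field F) (_ : Fintype F), Fintype.card F = 4 ^ n ∧ Nonempty (G ≃* Cfsg.PSU 3 F (2 ^ n))) ∨
      (∃ m : ℕ, 1 ≤ m ∧ n = 2 * m + 1 ∧ ∃ (F : Type) (_ : Field F) (_ : Fintype F), Fintype.card F = 2 ^ n ∧ Nonempty (G ≃* ↥(Cfsg.Lie.Sz F (2 ^ (m + 1))))) ∨
      Cfsg.Lie.IsoRee G ∨ Cfsg.Spor.IsoJ1 G := by
  open H27.K2 in
  rcases hS with ⟨F, _, _, hF, ⟨P, ⟨e⟩⟩ | ⟨P, ⟨e⟩⟩ | ⟨hn, P, ⟨e⟩⟩⟩ | ⟨F, _, _, hF, P, ⟨e⟩⟩ |
    ⟨m, hm, rfl, F, _, _, hF, P, ⟨e⟩⟩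
  · exact of_om hG h3 S ((om_l2 hF P).congr e)
  · have := char_two hF
    obtain ⟨f⟩ := bg_l3 hF P
    refine of_bg hG h3 S CharTwo.add_self_eq_zero (fun a d h => mul_eq_zero.1 h) (e.trans f) hF
      fun h => ?_
    rw [Nat.card_prod, Nat.card_eq_fintype_card, hF] at h
    by_contra h1
    have : n = 0 ∨ n = 1 := by omega
    rcases this with rfl | rfl <;> simp at h
  · have := char_two hF
    obtain ⟨f⟩ := bg_s4 hF P
    exact of_bg hG h3 S (fun z => Prod.ext (CharTwo.add_self_eq_zero _) (CharTwo.add_self_eq_zero _))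
      (fun a d h => mul_eq_zero.1 (congrArg Prod.fst h)) (e.trans f) hF fun _ => hn
  · exact of_om hG h3 S ((om_u3 (hF.trans (four_pow n)) P).congr e)
  · exact of_om hG h3 S ((om_sz hm hF P).congr e)

end Cfsg.Agent.S1740
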