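import Cfsg.Statements.S1755
import Cfsg.Agent.H28.SyT

set_option autoImplicit false
open Cfsg

namespace Cfsg.Agent.S1755
open _root_.H28

open Subgroup H46 H78 H28.Hall

/-- Let G be a finite group and let z be an involution of G such that Q, the generalized Fitting subgroup of the centralizer C of z, is a 2-group of symplectic type (every characteristic abelian subgroup of Q is cyclic). Let B be a characteristic abelian subgroup of Q, viewed as a subgroup of G. Then for every g in G, the conjugate of B by g either equals B or meets B trivially. -/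
theorem result {G : Type*} [Group G] [Finite G] (z : G) (hz : orderOf z = 2) (hQ : Cfsg.IsOfSymplecticType ↥(Cfsg.generalizedFittingSubgroup ↥(Subgroup.centralizer ({z} : Set G))))
    (B : Subgroup ↥(Cfsg.generalizedFittingSubgroup ↥(Subgroup.centralizer ({z} : Set G)))) (hBc : B.Characteristic) (hBa : IsMulCommutative ↥B) (g : G) :
    ((B.map (Cfsg.generalizedFittingSubgroup ↥(Subgroup.centralizer ({z} : Set G))).subtype).map (Subgroup.centralizer ({z} : Set G)).subtype).map (MulAut.conj g).toMonoidHom =
        (B.map (Cfsg.generalizedFittingSubgroup ↥(Subgroup.centralizer ({z} : Set G))).subtype).map (Subgroup.centralizer ({z} : Set G)).subtype ∨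
      ((B.map (Cfsg.generalizedFittingSubgroup ↥(Subgroup.centralizer ({z} : Set G))).subtype).map (Subgroup.centralizer ({z} : Set G)).subtype).map (MulAut.conj g).toMonoidHom ⊓
        (B.map (Cfsg.generalizedFittingSubgroup ↥(Subgroup.centralizer ({z} : Set G))).subtype).map (Subgroup.centralizer ({z} : Set G)).subtype = ⊥ := by
  have h := sy_of_fstar hz hQ
  have hF := H14.fstar_normal ↥(Subgroup.centralizer ({z} : Set G))
  have hN : (B.map (generalizedFittingSubgroup ↥(centralizer ({z} : Set G))).subtype).Normal :=
    inferInstance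
  have hc := hQ.2 B hBc hBa
  have hle := map_mono (f := (centralizer ({z} : Set G)).subtype)
    (map_subtype_le (H := generalizedFittingSubgroup ↥(centralizer ({z} : Set G))) B)
  have hc' := isCyclic_of_surjective _ ((equivMapOfInjective B _ (subtype_injective _)).trans
    (equivMapOfInjective _ _ (subtype_injective (centralizer ({z} : Set G))))).surjective
  have hn : ∀ c : G, c * z = z * c → ∀ x ∈ (B.map (generalizedFittingSubgroup
      ↥(centralizer ({z} : Set G))).subtype).map (centralizer ({z} : Set G)).subtype,
      c * x * c⁻¹ ∈ (B.map (generalizedFittingSubgroup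
      ↥(centralizer ({z} : Set G))).subtype).map (centralizer ({z} : Set G)).subtype := by
    rintro c hc _ ⟨y, hy, rfl⟩
    exact ⟨_, hN.conj_mem y hy ⟨c, mem_cent1.2 hc⟩, rfl⟩
  generalize (B.map (generalizedFittingSubgroup ↥(centralizer ({z} : Set G))).subtype).map
    (centralizer ({z} : Set G)).subtype = A at *
  have key : ∀ w ∈ A, orderOf w = 2 → w = z := fun w hw ow =>
    (h.eq_z (hle hw) (fun y hy => by
      have e := (eq_of_cyclic hc' (hn y (h.z_comm y hy).symm w hw) hw ow (by
        rw [conj_mul, mul_self_of_orderOf_two ow]; group)).resolve_left fun e =>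
          ne_one_of_orderOf_two ow (conj_eq_one_iff.1 e)
      rw [mul_inv_eq_iff_eq_mul] at e
      exact e.symm) (mul_self_of_orderOf_two ow)).resolve_left (ne_one_of_orderOf_two ow)
  refine or_iff_not_imp_right.2 fun hb => ?_
  have hp : IsPGroup 2 (cj g A ⊓ A : Subgroup G) := h.pgroup.to_le (inf_le_right.trans hle)
  obtain ⟨k, hk⟩ := hp.exists_card_eq
  obtain ⟨w, ow⟩ := exists_prime_orderOf_dvd_card' (G := (cj g A ⊓ A : Subgroup G)) 2 (by
    rw [hk]
    exact dvd_pow_self 2 fun e => hb (card_eq_one.1 (by rw [hk, e, pow_zero])))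
  have ow' : orderOf (w : G) = 2 := (orderOf_coe w).trans ow
  have e1 := key _ w.2.2 ow'
  have e2 := key _ (mem_cj.1 w.2.1) (by
    rw [← ow', ← H46.orderOf_conj g⁻¹ (w : G), inv_inv])
  rw [e1, mul_assoc, inv_mul_eq_iff_eq_mul] at e2
  exact cj_of_mem_nrm (mem_normalizer_of_conj_mem (hn g e2.symm))

end Cfsg.Agent.S1755
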