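import Cfsg.Statements.S1771
import Cfsg.Agent.Base
import Cfsg.Agent.H15.BGAll

set_option autoImplicit false
open Cfsg

namespace Cfsg.Agent.S1771

/-- Let G be a finite group with no nontrivial normal subgroup of odd order in which every section has the B-property; let A be a standard subgroup of G which is not normal in G, whose centralizer has cyclic Sylow 2-subgroups, and let t be an involution centralizing A. Suppose A modulo its centre is isomorphic to the projective special unitary group of dimension 3 over the field with 4^a elements (a ≥ 2). Then either the layer E(G) is isomorphic to A × A, or E(G) is a group of Lie type in characteristic 2 (here including the Tits group) on which t induces an outer automorphism (no element of E(G) induces the same conjugation action on E(G) as t). -/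
theorem result {G : Type*} [Group G] [Finite G] (hO : Cfsg.oddCore G = ⊥) (hB : Cfsg.HasStrongBProperty G)
    (A : Subgroup G) (hA : Cfsg.IsStandardSubgroup A) (hnA : ¬ A.Normal)
    (hR : ∀ R : Sylow 2 ↥(Subgroup.centralizer (A : Set G)), IsCyclic ↥(R : Subgroup ↥(Subgroup.centralizer (A : Set G))))
    (t : G) (ht : orderOf t = 2) (htA : t ∈ Subgroup.centralizer (A : Set G))
    {F : Type*} [Field F] [Fintype F] (a : ℕ) (ha : 2 ≤ a) (hF : Fintype.card F = 4 ^ a)
    (hAX : Nonempty (↥A ⧸ Subgroup.center ↥A ≃* Cfsg.PSU 3 F (2 ^ a))) :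
    Nonempty (↥(Cfsg.layer G) ≃* ↥A × ↥A) ∨ ((Cfsg.IsLieTypeChar 2 ↥(Cfsg.layer G) ∨ Cfsg.Lie.IsoTits ↥(Cfsg.layer G)) ∧ ¬ (∃ e : G, e ∈ Cfsg.layer G ∧ ∀ x ∈ Cfsg.layer G, t * x * t⁻¹ = e * x * e⁻¹)) := by
  exact H15.BG.s1771 H15.BG.j0 H15.BG.j1 hO hA hnA hR ht htA ha hF hAX

end Cfsg.Agent.S1771
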