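import Cfsg.Statements.S1774
import Cfsg.Agent.H28.SyT
import Cfsg.Agent.H78.Sing
import Cfsg.Agent.H78.Four

set_option autoImplicit false
open Cfsg

namespace Cfsg.Agent.S1774
open _root_.H28

open Subgroup H46 H78 H28.Hall

/-- Let G be a finite group and let z be an involution of G such that Q, the generalized Fitting subgroup of the centralizer C of z, is a 2-group of symplectic type (every characteristic abelian subgroup of Q is cyclic); suppose every element of Q has order dividing 4. Let g ∈ G with z' = g z g⁻¹ ≠ z and z' ∈ Q. Then z lies in the conjugate g Q g⁻¹, and the subgroup X generated by Q and g Q g⁻¹ induces every automorphism of the four-group generated by z and z': for any two distinct non-identity elements u, v of that four-group there is x ∈ X with x z x⁻¹ = u and x z' x⁻¹ = v. -/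
theorem result {G : Type*} [Group G] [Finite G] (z : G) (hz : orderOf z = 2) (hQ : Cfsg.IsOfSymplecticType ↥(Cfsg.generalizedFittingSubgroup ↥(Subgroup.centralizer ({z} : Set G))))
    (h4 : ∀ q ∈ (Cfsg.generalizedFittingSubgroup ↥(Subgroup.centralizer ({z} : Set G))).map (Subgroup.centralizer ({z} : Set G)).subtype, q ^ 4 = 1) (g : G) (hne : g * z * g⁻¹ ≠ z) (hin : g * z * g⁻¹ ∈ (Cfsg.generalizedFittingSubgroup ↥(Subgroup.centralizer ({z} : Set G))).map (Subgroup.centralizer ({z} : Set G)).subtype) :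
    z ∈ ((Cfsg.generalizedFittingSubgroup ↥(Subgroup.centralizer ({z} : Set G))).map (Subgroup.centralizer ({z} : Set G)).subtype).map (MulAut.conj g).toMonoidHom ∧
      ∀ u ∈ Subgroup.closure ({z, g * z * g⁻¹} : Set G), ∀ v ∈ Subgroup.closure ({z, g * z * g⁻¹} : Set G),
        u ≠ 1 → v ≠ 1 → u ≠ v →
          ∃ x ∈ (Cfsg.generalizedFittingSubgroup ↥(Subgroup.centralizer ({z} : Set G))).map (Subgroup.centralizer ({z} : Set G)).subtype ⊔ ((Cfsg.generalizedFittingSubgroup ↥(Subgroup.centralizer ({z} : Set G))).map (Subgroup.centralizer ({z} : Set G)).subtype).map (MulAut.conj g).toMonoidHom, x * z * x⁻¹ = u ∧ x * (g * z * g⁻¹) * x⁻¹ = v := by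
  have h := sy_of_fstar hz hQ
  have hP := h.conj g
  have h4' : ∀ x ∈ cj g (FC z), x ^ 4 = 1 := by
    rintro _ ⟨x, hx, rfl⟩
    rw [← map_pow, h4 x hx, map_one]
  have hzP : z ∈ cj g (FC z) := by
    rcases h.xs_or h4 hin hP.z_ne hne hP.z_sq with hL | ⟨b, hb, hc, bb⟩
    · have e := eq_O2C_of_fstar rfl h.pgroup
      have := LX.symm_O2C (z := z) (g := g) (e ▸ hL) (e ▸ hin)
      rwa [O2C_conj, e] at this
    · exact h.symm_of_central h4 hb hc bb hin hne
  refine ⟨hzP, fun u hu v hv u1 v1 uv => ?_⟩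
  have f : Four z (g * z * g⁻¹) := ⟨h.z_ne, hP.z_ne, hne, h.z_sq, hP.z_sq, h.z_comm _ hin⟩
  obtain ⟨q, hq, q1, q2⟩ := h.exists_conj h4 hin hP.z_ne hne hP.z_sq
  obtain ⟨p, hp, p1, p2⟩ := hP.exists_conj h4' hzP h.z_ne hne.symm h.z_sq
  rw [← f.comm] at p2
  obtain ⟨r1, r2⟩ := swap_of h.z_sq hP.z_sq q1 q2 p1 p2
  have hq' : q ∈ FC z ⊔ cj g (FC z) := mem_sup_left hq
  have hp' : p ∈ FC z ⊔ cj g (FC z) := mem_sup_right hp
  generalize g * z * g⁻¹ = s at *
  have c : ∀ a b x : G, a * b * x * (a * b)⁻¹ = a * (b * x * b⁻¹) * a⁻¹ := fun a b x => by group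
  rcases ((f.mem_V u).1 hu).resolve_left u1 with rfl | rfl | rfl <;>
    rcases ((f.mem_V v).1 hv).resolve_left v1 with rfl | rfl | rfl
  · exact absurd rfl uv
  · exact ⟨1, one_mem _, by group, by group⟩
  · exact ⟨q, hq', q1, q2⟩
  · exact ⟨_, mul_mem (mul_mem hp' hq') hp', r1, r2⟩
  · exact absurd rfl uv
  · exact ⟨q * p, mul_mem hq' hp', by rw [c, p2, ← conj_mul, q1, q2, f.z_zs], by rw [c, p1, q2]⟩
  · exact ⟨p * q, mul_mem hp' hq', by rw [c, q1, p2], by rw [c, q2, ← conj_mul, p1, p2, f.zs_s]⟩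
  · exact ⟨p, hp', p2, p1⟩
  · exact absurd rfl uv

end Cfsg.Agent.S1774
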