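import Cfsg.Statements.S1775
import Cfsg.Agent.H14.PTerm2
import Cfsg.Agent.H42.OddOrder

set_option autoImplicit false
open Cfsg Subgroup H14 H98

namespace Cfsg.Agent.S1775

open Subgroup H14 H98 in
theorem key {G : Type*} [Group G] [Finite G] (H : Subgroup G)
    (hB : HasBProperty (H ⧸ pPrimeCore 2 H)) (x : H) (hx : orderOf (x : G) = 2) {J : Subgroup G}
    (hJ : PC 2 J (H ⊓ centralizer ({(x : G)} : Set G))) :
    CP (bar 2 H J) (centralizer {pq 2 H x}) := by
  have hx' : orderOf x = 2 := by rw [← Subgroup.orderOf_coe, hx]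
  have hxp : IsPGroup 2 (zpowers x) := by
    refine IsPGroup.of_card (n := 1) ?_
    rw [Nat.card_zpowers, hx', pow_one]
  have h2 : PC 2 (bar 2 H J) (bar 2 H (H ⊓ centralizer ({(x : G)} : Set G))) :=
    (hJ.subgroupOf inf_le_left).map_of_coprime_ker (pq 2 H)
      (Nat.Coprime.coprime_dvd_left (card_dvd_of_le inf_le_left) coprime_ker_pq)
  rw [bar_centralizer x hxp, top_inf_eq] at h2
  have hx2 : orderOf (pq 2 H x) = 2 := by
    refine orderOf_eq_prime (by rw [← map_pow, ← hx', pow_orderOf_eq_one, map_one]) fun h => ?_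
    have h1 := (Nat.Coprime.coprime_dvd_left
      ((pq 2 H).ker.orderOf_dvd_natCard (MonoidHom.mem_ker.mpr h)) coprime_ker_pq)
    rw [hx'] at h1
    exact absurd h1 (by norm_num)
  have h3 := hB _ hx2
  rw [oddCore, oddCore, H2.pPrimeCore_quotient_pPrimeCore, map_commutator, le_bot_iff] at h3
  refine ⟨h2.subN, h2.quasi_iff.mpr (le_bot_iff.mp (h3 ▸ commutator_mono h2.le_pLayerOf le_rfl))⟩

/-- Let G be a finite group whose generalized Fitting subgroup is a non-abelian simple group and in which every proper section (every quotient H/N of a proper subgroup H, or of G by a nontrivial normal subgroup) has the B-property. Let x, y be commuting involutions, let D be the intersection of the 2-layer of C_G(x) with C_G(y), and let J be a 2-component of D. Write Q for the quotient of C_G(y) by its largest normal odd-order subgroup. Then (i) the image of J in Q is a component of the centralizer in Q of the image of x; and (ii) for every J-invariant subgroup E of odd order of C_G(x) ∩ C_G(y), the commutator subgroup [J, E] lies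 in the largest normal odd-order subgroup of C_G(y). -/
theorem result {G : Type*} [Group G] [Finite G]
    (hF : IsSimpleGroup ↥(Cfsg.generalizedFittingSubgroup G)) (hF' : ¬ IsMulCommutative ↥(Cfsg.generalizedFittingSubgroup G))
    (hsec : ∀ (H : Subgroup G) (N : Subgroup ↥H) [N.Normal], (H ≠ ⊤ ∨ N ≠ ⊥) → Cfsg.HasBProperty (↥H ⧸ N))
    (x y : G) (hx : orderOf x = 2) (hy : orderOf y = 2) (hxy : x * y = y * x)
    (J : Subgroup ↥((Cfsg.pLayer 2 ↥(Subgroup.centralizer ({x} : Set G))).map (Subgroup.centralizer ({x} : Set G)).subtype ⊓ Subgroup.centralizer ({y} : Set G)))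
    (hJ : Cfsg.IsPComponent 2 J) :
    Cfsg.IsComponent
        ((((J.map (Subgroup.subtype _)).subgroupOf (Subgroup.centralizer ({y} : Set G))).map (QuotientGroup.mk' (Cfsg.oddCore ↥(Subgroup.centralizer ({y} : Set G))))).subgroupOf
          (Subgroup.centralizer ({(QuotientGroup.mk' (Cfsg.oddCore ↥(Subgroup.centralizer ({y} : Set G))) ⟨x, Subgroup.mem_centralizer_singleton_iff.mpr hxy⟩ : ↥(Subgroup.centralizer ({y} : Set G)) ⧸ Cfsg.oddCore ↥(Subgroup.centralizer ({y} : Set G)))} : Set _))) ∧
      ∀ E : Subgroup G, E ≤ Subgroup.centralizer ({x} : Set G) ⊓ Subgroup.centralizer ({y} : Set G) → Odd (Nat.card ↥E) →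
        (∀ j ∈ J.map (Subgroup.subtype _), ∀ e ∈ E, j * e * j⁻¹ ∈ E) →
          ⁅J.map (Subgroup.subtype _), E⁆ ≤ (Cfsg.oddCore ↥(Subgroup.centralizer ({y} : Set G))).map (Subgroup.centralizer ({y} : Set G)).subtype := by
  open Subgroup H14 H98 in
  have hne : centralizer ({y} : Set G) ≠ ⊤ := by
    intro h
    have hc : ∀ g : G, g * y = y * g := fun g =>
      mem_centralizer_singleton_iff.mp (h ▸ mem_top g)
    have hn : (zpowers y).Normal := ⟨fun n hn g => by
      obtain ⟨k, rfl⟩ := hn
      have : Commute g (y ^ k) := (show Commute g y from hc g).zpow_right k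
      simp only
      rw [this.eq, mul_inv_cancel_right]; exact zpow_mem (mem_zpowers y) k⟩
    have h1 : zpowers y ≤ generalizedFittingSubgroup G := by
      rw [← fstarOf_top]
      refine le_trans (le_fitOf le_top (by rw [normalizer_eq_top]) ?_) (fitOf_le_fstarOf _)
      open scoped IsMulCommutative in infer_instance
    rcases (hn.subgroupOf (generalizedFittingSubgroup G)).eq_bot_or_eq_top with h2 | h2
    · have := (subgroupOf_eq_bot_iff_of_le h1).mp h2
      rw [zpowers_eq_bot] at this
      rw [this, orderOf_one] at hy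
      exact absurd hy (by norm_num)
    · refine hF' ⟨⟨fun a b => Subtype.ext ?_⟩⟩
      obtain ⟨k, hk⟩ : (a : G) ∈ zpowers y := (h2 ▸ mem_top a : a ∈ _)
      simp only at hk
      simp only [Subgroup.coe_mul, ← hk]
      exact ((show Commute (b : G) y from hc b).zpow_right k).eq.symm
  let H := centralizer ({y} : Set G)
  have hxH : x ∈ H := mem_centralizer_singleton_iff.mpr hxy
  have hJ1 := pc_map_subtype hJ
  have hJ2 : PC 2 (J.map (Subgroup.subtype _)) (H ⊓ centralizer ({x} : Set G)) := by
    refine hJ1.trans ?_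
    rw [inf_comm H]
    exact (subN_pLayerOf (p := 2) (centralizer ({x} : Set G))).inf_right H
  have hk := key H (hsec H _ (Or.inl hne)) ⟨x, hxH⟩ hx hJ2
  refine ⟨hk.comp, fun E hE ho hn => ?_⟩
  have hJH := hJ2.le.trans inf_le_left
  have hEH : E ≤ H := hE.trans inf_le_right
  refine (bar_eq_bot_iff (p := 2) ((commutator_le_of_le hJH hEH))).mp ?_
  rw [bar_commutator hJH hEH]
  refine hk.commutator_solvable ?_ ?_ ?_
  · rw [← top_inf_eq (centralizer _), ← bar_centralizer (p := 2) ⟨x, hxH⟩ (IsPGroup.of_card (n := 1)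
      (by rw [Nat.card_zpowers, ← Subgroup.orderOf_coe, pow_one]; exact hx))]
    exact bar_mono (le_inf hEH (hE.trans inf_le_left))
  · rintro _ ⟨j, hj, rfl⟩
    refine pq_mem_normalizer_bar hEH ?_
    exact mem_normalizer_fintype (fun e he => hn _ hj e he)
  · exact H42.odd_order ((ho.of_dvd_nat (card_bar_dvd E hEH)))

end Cfsg.Agent.S1775
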