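import Cfsg.Statements.S1829
import Cfsg.Agent.Base
import Cfsg.Agent.H33.W2c

set_option autoImplicit false
open Cfsg

namespace Cfsg.Agent.S1829

open Equiv Subgroup H20.AR
open scoped Pointwise

def c3 : Perm (Fin 4) := swap 0 1 * swap 0 2

def k0 : (Bool → D8) →* Perm (Fin 4 ⊕ Fin 4) where
  toFun x := Perm.sumCongr (δ (x false)) (δ (x true))
  map_one' := by simp
  map_mul' x y := by simp [Perm.sumCongr_mul]

def t0 : Perm (Fin 4 ⊕ Fin 4) := Equiv.sumComm _ _

def r0 : Bool → Perm (Fin 4 ⊕ Fin 4)
  | false => Perm.sumCongr c3 1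
  | true => Perm.sumCongr 1 c3

theorem sumCongr_mem (a b : Perm (Fin 4)) : Perm.sumCongr a b ∈ blockStabilizerS4wr2 := by
  rw [blockStabilizerS4wr2, MulAction.mem_stabilizer_iff, Set.smul_set_insert, Set.smul_set_singleton]
  congr 1
  · exact (Set.range_comp _ _).symm.trans (a.surjective.range_comp Sum.inl)
  · exact congrArg _ ((Set.range_comp _ _).symm.trans (b.surjective.range_comp Sum.inr))

theorem t0_mem : t0 ∈ blockStabilizerS4wr2 := by
  rw [blockStabilizerS4wr2, MulAction.mem_stabilizer_iff, Set.smul_set_insert, Set.smul_set_singleton,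
    Set.pair_comm]
  congr 1
  · exact (Set.range_comp _ _).symm
  · exact congrArg _ (Set.range_comp _ _).symm

theorem r0_mem (j : Bool) : r0 j ∈ blockStabilizerS4wr2 := by cases j <;> exact sumCongr_mem _ _

theorem δ_inj : ∀ y : D8, δ y = 1 → y = 1 := by decide

theorem k0_inj : Function.Injective k0 := (injective_iff_map_eq_one _).2 fun x h => funext fun l => by
  cases l
  · exact δ_inj _ (Equiv.ext fun a => Sum.inl_injective (Equiv.ext_iff.1 h (Sum.inl a)))
  · exact δ_inj _ (Equiv.ext fun a => Sum.inr_injective (Equiv.ext_iff.1 h (Sum.inr a)))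

theorem k0_f (y : D8) : k0 (sg false y) = Perm.sumCongr (δ y) 1 := by simp [k0, sg_apply]

theorem k0_t (y : D8) : k0 (sg true y) = Perm.sumCongr 1 (δ y) := by simp [k0, sg_apply]

/-- There is no non-abelian finite simple QTKE-group G with a Sylow 2-subgroup T and a maximal 2-local subgroup M containing T such that M is isomorphic to the wreath product S₄ ≀ Z₂ (the subgroup of the symmetric group of degree 8 preserving a partition into two blocks of size 4; order 1152). -/
theorem result {G : Type*} [Group G] [Finite G] [IsSimpleGroup G]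
    (hG : ¬ IsMulCommutative G) (hQ : Cfsg.IsQTKE G) (T : Sylow 2 G) (M : Subgroup G)
    (hM : M ∈ Cfsg.maxTwoLocalsContaining (T : Subgroup G))
    (hW : Nonempty (↥M ≃* ↥Cfsg.blockStabilizerS4wr2)) : False := by
  have := Fact.mk Nat.prime_two
  obtain ⟨e⟩ := hW
  let ψ : blockStabilizerS4wr2 →* G := M.subtype.comp e.symm.toMonoidHom
  have ψi : Function.Injective ψ := M.subtype_injective.comp e.symm.injective
  let κ := ψ.comp (k0.codRestrict _ fun x => sumCongr_mem _ _)
  have c : ∀ {a b c : blockStabilizerS4wr2}, a.1 * b.1 * a.1⁻¹ = c.1 → ψ a * ψ b * (ψ a)⁻¹ = ψ c :=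
    fun h => by rw [← map_inv, ← map_mul, ← map_mul]; exact congrArg ψ (Subtype.ext h)
  have w : H33.W2.W κ (ψ ⟨t0, t0_mem⟩) fun j => ψ ⟨r0 j, r0_mem j⟩ :=
    { inj := ψi.comp fun a b h => k0_inj (congrArg Subtype.val h)
      tt := by rw [← map_mul, ← map_one ψ]; exact congrArg ψ (Subtype.ext (by decide))
      tx := fun x => c (Equiv.ext fun p => by cases p <;> rfl)
      ρ3 := fun j => by
        rw [← map_pow, ← map_one ψ]; exact congrArg ψ (Subtype.ext (by cases j <;> decide))
      ρz := fun j => c (by cases j <;> decide)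
      ρv := fun j => c (by cases j <;> decide)
      ρc := fun j y => Commute.map (Subtype.ext (by
        cases j
        · show r0 false * k0 (sg true y) = k0 (sg true y) * r0 false
          simp [k0_t, r0, Perm.sumCongr_mul]
        · show r0 true * k0 (sg false y) = k0 (sg false y) * r0 true
          simp [k0_f, r0, Perm.sumCongr_mul])) ψ
      ρρ := Commute.map (Subtype.ext (by decide)) ψ
      tρ := fun j => c (by cases j <;> decide)
      eρ := fun j => (c (c := ⟨r0 j, r0_mem j⟩⁻¹) (by cases j <;> decide)).trans (map_inv _ _)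
      syl := fun R hR => by
        refine ((H98.isSyl_sylow T).card_le hR le_top).trans ?_
        obtain ⟨k, hk⟩ := IsPGroup.iff_card.1 T.isPGroup'
        have h1 : Nat.card T ∣ Nat.card (Perm (Fin 4 ⊕ Fin 4)) :=
          (card_dvd_of_le hM.2).trans ((Nat.card_congr e.toEquiv).dvd.trans (card_subgroup_dvd_card _))
        rw [Nat.card_perm, Nat.card_eq_fintype_card (α := Fin 4 ⊕ Fin 4)] at h1
        change Nat.card T ≤ 2 ^ 7
        rw [hk] at h1 ⊢
        refine Nat.pow_le_pow_right (by decide) ?_
        by_contra h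
        exact absurd ((Nat.pow_dvd_pow 2 (show 8 ≤ k by omega)).trans h1) (by decide) }
  refine w.elim (fun H h2 => ?_) hQ.2.2 hQ.1
  rcases (normal_of_index_eq_two h2).eq_bot_or_eq_top with rfl | rfl
  · rw [index_bot] at h2
    exact hG (isCyclic_of_prime_card h2).isMulCommutative
  · rw [index_top] at h2
    omega

end Cfsg.Agent.S1829
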