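import Cfsg.Statements.S1922
import Cfsg.Agent.H17.UniqueFix
import Cfsg.Agent.H17.TransferInv

set_option autoImplicit false
open Cfsg

namespace Cfsg.Agent.S1922

theorem fix_iff {G : Type*} [Group G] {H : Subgroup G} {x : G}
    (h0 : ∀ g : G, x ∈ H.map (MulAut.conj g).toMonoidHom ↔ g ∈ H) (a : G) (ω : G ⧸ H) :
    (a * x * a⁻¹) • ω = ω ↔ ω = (a : G ⧸ H) := by
  obtain ⟨b, rfl⟩ := QuotientGroup.mk_surjective ω
  rw [H17.smul_quotient_eq_iff, eq_comm, QuotientGroup.eq, ← h0 (a⁻¹ * b), H17.mem_map_conj_iff]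
  simp [mul_assoc]

/-- Let z be an involution of a finite group G and H a proper subgroup such that z lies in gHg⁻¹ exactly when g ∈ H. Then the following are equivalent: (1) for every conjugate t ≠ z of z commuting with z, the product zt lies in gHg⁻¹ exactly when g ∈ H; (2) z lies in the centre of some Sylow 2-subgroup of G, and for every conjugate t ≠ z of z commuting with z, the centralizer of zt is contained in H. -/
theorem result {G : Type*} [Group G] [Finite G] (z : G) (hz : orderOf z = 2) (H : Subgroup G) (hH : H ≠ ⊤)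
    (h0 : ∀ g : G, z ∈ H.map (MulAut.conj g).toMonoidHom ↔ g ∈ H) :
    (∀ t : G, IsConj z t → t ≠ z → t * z = z * t → ∀ g : G, z * t ∈ H.map (MulAut.conj g).toMonoidHom ↔ g ∈ H) ↔
      ((∃ P : Sylow 2 G, z ∈ (Subgroup.center ↥(P : Subgroup G)).map (P : Subgroup G).subtype) ∧
        ∀ t : G, IsConj z t → t ≠ z → t * z = z * t → Subgroup.centralizer ({z * t} : Set G) ≤ H) := by
  have hzH : z ∈ H := by simpa [H17.map_conj_one] using (h0 1).mpr H.one_mem
  have key : ∀ g : G, g * z * g⁻¹ ∈ H → g ∈ H := fun g hg =>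
    H.inv_mem_iff.mp ((h0 g⁻¹).mp (by rw [H17.mem_map_conj_iff]; simpa using hg))
  have hC : ∀ c : G, c * z = z * c → c ∈ H := fun c hc => key c (by rw [hc]; simpa using hzH)
  constructor
  · intro h1
    refine ⟨?_, fun t ht htz hc c hcc => ?_⟩
    · have hU : H17.UFix (G ⧸ H) z := by
        refine ⟨hz, fun x hx ω ω' h h' => ?_, fun x y hx hy hxy hc ω ω' h h' => ?_⟩
        · obtain ⟨a, rfl⟩ := isConj_iff.mp hx
          rw [(fix_iff h0 a _).mp h, (fix_iff h0 a _).mp h']
        · obtain ⟨a, rfl⟩ := isConj_iff.mp hx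
          have h2 := h1 (a⁻¹ * y * a) (hy.trans (by simpa using H17.isConj_conj a⁻¹ y))
            (fun e => hxy (by rw [← e]; group))
            (by rw [← H17.conj_comm_iff (g := a)]; simpa [mul_assoc] using hc.symm)
          have e : a * z * a⁻¹ * y = a * (z * (a⁻¹ * y * a)) * a⁻¹ := by group
          rw [e] at h h'
          rw [(fix_iff h2 a _).mp h, (fix_iff h2 a _).mp h']
      obtain ⟨b, hb⟩ : ∃ b, b ∉ H := by
        by_contra h
        push Not at h
        exact hH (eq_top_iff.mpr fun g _ => h g)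
      have hfix : ∀ x : G, x • ((1 : G) : G ⧸ H) = (1 : G) ↔ x ∈ H := fun x => by
        rw [H17.smul_quotient_eq_iff]; simp
      have hodd := hU.odd_card (IsConj.refl z) (H17.isConj_conj b z) ((hfix z).mpr hzH)
        ((fix_iff h0 b _).mpr rfl) (fun e => hb (by simpa using QuotientGroup.eq.mp e))
      obtain ⟨T, hT⟩ := H17.exists_sylIn (p := 2) H
      let _ : MulAction T {x : G // IsConj z x ∧ x • ((1 : G) : G ⧸ H) = (1 : G)} :=
        { smul := fun s x => ⟨s * x * (s : G)⁻¹, x.2.1.trans (H17.isConj_conj _ _), by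
            rw [hfix]
            exact H.mul_mem (H.mul_mem (hT.1 s.2) ((hfix _).mp x.2.2)) (H.inv_mem (hT.1 s.2))⟩
          one_smul := fun x => Subtype.ext (by change ((1 : T) : G) * x * ((1 : T) : G)⁻¹ = x; simp)
          mul_smul := fun s t x => Subtype.ext (by
            change ((s * t : T) : G) * x * ((s * t : T) : G)⁻¹ = s * (t * x * (t : G)⁻¹) * (s : G)⁻¹
            simp [mul_assoc]) }
      obtain ⟨⟨x, hx, hxH⟩, hxT⟩ := hT.2.1.nonempty_fixed_point_of_prime_not_dvd_card
        {x : G // IsConj z x ∧ x • ((1 : G) : G ⧸ H) = (1 : G)}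
        (by rw [← even_iff_two_dvd, Nat.not_even_iff_odd]; exact hodd)
      have hxc : ∀ s ∈ T, s * x = x * s := fun s hs => by
        have : s * x * s⁻¹ = x := congrArg Subtype.val (hxT ⟨s, hs⟩)
        rwa [mul_inv_eq_iff_eq_mul] at this
      rw [hfix] at hxH
      have hxx : IsPGroup 2 (Subgroup.zpowers x) :=
        H17.isPGroup_zpowers (k := 1) (by rw [pow_one, pow_two, hU.sq hx])
      have hxT' : x ∈ T := by
        have h3 : T ≤ Subgroup.normalizer (Subgroup.zpowers x : Set G) := fun s hs =>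
          Subgroup.centralizer_le_normalizer _ (by
            rintro _ ⟨k, rfl⟩
            exact (Commute.zpow_right (hxc s hs) k).symm)
        rw [← hT.eq_of_le (hT.2.1.to_sup_of_normal_right' hxx h3)
          (sup_le hT.1 (by simpa using hxH)) le_sup_left]
        exact Subgroup.mem_sup_right (Subgroup.mem_zpowers x)
      obtain ⟨a, rfl⟩ := isConj_iff.mp hx
      have haH := key a hxH
      have hTs : H17.SylIn 2 T ⊤ := by
        refine H17.sylIn_of_sylIn_normalizer (hT.mono (le_inf le_top Subgroup.le_normalizer) ?_)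
        intro n hn
        have h4 := hT.1 (H17.conj_mem_of_mem_normalizer hn.2 hxT')
        exact (H.mul_mem_cancel_right haH).mp (key (n * a) (by simpa [mul_assoc] using h4))
      obtain ⟨P, hP⟩ := (hTs.map_conj_of_mem (g := a⁻¹)
        (by rw [Subgroup.normalizer_eq_top]; trivial)).exists_sylow
      have hzP : z ∈ (P : Subgroup G) := by
        rw [hP, H17.mem_map_conj_iff]; simpa using hxT'
      refine ⟨P, ⟨z, hzP⟩, Subgroup.mem_center_iff.mpr fun s => Subtype.ext ?_, rfl⟩
      have hs : s.1 ∈ T.map (MulAut.conj a⁻¹).toMonoidHom := hP ▸ s.2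
      rw [H17.mem_map_conj_iff, inv_inv] at hs
      exact H17.conj_comm_iff.mp (hxc _ hs)
    · rw [← h1 t ht htz hc, H17.mem_map_conj_iff, mul_assoc,
        ← Subgroup.mem_centralizer_singleton_iff.mp hcc, inv_mul_cancel_left]
      exact H.mul_mem hzH (hC t hc)
  · rintro ⟨⟨P, ⟨z', hz'⟩, hzP, hzz⟩, h2⟩ t ht htz hc g
    change z' = z at hzz
    subst hzz
    have hw : z' * t ∈ H := H.mul_mem hzH (hC t hc)
    rw [H17.mem_map_conj_iff]
    refine ⟨fun hg => ?_, fun hg => H.mul_mem (H.mul_mem (H.inv_mem hg) hw) hg⟩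
    have hPc : ∀ s ∈ (P : Subgroup G), s * z' = z' * s := fun s hs =>
      congrArg Subtype.val (Subgroup.mem_center_iff.mp hzP ⟨s, hs⟩)
    have hww : (z' * t) ^ 2 = 1 := by
      have hc' : Commute z' t := hc.symm
      rw [hc'.mul_pow, ← hz, pow_orderOf_eq_one, ← H17.orderOf_eq_of_isConj ht,
        pow_orderOf_eq_one, one_mul]
    obtain ⟨h, hh, hh2⟩ := (H17.sylIn_of_sylow P (fun s hs => hC s (hPc s hs))).exists_conj_le
      (A := Subgroup.zpowers (g⁻¹ * (z' * t) * g⁻¹⁻¹)) (by simpa using hg)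
      (H17.isPGroup_zpowers (k := 1) (by rw [pow_one, conj_pow, hww]; group))
    have h3 := hPc _ (hh2 _ (Subgroup.mem_zpowers _))
    have h4 : (g * h⁻¹) * z' * (g * h⁻¹)⁻¹ ∈ H := by
      apply h2 t ht htz hc
      rw [Subgroup.mem_centralizer_singleton_iff, ← H17.conj_comm_iff (g := (g * h⁻¹)⁻¹)]
      simpa [mul_assoc] using h3.symm
    exact (H.mul_mem_cancel_right (H.inv_mem hh)).mp (key _ h4)


end Cfsg.Agent.S1922
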