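import Cfsg.Statements.S1905
import Cfsg.Agent.S1922

set_option autoImplicit false
open Cfsg

namespace Cfsg.Agent.S1905


/-- Let M be a subgroup of even order of a finite group S such that M contains the centralizer in S of each of its involutions and the normal core of M in S has odd order. Then all involutions of S are conjugate. If moreover N_S(X) ≤ M for a Sylow 2-subgroup X of M and I is an involution in the centre of X, then all involutions of M are conjugate in M and M = M₀ C_M(I) for some subgroup M₀ of M of odd order. -/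
theorem result {S : Type*} [Group S] [Finite S] (M : Subgroup S) (hM : Even (Nat.card M))
    (hC : ∀ i ∈ M, orderOf i = 2 → Subgroup.centralizer ({i} : Set S) ≤ M) (hcore : Odd (Nat.card M.normalCore)) :
    (∀ x y : S, orderOf x = 2 → orderOf y = 2 → IsConj x y) ∧
      ∀ (X : Sylow 2 M) (I : M), I ∈ (Subgroup.center ↥(X : Subgroup ↥M)).map (X : Subgroup ↥M).subtype → orderOf I = 2 →
        Subgroup.normalizer (((X : Subgroup M).map M.subtype : Subgroup S) : Set S) ≤ M →
        (∀ x y : M, orderOf x = 2 → orderOf y = 2 → IsConj x y) ∧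
          ∃ M₀ : Subgroup M, Odd (Nat.card M₀) ∧
            ∀ m : M, ∃ a ∈ M₀, ∃ c ∈ Subgroup.centralizer ({I} : Set M), m = a * c := by
  have hio : ∀ i ∈ M, orderOf i = 2 → ∀ j, j ∉ M → orderOf j = 2 → IsConj i j := by
    intro i hi hi2 j hj hj2
    by_contra h
    obtain ⟨w, -, hw2, hwi, hwj⟩ := H83.exists_commuting_involution_of_not_isConj
      (H83.mul_self_of_orderOf_two hi2) (H83.mul_self_of_orderOf_two hj2) h
    have hwM : w ∈ M := hC i hi hi2 (Subgroup.mem_centralizer_singleton_iff.mpr hwi.eq)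
    exact hj (hC w hwM hw2 (Subgroup.mem_centralizer_singleton_iff.mpr hwj.symm.eq))
  obtain ⟨i, hi, hi2⟩ := H17.exists_involution_of_even (even_iff_two_dvd.mp hM)
  obtain ⟨j, hj, hj2⟩ : ∃ j, j ∉ M ∧ orderOf j = 2 := by
    by_contra h
    push Not at h
    refine H17.odd_card_iff.mp hcore i (fun g => ?_) hi2
    by_contra hg
    exact h _ hg (by rw [H17.orderOf_conj', hi2])
  have hall : ∀ x : S, orderOf x = 2 → IsConj i x := by
    intro x hx
    by_cases hxM : x ∈ M
    · exact (hio i hi hi2 j hj hj2).trans (hio x hxM hx j hj hj2).symm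
    · exact hio i hi hi2 x hxM hx
  have hconj : ∀ x y : S, orderOf x = 2 → orderOf y = 2 → IsConj x y := fun x y hx hy =>
    (hall x hx).symm.trans (hall y hy)
  refine ⟨hconj, ?_⟩
  rintro X I ⟨I', hI', hII⟩ hI2 hN
  have hXs := H17.sylIn_map_subtype X
  set T : Subgroup S := (X : Subgroup M).map M.subtype with hT
  have hz : orderOf (I : S) = 2 := by simpa using hI2
  have hTc : ∀ s ∈ T, s * I = I * s := by
    rintro _ ⟨s, hs, rfl⟩
    have := congrArg (fun x : (X : Subgroup M) => ((x : M) : S))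
      (Subgroup.mem_center_iff.mp hI' ⟨s, hs⟩)
    rw [← hII]
    exact this
  have key : ∀ g : S, g * I * g⁻¹ ∈ M → g ∈ M := by
    intro g hg
    have h1 : T.map (MulAut.conj g).toMonoidHom ≤ M := by
      rintro _ ⟨s, hs, rfl⟩
      refine hC _ hg (by rw [H17.orderOf_conj', hz]) ?_
      rw [Subgroup.mem_centralizer_singleton_iff]
      exact H17.conj_comm_iff.mpr (hTc s hs)
    obtain ⟨m, hm, hm2⟩ := hXs.exists_conj_eq
      (hXs.of_card_le h1 (hXs.2.1.map _) (by rw [H17.card_map_conj]))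
    rw [H17.map_conj_map_conj, H17.map_conj_eq_iff_mem_normalizer] at hm2
    exact (M.mul_mem_cancel_left hm).mp (hN hm2)
  have h0 : ∀ g : S, (I : S) ∈ M.map (MulAut.conj g).toMonoidHom ↔ g ∈ M := by
    intro g
    rw [H17.mem_map_conj_iff]
    exact ⟨fun h => M.inv_mem_iff.mp (key g⁻¹ (by simpa using h)),
      fun h => M.mul_mem (M.mul_mem (M.inv_mem h) I.2) h⟩
  have huniq : ∀ x : S, orderOf x = 2 → ∀ ω ω' : S ⧸ M, x • ω = ω → x • ω' = ω' → ω = ω' := by
    intro x hx ω ω' h h'
    obtain ⟨a, rfl⟩ := isConj_iff.mp (hconj I x hz hx)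
    rw [(Cfsg.Agent.S1922.fix_iff h0 a _).mp h, (Cfsg.Agent.S1922.fix_iff h0 a _).mp h']
  have hU : H17.UFix (S ⧸ M) (I : S) := by
    refine ⟨hz, fun x hx => huniq x ((H17.orderOf_eq_of_isConj hx).trans hz),
      fun x y hx hy hxy hc => huniq _ ?_⟩
    have hx2 := H83.mul_self_of_orderOf_two ((H17.orderOf_eq_of_isConj hx).trans hz)
    have hy2 := H83.mul_self_of_orderOf_two ((H17.orderOf_eq_of_isConj hy).trans hz)
    refine H83.orderOf_eq_two_iff'.mpr ⟨?_, fun h => hxy ?_⟩
    · rw [mul_assoc, ← mul_assoc y, ← hc, mul_assoc, hy2, mul_one, hx2]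
    · rw [← mul_right_cancel_iff (a := y), h, hy2]
  have hfix : ∀ x : S, x • ((1 : S) : S ⧸ M) = (1 : S) ↔ x ∈ M := fun x => by
    rw [H17.smul_quotient_eq_iff]; simp
  constructor
  · have h1 : ∀ x : M, orderOf x = 2 → IsConj I x := by
      intro x hx
      obtain ⟨a, ha⟩ := isConj_iff.mp (hconj I x hz (by simpa using hx))
      exact isConj_iff.mpr ⟨⟨a, key a (ha ▸ x.2)⟩, Subtype.ext ha⟩
    exact fun x y hx hy => (h1 x hx).symm.trans (h1 y hy)
  · obtain ⟨b, rfl⟩ := isConj_iff.mp (hconj I j hz hj2)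
    have hb : b ∉ M := fun h => hj (M.mul_mem (M.mul_mem h I.2) (M.inv_mem h))
    have hne : ((1 : S) : S ⧸ M) ≠ (b : S ⧸ M) := fun e => hb (by simpa using QuotientGroup.eq.mp e)
    refine ⟨(MulAction.stabilizer S (b : S ⧸ M)).subgroupOf M, ?_, fun m => ?_⟩
    · rw [H17.odd_card_iff]
      intro t ht ht2
      exact hne (huniq t (by simpa using ht2) _ _ ((hfix _).mpr t.2) ht)
    · obtain ⟨d, hd1, hd2, hd3⟩ := hU.exists_conj_of_fix (IsConj.refl _) (H17.isConj_conj (m : S) (I : S))
        (H17.isConj_conj b (I : S)) ((hfix _).mpr I.2)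
        ((hfix _).mpr (M.mul_mem (M.mul_mem m.2 I.2) (M.inv_mem m.2)))
        ((Cfsg.Agent.S1922.fix_iff h0 b _).mpr rfl) hne
      refine ⟨⟨d, (hfix d).mp hd1⟩, hd2, (⟨d, (hfix d).mp hd1⟩ : M)⁻¹ * m, ?_, by group⟩
      rw [Subgroup.mem_centralizer_singleton_iff]
      apply Subtype.ext
      change d⁻¹ * m * I = I * (d⁻¹ * m)
      calc d⁻¹ * m * I = d⁻¹ * (m * I * (m : S)⁻¹) * m := by group
        _ = _ := by rw [← hd3]; group


end Cfsg.Agent.S1905
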