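import Cfsg.Statements.S1914
import Cfsg.Agent.H25.SS2

set_option autoImplicit false
open Cfsg

namespace Cfsg.Agent.S1914

/-- Let A be a semisimple subgroup (a central product of quasisimple groups, A = E(A)) of a finite group and t an involution normalizing A such that the Sylow 2-subgroups of C_A(t) are cyclic of order 4. Then A has 2-rank exactly 1. -/
theorem result {G : Type*} [Group G] [Finite G] (A : Subgroup G) (hA : Cfsg.layer ↥A = ⊤)
    (t : G) (ht : orderOf t = 2) (htA : t ∈ Subgroup.normalizer (A : Set G))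
    (hC : ∀ R : Sylow 2 ↥(A ⊓ Subgroup.centralizer ({t} : Set G)), IsCyclic R ∧ Nat.card R = 4) :
    Cfsg.PRankLE 2 1 A ∧ ¬ Cfsg.PRankLE 2 0 A := by
  exact H25.SS.s1914 hA ht htA hC

end Cfsg.Agent.S1914
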