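import Cfsg.Statements.S1921
import Cfsg.Agent.H14.Diag

set_option autoImplicit false
open Cfsg

namespace Cfsg.Agent.S1921

/-- Let a be an involution of a finite group H and L a component of H with a L a⁻¹ ≠ L; put M = ⟨L, aLa⁻¹⟩ and let J be the subgroup generated by the elements x · a x a⁻¹ with x ∈ L (the diagonal). Then every element of M outside J·Z(M) generates M together with J. -/
theorem result {H : Type*} [Group H] [Finite H] (a : H) (ha : orderOf a = 2) (L : Subgroup H) (hL : Cfsg.IsComponent L)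
    (hLa : L.map (MulAut.conj a).toMonoidHom ≠ L) (x : H) (hxM : x ∈ L ⊔ L.map (MulAut.conj a).toMonoidHom)
    (hxJ : x ∉ Subgroup.closure {y : H | ∃ l ∈ L, y = l * (a * l * a⁻¹)} ⊔
      ((L ⊔ L.map (MulAut.conj a).toMonoidHom) ⊓ Subgroup.centralizer ((L ⊔ L.map (MulAut.conj a).toMonoidHom : Subgroup H) : Set H))) :
    Subgroup.closure {y : H | ∃ l ∈ L, y = l * (a * l * a⁻¹)} ⊔ Subgroup.zpowers x = L ⊔ L.map (MulAut.conj a).toMonoidHom := by
  have hx2 : a ^ 2 = 1 := by rw [← ha, pow_orderOf_eq_one]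
  have hcomm : ⁅L, H98.cj a L⁆ = ⊥ :=
    H14.comp_commute_of_ne hL (H14.comp_map_conj hL a) (Ne.symm hLa)
  set J := Subgroup.closure {y : H | ∃ l ∈ L, y = l * (a * l * a⁻¹)} with hJ
  have hJm : ∀ l ∈ L, l * (a * l * a⁻¹) ∈ J := fun l hl => Subgroup.subset_closure ⟨l, hl, rfl⟩
  have hJM : J ≤ L ⊔ H98.cj a L := by
    rw [hJ, Subgroup.closure_le]
    rintro _ ⟨l, hl, rfl⟩
    exact mul_mem (Subgroup.mem_sup_left hl) (Subgroup.mem_sup_right (H98.conj_mem_cj hl))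
  refine le_antisymm (sup_le hJM (Subgroup.zpowers_le.mpr hxM)) ?_
  obtain ⟨l, hl, r, hr, rfl⟩ := H14.mem_sup_of_commutator_eq_bot hcomm hxM
  set X := J ⊔ Subgroup.zpowers (l * r) with hX
  have hL' : IsQuasisimple (H98.cj a L) := H14.comp_quasi (H14.comp_map_conj hL a)
  have hw : (a * l * a⁻¹)⁻¹ * r ∈ X ⊓ H98.cj a L := by
    refine ⟨?_, (H98.cj a L).mul_mem ((H98.cj a L).inv_mem (H98.conj_mem_cj hl)) hr⟩
    have e : (a * l * a⁻¹)⁻¹ * r = (l * (a * l * a⁻¹))⁻¹ * (l * r) := by group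
    rw [e]
    exact X.mul_mem (X.inv_mem (Subgroup.mem_sup_left (hJm l hl)))
      (Subgroup.mem_sup_right (Subgroup.mem_zpowers _))
  have hn : H98.cj a L ≤ Subgroup.normalizer ((X ⊓ H98.cj a L : Subgroup H) : Set H) := by
    rintro _ ⟨k, hk, rfl⟩
    apply H98.mem_normalizer_of_cj_le
    rintro _ ⟨w, ⟨hw1, hw2⟩, rfl⟩
    change a * k * a⁻¹ * w * (a * k * a⁻¹)⁻¹ ∈ _
    have h1 : a * k * a⁻¹ * w * (a * k * a⁻¹)⁻¹ ∈ H98.cj a L :=
      (H98.cj a L).mul_mem ((H98.cj a L).mul_mem (H98.conj_mem_cj hk) hw2)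
        ((H98.cj a L).inv_mem (H98.conj_mem_cj hk))
    refine ⟨?_, h1⟩
    have h2 := H14.commutator_eq_bot_iff_comm.mp hcomm k hk _ h1
    have e : a * k * a⁻¹ * w * (a * k * a⁻¹)⁻¹ =
        (k * (a * k * a⁻¹)) * w * (k * (a * k * a⁻¹))⁻¹ := by
      calc a * k * a⁻¹ * w * (a * k * a⁻¹)⁻¹
          = (a * k * a⁻¹ * w * (a * k * a⁻¹)⁻¹ * k) * k⁻¹ := by group
        _ = _ := by rw [← h2]; group
    rw [e]
    have h3 : k * (a * k * a⁻¹) ∈ X := Subgroup.mem_sup_left (hJm k hk)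
    exact X.mul_mem (X.mul_mem h3 hw1) (X.inv_mem h3)
  rcases H14.quasi_sub_normalized hL' hn with h1 | h1
  · have h2 : H98.cj a L ≤ X := h1.trans inf_le_left
    refine sup_le (fun k hk => ?_) h2
    have e : k = (k * (a * k * a⁻¹)) * (a * k * a⁻¹)⁻¹ := by group
    rw [e]
    exact X.mul_mem (Subgroup.mem_sup_left (hJm k hk)) (X.inv_mem (h2 (H98.conj_mem_cj hk)))
  · exfalso
    apply hxJ
    have e : l * r = (l * (a * l * a⁻¹)) * ((a * l * a⁻¹)⁻¹ * r) := by group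
    rw [e]
    refine mul_mem (Subgroup.mem_sup_left (hJm l hl)) (Subgroup.mem_sup_right
      ⟨Subgroup.mem_sup_right hw.2, ?_⟩)
    have h2 : (a * l * a⁻¹)⁻¹ * r ∈ Subgroup.centralizer ((L ⊔ H98.cj a L : Subgroup H) : Set H) := by
      rw [H98.centralizer_sup]
      exact ⟨Subgroup.commutator_eq_bot_iff_le_centralizer.mp (H14.commutator_eq_bot_symm hcomm) hw.2,
        Subgroup.commutator_eq_bot_iff_le_centralizer.mp h1 ⟨hw, hw.2⟩⟩
    exact h2

end Cfsg.Agent.S1921
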