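import Cfsg.Statements.S1930
import Cfsg.Agent.Base
import Cfsg.Agent.H98.FlQ5
import Cfsg.Agent.H29.FlavW

set_option autoImplicit false
open Cfsg

namespace Cfsg.Agent.S1930

open Subgroup H98
open scoped commutatorElement


/-- Inside a finite group let G be a nontrivial subgroup and R an r-subgroup (r a prime) normalizing G, with the order of G prime to r. Let p > 3 be a prime with F*(G) = O_p(G), and let P be the intersection of all R-invariant Sylow p-subgroups of G. Then P has a nontrivial characteristic subgroup that is normalized by G. -/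
theorem result {X : Type*} [Group X] [Finite X] (G R : Subgroup X) (r : ℕ) [Fact r.Prime] (hR : IsPGroup r ↥R) (hcop : (Nat.card ↥G).Coprime r) (hnorm : R ≤ Subgroup.normalizer (G : Set X)) (hG : G ≠ ⊥) (p : ℕ) [Fact p.Prime] (hp : 3 < p) (hF : Cfsg.generalizedFittingSubgroup ↥G = Cfsg.pCore p ↥G) (P : Subgroup X) (hP : P = ⨅ S : {S : Sylow p ↥G // ∀ a ∈ R, ((S : Subgroup ↥G).map G.subtype).map (MulAut.conj a).toMonoidHom = (S : Subgroup ↥G).map G.subtype}, ((S : Sylow p ↥G) : Subgroup ↥G).map G.subtype) : ∃ C : Subgroup ↥P, C.Characteristic ∧ C ≠ ⊥ ∧ G ≤ Subgroup.normalizer ((C.map P.subtype : Subgroup X) : Set X) := by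
  exact H29.Fl.wrap1930 (fun p _ hp => H98.Fl.lb p hp) G R r hR hcop hnorm hG p hp hF P hP

end Cfsg.Agent.S1930
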