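import Cfsg.Statements.S1931
import Cfsg.Agent.Base
import Cfsg.Agent.H98.NcMain
import Cfsg.Agent.H98.NcOrig
import Cfsg.Agent.H76.NcQuo
import Cfsg.Agent.H76.NcZJ

set_option autoImplicit false
open Cfsg

namespace Cfsg.Agent.S1931

open Subgroup H98
open scoped commutatorElement


/-- Inside a finite group let G be a subgroup and R a noncyclic abelian r-subgroup (r a prime) normalizing G, with the order of G prime to r, and let p > 3 be a prime. Suppose that for every nonidentity a ∈ R, R centralizes the subgroup O^p(F*(C_G(a))) generated by the p'-elements of the generalized Fitting subgroup of C_G(a). Then R centralizes O^p(F*(G)). -/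
theorem result {X : Type*} [Group X] [Finite X] (G R : Subgroup X) (r : ℕ) [Fact r.Prime] (hR : IsPGroup r ↥R) (hcop : (Nat.card ↥G).Coprime r) (hnorm : R ≤ Subgroup.normalizer (G : Set X)) (hab : IsMulCommutative ↥R) (hnc : ¬ IsCyclic ↥R) (p : ℕ) [Fact p.Prime] (hp : 3 < p) (hloc : ∀ a ∈ R, a ≠ 1 → R ≤ Subgroup.centralizer ((((Cfsg.pResidual p ↥(Cfsg.generalizedFittingSubgroup ↥(G ⊓ Subgroup.centralizer ({a} : Set X)))).map (Cfsg.generalizedFittingSubgroup ↥(G ⊓ Subgroup.centralizer ({a} : Set X))).subtype).map (G ⊓ Subgroup.centralizer ({a} : Set X)).subtype : Subgroup X) : Set X)) : R ≤ Subgroup.centralizer ((((Cfsg.pResidual p ↥(Cfsg.generalizedFittingSubgroup ↥G)).map (Cfsg.generalizedFittingSubgroup ↥G).subtype).map G.subtype : Subgroup X) : Set X) := by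
  have e : ∀ H : Subgroup X, ((Cfsg.pResidual p ↥(Cfsg.generalizedFittingSubgroup ↥H)).map
      (Cfsg.generalizedFittingSubgroup ↥H).subtype).map H.subtype = res p (H14.fstarOf H) :=
    fun H => map_res H.subtype (Cfsg.generalizedFittingSubgroup ↥H)
  rw [e]
  exact le_centralizer_iff.1 (H98.Nc.s1931 H76.Nc.jobZJ H76.Nc.jobQuo H98.Nc.jobOrig hR hcop hnorm hab hnc hp
    fun a ha h => le_centralizer_iff.1 (e _ ▸ hloc a ha h))

end Cfsg.Agent.S1931
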