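import Cfsg.Statements.S1945
import Cfsg.Agent.H50.Tech1
import Cfsg.Agent.S1985

set_option autoImplicit false
open Cfsg

namespace Cfsg.Agent.S1945

/-- Let S be a Sylow p-subgroup of the finite group G, and assume that p is odd or that G is solvable. The elements of S each of which is its only G-conjugate in S form a subgroup W of Z(S); W is then a direct factor of Z(S): there is a subgroup K of Z(S) with W ∩ K = 1 and WK = Z(S). (For p = 2 and G not solvable this can fail.) -/
theorem result {G : Type*} [Group G] [Finite G] {p : ℕ} [Fact p.Prime] (S : Sylow p G) (h : p ≠ 2 ∨ Group.IsSolvable G) :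
    ∃ W K : Subgroup G, (∀ x : G, x ∈ W ↔ (x ∈ (S : Subgroup G) ∧ ∀ g : G, g * x * g⁻¹ ∈ (S : Subgroup G) → g * x * g⁻¹ = x)) ∧
      K ≤ ((S : Subgroup G) ⊓ Subgroup.centralizer ((S : Subgroup G) : Set G)) ∧ W ⊓ K = ⊥ ∧ W ⊔ K = ((S : Subgroup G) ⊓ Subgroup.centralizer ((S : Subgroup G) : Set G)) := by
  rcases h with hp | hs
  · obtain ⟨-, T, -, hT, hTi, hw⟩ := Cfsg.Agent.S1985.result (G := G) hp
    rw [H16.induced_kInfLower, top_inf_eq] at hw
    rw [Subgroup.relIndex_top_right] at hTi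
    obtain ⟨c, hc⟩ := MulAction.exists_smul_eq G S (hT.toSylow hTi)
    have e : T = H46.cj c (S : Subgroup G) := by
      rw [← hT.toSylow_coe hTi, ← hc]; rfl
    subst e
    have hle := H16.kL_le (S : Subgroup G)
    refine H50.weakly_closed_factor (D := H46.Zc (H16.kL (S : Subgroup G)))
      (N := H46.Nrm (H16.kL (S : Subgroup G))) (H46.isSylowOf_top S) (H46.comm_zc _)
      (le_inf (H16.Zc_le_kL _) (inf_le_right.trans (H46.cent_anti hle)))
      (inf_le_left.trans hle) (H46.nrm_zc le_rfl)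
      (Subgroup.le_normalizer.trans (H16.Nm_le_Nm_kL _)) fun x hx g hg => ?_
    have h1 := hw (c * x * c⁻¹) ⟨⟨x, hle hx.1.1, rfl⟩, fun n hn => by
      have h2 : c⁻¹ * n * c ∈ H46.Nrm (H16.kL (S : Subgroup G)) := by
        have h3 : n ∈ H46.Nrm (H46.cj c (H16.kL (S : Subgroup G))) := by
          have := H16.cj_kL c (S : Subgroup G)
          exact (congrArg (fun X => n ∈ H46.Nrm X) this).mpr hn
        rw [← H46.cj_nrm] at h3
        obtain ⟨m, hm, rfl⟩ := h3
        simpa [mul_assoc] using hm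
      have h4 := hx.2 _ h2
      calc n * (c * x * c⁻¹) = c * (c⁻¹ * n * c * x) * c⁻¹ := by group
        _ = c * x * c⁻¹ * n := by rw [h4]; group⟩ (c * g * c⁻¹) trivial
      ⟨g * x * g⁻¹, hg, by simp [mul_assoc]⟩
    calc g * x * g⁻¹ = c⁻¹ * (c * g * c⁻¹ * (c * x * c⁻¹) * (c * g * c⁻¹)⁻¹) * c := by group
      _ = x := by rw [h1]; group
  · exact H50.row1945_solvable (H46.isSylowOf_top S)
      (H50.isPConstrained_of_psolv (H18.isPSolvable_of_isSolvable p))

end Cfsg.Agent.S1945
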