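import Cfsg.Statements.S1954
import Cfsg.Agent.H92.Normal
import Cfsg.Agent.H11.QdFusion
import Cfsg.Agent.S5076
import Cfsg.Agent.H98.Sylow

set_option autoImplicit false
open Cfsg

namespace Cfsg.Agent.S1954

open Subgroup H98

section
variable {G : Type*} [Group G] {N T U V : Subgroup G}

/-- `N ⊓ N_G(U)` controls fusion in `T` under `N`. -/
def C (N T U : Subgroup G) : Prop := ∀ A ≤ T, ∀ n ∈ N, cj n A ≤ T →
  ∃ h ∈ N, h ∈ normalizer (U : Set G) ∧ n⁻¹ * h ∈ centralizer (A : Set G)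

theorem cj_eq {A : Subgroup G} {n h : G} (e : n⁻¹ * h ∈ centralizer (A : Set G)) : cj h A = cj n A := by
  have : h = n * (n⁻¹ * h) := by group
  rw [this, ← cj_cj, cj_eq_self (centralizer_le_normalizer _ e)]

theorem C.sup (hU : C N T U) (hUT : U ≤ T) (hV : C N T V) : C N T (U ⊔ V) := fun A hA n hn k => by
  obtain ⟨h, hN, h1, h2⟩ := hU A hA n hn k
  obtain ⟨g, gN, g1, g2⟩ := hV (A ⊔ U) (sup_le hA hUT) h hN (by
    rw [cj_sup, cj_eq h2, cj_eq_self h1]; exact sup_le k hUT)
  rw [centralizer_sup] at g2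
  refine ⟨g, gN, ?_, ?_⟩
  · have : g ∈ normalizer (U : Set G) := (mul_mem_cancel_left (inv_mem h1)).1 (centralizer_le_normalizer _ g2.2)
    exact zpowers_le.1 (le_normalizer_sup (zpowers_le.2 this) (zpowers_le.2 g1))
  · have := mul_mem h2 g2.1
    rwa [mul_assoc, mul_inv_cancel_left] at this

theorem C.cj [hn : N.Normal] (hU : C N T U) {x : G} (hx : x ∈ normalizer (T : Set G)) : C N T (cj x U) :=
  fun A hA n nN k => by
  obtain ⟨h, hN, h1, h2⟩ := hU (H98.cj x⁻¹ A) (cj_le_of_le hA (inv_mem hx)) (x⁻¹ * n * x) (hn.conj_mem' n nN x) (by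
    rw [cj_cj, mul_assoc, mul_inv_cancel, mul_one, ← cj_cj]
    exact cj_le_of_le k (inv_mem hx))
  refine ⟨x * h * x⁻¹, hn.conj_mem h hN x, ?_, ?_⟩
  · rw [← cj_normalizer]; exact conj_mem_cj h1
  · have := conj_mem_cj (g := x) h2
    rw [cj_centralizer, cj_cj_inv] at this
    convert this using 1
    group

end

/-- Let N be a normal subgroup of the finite group G, P a Sylow p-subgroup of G, and V a subgroup of P ∩ N normal in P ∩ N such that N_N(V) controls strong fusion in P ∩ N with respect to N (whenever a subgroup A of P ∩ N has n A n⁻¹ ≤ P ∩ N for some n in N, then n = h c with h in N_N(V) and c in C_N(A)). Let W be the subgroup generated by the conjugates of V under N_G(P ∩ N). Then N_G(W) controls strong fusion in P with respect to G. -/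
theorem result {G : Type*} [Group G] [Finite G] {p : ℕ} [Fact p.Prime] (N : Subgroup G) [N.Normal] (P : Sylow p G) (V : Subgroup G)
    (hV : V ≤ (P : Subgroup G) ⊓ N) (hVn : ∀ x ∈ (P : Subgroup G) ⊓ N, V.map (MulAut.conj x).toMonoidHom = V)
    (hctrl : ∀ A : Subgroup G, A ≤ (P : Subgroup G) ⊓ N → ∀ n ∈ N, A.map (MulAut.conj n).toMonoidHom ≤ (P : Subgroup G) ⊓ N →
      ∃ h ∈ N ⊓ Subgroup.normalizer (V : Set G), ∃ c ∈ N ⊓ Subgroup.centralizer (A : Set G), n = h * c)
    (W : Subgroup G) (hW : W = Subgroup.closure (⋃ x ∈ Subgroup.normalizer (((P : Subgroup G) ⊓ N : Subgroup G) : Set G),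
      ((V.map (MulAut.conj x).toMonoidHom : Subgroup G) : Set G))) :
    ∀ A : Subgroup G, A ≤ (P : Subgroup G) → ∀ g : G, A.map (MulAut.conj g).toMonoidHom ≤ (P : Subgroup G) →
        ∃ h ∈ Subgroup.normalizer (W : Set G), ∃ c ∈ Subgroup.centralizer (A : Set G), g = h * c := by
  set T := (P : Subgroup G) ⊓ N with hT
  have cV : C N T V := fun A hA n hn k => by
    obtain ⟨h, hh, c, hc, e⟩ := hctrl A hA n hn k
    refine ⟨h, hh.1, hh.2, ?_⟩
    rw [e, mul_inv_rev, inv_mul_cancel_right]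
    exact inv_mem hc.2
  have le : ∀ x ∈ normalizer (T : Set G), cj x V ≤ W := fun x hx y hy =>
    hW ▸ subset_closure (Set.mem_biUnion hx hy)
  have Wle : ∀ U : Subgroup G, (∀ x ∈ normalizer (T : Set G), cj x V ≤ U) → W ≤ U := fun U h =>
    hW ▸ (closure_le U).2 (Set.iUnion₂_subset h)
  have WT : W ≤ T := Wle T fun x hx => cj_le_of_le hV hx
  have cW : C N T W := by
    obtain ⟨U, hU⟩ := (Set.toFinite {U : Subgroup G | U ≤ W ∧ C N T U}).exists_maximal
      ⟨cj 1 V, le 1 (one_mem _), cV.cj (one_mem _)⟩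
    have : W ≤ U := Wle U fun x hx => le_sup_right.trans
      (hU.2 ⟨sup_le hU.1.1 (le x hx), hU.1.2.sup (hU.1.1.trans WT) (cV.cj hx)⟩ le_sup_left)
    rw [le_antisymm this hU.1.1]
    exact hU.1.2
  have nW : normalizer (T : Set G) ≤ normalizer (W : Set G) := fun a ha => mem_normalizer_of_cj_le (by
    rw [cj_le_iff]
    refine Wle _ fun x hx => ?_
    rw [← cj_le_iff, cj_cj]
    exact le _ (mul_mem ha hx))
  have hS := (isSyl_sylow P).inf_of_le_normalizer (le_top (a := N)) le_normalizer_of_normal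
  have sc : ∀ i, IsStronglyClosed (H92.zc W i) P := fun i =>
    ⟨(H92.zc_le W i).trans (WT.trans inf_le_left), fun x hx g hg => by
      have nz : normalizer (W : Set G) ≤ normalizer (H92.zc W i : Set G) := normalizer_le_normalizer_map_subtype _
      have xT := WT (H92.zc_le W i hx)
      obtain ⟨a, ha, n, hn, rfl⟩ := hS.frattini_mem (g := g) (le_normalizer_of_normal (mem_top g))
      have h1 : a * n * x * (a * n)⁻¹ ∈ T := ⟨hg, Normal.conj_mem inferInstance x xT.2 _⟩
      have h2 : n * x * n⁻¹ ∈ T := by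
        convert conj_mem_of_mem_normalizer' ha h1 using 1
        group
      obtain ⟨h, -, h3, h4⟩ := cW (zpowers x) (zpowers_le.2 xT) n hn (by
        rw [cj, MonoidHom.map_zpowers, zpowers_le]; exact h2)
      have e := h4 x (mem_zpowers x)
      have e2 : a * n * x * (a * n)⁻¹ = a * (h * x * h⁻¹) * a⁻¹ := by
        calc _ = a * (n * (x * (n⁻¹ * h)) * h⁻¹) * a⁻¹ := by group
          _ = _ := by rw [e]; group
      rw [e2]
      exact conj_mem_of_mem_normalizer (nz (nW ha)) (conj_mem_of_mem_normalizer (nz h3) hx)⟩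
  have := H92.isNormal_of_zc P.isPGroup' (Cfsg.Agent.S5076.result p P) (WT.trans inf_le_left)
    fun i => H11.stronglyClosed_group_iff.2 (sc i)
  intro A hA g hg
  obtain ⟨h, hh, e⟩ := (H11.isNormal_group_iff.1 this).2 A hA g (mem_top g) hg
  refine ⟨h, hh, h⁻¹ * g, fun a ha => ?_, by group⟩
  calc a * (h⁻¹ * g) = h⁻¹ * (h * a * h⁻¹) * g := by group
    _ = _ := by rw [← e a ha]; group

end Cfsg.Agent.S1954
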