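import Cfsg.Agent.Base
import Cfsg.Agent.H87.KM2
import Cfsg.Statements.S2029

set_option autoImplicit false
open Cfsg

namespace Cfsg.Agent.S2029

/-- Let p be an odd prime and G a finite group that is both of local characteristic p (p divides its order and every p-local subgroup N satisfies C_N(O_p(N)) ≤ O_p(N)) and of characteristic 2 type (even order and every 2-local subgroup M satisfies C_M(O_2(M)) ≤ O_2(M)). Then every 2-local subgroup of G has p-rank at most 2. -/
theorem result {G : Type*} [Group G] [Finite G] (p : ℕ) [Fact p.Prime] (hp : p ≠ 2) (hGp : Cfsg.IsOfLocalCharacteristic p G) (hG2 : Cfsg.IsCharacteristicTwoType G) : Cfsg.TwoLocalPRankLE p 2 G := by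
  have hpp : p.Prime := Fact.out
  rintro _ ⟨T, hT, hT1, rfl⟩ A hA1 hA2
  by_contra hlt
  let S : Set (Subgroup G) := {B | IsElementaryAbelian p B ∧
    ∃ T : Subgroup G, IsPGroup 2 T ∧ T ≠ ⊥ ∧ B ≤ H46.Nrm T}
  have hA : IsElementaryAbelian p (A.map (H46.Nrm T).subtype) := ⟨inferInstance, by
    rintro _ ⟨a, ha, rfl⟩
    exact congrArg Subtype.val (hA2 a ha)⟩
  have hS : A.map (H46.Nrm T).subtype ∈ S := ⟨hA, T, hT, hT1, Subgroup.map_subtype_le _⟩
  obtain ⟨B, ⟨hB, T', h1, h2, h3⟩, hmax⟩ := Set.exists_max_image S (fun B => Nat.card B)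
    (Set.toFinite S) ⟨_, hS⟩
  refine H87.KM.Glob.false (N := Nat.card B) ⟨hpp, hp, fun C T hC h1 h2 h3 =>
    hmax C ⟨hC, T, h1, h2, h3⟩, le_trans ?_ (hmax _ hS), fun X hX hX1 => ?_, fun z hz => ?_⟩
    hB le_rfl h1 h2 h3
  · obtain ⟨k, hk⟩ := (H87.KM.pgrp hpp hA).exists_card_eq
    rw [← H46.card_map_subtype, hk, Nat.pow_le_pow_iff_right hpp.one_lt] at hlt
    rw [hk]
    exact Nat.pow_le_pow_right hpp.pos (by omega)
  · have h4 : H98.CharP p (H46.Cent X) := (H98.charP_iff.2 (hGp.2 X hX hX1)).normal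
      (H46.cent_le_nrm X) (H46.nrm_le_nrm_cent X)
    exact ⟨_, H98.isPGroup_pCoreOf _, H98.pCoreOf_le _, H98.self_le_normalizer_pCoreOf _, h4⟩
  · rw [← H46.cent_zpowers]
    exact (H98.charP_iff.2 (hG2.2 (Subgroup.zpowers z)
      (IsPGroup.of_card (n := 1) (by rw [Nat.card_zpowers, hz]; rfl))
      fun h => by simp [Subgroup.zpowers_eq_bot.1 h] at hz)).normal
      (H46.cent_le_nrm _) (H46.nrm_le_nrm_cent _)

end Cfsg.Agent.S2029
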