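import Cfsg.Statements.S2221
import Cfsg.Agent.Base
import Cfsg.Agent.H23.SylAlt2

set_option autoImplicit false
open Cfsg

namespace Cfsg.Agent.S2221

open Subgroup Equiv Equiv.Perm H23.SA
open scoped Pointwise

theorem fixq {Y : Type*} [Group Y] [Finite Y] {p : ℕ} [Fact p.Prime] {R : Subgroup Y}
    (hR : IsPGroup p R) (H : Subgroup Y) (h : ¬ p ∣ H.index) :
    ∃ g, ∀ r ∈ R, g⁻¹ * r * g ∈ H := by
  obtain ⟨x, hx⟩ := hR.nonempty_fixed_point_of_prime_not_dvd_card (Y ⧸ H) h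
  obtain ⟨g, rfl⟩ := QuotientGroup.mk_surjective x
  refine ⟨g, fun r hr => ?_⟩
  have h1 : ((r * g : Y) : Y ⧸ H) = g := hx ⟨r, hr⟩
  have h2 := QuotientGroup.eq.1 h1.symm
  rwa [← mul_assoc] at h2

theorem ch2 (n : ℕ) : 2 ∣ n.choose 2 ↔ n % 4 = 0 ∨ n % 4 = 1 := by
  have L := fun n k => Choose.choose_modEq_choose_mod_mul_choose_div_nat (n := n) (k := k) (p := 2)
  have h := L n 2
  simp only [Nat.mod_self, Nat.choose_zero_right, one_mul, Nat.div_self two_pos,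
    Nat.choose_one_right, Nat.ModEq] at h
  omega

section
variable {n : ℕ} {T : Subgroup (Perm (Fin n))} {τ : Perm (Fin n)} (h : St T τ)
include h

theorem np (h4 : n % 4 = 0 ∨ n % 4 = 1) (i : Fin n) (hi : τ i ≠ i) :
    ∃ j, Orb T i j ∧ j ≠ i ∧ j ≠ τ i := by
  by_contra c
  push Not at c
  let s : Set.powersetCard (Fin n) 2 := Set.powersetCard.ofCard (Finset.card_pair hi.symm)
  have := Set.powersetCard.isPretransitive (α := Fin n) (n := 2)
  have hle : T ≤ MulAction.stabilizer (Perm (Fin n)) s := fun g hg => by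
    refine Subtype.ext ?_
    rw [Set.powersetCard.coe_smul]
    show g • ({i, τ i} : Finset (Fin n)) = {i, τ i}
    rw [Finset.smul_finset_insert, Finset.smul_finset_singleton, Perm.smul_def, Perm.smul_def,
      h.comm g hg]
    by_cases e : g i = i
    · rw [e]
    · rw [c _ ⟨g, hg, rfl⟩ e, h.inv, Finset.pair_comm]
  apply h.odd
  refine dvd_trans ?_ (index_dvd_of_le hle)
  rw [MulAction.index_stabilizer_of_transitive, Set.powersetCard.card, Nat.card_eq_fintype_card,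
    Fintype.card_fin]
  exact (ch2 n).2 h4

theorem ex_pair (h4 : n % 4 = 2 ∨ n % 4 = 3) :
    ∃ y, τ y ≠ y ∧ ∀ x, Orb T y x → x = y ∨ x = τ y := by
  obtain ⟨s, hs⟩ := h.pg.nonempty_fixed_point_of_prime_not_dvd_card (Set.powersetCard (Fin n) 2)
    (by rw [Set.powersetCard.card, Nat.card_eq_fintype_card, Fintype.card_fin, ch2]; omega)
  obtain ⟨a, b, ab, e⟩ := Finset.card_eq_two.1 s.2
  have k : ∀ g ∈ T, ∀ x, x = a ∨ x = b → g x = a ∨ g x = b := fun g hg x hx => by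
    have h1 : g • (s : Finset (Fin n)) = s := congrArg Subtype.val (hs ⟨g, hg⟩)
    have h2 : g • x ∈ g • (s : Finset (Fin n)) := Finset.smul_mem_smul_finset (by simpa [e] using hx)
    rw [h1, e] at h2
    simpa using h2
  have t : τ a = b := by
    rcases k τ h.tau_mem a (Or.inl rfl) with c | c
    · rcases k τ h.tau_mem b (Or.inr rfl) with c' | c'
      · exact absurd (τ.injective (c.trans c'.symm)) ab
      · exact absurd (h.one _ _ c c') ab
    · exact c
  exact ⟨a, t ▸ ab.symm, fun x ⟨g, hg, e⟩ => e ▸ t ▸ k g hg a (Or.inl rfl)⟩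

theorem card_W (h4 : n % 4 = 2 ∨ n % 4 = 3) {y : Fin n} (hy : τ y ≠ y) :
    (τ.support \ {y, τ y}).card = 4 * (n / 4) := by
  have h1 : 2 ∣ τ.support.card := two_dvd_card_support (Equiv.ext fun x => h.inv x)
  have h2 : τ.supportᶜ.card ≤ 1 := Finset.card_le_one.2 fun a ha b hb =>
    h.one a b (by simpa using ha) (by simpa using hb)
  have h3 := Finset.card_add_card_compl τ.support
  rw [Fintype.card_fin] at h3
  rw [Finset.card_sdiff_of_subset (fun x hx => by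
    rcases Finset.mem_insert.1 hx with rfl | e
    · exact mem_support.2 hy
    · rw [Finset.mem_singleton.1 e, mem_support, h.inv]; exact hy.symm), Finset.card_pair hy.symm]
  omega

theorem orb_W {y i x : Fin n} (hY : ∀ x, Orb T y x → x = y ∨ x = τ y)
    (hi : i ∈ τ.support \ {y, τ y}) (o : Orb T i x) : x ∈ τ.support \ {y, τ y} := by
  simp only [Finset.mem_sdiff, mem_support, Finset.mem_insert, Finset.mem_singleton] at hi ⊢
  refine ⟨by obtain ⟨g, hg, rfl⟩ := o; exact h.nf hg hi.1, fun e => hi.2 (hY _ ?_)⟩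
  rcases e with rfl | rfl
  exacts [o.symm, (h.orb_tau y).trans o.symm]

theorem indec2 (h6 : 6 ≤ n) (h4 : n % 4 = 2 ∨ n % 4 = 3) {r : ℕ} (hr : 4 * (n / 4) = 2 ^ r)
    {S₁ S₂ : Subgroup (Perm (Fin n))} (d : Dec (T ⊓ alternatingGroup (Fin n)) S₁ S₂) :
    S₁ = ⊥ ∨ S₂ = ⊥ := by
  obtain ⟨y, hy, hY⟩ := ex_pair h h4
  obtain ⟨c, hc⟩ := (exists_with_cycleType_iff (Fin n) (m := {2 ^ r})).2
    ⟨by simp; omega, by simp; omega⟩
  have cy : c.IsCycle := card_cycleType_eq_one.1 (by rw [hc]; rfl)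
  have cs : c.support.card = 2 ^ r := by rw [← sum_cycleType, hc]; rfl
  obtain ⟨g, hg⟩ := fixq (p := 2) (R := zpowers c)
    (IsPGroup.of_card (n := r) (by rw [Nat.card_zpowers, cy.orderOf, cs])) T h.odd
  have cT : g⁻¹ * c * g⁻¹⁻¹ ∈ T := by rw [inv_inv]; exact hg c (mem_zpowers c)
  have cs' : (g⁻¹ * c * g⁻¹⁻¹).support.card = 4 * (n / 4) := by rw [card_support_conj, cs, hr]
  have o : ∀ a ∈ (g⁻¹ * c * g⁻¹⁻¹).support, ∀ b ∈ (g⁻¹ * c * g⁻¹⁻¹).support, Orb T a b :=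
    fun a ha b hb => by
      obtain ⟨k, hk⟩ := (cy.conj (g := g⁻¹)).exists_pow_eq (mem_support.1 ha) (mem_support.1 hb)
      exact ⟨_, pow_mem cT k, hk⟩
  have big : ∀ a b : Fin n, ∃ x ∈ (g⁻¹ * c * g⁻¹⁻¹).support, x ≠ a ∧ x ≠ b := fun a b => by
    by_contra hc
    push Not at hc
    have : (g⁻¹ * c * g⁻¹⁻¹).support.card ≤ ({a, b} : Finset (Fin n)).card :=
      Finset.card_le_card fun x hx => by
        by_cases e : x = a
        · simp [e]
        · simp [hc x hx e]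
    have := Finset.card_le_two (a := a) (b := b)
    omega
  obtain ⟨i, hi, i1, i2⟩ := big y (τ y)
  have hi' : τ i ≠ i := fun e => mem_support.1 hi (h.fix cT e)
  have e : (g⁻¹ * c * g⁻¹⁻¹).support = τ.support \ {y, τ y} := Finset.eq_of_subset_of_card_le
    (fun x hx => orb_W h hY (by simp [hi', i1, i2]) (o i hi x hx)) (by rw [cs', card_W h h4 hy])
  obtain ⟨j, hj, j1, j2⟩ := big i (τ i)
  exact h.onePair d h6 hy hi' (o i hi j hj) j1 j2 fun x a b c => o i hi x (by rw [e]; simp [a, b, c])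

theorem dec2 (h6 : 6 ≤ n) (h4 : n % 4 = 2 ∨ n % 4 = 3) (hr : ∀ r : ℕ, 4 * (n / 4) ≠ 2 ^ r) :
    ∃ S₁ S₂, S₁ ≠ ⊥ ∧ S₂ ≠ ⊥ ∧ Dec (T ⊓ alternatingGroup (Fin n)) S₁ S₂ := by
  obtain ⟨y, hy, hY⟩ := ex_pair h h4
  obtain ⟨i, hi, a⟩ := h.ex_nf [y, τ y] (by simp; omega)
  have hW : i ∈ τ.support \ {y, τ y} := by simpa [hi] using a
  have W := fun x => orb_W h hY hW (x := x)
  simp only [Finset.mem_sdiff, mem_support, Finset.mem_insert, Finset.mem_singleton] at W
  obtain ⟨k, hk, k1, k2⟩ : ∃ k, τ k ≠ k ∧ ¬ (k = y ∨ k = τ y) ∧ ¬ Orb T i k := by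
    by_contra c
    push Not at c
    obtain ⟨r, e⟩ := h.pg.card_orbit i
    apply hr r
    rw [← e, ← card_W h h4 hy, ← Nat.card_eq_finsetCard]
    refine Nat.card_congr (Equiv.setCongr (Set.ext fun x => ⟨fun hx => ?_, fun ⟨g, e⟩ => ?_⟩))
    · simp only [Finset.coe_sdiff, Set.mem_sdiff, Finset.mem_coe, mem_support, Finset.mem_insert,
        Finset.mem_singleton, not_or] at hx
      obtain ⟨g, hg, e⟩ := c x hx.1 hx.2
      exact ⟨⟨g, hg⟩, e⟩
    · exact orb_W h hY hW ⟨g, g.2, e⟩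
  have Yi : ∀ g ∈ T, ∀ x, x = y ∨ x = τ y → g x = x ∨ g x = τ x := fun g hg x hx => by
    rcases hx with rfl | rfl
    · exact hY _ ⟨g, hg, rfl⟩
    · rw [h.comm g hg, h.inv]
      rcases hY _ ⟨g, hg, rfl⟩ with e | e <;> rw [e]
      exacts [Or.inl rfl, Or.inr (h.inv y)]
  have Yi' : ∀ g ∈ T, ∀ x, g x = y ∨ g x = τ y → x = y ∨ x = τ y := fun g hg x hx => by
    have := h.pair_mul (inv_mem hg) hx (hY _ ⟨g⁻¹, inv_mem hg, rfl⟩)
    simpa using this
  let F : Set (Fin n) → Subgroup (Perm (Fin n)) := fun X =>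
    { carrier := {g | ∀ x ∈ X, g x = x}
      one_mem' := fun _ _ => rfl
      mul_mem' := fun {g g'} a b x hx => by rw [Perm.mul_apply, b x hx, a x hx]
      inv_mem' := fun {g} a x hx => by rw [Perm.inv_eq_iff_eq, a x hx] }
  have ty : ∀ x, ¬ (x = y ∨ x = τ y) → swap y (τ y) x = x := fun x hx =>
    swap_apply_of_ne_of_ne (not_or.1 hx).1 (not_or.1 hx).2
  have ne : ∀ x, τ x ≠ x → ¬ (x = y ∨ x = τ y) → swap x (τ x) * swap y (τ y) ≠ 1 := fun x a b e => by
    have := congrArg (fun s : Perm (Fin n) => s x) e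
    simp only [Perm.mul_apply, ty x b, swap_apply_left] at this
    exact a this
  refine ⟨(T ⊓ alternatingGroup (Fin n)) ⊓ F {x | ¬ Orb T i x ∧ ¬ (x = y ∨ x = τ y)},
    (T ⊓ alternatingGroup (Fin n)) ⊓ F {x | Orb T i x}, fun e => ?_, fun e => ?_, inf_le_left,
    inf_le_left, fun a ha b hb => Equiv.ext fun x => ?_, fun c ha hb => ?_, fun g hg => ?_⟩
  · refine ne i hi (W i (Orb.refl i)).2 (mem_bot.1 (e ▸ ⟨h.tt_mem hi hy, fun x hx => ?_⟩))
    rw [Perm.mul_apply, ty x hx.2, h.t_out hx.1]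
  · refine ne k hk k1 (mem_bot.1 (e ▸ ⟨h.tt_mem hk hy, fun x hx => ?_⟩))
    rw [Perm.mul_apply, ty x (W x hx).2, h.t_out fun o => k2 (Orb.trans hx o.symm)]
  · have aT : a ∈ T := ha.1.1
    have bT : b ∈ T := hb.1.1
    rw [Perm.mul_apply, Perm.mul_apply]
    by_cases o : Orb T i x
    · rw [hb.2 x o, hb.2 _ (o.app aT)]
    by_cases p : x = y ∨ x = τ y
    · rcases Yi a aT x p with e | e <;> rcases Yi b bT x p with e' | e' <;>
        simp only [e, e', h.comm a aT, h.comm b bT]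
    · rw [ha.2 x ⟨o, p⟩, ha.2 _ ⟨fun o' => o (by simpa using o'.app (inv_mem bT)),
        fun p' => p (Yi' b bT x p')⟩]
  · have f : ∀ x, ¬ (x = y ∨ x = τ y) → c x = x := fun x p => by
      by_cases o : Orb T i x
      exacts [hb.2 x o, ha.2 x ⟨o, p⟩]
    refine h.small ha.1.2 (fun x => ?_) hy fun x _ a b => f x (not_or.2 ⟨a, b⟩)
    by_cases p : x = y ∨ x = τ y
    exacts [Yi c ha.1.1 x p, Or.inl (f x p)]
  · obtain ⟨r, hr, r1, r2⟩ := h.restr (X := {x | Orb T i x}) (fun g hg x hx => Orb.app hx hg) hg.1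
    obtain ⟨a, ha, a1⟩ : ∃ a ∈ (T ⊓ alternatingGroup (Fin n)) ⊓
        F {x | ¬ Orb T i x ∧ ¬ (x = y ∨ x = τ y)}, ∀ x, Orb T i x → a x = g x := by
      by_cases e : r ∈ alternatingGroup (Fin n)
      · exact ⟨r, ⟨⟨hr, e⟩, fun x hx => r2 x hx.1⟩, r1⟩
      · exact ⟨r * swap y (τ y), ⟨⟨mul_mem hr (h.t_mem y), mul_odd e (swap_odd hy)⟩, fun x hx => by
          rw [Perm.mul_apply, ty x hx.2, r2 x hx.1]⟩, fun x hx => by
          rw [Perm.mul_apply, ty x (W x hx).2, r1 x hx]⟩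
    have ha1 : a ∈ T ⊓ alternatingGroup (Fin n) := ha.1
    exact ⟨a, ha, a⁻¹ * g, ⟨(T ⊓ alternatingGroup (Fin n)).mul_mem (inv_mem ha1) hg, fun x hx => by
      rw [Perm.mul_apply, Perm.inv_eq_iff_eq, a1 x hx]⟩, by group⟩

end

theorem exists_T {n : ℕ} (P : Sylow 2 (alternatingGroup (Fin n))) : ∃ T τ, St T τ ∧
    (P : Subgroup (alternatingGroup (Fin n))) = T.subgroupOf (alternatingGroup (Fin n)) := by
  obtain ⟨T, hT⟩ := (P.2.map (alternatingGroup (Fin n)).subtype).exists_le_sylow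
  obtain ⟨τ, h⟩ := exists_St T
  exact ⟨T, τ, h, (P.is_maximal' (T.2.comap_subtype) (map_le_iff_le_comap.1 hT)).symm⟩

theorem to_dec {n : ℕ} {T : Subgroup (Perm (Fin n))} {S₁ S₂ : Subgroup (alternatingGroup (Fin n))}
    (d : IsInternalDirectProduct S₁ S₂ (T.subgroupOf (alternatingGroup (Fin n)))) :
    Dec (T ⊓ alternatingGroup (Fin n)) (S₁.map (alternatingGroup (Fin n)).subtype)
      (S₂.map (alternatingGroup (Fin n)).subtype) := by
  obtain ⟨d1, d2, d3, d4, d5⟩ := d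
  refine ⟨fun _ ⟨x, hx, e⟩ => e ▸ ⟨d1 hx, x.2⟩, fun _ ⟨x, hx, e⟩ => e ▸ ⟨d2 hx, x.2⟩,
    fun _ ⟨x, hx, e⟩ _ ⟨y, hy, e'⟩ => e ▸ e' ▸ congrArg Subtype.val (d3 x hx y hy),
    fun _ ⟨x, hx, e⟩ ⟨y, hy, e'⟩ => ?_, fun g hg => ?_⟩
  · have : x = y := Subtype.ext (e.trans e'.symm)
    have h1 : x ∈ S₁ ⊓ S₂ := ⟨hx, this ▸ hy⟩
    rw [d4, mem_bot] at h1
    rw [← e, h1]; rfl
  · let K : Subgroup (alternatingGroup (Fin n)) :=
      { carrier := {g | ∃ a ∈ S₁, ∃ b ∈ S₂, g = a * b}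
        one_mem' := ⟨1, one_mem _, 1, one_mem _, by simp⟩
        mul_mem' := by
          rintro _ _ ⟨a, ha, b, hb, rfl⟩ ⟨a', ha', b', hb', rfl⟩
          exact ⟨a * a', mul_mem ha ha', b * b', mul_mem hb hb', by
            rw [mul_assoc, ← mul_assoc b, ← d3 a' ha' b hb]; group⟩
        inv_mem' := by
          rintro _ ⟨a, ha, b, hb, rfl⟩
          exact ⟨a⁻¹, inv_mem ha, b⁻¹, inv_mem hb, by rw [d3 a ha b hb, mul_inv_rev]⟩ }
    have : S₁ ⊔ S₂ ≤ K := sup_le (fun a ha => ⟨a, ha, 1, one_mem _, by simp⟩)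
      (fun b hb => ⟨1, one_mem _, b, hb, by simp⟩)
    rw [d5] at this
    obtain ⟨a, ha, b, hb, e⟩ := this (x := ⟨g, hg.2⟩) hg.1
    exact ⟨a, ⟨a, ha, rfl⟩, b, ⟨b, hb, rfl⟩, congrArg Subtype.val e⟩

theorem of_dec {n : ℕ} {T S₁ S₂ : Subgroup (Perm (Fin n))}
    (d : Dec (T ⊓ alternatingGroup (Fin n)) S₁ S₂) :
    IsInternalDirectProduct (S₁.subgroupOf (alternatingGroup (Fin n)))
      (S₂.subgroupOf (alternatingGroup (Fin n))) (T.subgroupOf (alternatingGroup (Fin n))) := by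
  refine ⟨fun x hx => (d.le1 hx).1, fun x hx => (d.le2 hx).1,
    fun a ha b hb => Subtype.ext (d.comm a ha b hb), eq_bot_iff.2 fun x hx =>
      Subtype.ext (d.disj x hx.1 hx.2), le_antisymm (sup_le (fun x hx => (d.le1 hx).1)
      fun x hx => (d.le2 hx).1) fun g hg => ?_⟩
  obtain ⟨a, ha, b, hb, e⟩ := d.gen g ⟨hg, g.2⟩
  have : g = ⟨a, (d.le1 ha).2⟩ * ⟨b, (d.le2 hb).2⟩ := Subtype.ext e
  rw [this]
  exact mul_mem_sup ha hb

theorem klein {G : Type*} [Group G] (P : Subgroup G) (h4 : Nat.card P = 4)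
    (h2 : ∀ g ∈ P, g * g = 1) : ∃ S₁ S₂ : Subgroup G, S₁ ≠ ⊥ ∧ S₂ ≠ ⊥ ∧
      IsInternalDirectProduct S₁ S₂ P := by
  classical
  have : Finite P := Nat.finite_of_card_ne_zero (by omega)
  have : Nontrivial P := Finite.one_lt_card_iff_nontrivial.1 (by omega)
  have : IsKleinFour P := ⟨h4, (Monoid.exponent_eq_prime_iff Nat.prime_two).2 fun g hg =>
    orderOf_eq_prime (Subtype.ext (by simpa [sq] using h2 g g.2)) hg⟩
  obtain ⟨x, hx⟩ := exists_ne (1 : P)
  obtain ⟨y, y1, y2⟩ : ∃ y : P, y ≠ 1 ∧ y ≠ x := by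
    by_contra c
    push Not at c
    have := Fintype.ofFinite P
    have h1 : (Finset.univ : Finset P).card ≤ ({1, x} : Finset P).card :=
      Finset.card_le_card fun z _ => by
        by_cases e : z = 1
        · simp [e]
        · simp [c z e]
    have := Finset.card_le_two (a := (1 : P)) (b := x)
    rw [Finset.card_univ, ← Nat.card_eq_fintype_card] at h1
    omega
  have mz : ∀ x ∈ P, ∀ z ∈ zpowers x, z = 1 ∨ z = x := fun x hx z hz => by
    let K : Subgroup G :=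
      { carrier := {z | z = 1 ∨ z = x}
        one_mem' := Or.inl rfl
        mul_mem' := by rintro _ _ (rfl | rfl) (rfl | e) <;> simp [*]
        inv_mem' := by rintro _ (rfl | rfl) <;> simp [inv_eq_iff_mul_eq_one, h2 _ hx] }
    exact (zpowers_le (H := K)).2 (Or.inr rfl) hz
  have cm : (x : G) * y = y * x := congrArg Subtype.val
    (IsKleinFour.isMulCommutative.is_comm.comm x y)
  refine ⟨zpowers (x : G), zpowers (y : G), by simpa using hx, by simpa using y1,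
    zpowers_le.2 x.2, zpowers_le.2 y.2, fun a ha b hb => ?_, eq_bot_iff.2 fun z hz => ?_,
    le_antisymm (sup_le (zpowers_le.2 x.2) (zpowers_le.2 y.2)) fun z hz => ?_⟩
  · rcases mz _ x.2 a ha with rfl | rfl <;> rcases mz _ y.2 b hb with rfl | rfl <;> simp [cm]
  · rcases mz _ x.2 z hz.1 with e | e
    · exact e
    · exact (mz _ y.2 z hz.2).resolve_right fun e' => y2 (Subtype.ext (e'.symm.trans e))
  · by_cases e1 : (⟨z, hz⟩ : P) = 1
    · rw [show z = 1 from congrArg Subtype.val e1]; exact one_mem _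
    by_cases e2 : (⟨z, hz⟩ : P) = x
    · rw [show z = x from congrArg Subtype.val e2]; exact mem_sup_left (mem_zpowers _)
    by_cases e3 : (⟨z, hz⟩ : P) = y
    · rw [show z = y from congrArg Subtype.val e3]; exact mem_sup_right (mem_zpowers _)
    rw [show z = x * y from congrArg Subtype.val (IsKleinFour.eq_mul_of_ne_all hx y1 y2.symm e1 e2 e3)]
    exact mul_mem_sup (mem_zpowers _) (mem_zpowers _)

theorem small45 {n : ℕ} (hn : n = 4 ∨ n = 5) (P : Sylow 2 (alternatingGroup (Fin n))) :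
    ∃ S₁ S₂ : Subgroup (alternatingGroup (Fin n)), S₁ ≠ ⊥ ∧ S₂ ≠ ⊥ ∧
      IsInternalDirectProduct S₁ S₂ (P : Subgroup (alternatingGroup (Fin n))) := by
  have h4 : Nat.card (P : Subgroup (alternatingGroup (Fin n))) = 4 := by
    have : Nontrivial (Fin n) := Fin.nontrivial_iff_two_le.2 (by omega)
    rw [P.card_eq_multiplicity, nat_card_alternatingGroup, Nat.card_eq_fintype_card, Fintype.card_fin]
    rcases hn with rfl | rfl <;> decide +kernel
  refine klein _ h4 fun g hg => Subtype.ext ?_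
  have h1 : (g : Perm (Fin n)) ^ 4 = 1 := by
    have := pow_card_eq_one' (x := (⟨g, hg⟩ : (P : Subgroup (alternatingGroup (Fin n)))))
    rw [h4] at this
    exact congrArg (fun x : (P : Subgroup (alternatingGroup (Fin n))) => (x.1.1 : Perm (Fin n))) this
  have h2 := mem_alternatingGroup.1 g.2
  show (g : Perm (Fin n)) * g = 1
  generalize (g : Perm (Fin n)) = s at h1 h2
  revert s
  rcases hn with rfl | rfl <;> decide +kernel

/-- Direct decomposability of the Sylow 2-subgroups of the alternating groups. Let n ≥ 4 and let P be a Sylow 2-subgroup of the alternating group of degree n. Then P is the internal direct product of two nontrivial subgroups if and only if n = 4, n = 5, or n ≡ 2, 3 (mod 4) with 4⌊n/4⌋ not a power of 2. In the remaining cases (n ≡ 0, 1 (mod 4) with n ≥ 8, or n ≡ 2, 3 (mod 4) with 4⌊n/4⌋ a power of 2) P is directly indecomposable. -/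
theorem result (n : ℕ) (hn : 4 ≤ n)
    (P : Sylow 2 (alternatingGroup (Fin n))) :
    (∃ S₁ S₂ : Subgroup (alternatingGroup (Fin n)), S₁ ≠ ⊥ ∧ S₂ ≠ ⊥ ∧
        Cfsg.IsInternalDirectProduct S₁ S₂ (P : Subgroup (alternatingGroup (Fin n)))) ↔
      (n = 4 ∨ n = 5 ∨ ((n % 4 = 2 ∨ n % 4 = 3) ∧ ∀ r : ℕ, 4 * (n / 4) ≠ 2 ^ r)) := by
  obtain ⟨T, τ, h, e⟩ := exists_T P
  refine ⟨fun ⟨S₁, S₂, n1, n2, d⟩ => ?_, fun c => ?_⟩
  · by_contra c
    push Not at c
    rw [e] at d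
    have : S₁.map (alternatingGroup (Fin n)).subtype = ⊥ ∨
        S₂.map (alternatingGroup (Fin n)).subtype = ⊥ := by
      by_cases h4 : n % 4 = 2 ∨ n % 4 = 3
      · obtain ⟨r, hr⟩ := c.2.2 h4
        exact indec2 h (by omega) h4 hr (to_dec d)
      · exact h.noPair (to_dec d) (by omega) (np h (by omega))
    simp only [Subgroup.map_eq_bot_iff_of_injective _ (Subgroup.subtype_injective _)] at this
    exact this.elim n1 n2
  · by_cases h5 : n = 4 ∨ n = 5
    · exact small45 h5 P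
    have c' := (c.resolve_left fun a => h5 (Or.inl a)).resolve_left fun a => h5 (Or.inr a)
    obtain ⟨S₁, S₂, n1, n2, d⟩ := dec2 h (by omega) c'.1 c'.2
    refine ⟨_, _, fun a => n1 ?_, fun a => n2 ?_, e ▸ of_dec d⟩
    · rwa [Subgroup.subgroupOf_eq_bot, disjoint_iff, inf_eq_left.2 (d.le1.trans inf_le_right)] at a
    · rwa [Subgroup.subgroupOf_eq_bot, disjoint_iff, inf_eq_left.2 (d.le2.trans inf_le_right)] at a

end Cfsg.Agent.S2221
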