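import Cfsg.Statements.S2225
import Cfsg.Agent.H91.PrnFin

set_option autoImplicit false
open Cfsg

namespace Cfsg.Agent.S2225

/-- Let F be a finite field and d = 2^w ≥ 2 a power of 2 such that PSL_d(F) is simple. Then every subgroup H of PSL_d(F) of odd index is pronormal: for every g, H and gHg⁻¹ are conjugate by an element of the subgroup they generate. -/
theorem result {F : Type*} [Field F] [Fintype F]
    (w : ℕ) (hw : 1 ≤ w) (hs : IsSimpleGroup (Matrix.ProjectiveSpecialLinearGroup (Fin (2 ^ w)) F))
    (H : Subgroup (Matrix.ProjectiveSpecialLinearGroup (Fin (2 ^ w)) F)) (hH : Odd H.index) : Cfsg.IsPronormal H := by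
  by_cases h2 : (2 : F) = 0
  · exact H91.pn_psl_two h2 (Nat.le_self_pow (by omega) 2) hs H hH
  obtain ⟨k, rfl⟩ := Nat.exists_eq_add_of_le' hw
  exact (H91.QM.pn_sl h2 k).of_surj _ (QuotientGroup.mk'_surjective _) H hH

end Cfsg.Agent.S2225
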