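import Cfsg.Statements.S2247
import Cfsg.Agent.H66.SzZass

set_option autoImplicit false
open Cfsg

namespace Cfsg.Agent.S2247

/-- In the Suzuki group with q = 2^(2m+1), m ≥ 1 (realised as the stabiliser in SL₄ of the Suzuki–Tits ovoid), the normalizer of a Sylow 2-subgroup P is a maximal subgroup and is the only maximal subgroup containing P. -/
theorem result {F : Type*} [Field F] [Fintype F] {m : ℕ} (hm : 1 ≤ m) (hF : Fintype.card F = 2 ^ (2 * m + 1)) (P : Sylow 2 ↥(Cfsg.Sz F m)) :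
    IsCoatom (Subgroup.normalizer ((P : Subgroup ↥(Cfsg.Sz F m)) : Set ↥(Cfsg.Sz F m))) ∧
    ∀ M : Subgroup ↥(Cfsg.Sz F m), IsCoatom M → (P : Subgroup ↥(Cfsg.Sz F m)) ≤ M → M = Subgroup.normalizer ((P : Subgroup ↥(Cfsg.Sz F m)) : Set ↥(Cfsg.Sz F m)) := by
  have hT := H66.titsOf_isFin F hm hF
  obtain ⟨x, hx⟩ := (H66.modelA hT).sylow_eq hT P
  rw [hx]
  generalize (H66.modelA hT).conj x = M
  rw [M.normalizer_Q]
  refine ⟨M.isCoatom_B, fun K hK hQ => ?_⟩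
  by_contra hne
  have hle : ¬ K ≤ M.B := fun h => hne ((hK.le_iff_eq M.isCoatom_B.1).mp h).symm
  obtain ⟨g, hg, hg'⟩ := SetLike.not_le_iff_exists.mp hle
  obtain ⟨a, b, k, c, d, rfl⟩ := M.not_fix_inf hg'
  rw [K.mul_mem_cancel_right (hQ (M.u_mem_Q _ _)), mul_assoc,
    K.mul_mem_cancel_left (hQ (M.u_mem_Q _ _))] at hg
  apply hK.1
  -- the normal core of `K` contains an involution
  have hN : K.normalCore = ⊤ := by
    refine M.normal_eq_top hT (g := M.u 0 1) (fun y => ?_) (by simp [M.u_sq]) (by simp [M.u_eq_one])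
    rcases M.bruhat y with ⟨a, b, l, rfl⟩ | ⟨a, b, l, c, d, rfl⟩
    · exact hQ (M.conj_mem_Q (M.mem_B'.mpr ⟨a, b, l, rfl⟩) (M.u_mem_Q 0 1))
    · have e : M.u a b * M.h l * M.w * M.u c d * M.u 0 1 * (M.u a b * M.h l * M.w * M.u c d)⁻¹ =
          M.u a b * ((M.h k * M.w) * ((M.h (k * l⁻¹) * M.u c d) * M.u 0 1 *
            (M.h (k * l⁻¹) * M.u c d)⁻¹) * (M.h k * M.w)⁻¹) * (M.u a b)⁻¹ := by
        have : M.h l * M.w = M.h k * M.w * M.h (k * l⁻¹) := by
          rw [mul_assoc, M.w_mul_h, ← mul_assoc, ← map_mul]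
          congr 2
          simp
        rw [mul_assoc (M.u a b), this]
        group
      rw [e]
      refine mul_mem (mul_mem (hQ (M.u_mem_Q _ _)) (mul_mem (mul_mem hg (hQ ?_)) (inv_mem hg)))
        (inv_mem (hQ (M.u_mem_Q _ _)))
      exact M.conj_mem_Q (mul_mem (M.H_le_B (M.h_mem_H _)) (M.Q_le_B (M.u_mem_Q _ _)))
        (M.u_mem_Q 0 1)
  exact top_le_iff.mp (hN ▸ K.normalCore_le)

end Cfsg.Agent.S2247
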