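import Cfsg.Statements.S2271
import Cfsg.Agent.Base

set_option autoImplicit false
open Cfsg

namespace Cfsg.Agent.S2271

open Equiv

variable {n : ℕ}

/-- Number of points where two permutations agree. -/
def ag (α β : Perm (Fin n)) : ℕ := (Finset.univ.filter fun x => β x = α x).card

theorem card_fix (a β : Perm (Fin n)) :
    Nat.card (Function.fixedPoints ⇑(a * β)) = ag a⁻¹ β := by
  rw [ag, Nat.card_eq_fintype_card, ← Set.toFinset_card]
  congr 1
  ext x
  rw [Set.mem_toFinset, Finset.mem_filter, Function.mem_fixedPoints_iff, Perm.eq_inv_iff_eq]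
  simp

theorem ag_conj (k α β : Perm (Fin n)) : ag (k * α * k⁻¹) (k * β * k⁻¹) = ag α β := by
  symm
  refine Finset.card_bij (fun x _ => k x) (fun x hx => ?_) (fun a _ b _ e => k.injective e)
    (fun y hy => ⟨k⁻¹ y, ?_, by simp⟩)
  · simpa using hx
  · simpa using hy

theorem alt3 (hn : 5 ≤ n) {a b c a' b' c' : Fin n} (h1 : a ≠ b) (h2 : a ≠ c) (h3 : b ≠ c)
    (h1' : a' ≠ b') (h2' : a' ≠ c') (h3' : b' ≠ c') :
    ∃ h ∈ alternatingGroup (Fin n), h a = a' ∧ h b = b' ∧ h c = c' := by
  have := alternatingGroup.isMultiplyPretransitive (Fin n)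
  have h : MulAction.IsMultiplyPretransitive (alternatingGroup (Fin n)) (Fin n) 3 :=
    MulAction.isMultiplyPretransitive_of_le (n := Nat.card (Fin n) - 2) (by simp; omega) (by omega)
  have inj : ∀ {a b c : Fin n}, a ≠ b → a ≠ c → b ≠ c → Function.Injective ![a, b, c] := by
    intro a b c h1 h2 h3 i j
    fin_cases i <;> fin_cases j <;> simp [h1, h2, h3, h1.symm, h2.symm, h3.symm]
  obtain ⟨g, hg⟩ := MulAction.isMultiplyPretransitive_iff.1 h ⟨_, inj h1 h2 h3⟩ ⟨_, inj h1' h2' h3'⟩
  exact ⟨g, g.2, DFunLike.congr_fun hg 0, DFunLike.congr_fun hg 1, DFunLike.congr_fun hg 2⟩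

theorem exists_not_mem (l : List (Fin n)) (h : l.length < n) : ∃ x, x ∉ l := by
  by_contra k
  push Not at k
  have h1 : l.toFinset = Finset.univ := Finset.eq_univ_iff_forall.2 fun x => by simpa using k x
  have h2 := l.toFinset_card_le
  rw [h1] at h2
  simp at h2
  omega

theorem alt2 (hn : 5 ≤ n) {a b a' b' : Fin n} (h1 : a ≠ b) (h1' : a' ≠ b') :
    ∃ h ∈ alternatingGroup (Fin n), h a = a' ∧ h b = b' := by
  obtain ⟨c, hc⟩ := exists_not_mem [a, b] (by simp; omega)
  obtain ⟨c', hc'⟩ := exists_not_mem [a', b'] (by simp; omega)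
  simp only [List.mem_cons, List.not_mem_nil, or_false, not_or] at hc hc'
  obtain ⟨h, h2, h3, h4, -⟩ := alt3 hn h1 (Ne.symm hc.1) (Ne.symm hc.2) h1' (Ne.symm hc'.1)
    (Ne.symm hc'.2)
  exact ⟨h, h2, h3, h4⟩

theorem swap_lt (hn : 5 ≤ n) (α β : Perm (Fin n)) {i : Fin n} (hi : α i ≠ i) (hβ : β i = α i) :
    ∃ j k, ag α (swap j k * β * (swap j k)⁻¹) < ag α β := by
  set j := α i with hj
  obtain ⟨k, hk⟩ := exists_not_mem [i, j, β⁻¹ (α j), α⁻¹ (β j)] (by simp; omega)
  simp only [List.mem_cons, List.not_mem_nil, or_false, not_or] at hk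
  obtain ⟨k1, k2, k3, k4⟩ := hk
  have k3' : β k ≠ α j := fun e => k3 (by rw [← e]; simp)
  have k4' : β j ≠ α k := fun e => k4 (by rw [e]; simp)
  have hα : ∀ x, α x = j → x = i := fun x e => α.injective e
  have hβ' : ∀ x, β x = j → x = i := fun x e => β.injective (e.trans hβ.symm)
  have hi' : (swap j k * β * (swap j k)⁻¹) i ≠ α i := by
    rw [swap_inv, Perm.mul_apply, Perm.mul_apply, swap_apply_of_ne_of_ne hi.symm (Ne.symm k1), hβ,
      swap_apply_left]
    exact k2
  refine ⟨j, k, Finset.card_lt_card ⟨fun x hx => ?_, fun h => hi' ?_⟩⟩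
  · rw [Finset.mem_filter] at hx ⊢
    refine ⟨hx.1, ?_⟩
    have hx2 := hx.2
    have hxi : x ≠ i := by
      rintro rfl
      exact hi' hx2
    rw [swap_inv, Perm.mul_apply, Perm.mul_apply] at hx2
    by_cases e1 : x = j
    · exfalso
      rw [e1, swap_apply_left] at hx2
      by_cases e2 : β k = k
      · rw [e2, swap_apply_right] at hx2
        exact hi (hα j hx2.symm)
      · rw [swap_apply_of_ne_of_ne (fun e => k1 (hβ' k e)) e2] at hx2
        exact k3' hx2
    by_cases e2 : x = k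
    · exfalso
      rw [e2, swap_apply_right] at hx2
      by_cases e3 : β j = k
      · rw [e3, swap_apply_right] at hx2
        exact k1 (hα k hx2.symm)
      · rw [swap_apply_of_ne_of_ne (fun e => hi (hβ' j e)) e3] at hx2
        exact k4' hx2
    rw [swap_apply_of_ne_of_ne e1 e2] at hx2
    by_cases e3 : β x = k
    · rw [e3, swap_apply_right] at hx2
      exact absurd (hα x hx2.symm) hxi
    · rwa [swap_apply_of_ne_of_ne (fun e => hxi (hβ' x e)) e3] at hx2
  · exact (Finset.mem_filter.1 (h (Finset.mem_filter.2 ⟨Finset.mem_univ i, hβ⟩))).2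

theorem exists_moved {a : Perm (Fin n)} (ha : a ≠ 1) : ∃ i, a i ≠ i := by
  by_contra h
  push Not at h
  exact ha (Equiv.ext h)

theorem fix_unique {b : Perm (Fin n)}
    (h : ∀ c : Perm (Fin n), c * b = b * c → c ∈ alternatingGroup (Fin n)) {x y : Fin n}
    (hx : b x = x) (hy : b y = y) : x = y := by
  by_contra e
  have := h (swap x y) (by rw [mul_swap_eq_swap_mul, hx, hy])
  simp [Perm.mem_alternatingGroup, e] at this

theorem no_two {b : Perm (Fin n)}
    (h : ∀ c : Perm (Fin n), c * b = b * c → c ∈ alternatingGroup (Fin n)) {x : Fin n}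
    (hx : b x ≠ x) : b (b x) ≠ x := by
  intro e
  have := h (swap x (b x)) (by rw [mul_swap_eq_swap_mul, e, swap_comm])
  simp [Perm.mem_alternatingGroup, hx.symm] at this

/-- Number of even conjugators sending `x` to `z`. -/
def N (b : Perm (Fin n)) (x z : Fin n) : ℕ :=
  (Finset.univ.filter fun g : alternatingGroup (Fin n) =>
    ((g : Perm (Fin n)) * b * (g : Perm (Fin n))⁻¹) x = z).card

theorem N_smul (b : Perm (Fin n)) {k : Perm (Fin n)} (hk : k ∈ alternatingGroup (Fin n))
    (x z : Fin n) : N b (k x) (k z) = N b x z := by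
  symm
  refine Finset.card_bij (fun g _ => ⟨k, hk⟩ * g) (fun g hg => ?_)
    (fun a _ b _ e => mul_left_cancel e) (fun g hg => ⟨(⟨k, hk⟩ : alternatingGroup (Fin n))⁻¹ * g, ?_, by simp⟩)
  · rw [Finset.mem_filter] at hg ⊢
    refine ⟨Finset.mem_univ _, ?_⟩
    rw [← hg.2]
    simp
  · rw [Finset.mem_filter] at hg ⊢
    refine ⟨Finset.mem_univ _, k.injective ?_⟩
    rw [← hg.2]
    simp

theorem N_le (hn : 5 ≤ n) {b : Perm (Fin n)} (h : ∀ x y, b x = x → b y = y → x = y) (x z : Fin n) :
    (n - 1) * N b x z ≤ Fintype.card (alternatingGroup (Fin n)) := by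
  by_cases e : x = z
  · subst e
    have h1 : ∑ y, N b y y ≤ Fintype.card (alternatingGroup (Fin n)) := by
      simp only [N, Finset.card_filter]
      rw [Finset.sum_comm, ← Finset.card_univ, Finset.card_eq_sum_ones]
      refine Finset.sum_le_sum fun g _ => ?_
      rw [← Finset.card_filter, Finset.card_le_one]
      intro u hu v hv
      have hu' := (Finset.mem_filter.1 hu).2
      have hv' := (Finset.mem_filter.1 hv).2
      rw [Perm.mul_apply, Perm.mul_apply, ← Perm.eq_inv_iff_eq] at hu' hv'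
      exact (g : Perm (Fin n))⁻¹.injective (h _ _ hu' hv')
    have h2 : ∀ y, N b y y = N b x x := by
      intro y
      obtain ⟨u, hu⟩ := exists_not_mem [x] (by simp; omega)
      obtain ⟨v, hv⟩ := exists_not_mem [y] (by simp; omega)
      obtain ⟨k, hk, h3, -⟩ := alt2 hn (a := x) (b := u) (a' := y) (b' := v)
        (fun e => hu (by simp [e])) (fun e => hv (by simp [e]))
      rw [← h3, N_smul b hk]
    simp only [h2, Finset.sum_const, Finset.card_univ, Fintype.card_fin, smul_eq_mul] at h1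
    exact (Nat.mul_le_mul_right _ (Nat.sub_le n 1)).trans h1
  · have h1 : ∑ w, N b x w = Fintype.card (alternatingGroup (Fin n)) := by
      simp only [N]
      rw [← Finset.card_univ, Finset.card_eq_sum_card_fiberwise (f := fun g : alternatingGroup (Fin n) =>
        ((g : Perm (Fin n)) * b * (g : Perm (Fin n))⁻¹) x) (t := Finset.univ) (by simp)]
    have h2 : ∀ w ∈ Finset.univ.erase x, N b x w = N b x z := by
      intro w hw
      obtain ⟨k, hk, h3, h4⟩ := alt2 hn (a := x) (b := z) (a' := x) (b' := w) e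
        (Finset.mem_erase.1 hw).1.symm
      rw [← N_smul b hk x z, h3, h4]
    rw [← h1, ← Finset.add_sum_erase _ _ (Finset.mem_univ x), Finset.sum_congr rfl h2,
      Finset.sum_const, Finset.card_erase_of_mem (Finset.mem_univ _), Finset.card_univ,
      Fintype.card_fin, smul_eq_mul]
    omega

theorem exists_lt_two (hn : 5 ≤ n) (α : Perm (Fin n)) {b : Perm (Fin n)}
    (h : ∀ x y, b x = x → b y = y → x = y) :
    ∃ g ∈ alternatingGroup (Fin n), ag α (g * b * g⁻¹) < 2 := by
  by_contra hc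
  push Not at hc
  have h1 : ∑ g : alternatingGroup (Fin n), ag α ((g : Perm (Fin n)) * b * (g : Perm (Fin n))⁻¹) =
      ∑ x, N b x (α x) := by
    simp only [N, ag, Finset.card_filter]
    exact Finset.sum_comm
  have h2 : Fintype.card (alternatingGroup (Fin n)) * 2 ≤ ∑ x, N b x (α x) := by
    rw [← h1, ← Finset.card_univ, ← smul_eq_mul]
    exact Finset.card_nsmul_le_sum _ _ _ fun g _ => hc g g.2
  have h3 : (n - 1) * ∑ x, N b x (α x) ≤ n * Fintype.card (alternatingGroup (Fin n)) := by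
    rw [Finset.mul_sum]
    refine (Finset.sum_le_sum fun x _ => N_le hn h x (α x)).trans ?_
    simp
  have h4 : 0 < Fintype.card (alternatingGroup (Fin n)) := Fintype.card_pos
  obtain ⟨m, rfl⟩ : ∃ m, n = m + 1 := ⟨n - 1, by omega⟩
  rw [Nat.add_sub_cancel] at h3
  have h5 := Nat.mul_le_mul_left m h2
  nlinarith


/-- Let n ≥ 5 and let a, b be non-identity permutations in the symmetric group S_n. Then the number of fixed points is not constant on the set of products a′b′ with a′ conjugate to a and b′ conjugate to b under the alternating group: there are even permutations g₁, h₁, g₂, h₂ such that (g₁ a g₁⁻¹)(h₁ b h₁⁻¹) and (g₂ a g₂⁻¹)(h₂ b h₂⁻¹) have different numbers of fixed points. -/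
theorem result (n : ℕ) (hn : 5 ≤ n) (a b : Equiv.Perm (Fin n)) (ha : a ≠ 1) (hb : b ≠ 1) :
    ∃ g₁ h₁ g₂ h₂ : Equiv.Perm (Fin n), g₁ ∈ alternatingGroup (Fin n) ∧ h₁ ∈ alternatingGroup (Fin n) ∧ g₂ ∈ alternatingGroup (Fin n) ∧ h₂ ∈ alternatingGroup (Fin n) ∧
      Nat.card (Function.fixedPoints ⇑(g₁ * a * g₁⁻¹ * (h₁ * b * h₁⁻¹))) ≠
        Nat.card (Function.fixedPoints ⇑(g₂ * a * g₂⁻¹ * (h₂ * b * h₂⁻¹))) := by
  by_contra hc
  push Not at hc
  simp only [card_fix] at hc
  have hα : a⁻¹ ≠ 1 := inv_ne_one.2 ha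
  obtain ⟨i, hi⟩ := exists_moved hα
  obtain ⟨y, hy⟩ := exists_moved hb
  have hA : ∀ g ∈ alternatingGroup (Fin n), ag a⁻¹ (g * b * g⁻¹) = ag a⁻¹ b := by
    intro g hg
    simpa using hc 1 g 1 1 (one_mem _) hg (one_mem _) (one_mem _)
  by_cases hS : ∀ g : Perm (Fin n), ag a⁻¹ (g * b * g⁻¹) = ag a⁻¹ b
  · obtain ⟨h, -, h1, h2⟩ := alt2 hn hy.symm hi.symm
    obtain ⟨j, k, h3⟩ := swap_lt hn a⁻¹ (h * b * h⁻¹) hi (by
      rw [← h2, ← h1]; simp)
    have h4 := hS (swap j k * h)
    rw [hS h, ← h4] at h3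
    refine absurd h3 (not_lt.2 (le_of_eq ?_))
    exact congrArg _ (by group)
  push Not at hS
  obtain ⟨g, hg⟩ := hS
  have hodd : ∀ c : Perm (Fin n), c ∉ alternatingGroup (Fin n) → c * g ∈ alternatingGroup (Fin n) ∧
      g * c ∈ alternatingGroup (Fin n) := by
    intro c h
    have h1 : g ∉ alternatingGroup (Fin n) := fun e => hg (hA g e)
    rw [Perm.mem_alternatingGroup] at h h1
    simp [Perm.mem_alternatingGroup, (Int.units_eq_one_or _).resolve_left h,
      (Int.units_eq_one_or _).resolve_left h1]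
  have hb' : ∀ c : Perm (Fin n), c * b = b * c → c ∈ alternatingGroup (Fin n) := by
    intro c h
    by_contra e
    apply hg
    rw [← hA _ (hodd c e).2]
    congr 1
    rw [mul_assoc g c, h]
    group
  have ha' : ∀ c : Perm (Fin n), c * a⁻¹ = a⁻¹ * c → c ∈ alternatingGroup (Fin n) := by
    intro c h
    by_contra e
    apply hg
    rw [← hA _ (hodd c e).1, ← ag_conj c, h, mul_inv_cancel_right]
    exact congrArg _ (by group)
  obtain ⟨h, h0, h1, h2, h3⟩ := alt3 hn hy.symm (no_two hb' hy).symm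
    (fun e => hy (b.injective e).symm) hi.symm (no_two ha' hi).symm
    (fun e => hi (a⁻¹.injective e).symm)
  obtain ⟨k, hk, h4⟩ := exists_lt_two hn a⁻¹ fun x y => fix_unique hb'
  rw [hA k hk, ← hA h h0] at h4
  have h5 : ({i, a⁻¹ i} : Finset (Fin n)) ⊆ Finset.univ.filter fun x => (h * b * h⁻¹) x = a⁻¹ x := by
    intro x hx
    simp only [Finset.mem_insert, Finset.mem_singleton] at hx
    rw [Finset.mem_filter]
    refine ⟨Finset.mem_univ _, ?_⟩
    rcases hx with rfl | rfl
    · rw [← h2, ← h1]; simp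
    · rw [← h3, ← h2]; simp
  have h6 := Finset.card_le_card h5
  rw [Finset.card_pair hi.symm] at h6
  exact absurd h4 (not_lt.2 h6)

end Cfsg.Agent.S2271
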