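import Cfsg.Statements.S2272
import Cfsg.Agent.Base
import Cfsg.Agent.H70.SLConj

set_option autoImplicit false
open Cfsg

namespace Cfsg.Agent.S2272

/-- Let F be a finite field and d ≥ 3, and let a, b be non-identity elements of PSL_d(F). Then the product of the conjugacy classes of a and b is not a single conjugacy class: there are conjugates a′ of a and b′ of b such that a′b′ is not conjugate to ab. -/
theorem result {F : Type*} [Field F] [Fintype F] (d : ℕ) (hd : 3 ≤ d)
    (a b : Matrix.ProjectiveSpecialLinearGroup (Fin d) F) (ha : a ≠ 1) (hb : b ≠ 1) :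
    ∃ g h : Matrix.ProjectiveSpecialLinearGroup (Fin d) F, ¬ IsConj (a * b) (g * a * g⁻¹ * (h * b * h⁻¹)) := by
  obtain ⟨A, rfl⟩ := QuotientGroup.mk_surjective a
  obtain ⟨B, rfl⟩ := QuotientGroup.mk_surjective b
  by_contra hn
  push Not at hn
  have k := H70.exists_conj_trace (by simpa using hd) (H70.not_scalar_of_ne_one ha) (H70.not_scalar_of_ne_one hb)
  obtain ⟨g, h, e⟩ := k 0
  obtain ⟨g', h', e'⟩ := k 1
  exact one_ne_zero (e' ▸ H70.trace_eq_zero_of_isConj ((hn g h).symm.trans (hn g' h')) e)

end Cfsg.Agent.S2272
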