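import Cfsg.Statements.S2276
import Cfsg.Agent.Base
import Cfsg.Agent.H16.AltP3

set_option autoImplicit false
open Cfsg

namespace Cfsg.Agent.S2276

/-- Let n ≥ 5, p ≥ 3 a prime, and u, w non-identity elements of p-power order in the alternating group A_n. Then there is g ∈ A_n such that u·(g w g⁻¹) does not have p-power order and ⟨u, g w g⁻¹⟩ is not solvable. -/
theorem result (n : ℕ) (hn : 5 ≤ n) (p : ℕ) (hp : p.Prime) (hp3 : 3 ≤ p) (u w : alternatingGroup (Fin n)) (hu : u ≠ 1) (hw : w ≠ 1)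
    (hu' : ∃ k : ℕ, orderOf u = p ^ k) (hw' : ∃ k : ℕ, orderOf w = p ^ k) :
    ∃ g : alternatingGroup (Fin n), (¬ ∃ k : ℕ, orderOf (u * (g * w * g⁻¹)) = p ^ k) ∧
      ¬ Group.IsSolvable ↥(Subgroup.closure ({u, g * w * g⁻¹} : Set (alternatingGroup (Fin n)))) := by
  obtain ⟨g, hg, h1, h2⟩ := H16.AltP.concl hn hp hp3 (u := u.1) (w := w.1)
    (fun h => hu (Subtype.ext h)) (fun h => hw (Subtype.ext h))
    (by simpa only [Subgroup.orderOf_coe] using hu') (by simpa only [Subgroup.orderOf_coe] using hw') 1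
  let g' : alternatingGroup (Fin n) := ⟨g, Equiv.Perm.mem_alternatingGroup.2 hg⟩
  refine ⟨g', fun ⟨k, hk⟩ => h1 k ?_, fun hs => h2 ?_⟩
  · have := pow_orderOf_eq_one (u * (g' * w * g'⁻¹))
    rw [hk] at this
    exact congrArg Subtype.val this
  · have e : (Subgroup.closure ({u, g' * w * g'⁻¹} : Set (alternatingGroup (Fin n)))).map
        (alternatingGroup (Fin n)).subtype =
        Subgroup.closure ({u.1, g * w.1 * g⁻¹} : Set (Equiv.Perm (Fin n))) := by
      rw [MonoidHom.map_closure, Set.image_pair]; rfl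
    rw [← e]
    exact Group.isSolvable_of_surjective (MonoidHom.subgroupMap_surjective _ _)

end Cfsg.Agent.S2276
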