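import Cfsg.Statements.S2277
import Cfsg.Agent.Base
import Cfsg.Agent.H1.InvSylow
import Cfsg.Agent.H1.Coprime2
import Cfsg.Agent.H12.Basic
import Cfsg.Agent.H2.Fitting
import Cfsg.Agent.H98.Sylow

set_option autoImplicit false
open Cfsg

namespace Cfsg.Agent.S2277

section

set_option linter.unusedSectionVars false

open Subgroup
open scoped commutatorElement

variable {A K : Type*} [Group A] [Finite A] [Group K] [Finite K] [MulDistribMulAction A K]
  [FaithfulSMul A K] {p : ℕ} [hp : Fact p.Prime]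

variable (K) in
/-- The fixed points of `c`. -/
def fx (c : A) : Subgroup K := (MulDistribMulAction.toMonoidHom K c).eqLocus (MonoidHom.id K)

theorem mem_fx {c : A} {x : K} : x ∈ fx K c ↔ c • x = x := Iff.rfl

theorem card_fx (g c : A) : Nat.card (fx K (g * c * g⁻¹)) = Nat.card (fx K c) :=
  Nat.card_congr (Equiv.subtypeEquiv (MulAction.toPerm g⁻¹) fun x => by
    rw [mem_fx, mem_fx, mul_smul, mul_smul, MulAction.toPerm_apply, smul_eq_iff_eq_inv_smul])

variable (hA : IsPGroup p A) (p2 : p ≠ 2) (hK : (Nat.card K).Coprime p) {M : Subgroup K}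
  (hM : ∀ x, x ∈ M ↔ ∀ a : A, a • x = x) (hc : commutator K ≤ M)
  (hmin : ∀ L : Subgroup K, L ≠ ⊤ → (∀ a : A, ∀ x ∈ L, a • x ∈ L) → L ≤ M)
include hA p2 hK hM hc hmin

theorem small [Nontrivial A] {C : Set A} (hC : closure C = ⊤) :
    ∃ c ∈ C, Nat.card (fx K c) ^ 3 ≤ Nat.card K * Nat.card M ^ 2 := by
  have zc : ∀ z ∈ center A, z ≠ 1 → fx K z ≤ M := fun z hz z1 => hmin _
    (fun e => z1 (eq_of_smul_eq_smul fun x : K => (e.ge (mem_top x)).trans (one_smul A x).symm))
    fun a x hx => by rw [mem_fx, ← mul_smul, ← mem_center_iff.1 hz, mul_smul, mem_fx.1 hx]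
  have nm : ∀ a : A, (fx K a).Normal := fun a =>
    Normal.of_commutator_le _ (hc.trans fun x hx => (hM x).1 hx a)
  by_cases h1 : center A = ⊤
  · obtain ⟨c, hc, c1⟩ : ∃ c ∈ C, c ≠ 1 := by
      by_contra! h
      exact bot_ne_top ((closure_eq_bot_iff.2 h).symm.trans hC)
    have := card_le_of_le (zc c (h1.ge (mem_top c)) c1)
    refine ⟨c, hc, (Nat.pow_le_pow_left this 3).trans ?_⟩
    rw [pow_succ']
    exact Nat.mul_le_mul_right _ (card_le_card_group M)
  have := hA.isNilpotent
  obtain ⟨e, e2, e1⟩ : ∃ e ∈ Subgroup.upperCentralSeries A 2, e ∉ Subgroup.upperCentralSeries A 1 :=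
    SetLike.not_le_iff_exists.1 fun h => h1 (Subgroup.upperCentralSeries_one A ▸ Subgroup.upperCentralSeries.eq_top
      (a := 1) (b := 2) (by omega) (le_antisymm (Subgroup.upperCentralSeries_mono A (by omega)) h))
  rw [Subgroup.mem_upperCentralSeries_succ_iff, Subgroup.upperCentralSeries_one] at e2
  rw [Subgroup.upperCentralSeries_one] at e1
  obtain ⟨c, hc, z1⟩ : ∃ c ∈ C, ⁅e, c⁆ ≠ 1 := by
    by_contra! h
    exact e1 (mem_center_iff.2 fun g => mem_centralizer_singleton_iff.1 (((closure_le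
      (centralizer {e})).2 fun c hc => mem_centralizer_singleton_iff.2
      (commutatorElement_eq_one_iff_mul_comm.1 (h c hc)).symm) (hC.ge (mem_top g))))
  have hz := e2 c
  have c1 : e * c * e⁻¹ = ⁅e, c⁆ * c := by rw [commutatorElement_def, inv_mul_cancel_right]
  generalize ⁅e, c⁆ = z at z1 hz c1
  have c2 : e * (z * c) * e⁻¹ = z * (z * c) := by
    rw [← mul_assoc, mem_center_iff.1 hz e, mul_assoc z, mul_assoc z, c1]
  have z2 : z * z ≠ 1 := fun h => by
    obtain ⟨k, hk⟩ := hA z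
    exact z1 (orderOf_eq_one_iff.1 (Nat.eq_one_of_dvd_coprimes
      (((Nat.coprime_primes Nat.prime_two hp.out).2 p2.symm).pow_right k)
      (orderOf_dvd_of_pow_eq_one ((pow_two z).trans h)) (orderOf_dvd_of_pow_eq_one hk)))
  have fo : ∀ (a : A) (v : K), a • v * v⁻¹ ∈ M → a • v = v := fun a v h => by
    have : ∀ n : ℕ, a ^ n • v = (a • v * v⁻¹) ^ n * v := fun n => by
      induction n with
      | zero => simp
      | succ n ih => rw [pow_succ', mul_smul, ih, smul_mul', (hM _).1 (pow_mem h n), pow_succ,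
          mul_assoc, inv_mul_cancel_right]
    obtain ⟨k, hk⟩ := hA a
    have := this (p ^ k)
    rw [hk, one_smul, right_eq_mul] at this
    exact mul_inv_eq_one.1 (orderOf_eq_one_iff.1 (Nat.eq_one_of_dvd_coprimes (hK.pow_right k)
      (orderOf_dvd_natCard _) (orderOf_dvd_of_pow_eq_one this)))
  have i1 : fx K c ⊓ fx K (z * c) ≤ M := fun x hx => zc z hz z1 (by
    have := mem_fx.1 hx.2
    rwa [mul_smul, mem_fx.1 hx.1] at this)
  have cz : ∀ x : K, c • z • x = z • c • x := fun x => by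
    rw [← mul_smul, mem_center_iff.1 hz, mul_smul]
  have i2 : (fx K c ⊔ fx K (z * c)) ⊓ fx K (z * (z * c)) ≤ M := fun x hx => by
    have := nm (z * c)
    obtain ⟨u, hu, v, hv, rfl⟩ := mem_sup_of_normal_right.1 hx.1
    have h := mem_fx.1 hx.2
    rw [smul_mul', mul_smul z _ v, mem_fx.1 hv, mul_smul, mul_smul, mem_fx.1 hu] at h
    have h' : z • z • u⁻¹ * u⁻¹⁻¹ = z • v * v⁻¹ := by
      rw [smul_inv', smul_inv', inv_inv, inv_mul_eq_iff_eq_mul, ← mul_assoc, h, mul_inv_cancel_right]
    have m : z • v * v⁻¹ ∈ M := i1 ⟨mem_fx.2 (by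
      rw [← h', smul_mul', cz, cz, inv_inv, smul_inv', mem_fx.1 hu]), mem_fx.2 (by
      rw [smul_mul', smul_inv', mem_fx.1 hv, mul_smul, cz, ← mul_smul z c, mem_fx.1 hv])⟩
    refine mul_mem (inv_mem_iff.1 (zc _ (mul_mem hz hz) z2 (fo _ _ ?_))) (zc z hz z1 (fo _ _ m))
    rwa [mul_smul, h']
  have n1 := H12.card_sup_mul_card_inf (A := fx K c) (B := fx K (z * c))
    (by have := nm (z * c); exact le_normalizer_of_normal)
  have n2 := H12.card_sup_mul_card_inf (A := fx K c ⊔ fx K (z * c)) (B := fx K (z * (z * c)))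
    (by have := nm (z * (z * c)); exact le_normalizer_of_normal)
  have l1 := Nat.mul_le_mul_left (Nat.card ↥(fx K c ⊔ fx K (z * c))) (card_le_of_le i1)
  have l2 := Nat.mul_le_mul (card_le_card_group (fx K c ⊔ fx K (z * c) ⊔ fx K (z * (z * c))))
    (card_le_of_le i2)
  rw [n1, ← c1, card_fx, c1] at l1
  rw [n2, ← c2, card_fx, ← c1, card_fx, c1] at l2
  refine ⟨c, hc, ?_⟩
  calc _ = Nat.card (fx K c) * Nat.card (fx K c) * Nat.card (fx K c) := by ring
    _ ≤ _ := Nat.mul_le_mul_right _ l1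
    _ = _ := mul_right_comm _ _ _
    _ ≤ _ := Nat.mul_le_mul_right _ l2
    _ = _ := by ring

theorem act {C D : Set A} (hC : closure C = ⊤) (hD : closure D = ⊤)
    (h : ∀ c ∈ C, ∀ d ∈ D, fx K d ⊔ fx K c = ⊤) : Subsingleton A := by
  by_contra! hn
  obtain ⟨c, hc', l1⟩ := small hA p2 hK hM hc hmin hC
  obtain ⟨d, hd, l2⟩ := small hA p2 hK hM hc hmin hD
  have : (fx K c).Normal := Normal.of_commutator_le _ (hc.trans fun x hx => (hM x).1 hx c)
  have n := H12.card_sup_mul_card_inf (A := fx K d) (B := fx K c) le_normalizer_of_normal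
  rw [h c hc' d hd, card_top] at n
  have l := Nat.mul_le_mul_left (Nat.card K) (card_le_of_le (show M ≤ fx K d ⊓ fx K c from
    fun x hx => ⟨(hM x).1 hx d, (hM x).1 hx c⟩))
  have l3 := (Nat.pow_le_pow_left (l.trans n.le) 3).trans ((mul_pow _ _ _).le.trans
    (Nat.mul_le_mul l2 l1))
  have : M = ⊤ := eq_top_of_le_card _ (Nat.le_of_mul_le_mul_left
    (c := Nat.card K ^ 2 * Nat.card M ^ 3) (by linarith)
    (Nat.mul_pos (pow_pos Nat.card_pos _) (pow_pos Nat.card_pos _)))
  obtain ⟨a, a1⟩ := exists_ne (1 : A)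
  exact a1 (eq_of_smul_eq_smul fun x : K => ((hM x).1 (this.ge (mem_top x)) a).trans
    (one_smul A x).symm)

end


/-- Let p ≥ 3 be prime and G a finite group with a Sylow p-subgroup P and a normal p-complement N (N normal, of order prime to p, with NP = G). Suppose P is generated by a subset C and also by a subset D, and that ⟨x c x⁻¹, d⟩ is a p-group for all x ∈ N, c ∈ C, d ∈ D. Then P centralizes N, so that G = N × P. -/
theorem result {G : Type*} [Group G] [Finite G] (p : ℕ) [Fact p.Prime] (hp3 : 3 ≤ p) (P : Sylow p G)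
    (N : Subgroup G) [N.Normal] (hN : (Nat.card N).Coprime p) (hNP : N ⊔ (P : Subgroup G) = ⊤)
    (C D : Set G) (hC : Subgroup.closure C = (P : Subgroup G)) (hD : Subgroup.closure D = (P : Subgroup G))
    (h : ∀ x ∈ N, ∀ c ∈ C, ∀ d ∈ D, IsPGroup p ↥(Subgroup.closure ({x * c * x⁻¹, d} : Set G))) :
    ⁅(P : Subgroup G), N⁆ = ⊥ := by
  have hp : p.Prime := Fact.out
  have dis := H2.disjoint_of_isPGroup_of_coprime P.isPGroup' hN
  have key : ∀ n, ∀ K : Subgroup G, Nat.card K = n → K ≤ N →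
      (P : Subgroup G) ≤ Subgroup.normalizer (K : Set G) → K ≤ Subgroup.centralizer P := by
    intro n
    induction n using Nat.strong_induction_on with
    | _ n ih =>
    intro K hn KN PK
    have cop : (Nat.card K).Coprime p := hN.coprime_dvd_left (Subgroup.card_dvd_of_le KN)
    set φ := H1.restrictAut (H1.conjAut (P : Subgroup G)) K (H1.conjAut_mem PK)
    have hM : ∀ x : K, x ∈ FixedPoints.subgroup φ.range K ↔ (x : G) ∈ Subgroup.centralizer P :=
      fun x => ⟨fun h g hg => mul_inv_eq_iff_eq_mul.1 (congrArg Subtype.val (h ⟨_, ⟨g, hg⟩, rfl⟩)),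
        fun h ⟨_, g, e⟩ => by
          subst e
          exact Subtype.ext (mul_inv_eq_iff_eq_mul.2 (h g g.2))⟩
    have hmin : ∀ L : Subgroup K, L ≠ ⊤ → (∀ a : φ.range, ∀ x ∈ L, a • x ∈ L) →
        L ≤ FixedPoints.subgroup φ.range K := fun L hL hi x hx => (hM x).2 (ih _ (by
      rw [Subgroup.card_subtype, ← hn]
      exact (L.card_le_card_group).lt_of_ne fun e => hL (L.eq_top_of_card_eq e)) (L.map K.subtype) rfl ((Subgroup.map_subtype_le L).trans KN)
      (H1.le_normalizer_of_conj_mem (by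
        rintro g hg _ ⟨y, hy, rfl⟩
        exact ⟨_, hi ⟨_, ⟨g, hg⟩, rfl⟩ y hy, rfl⟩)) ⟨x, hx, rfl⟩)
    suffices FixedPoints.subgroup φ.range K = ⊤ from fun x hx =>
      (hM ⟨x, hx⟩).1 (this.ge (Subgroup.mem_top _))
    by_cases hc : commutator K = ⊤
    · refine H2.eq_top_of_forall_sylow_le fun r _ hr => ?_
      obtain ⟨R, hR⟩ := H1.exists_invariant_sylow φ
        (H2.coprime_card_of_isPGroup P.isPGroup' cop) (Or.inl (H1.isSolvable_of_isPGroup P.isPGroup')) r
      refine ⟨R, hmin _ (fun e => ?_) fun ⟨_, g, e⟩ => by subst e; exact hR g⟩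
      have := (H98.isPGroup_top_iff.1 (e ▸ R.isPGroup')).isNilpotent
      have := Finite.one_lt_card_iff_nontrivial.1
        ((Fact.out : r.Prime).one_lt.trans_le (Nat.le_of_dvd Nat.card_pos hr))
      exact (Group.IsSolvable.commutator_lt_top_of_nontrivial K).ne hc
    have gen : ∀ C : Set G, Subgroup.closure C = P →
        Subgroup.closure (φ.rangeRestrict '' (Subtype.val ⁻¹' C)) = ⊤ := fun C hC =>
      eq_top_iff.2 fun ⟨_, g, e⟩ _ => by
        subst e
        obtain ⟨g', h1, h2⟩ := (Subgroup.closure_le (((Subgroup.closure (φ.rangeRestrict ''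
          (Subtype.val ⁻¹' C))).comap φ.rangeRestrict).map (P : Subgroup G).subtype)).2
          (fun c hc => ⟨⟨c, hC ▸ Subgroup.subset_closure hc⟩,
            Subgroup.subset_closure ⟨_, hc, rfl⟩, rfl⟩) (hC.ge g.2)
        obtain rfl : g' = g := Subtype.ext h2
        exact h1
    have := act (P.isPGroup'.of_surjective _ φ.rangeRestrict_surjective) (by omega) cop
      (fun _ => Iff.rfl) (hmin _ hc fun a x hx => Subgroup.characteristic_iff_le_comap.1
        inferInstance a.1 hx) hmin (gen C hC) (gen D hD) (by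
      rintro _ ⟨c, hc, rfl⟩ _ ⟨d, hd, rfl⟩
      refine eq_top_iff.2 fun x _ => ?_
      obtain ⟨g, hg, le⟩ := (H98.isSyl_sylow_of_le P (le_sup_right (a := K))).exists_le_cj
        (h x (KN x.2) c hc d hd) ((Subgroup.closure_le _).2 (by
          rintro _ (rfl | rfl)
          · exact mul_mem (mul_mem (Subgroup.mem_sup_left x.2) (Subgroup.mem_sup_right c.2))
              (inv_mem (Subgroup.mem_sup_left x.2))
          · exact Subgroup.mem_sup_right d.2))
      obtain ⟨y, hy, u, hu, rfl⟩ := (H12.mem_sup_of_le_normalizer' PK).1 hg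
      rw [← H98.cj_cj, H98.cj_eq_self_of_mem hu] at le
      have k : ∀ (w : K) (a : (P : Subgroup G)), (w : G)⁻¹ * a * w ∈ (P : Subgroup G) →
          w ∈ fx K (φ.rangeRestrict a) := fun w a e => Subtype.ext (by
        have := Subgroup.disjoint_def.1 dis (mul_mem e (inv_mem a.2)) (by
          rw [mul_assoc, mul_assoc, ← mul_assoc (a : G)]
          exact mul_mem (inv_mem (KN w.2)) (Subgroup.Normal.conj_mem inferInstance _ (KN w.2) _))
        rw [mul_assoc, mul_assoc, ← mul_assoc (a : G), inv_mul_eq_one] at this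
        exact this.symm)
      rw [← mul_inv_cancel_left ⟨y, hy⟩ x]
      refine mul_mem (Subgroup.mem_sup_left (k _ d (H98.mem_cj.1 (le (Subgroup.subset_closure
        (by simp)))))) (Subgroup.mem_sup_right (inv_mem_iff.1 (k _ c ?_)))
      have := H98.mem_cj.1 (le (Subgroup.subset_closure (Set.mem_insert _ _)))
      simpa [mul_assoc] using this)
    exact eq_top_iff.2 fun x _ a => by rw [Subsingleton.elim a 1, one_smul]
  rw [Subgroup.commutator_comm, Subgroup.commutator_eq_bot_iff_le_centralizer]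
  exact key _ N rfl le_rfl Subgroup.le_normalizer_of_normal

end Cfsg.Agent.S2277
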