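import Cfsg.Statements.S2336
import Cfsg.Agent.H45.CentRank
import Cfsg.Agent.H2.MDSL2

set_option autoImplicit false
open Cfsg

namespace Cfsg.Agent.S2336

open Matrix MulAction

/-- Nonzero vectors. -/
def NZ (F : Type*) [Field F] (n : ℕ) : Type _ := {v : Fin n → F // v ≠ 0}

variable {F : Type*} [Field F] {n : ℕ}

instance [Finite F] : Finite (NZ F n) := inferInstanceAs (Finite {v : Fin n → F // v ≠ 0})

instance : MulAction (Matrix.SpecialLinearGroup (Fin n) F) (NZ F n) where
  smul g v := ⟨(g : Matrix (Fin n) (Fin n) F).mulVec v.1, fun h => v.2 (by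
    have := congrArg (((g⁻¹ : Matrix.SpecialLinearGroup (Fin n) F) : Matrix (Fin n) (Fin n) F).mulVec ·) h
    simp only [mulVec_mulVec, mulVec_zero] at this
    rwa [← Matrix.SpecialLinearGroup.coe_mul, inv_mul_cancel, Matrix.SpecialLinearGroup.coe_one,
      one_mulVec] at this)⟩
  one_smul v := Subtype.ext (one_mulVec v.1)
  mul_smul g h v := Subtype.ext (mulVec_mulVec v.1 g.1 h.1).symm

theorem smul_val (g : Matrix.SpecialLinearGroup (Fin n) F) (v : NZ F n) :
    (g • v).1 = (g : Matrix (Fin n) (Fin n) F).mulVec v.1 := rfl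

instance : MulAction Fˣ (NZ F n) where
  smul c v := ⟨(c : F) • v.1, smul_ne_zero c.ne_zero v.2⟩
  one_smul v := Subtype.ext (one_smul F v.1)
  mul_smul c d v := Subtype.ext (mul_smul (c : F) (d : F) v.1)

theorem usmul_val (c : Fˣ) (v : NZ F n) : (c • v).1 = (c : F) • v.1 := rfl

theorem smul_comm' (g : Matrix.SpecialLinearGroup (Fin n) F) (c : Fˣ) (v : NZ F n) :
    g • c • v = c • g • v := Subtype.ext (mulVec_smul g.1 (c : F) v.1)

theorem usmul_inj {c d : Fˣ} {v : NZ F n} (h : c • v = d • v) : c = d :=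
  Units.ext (smul_left_injective F v.2 (congrArg Subtype.val h))

theorem exists_pair (hn : 3 ≤ n) {u w u' w' : NZ F n} (h : ∀ c : Fˣ, w ≠ c • u)
    (h' : ∀ c : Fˣ, w' ≠ c • u') :
    ∃ g : Matrix.SpecialLinearGroup (Fin n) F, g • u = u' ∧ g • w = w' := by
  have key : ∀ {u w : NZ F n}, (∀ c : Fˣ, w ≠ c • u) → LinearIndependent F ![u.1, w.1] := by
    intro u w h
    refine H2.MD.li_pair u.2 fun hw => ?_
    obtain ⟨c, hc⟩ := Submodule.mem_span_singleton.1 hw
    have hc0 : c ≠ 0 := by
      rintro rfl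
      exact w.2 (by rw [← hc, zero_smul])
    exact h (Units.mk0 c hc0) (Subtype.ext hc.symm)
  obtain ⟨g, h1, h2⟩ := H2.MD.exists_sl_pair (by simpa using hn) (key h) (key h')
  refine ⟨⟨LinearMap.toMatrix' (g.1 : (Fin n → F) →ₗ[F] (Fin n → F)), ?_⟩, Subtype.ext ?_,
    Subtype.ext ?_⟩
  · rw [LinearMap.det_toMatrix', ← LinearEquiv.coe_det, g.2, Units.val_one]
  · exact (LinearMap.toMatrix'_mulVec _ _).trans h1
  · exact (LinearMap.toMatrix'_mulVec _ _).trans h2

theorem exists_indep (hn : 3 ≤ n) (u : NZ F n) : ∃ w : NZ F n, ∀ c : Fˣ, w ≠ c • u := by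
  obtain ⟨w, -, hw⟩ := H2.MD.exists_notMem (F := F) (p := Submodule.span F {u.1}) (q := ⊤) (by
    rw [finrank_span_singleton u.2, finrank_top]
    simp only [Module.finrank_fintype_fun_eq_card, Fintype.card_fin]
    omega)
  refine ⟨⟨w, fun h => hw (by rw [h]; exact Submodule.zero_mem _)⟩, fun c hc => hw ?_⟩
  exact Submodule.mem_span_singleton.2 ⟨c, (congrArg Subtype.val hc).symm⟩

theorem trans (hn : 3 ≤ n) : IsPretransitive (Matrix.SpecialLinearGroup (Fin n) F) (NZ F n) :=
  ⟨fun u v => by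
    obtain ⟨w, hw⟩ := exists_indep hn u
    obtain ⟨w', hw'⟩ := exists_indep hn v
    obtain ⟨g, hg, -⟩ := exists_pair hn hw hw'
    exact ⟨g, hg⟩⟩

theorem scale (hn : 3 ≤ n) (c : Fˣ) (u w : NZ F n) :
    ∃ g : Matrix.SpecialLinearGroup (Fin n) F, g • u = c • u ∧ g • w = c • w := by
  by_cases h : ∃ d : Fˣ, w = d • u
  · obtain ⟨d, rfl⟩ := h
    obtain ⟨g, hg⟩ := (trans hn).exists_smul_eq u (c • u)
    exact ⟨g, hg, by rw [smul_comm', hg, ← mul_smul, ← mul_smul, mul_comm]⟩
  · push Not at h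
    refine exists_pair hn h fun d e => h d ?_
    rw [← mul_smul, mul_comm, mul_smul] at e
    exact MulAction.injective c e

theorem comm (hn : 3 ≤ n) [Fintype F] [DecidableEq F] [Fintype (NZ F n)] [DecidableEq (NZ F n)]
    (A B : Matrix (NZ F n) (NZ F n) ℂ)
    (hA : H45.InvM (Matrix.SpecialLinearGroup (Fin n) F) A)
    (hB : H45.InvM (Matrix.SpecialLinearGroup (Fin n) F) B) : A * B = B * A := by
  haveI := trans (F := F) hn
  ext u v
  obtain ⟨a', ha'⟩ := exists_indep hn u
  have hdec : ∀ x y, B x y = B u a' +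
      ∑ c : Fˣ, if y = c • x then B u (c • u) - B u a' else 0 := by
    intro x y
    by_cases h : ∃ d : Fˣ, y = d • x
    · obtain ⟨d, rfl⟩ := h
      rw [Finset.sum_eq_single d (fun c _ hc => if_neg fun e => hc (usmul_inj e).symm)
        (by simp), if_pos rfl, add_sub_cancel]
      obtain ⟨g, rfl⟩ := exists_smul_eq (Matrix.SpecialLinearGroup (Fin n) F) u x
      rw [← smul_comm', hB]
    · push Not at h
      rw [Finset.sum_eq_zero fun c _ => if_neg (h c), add_zero]
      obtain ⟨g, h1, h2⟩ := exists_pair hn ha' h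
      rw [← h1, ← h2, hB]
  have hsc : ∀ c : Fˣ, A u (c⁻¹ • v) = A (c • u) v := by
    intro c
    obtain ⟨g, h1, h2⟩ := scale hn c u (c⁻¹ • v)
    rw [← hA g, h1, h2, smul_inv_smul]
  rw [Matrix.mul_apply, Matrix.mul_apply]
  rw [Finset.sum_congr rfl fun w _ => congrArg (A u w * ·) (hdec w v),
    Finset.sum_congr rfl fun w _ => congrArg (· * A w v) (hdec u w)]
  simp only [mul_add, add_mul, Finset.sum_add_distrib, Finset.mul_sum, Finset.sum_mul]
  congr 1
  · rw [← Finset.sum_mul, ← Finset.mul_sum, hA.sum_col u v, mul_comm]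
  · rw [Finset.sum_comm, Finset.sum_comm (f := fun w (c : Fˣ) => _ * A w v)]
    refine Finset.sum_congr rfl fun c _ => ?_
    simp only [← inv_smul_eq_iff (a := v), mul_ite, ite_mul, mul_zero, zero_mul,
      Finset.sum_ite_eq, Finset.sum_ite_eq', Finset.mem_univ, if_true]
    rw [hsc, mul_comm]

theorem rank (hn : 3 ≤ n) [Fintype F] (a : NZ F n) :
    Nat.card (orbitRel.Quotient (stabilizer (Matrix.SpecialLinearGroup (Fin n) F) a) (NZ F n)) =
      Fintype.card F := by
  classical
  obtain ⟨a', ha'⟩ := exists_indep hn a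
  have hfix : ∀ (c : Fˣ) (x : NZ F n), x ∈ orbit
      (stabilizer (Matrix.SpecialLinearGroup (Fin n) F) a) (c • a) → x = c • a := by
    rintro c x ⟨g, rfl⟩
    show (g : Matrix.SpecialLinearGroup (Fin n) F) • c • a = _
    rw [smul_comm', mem_stabilizer_iff.1 g.2]
  let f : Option Fˣ →
      orbitRel.Quotient (stabilizer (Matrix.SpecialLinearGroup (Fin n) F) a) (NZ F n) :=
    fun o => o.elim (Quotient.mk'' a') fun c => Quotient.mk'' (c • a)
  have hf : Function.Bijective f := by
    constructor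
    · rintro (_ | c) (_ | d) h
      · rfl
      · exact absurd (hfix d _ (Quotient.eq''.1 h)) (ha' d)
      · exact absurd (hfix c _ (Quotient.eq''.1 h.symm)) (ha' c)
      · rw [usmul_inj (hfix d _ (Quotient.eq''.1 h))]
    · intro q
      induction q using Quotient.inductionOn' with
      | h x =>
        by_cases h : ∃ d : Fˣ, x = d • a
        · obtain ⟨d, rfl⟩ := h
          exact ⟨some d, rfl⟩
        · push Not at h
          obtain ⟨g, h1, h2⟩ := exists_pair hn h ha'
          exact ⟨none, Quotient.eq''.2 ⟨⟨g, h1⟩, h2⟩⟩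
  rw [← Nat.card_eq_of_bijective f hf, Nat.card_eq_fintype_card, Fintype.card_option,
    Fintype.card_units]
  have := Fintype.card_pos (α := F)
  omega


/-- Let F be a finite field with q elements and n ≥ 3. The permutation character of SL_n(F) on the non-zero vectors of F^n (the function sending a matrix to the number of non-zero vectors it fixes) is the sum of the principal character and q − 1 pairwise distinct irreducible complex characters. -/
theorem result {F : Type*} [Field F] [Fintype F] [DecidableEq F] (n : ℕ) (hn : 3 ≤ n) :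
    ∃ χ : Fin (Fintype.card F - 1) → (Matrix.SpecialLinearGroup (Fin n) F → ℂ),
      (∀ i, Cfsg.IsIrrCharacter (Matrix.SpecialLinearGroup (Fin n) F) (χ i)) ∧ Function.Injective χ ∧
      ∀ g : Matrix.SpecialLinearGroup (Fin n) F,
        (Nat.card {v : Fin n → F // v ≠ 0 ∧ (g : Matrix (Fin n) (Fin n) F).mulVec v = v} : ℂ) = 1 + ∑ i, χ i g := by
  classical
  letI : Fintype (NZ F n) := Fintype.ofFinite _
  haveI := trans (F := F) hn
  let a : NZ F n := ⟨Pi.single ⟨0, by omega⟩ 1, by simp⟩
  obtain ⟨c, hc, h1, h2, -⟩ := H45.exists_perm_coeffs (G := Matrix.SpecialLinearGroup (Fin n) F) a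
  have h01 : ∀ χ, c χ = 0 ∨ c χ = 1 := by
    intro χ
    have := H45.multFree_of_invM_comm (comm hn) χ.2
    rw [hc] at this
    exact_mod_cast this
  set S := (Finset.univ.erase (default : IrrCharacter (Matrix.SpecialLinearGroup (Fin n) F))).filter
    fun χ => c χ = 1 with hS
  have hcard : S.card = Fintype.card F - 1 := by
    rw [rank hn] at h2
    rw [h2, Nat.add_sub_cancel_left, hS, Finset.card_filter]
    refine Finset.sum_congr rfl fun χ _ => ?_
    rcases h01 χ with h | h <;> simp [h]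
  let e : Fin (Fintype.card F - 1) ≃ S := (Finset.equivFinOfCardEq hcard).symm
  refine ⟨fun i => (e i).1.1, fun i => (e i).1.2,
    fun i j h => e.injective (Subtype.ext (Subtype.ext h)), fun g => ?_⟩
  have h3 := H28.Cfsg.IsClassFunction.apply_eq_sum_irr
    (H28.Cfsg.IsCharacter.isClassFunction
      (H30.isCharacter_fixChar (G := Matrix.SpecialLinearGroup (Fin n) F) (NZ F n))) g
  have h4 : Nat.card {v : Fin n → F // v ≠ 0 ∧ (g : Matrix (Fin n) (Fin n) F).mulVec v = v} =
      Nat.card (fixedBy (NZ F n) g) :=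
    Nat.card_congr ⟨fun v => ⟨⟨v.1, v.2.1⟩, Subtype.ext v.2.2⟩,
      fun v => ⟨v.1.1, v.1.2, congrArg Subtype.val v.2⟩, fun _ => rfl, fun _ => rfl⟩
  rw [h4, ← H30.fixChar_apply, h3, ← Finset.add_sum_erase _ _ (Finset.mem_univ default), hc, h1,
    e.sum_comp (fun x : S => x.1.1 g), Finset.sum_coe_sort S (fun x => x.1 g), hS,
    Finset.sum_filter]
  congr 1
  · rw [Nat.cast_one, one_mul]
    rfl
  · refine Finset.sum_congr rfl fun χ _ => ?_
    rw [hc]
    rcases h01 χ with h | h <;> simp [h]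

end Cfsg.Agent.S2336
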