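import Cfsg.Statements.S2403
import Cfsg.Agent.Base
import Cfsg.Agent.H57.TwoGen

set_option autoImplicit false
open Cfsg

namespace Cfsg.Agent.S2403

/-- Explicit two-element generation of `PSL_{n+1}(K)` over the fields with two or three elements: with `x = 1 + E₁₂` and `w` the monomial matrix with entries `1` in positions `(i, i+1)` and `(−1)^n` in position `(n+1, 1)`, the elements `x` and `w` generate `SL_{n+1}(K)` modulo its centre. -/
theorem result {K : Type*} [Field K] [Fintype K] (hK : Fintype.card K ≤ 3) (n : ℕ) (hn : 1 ≤ n)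
    (x w : Matrix.SpecialLinearGroup (Fin (n + 1)) K)
    (hx : (x : Matrix (Fin (n + 1)) (Fin (n + 1)) K) = Matrix.transvection (0 : Fin (n + 1)) (1 : Fin (n + 1)) 1)
    (hw : (w : Matrix (Fin (n + 1)) (Fin (n + 1)) K) =
      Matrix.of (fun i j => if j.val = i.val + 1 then 1 else if i.val = n ∧ j.val = 0 then (-1) ^ n else 0)) :
    Subgroup.closure ({x, w} : Set (Matrix.SpecialLinearGroup (Fin (n + 1)) K)) ⊔
      Subgroup.center (Matrix.SpecialLinearGroup (Fin (n + 1)) K) = ⊤ := by
  rw [eq_top_iff]
  refine le_trans ?_ le_sup_left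
  rw [top_le_iff]
  have h01 := H57.fin_ne_add_one hn 0
  have hx' : x = Matrix.SpecialLinearGroup.transvection h01 1 := by
    rw [H57.sl_ext_iff, hx, Matrix.SpecialLinearGroup.transvection_coe, Matrix.transvection, zero_add]
  refine H57.sl_eq_top_of_cox hn _ (w := w) (fun i j => by rw [hw]; exact H57.cox_eq i j)
    (Subgroup.subset_closure (by simp)) fun c => ?_
  have hxH : x ∈ Subgroup.closure ({x, w} : Set (Matrix.SpecialLinearGroup (Fin (n + 1)) K)) :=
    Subgroup.subset_closure (by simp)
  have hc : c = 0 ∨ c = 1 ∨ c = -1 := by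
    by_contra h
    push Not at h
    classical
    have h2 : c⁻¹ = c := by
      by_contra h3
      have : ({0, 1, c, c⁻¹} : Finset K).card = 4 := by
        rw [Finset.card_eq_four]
        exact ⟨0, 1, c, c⁻¹, zero_ne_one, h.1.symm, (inv_ne_zero h.1).symm, h.2.1.symm,
          fun e => h.2.1 (inv_eq_one.1 e.symm), Ne.symm h3, rfl⟩
      have := Finset.card_le_univ ({0, 1, c, c⁻¹} : Finset K)
      omega
    have h4 : c * c = 1 := by nth_rewrite 1 [← h2]; exact inv_mul_cancel₀ h.1
    rcases mul_self_eq_one_iff.1 h4 with e | e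
    · exact h.2.1 e
    · exact h.2.2 e
  rcases hc with rfl | rfl | rfl
  · rw [Matrix.SpecialLinearGroup.transvection_coeff_zero]; exact Subgroup.one_mem _
  · exact hx' ▸ hxH
  · rw [← Matrix.SpecialLinearGroup.transvection_inv, ← hx']; exact Subgroup.inv_mem _ hxH

end Cfsg.Agent.S2403
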