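import Cfsg.Statements.S2458
import Cfsg.Agent.H68.OreRM

set_option autoImplicit false
open Cfsg

namespace Cfsg.Agent.S2458

/-- A strong covering result in the direction of Thompson's conjecture (non-identity elements) for the small Ree groups: let q = 3^(2m+1) ≥ 27, K the field with q elements and ²G₂(q) the Ree group over K. For every element x of ²G₂(q) of order greater than 2 and not divisible by 3, every non-identity element of ²G₂(q) is a product of two conjugates of x. -/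
theorem result {K : Type*} [Field K] [Fintype K] (m : ℕ) (hm : 1 ≤ m) (hK : Fintype.card K = 3 ^ (2 * m + 1))
    (x : Cfsg.Lie.twistedG2 K (3 ^ m)) (hx2 : 2 < orderOf x) (hx3 : ¬ 3 ∣ orderOf x) : ∀ g : Cfsg.Lie.twistedG2 K (3 ^ m), g ≠ 1 → ∃ u v : Cfsg.Lie.twistedG2 K (3 ^ m), g = (u * x * u⁻¹) * (v * x * v⁻¹) := by
  have : Fact (Nat.Prime 3) := ⟨Nat.prime_three⟩
  have := (H30.reeG2 hK).charP
  have := (H30.reeG2 hK).finite_G
  have := (H68.simple_G2 hK hm).1
  obtain ⟨A, B, TA, TB⟩ := H30.ree_tori hK hm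
  have h := H68.OreR.cent_le (H30.reeG2 hK) hm TA TB ⟨hx2, hx3⟩
  obtain ⟨κ, hκ⟩ := H68.OreR.exists_y _ hm TA TB (H68.OreR.trc hK) ⟨hx2, hx3⟩
  exact H68.OreR.main (H68.OreR.trc hK) hm h.2 (H68.OreR.Reg.sq_ne ⟨hx2, hx3⟩) hκ fun s =>
    H68.Gow.gow (H67.good_twG2 3 hK) (H68.Gow.gen_of_simple (H67.good_twG2 3 hK)) h.1 h.1

end Cfsg.Agent.S2458
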