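import Cfsg.Statements.S2460
import Cfsg.Agent.H68.Ore4
import Cfsg.Agent.H54.P4St
import Cfsg.Agent.H63.C2G4b

set_option autoImplicit false
open Cfsg

namespace Cfsg.Agent.S2460

/-- A form of Thompson's conjecture for the simple groups PSp(4,q), q ≥ 3 (covering the non-identity elements), with a semisimple class: for F a finite field of characteristic p with at least 3 elements there is an element x of PSp(4,F) of order prime to p such that every non-identity element of PSp(4,F) is a product of two conjugates of x. -/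
theorem result {F : Type*} [Field F] [Fintype F] (p : ℕ) [Fact p.Prime] [CharP F p] (h3 : 3 ≤ Fintype.card F) :
    ∃ x : Cfsg.PSp 2 F, ¬ p ∣ orderOf x ∧ ∀ g : Cfsg.PSp 2 F, g ≠ 1 → ∃ u v : Cfsg.PSp 2 F, g = (u * x * u⁻¹) * (v * x * v⁻¹) := by
  classical
  have : H65.Tab Lie.chevB2 := H65.tabB2
  have : H65.Comm Lie.chevB2 := H65.commB2
  have hK : ∃ t : F, t ≠ 0 ∧ t ≠ 1 := by
    obtain ⟨t, h⟩ := Fintype.exists_ne_of_one_lt_card (α := {t : F // t ≠ 0})
      (by rw [Fintype.card_subtype_compl, Fintype.card_subtype_eq]; omega) ⟨1, one_ne_zero⟩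
    exact ⟨t, t.2, fun e => h (Subtype.ext e)⟩
  have := H67.isSimpleGroup_chev (D := Lie.chevB2) F (by simp) fun _ => hK
  obtain ⟨x, h1, h2⟩ := H68.Gow.chev2 (p := p) (D := Lie.chevB2) hK ⟨0, by decide⟩ ⟨1, by decide⟩ [0, 1, 0, 1]
    [4, 6, 7] [7] 6 [(7, 1, 1, 2)] (by decide +kernel) (by decide +kernel)
    (by decide +kernel) (by decide +kernel) fun t ht r hr => by
      simp only [List.mem_cons, List.not_mem_nil, or_false] at hr
      rcases hr with rfl | rfl | rfl
      · rw [show Lie.chevB2.cartan _ 4 = -2 by decide +kernel, show Lie.chevB2.cartan _ 4 = 2 by decide +kernel]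
        exact .inr (.inr (.inr (.inl ⟨.inr rfl, t, zpow_two t⟩)))
      · rw [show Lie.chevB2.cartan _ 6 = 0 by decide +kernel, show Lie.chevB2.cartan _ 6 = 1 by decide +kernel]
        exact .inl ⟨rfl, by rwa [zpow_one]⟩
      · rw [show Lie.chevB2.cartan _ 7 = 2 by decide +kernel, show Lie.chevB2.cartan _ 7 = 0 by decide +kernel]
        exact .inr (.inr (.inr (.inl ⟨.inl rfl, 1, by simp⟩)))
  obtain ⟨e⟩ : Nonempty (Lie.chevB2.group F ≃* Cfsg.PSp 2 F) := by
    by_cases h : ringChar F = 2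
    · exact H63.G4.nonempty_psp (by simpa [h] using ringChar.Nat.cast_ringChar (R := F))
    have hG : H64.GG Lie.chevB2 (H65.xU Lie.chevB2 F) = Lie.chevB2.group F :=
      (H64.StB.rgd_Gp H68.stB_xU).symm.trans H68.mat_Gp
    obtain ⟨t, h4, h5⟩ := hK
    have h6 : ∃ a ∈ Lie.chevB2.group F, ∃ b ∈ Lie.chevB2.group F, a * b ≠ b * a := by
      let M := H68.mat Lie.chevB2 F
      let c : Fin Lie.chevB2.rank → Fˣ := Pi.mulSingle ⟨1, by decide⟩ (Units.mk0 t h4)
      refine ⟨M.tor c, H68.mat_Gp.le (M.T.N_le_Gp (M.T.H_le_N (M.tor_mem c))), _, H65.xU_mem_group 6 1, fun e => h5 ?_⟩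
      have := M.tor_conj' c (s := 6) (by decide) 1
      rw [show M.x 6 1 = H65.xU _ _ 6 1 from rfl, e, mul_inv_cancel_right, H68.CM.chi_single,
        show Lie.chevB2.cartan _ 6 = 1 by decide +kernel] at this
      simpa using (M.x_inj ⟨6, by decide⟩ this).symm
    rw [← hG]
    refine (H54.P4.recog_B2 (Nat.odd_iff.2 (FiniteField.odd_card_of_char_ne_two h)) H68.st_xU
      (fun r t => hG ▸ H65.xU_mem_group r t) (hG ▸ h6) fun g hg hc => ?_).1
    rw [hG] at hg hc
    obtain ⟨a, ha, b, hb, h6⟩ := h6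
    rcases (Subgroup.center (Lie.chevB2.group F)).normal_of_characteristic.eq_bot_or_eq_top with h7 | h7
    · exact congrArg Subtype.val ((Subgroup.eq_bot_iff_forall _).1 h7 ⟨g, hg⟩
        (Subgroup.mem_center_iff.2 fun y => Subtype.ext (hc y y.2)))
    · exact absurd (congrArg Subtype.val (Subgroup.mem_center_iff.1 (h7.ge (Subgroup.mem_top ⟨b, hb⟩)) ⟨a, ha⟩)) h6
  refine ⟨e x, by rwa [e.orderOf_eq], fun g hg => ?_⟩
  obtain ⟨u, v, h⟩ := h2 (e.symm g) (by simpa using hg)
  exact ⟨e u, e v, by simpa using congrArg e h⟩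

end Cfsg.Agent.S2460
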