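import Cfsg.Statements.S2468
import Cfsg.Agent.H53.LinSpec2

set_option autoImplicit false
open Cfsg

namespace Cfsg.Agent.S2468

/-- Adjacency of two odd primes in the prime graph of PSL(n,q): let F be a finite field of characteristic p with q elements, n ≥ 2 with PSL(n,F) simple, and let r ≠ s be odd primes different from p dividing the order of PSL(n,F). Let k and l be the multiplicative orders of q modulo r and modulo s, and suppose 2 ≤ k ≤ l. Then PSL(n,F) has NO element of order r·s if and only if k + l > n and k does not divide l. -/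
theorem result {F : Type*} [Field F] [Fintype F] (p : ℕ) [Fact p.Prime] [CharP F p] (n : ℕ) (hn : 2 ≤ n) (hsmall : n = 2 → 4 ≤ Fintype.card F)
    (r s : ℕ) (hr : r.Prime) (hs : s.Prime) (hr2 : r ≠ 2) (hs2 : s ≠ 2) (hrp : r ≠ p) (hsp : s ≠ p) (hrs : r ≠ s)
    (hrG : r ∣ Nat.card (Matrix.ProjectiveSpecialLinearGroup (Fin n) F)) (hsG : s ∣ Nat.card (Matrix.ProjectiveSpecialLinearGroup (Fin n) F))
    (k l : ℕ) (hk : k = orderOf ((Fintype.card F : ℕ) : ZMod r)) (hl : l = orderOf ((Fintype.card F : ℕ) : ZMod s))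
    (h2k : 2 ≤ k) (hkl : k ≤ l) :
    (r * s ∉ Set.range (orderOf : Matrix.ProjectiveSpecialLinearGroup (Fin n) F → ℕ)) ↔ (n < k + l ∧ ¬ k ∣ l) := by
  have hL := H53.jfam_psl' (F := F) (AlgebraicClosure F) p n
  have hT := H53.tor_units F (AlgebraicClosure F) p
  have hQ := H53.qp_card F p
  rw [Nat.card_eq_fintype_card] at hL hQ
  have e1 : ∀ e, (r : ℤ) ∣ (Fintype.card F : ℤ) ^ e - 1 ↔ k ∣ e := fun e => by
    rw [H53.dvd_pow_sub_one_iff, hk]
  have e2 : ∀ e, (s : ℤ) ∣ (Fintype.card F : ℤ) ^ e - 1 ↔ l ∣ e := fun e => by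
    rw [H53.dvd_pow_sub_one_iff, hl]
  have e3 : ¬ (r : ℤ) ∣ (Fintype.card F : ℤ) - 1 := fun h => by
    have := Nat.le_of_dvd one_pos ((e1 1).1 (by rwa [pow_one])); omega
  have e4 : ¬ (s : ℤ) ∣ (Fintype.card F : ℤ) - 1 := fun h => by
    have := Nat.le_of_dvd one_pos ((e2 1).1 (by rwa [pow_one])); omega
  have hc := (Nat.coprime_primes hr hs).2 hrs
  rw [not_iff_comm]
  constructor
  · intro h
    by_cases h1 : k ∣ l
    · obtain ⟨m, hm, h2⟩ := hL.exists_of_mem' (H53.mem_range_of_prime_dvd hs hsG)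
      obtain ⟨e, he, h3, h4⟩ := hm.1.exists_le hT hQ h2 hs hsp dvd_rfl
      have h5 := Nat.le_of_dvd he ((e2 e).1 h4)
      obtain ⟨u, hu⟩ := hT.ex (r * s) fun h => by
        rcases (Nat.Prime.dvd_mul hT.prime).1 h with h | h
        · exact hrp ((Nat.prime_dvd_prime_iff_eq hT.prime hr).1 h).symm
        · exact hsp ((Nat.prime_dvd_prime_iff_eq hT.prime hs).1 h).symm
      have h6 : ∀ t : ℕ, t.Prime → (t : ℤ) ∣ (Fintype.card F : ℤ) ^ l - 1 →
          ¬ (t : ℤ) ∣ (Fintype.card F : ℤ) - 1 →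
          (t : ℤ) ∣ ∑ j ∈ Finset.range l, (Fintype.card F : ℤ) ^ j := fun t ht h7 h8 =>
        ((Nat.prime_iff_prime_int.1 ht).dvd_or_dvd (geom_sum_mul (Fintype.card F : ℤ) l ▸ h7)).resolve_right h8
      refine hL.mem_range_of_dvd ((H53.ls_orb (u := u) (e := l) ?_).pad (by omega)) fun N hN =>
        hc.mul_dvd_of_dvd_of_dvd
          (hN.dvd_of_orb (Multiset.le_add_right _ _) (by omega) hr (hu ▸ Dvd.intro _ rfl) e3)
          (hN.dvd_of_orb (Multiset.le_add_right _ _) (by omega) hs (hu ▸ Dvd.intro_left _ rfl) e4)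
      rw [← orderOf_dvd_iff_zpow_eq_one, hu, Nat.cast_mul]
      exact (Nat.isCoprime_iff_coprime.2 hc).mul_dvd (h6 r hr ((e1 l).2 h1) e3)
        (h6 s hs ((e2 l).2 dvd_rfl) e4)
    · obtain ⟨u, hu⟩ := hT.ex_prime hr hrp
      obtain ⟨v, hv⟩ := hT.ex_prime hs hsp
      refine hL.mem_range_of_dvd (((H53.ls_orb_prime hr hu ((e1 k).2 dvd_rfl) e3).add
        (H53.ls_orb_prime hs hv ((e2 l).2 dvd_rfl) e4)).pad (not_lt.1 fun h2 => h ⟨h2, h1⟩))
        fun N hN => hc.mul_dvd_of_dvd_of_dvd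
          (hN.dvd_of_orb ((Multiset.le_add_right _ _).trans (Multiset.le_add_right _ _)) h2k hr
            (hu ▸ dvd_rfl) e3)
          (hN.dvd_of_orb ((Multiset.le_add_left _ _).trans (Multiset.le_add_right _ _)) (by omega) hs
            (hv ▸ dvd_rfl) e4)
  · rintro h ⟨h1, h2⟩
    obtain ⟨m, hm, h3⟩ := hL.exists_of_mem' h
    rcases hm.1.exists_two hT hQ h3 hr hrp (Dvd.intro _ rfl) hs hsp (Dvd.intro_left _ rfl) with
      ⟨e, he, h4, h5, h6⟩ | ⟨e, f, he, hf, h4, h5, h6⟩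
    · obtain ⟨c, rfl⟩ := (e2 e).1 h6
      rcases c with _ | _ | c
      · omega
      · exact h2 (by simpa using (e1 _).1 h5)
      · nlinarith
    · have := Nat.le_of_dvd he ((e1 e).1 h5)
      have := Nat.le_of_dvd hf ((e2 f).1 h6)
      omega

end Cfsg.Agent.S2468
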