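import Cfsg.Statements.S2469
import Cfsg.Agent.H53.FormSpec

set_option autoImplicit false
open Cfsg

namespace Cfsg.Agent.S2469

/-- Adjacency of two odd primes in the prime graph of PSp(2n,q): let F be a finite field of characteristic p with q elements, n ≥ 2 with PSp(2n,F) simple, and let r ≠ s be odd primes different from p dividing the order of PSp(2n,F). Let k, l be the multiplicative orders of q modulo r and s, put η(m) = m for odd m and η(m) = m/2 for even m, and suppose η(k) ≤ η(l). Then PSp(2n,F) has NO element of order r·s if and only if η(k) + η(l) > n and l/k is not an odd integer. -/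
theorem result {F : Type*} [Field F] [Fintype F] (p : ℕ) [Fact p.Prime] [CharP F p] (n : ℕ) (hn : 2 ≤ n) (hsmall : n = 2 → 3 ≤ Fintype.card F)
    (r s : ℕ) (hr : r.Prime) (hs : s.Prime) (hr2 : r ≠ 2) (hs2 : s ≠ 2) (hrp : r ≠ p) (hsp : s ≠ p) (hrs : r ≠ s)
    (hrG : r ∣ Nat.card (Cfsg.PSp n F)) (hsG : s ∣ Nat.card (Cfsg.PSp n F))
    (k l ηk ηl : ℕ) (hk : k = orderOf ((Fintype.card F : ℕ) : ZMod r)) (hl : l = orderOf ((Fintype.card F : ℕ) : ZMod s))
    (hηk : (Odd k ∧ ηk = k) ∨ (Even k ∧ 2 * ηk = k)) (hηl : (Odd l ∧ ηl = l) ∨ (Even l ∧ 2 * ηl = l)) (hkl : ηk ≤ ηl) :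
    (r * s ∉ Set.range (orderOf : Cfsg.PSp n F → ℕ)) ↔ (n < ηk + ηl ∧ ¬ ∃ t : ℕ, Odd t ∧ l = k * t) := by
  have hL := H53.jfam_psp (F := F) (AlgebraicClosure F) p n
  have hT := H53.tor_units F (AlgebraicClosure F) p
  have hQ := H53.qp_card F p
  rw [Nat.card_eq_fintype_card] at hL hQ
  set q := Fintype.card F
  have h0 : ∀ {r k η : ℕ}, r.Prime → r ≠ 2 → r ≠ p → r ∣ Nat.card (Cfsg.PSp n F) →
      k = orderOf (q : ZMod r) → (Odd k ∧ η = k) ∨ (Even k ∧ 2 * η = k) → 0 < η ∧ η ≤ n :=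
    fun hr hr2 hrp hrG hk hη => by
      obtain ⟨m, hm, h2⟩ := hL.exists_of_mem' (H53.mem_range_of_prime_dvd hr hrG)
      obtain ⟨d, h3, h4⟩ := hm.1.exists_le hT hQ h2 hr hr2 hrp dvd_rfl
      have := Nat.le_of_dvd h3.1 (h3.eta_dvd hk hη)
      have := hm.2
      exact ⟨Nat.pos_of_dvd_of_pos (h3.eta_dvd hk hη) h3.1, by omega⟩
  have h1 := (h0 hr hr2 hrp hrG hk hηk).1
  obtain ⟨h2, h3⟩ := h0 hs hs2 hsp hsG hl hηl
  have hc := (Nat.coprime_primes hr hs).2 hrs
  have hro := hr.odd_of_ne_two hr2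
  have hso := hs.odd_of_ne_two hs2
  have two : ∀ {r : ℕ} {a : ℤ}, r.Prime → r ≠ 2 → (r : ℤ) ∣ a - 1 → ¬ (r : ℤ) ∣ a + 1 :=
    fun hr hr2 h4 h5 => hr2 ((Nat.prime_dvd_prime_iff_eq hr Nat.prime_two).1 (by
      have := dvd_sub h5 h4
      rw [add_sub_sub_cancel] at this
      exact_mod_cast this))
  rw [not_iff_comm]
  constructor
  · intro h
    by_cases h4 : ∃ t, Odd t ∧ l = k * t
    · obtain ⟨t, ht, h5⟩ := h4
      have h6 : H53.TD q (r * s) ηl := by
        have hc' := Nat.isCoprime_iff_coprime.2 hc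
        rcases id hηl with ⟨h6, h7⟩ | ⟨h6, h7⟩
        · refine ⟨h2, 1, .inl rfl, by
            rw [Nat.cast_mul]
            exact hc'.mul_dvd (by rw [H53.dvd_pow_sub_one_iff, ← hk, h7, h5]; exact Dvd.intro _ rfl)
              (by rw [H53.dvd_pow_sub_one_iff, ← hl, h7])⟩
        · have h8 : 2 * ηk = k := (hηk.resolve_left fun h =>
            Nat.not_even_iff_odd.2 (h.1.mul ht) (h5 ▸ h6)).2
          refine ⟨h2, -1, .inr rfl, by
            rw [Nat.cast_mul, sub_neg_eq_add]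
            refine hc'.mul_dvd ((H53.dvd_pow_add_one_of_eta hk hηk hr h1 h8).trans ?_)
              (H53.dvd_pow_add_one_of_eta hl hηl hs h2 h7)
            obtain rfl : ηl = ηk * t := by rw [← h8, mul_assoc] at h5; omega
            simpa [pow_mul] using ht.add_dvd_pow_add_pow ((q : ℤ) ^ ηk) 1⟩
      obtain ⟨u, hu⟩ := hT.ex _ (h6.not_dvd hQ hT.prime)
      obtain ⟨ε, h7⟩ := h6.exists_tb hu
      exact hL.mem_range_of_dvd ((h7.fd one_pos).pad_sp (by simp) h3) fun N hN =>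
        hN.dvd_of_tb_odd (Multiset.le_add_right _ _) h2 (hro.mul hso) (hu ▸ dvd_rfl)
    · obtain ⟨u, hu⟩ := hT.ex_prime hr hrp
      obtain ⟨v, hv⟩ := hT.ex_prime hs hsp
      obtain ⟨ε, h5⟩ := (H53.td_eta hk hηk hr h1).exists_tb hu
      obtain ⟨ε', h6⟩ := (H53.td_eta hl hηl hs h2).exists_tb hv
      exact hL.mem_range_of_dvd (((h5.fd one_pos).add (h6.fd one_pos)).pad_sp (n' := ηk + ηl)
        (by simp; ring) (not_lt.1 fun h7 => h ⟨h7, h4⟩)) fun N hN => hc.mul_dvd_of_dvd_of_dvd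
        (hN.dvd_of_tb_odd ((Multiset.le_add_right _ _).trans (Multiset.le_add_right _ _)) h1 hro
          (hu ▸ dvd_rfl))
        (hN.dvd_of_tb_odd ((Multiset.le_add_left _ _).trans (Multiset.le_add_right _ _)) h2 hso
          (hv ▸ dvd_rfl))
  · rintro h ⟨h4, h5⟩
    obtain ⟨m, hm, h6⟩ := hL.exists_of_mem' h
    have := hm.2
    rcases hm.1.exists_two hT hQ h6 hr hr2 hrp (Dvd.intro _ rfl) hs hs2 hsp (Dvd.intro_left _ rfl)
      hrs with ⟨d, h7, h8⟩ | ⟨d, e, h7, h8, h9⟩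
    · obtain ⟨c, hc⟩ := (h7.of_dvd (Dvd.intro_left _ rfl)).eta_dvd hl hηl
      have hd := h7.1
      obtain rfl : d = ηl := by
        rcases c with _ | _ | c
        · omega
        · omega
        · nlinarith
      obtain ⟨-, ε, hε, h9⟩ := h7
      rw [Nat.cast_mul] at h9
      have h10 := (Dvd.intro _ rfl).trans h9
      have h11 := (Dvd.intro_left _ rfl).trans h9
      rcases hηl with ⟨h12, rfl⟩ | ⟨h12, rfl⟩ <;> rcases hε with rfl | rfl
      · rw [H53.dvd_pow_sub_one_iff, ← hk] at h10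
        obtain ⟨t, rfl⟩ := h10
        exact h5 ⟨t, (Nat.odd_mul.1 h12).2, rfl⟩
      · exact two hs hs2 (by rw [H53.dvd_pow_sub_one_iff, ← hl]) (by simpa using h11)
      · rw [H53.dvd_pow_sub_one_iff, ← hl] at h11
        have := Nat.le_of_dvd hd h11
        omega
      · obtain ⟨t, ht⟩ := H53.TD.dvd_two_mul hk ⟨hd, _, .inr rfl, h10⟩
        refine h5 ⟨t, Nat.not_even_iff_odd.1 fun ⟨c, hc⟩ => two hr hr2 ?_ (by simpa using h10), ht⟩
        rw [H53.dvd_pow_sub_one_iff, ← hk]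
        exact ⟨c, by rw [hc, mul_add] at ht; omega⟩
    · have := Nat.le_of_dvd h7.1 (h7.eta_dvd hk hηk)
      have := Nat.le_of_dvd h8.1 (h8.eta_dvd hl hηl)
      omega

end Cfsg.Agent.S2469
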