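import Cfsg.Statements.S2470
import Cfsg.Agent.H53.LinSpec2

set_option autoImplicit false
open Cfsg

namespace Cfsg.Agent.S2470

/-- Adjacency of an odd prime and the characteristic in the prime graph of PSL(n,q): let F be a finite field of characteristic p with q elements, n ≥ 2 with PSL(n,F) simple, and let r ≠ p be an odd prime dividing the order of PSL(n,F), with k the multiplicative order of q modulo r. Then PSL(n,F) has NO element of order r·p if and only if either k > n − 2, or n = 3, r = 3 and 3 divides q − 1 exactly once. -/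
theorem result {F : Type*} [Field F] [Fintype F] (p : ℕ) [Fact p.Prime] [CharP F p] (n : ℕ) (hn : 2 ≤ n) (hsmall : n = 2 → 4 ≤ Fintype.card F)
    (r : ℕ) (hr : r.Prime) (hr2 : r ≠ 2) (hrp : r ≠ p) (hrG : r ∣ Nat.card (Matrix.ProjectiveSpecialLinearGroup (Fin n) F))
    (k : ℕ) (hk : k = orderOf ((Fintype.card F : ℕ) : ZMod r)) :
    (r * p ∉ Set.range (orderOf : Matrix.ProjectiveSpecialLinearGroup (Fin n) F → ℕ)) ↔
      (n - 2 < k ∨ (n = 3 ∧ r = 3 ∧ 3 ∣ Fintype.card F - 1 ∧ ¬ 9 ∣ Fintype.card F - 1)) := by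
  have hL := H53.jfam_psl' (F := F) (AlgebraicClosure F) p n
  have hT := H53.tor_units F (AlgebraicClosure F) p
  have hQ := H53.qp_card F p
  rw [Nat.card_eq_fintype_card] at hL hQ
  have hp := hT.prime
  set q := Fintype.card F
  have hq : 1 < q := Fintype.one_lt_card
  have e1 : ∀ e, (r : ℤ) ∣ (q : ℤ) ^ e - 1 ↔ k ∣ e := fun e => by
    rw [H53.dvd_pow_sub_one_iff, hk]
  have hc := (Nat.coprime_primes hr hp).2 hrp
  have e0 : ((q : ℤ) - 1).natAbs = q - 1 := by omega
  have hk0 : 0 < k := by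
    obtain ⟨m, hm, h2⟩ := hL.exists_of_mem' (H53.mem_range_of_prime_dvd hr hrG)
    obtain ⟨e, he, h3, h4⟩ := hm.1.exists_le hT hQ h2 hr hrp dvd_rfl
    exact Nat.pos_of_dvd_of_pos ((e1 e).1 h4) he
  have e3 : n = 3 → (r * p ∈ Set.range (orderOf : Matrix.ProjectiveSpecialLinearGroup (Fin n) F → ℕ)
      ↔ r ∣ (q - 1) / Nat.gcd 3 (q - 1)) := by
    rintro rfl
    have h1 : ∀ (a : ℤ) (d : ℕ), d ∣ a.natAbs → ¬ (p : ℤ) ∣ a → ¬ r * p ∣ a.natAbs / d :=
      fun a d hd ha h => ha (Int.natCast_dvd.2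
        (((Dvd.intro_left _ rfl).trans h).trans (Nat.div_dvd_of_dvd hd)))
    have hd := Nat.gcd_dvd_right 3 ((q : ℤ) - 1).natAbs
    have h2 := h1 (q ^ 2 + q + 1) (Nat.gcd 3 ((q : ℤ) - 1).natAbs) (by
      have := H53.gcd_geom q 3
      rw [show ∑ j ∈ Finset.range 3, (q : ℤ) ^ j = q ^ 2 + q + 1 by
        simp [Finset.sum_range_succ]; ring] at this
      exact this ▸ Nat.gcd_dvd_left _ _) (hQ.not_dvd_add hp (dvd_add (dvd_pow_self _ two_ne_zero)
        dvd_rfl) (.inl rfl))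
    have h3 := h1 (q ^ 2 - 1) _ (hd.trans (Int.natAbs_dvd_natAbs.2
      (by simpa using sub_dvd_pow_sub_pow (q : ℤ) 1 2))) (hQ.not_dvd_pow_sub hp two_pos (.inl rfl))
    have h4 := h1 (q - 1) 1 (one_dvd _) (by simpa using hQ.not_dvd_pow_sub hp one_pos (.inl rfl))
    rw [Nat.div_one] at h4
    have h5 : ¬ r * p ∣ 4 := fun h => hr2 ((Nat.prime_dvd_prime_iff_eq hr Nat.prime_two).1
      (hr.dvd_of_dvd_pow (n := 2) ((Dvd.intro _ rfl).trans h)))
    rw [hL.spec_three hT hQ]
    simp only [h2, h3, h4, h5, false_or, and_false, or_false]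
    rw [Nat.mul_div_assoc _ hd, mul_comm r, Nat.mul_dvd_mul_iff_left hp.pos, e0]
  rw [not_iff_comm]
  constructor
  · intro h
    push Not at h
    obtain ⟨u, hu⟩ := hT.ex_prime hr hrp
    by_cases h1 : (r : ℤ) ∣ (q : ℤ) - 1
    · by_cases h2 : n = 3
      · rw [e3 h2]
        have h3 : r ∣ q - 1 := e0 ▸ Int.natCast_dvd.1 h1
        rw [Nat.dvd_div_iff_mul_dvd (Nat.gcd_dvd_right _ _)]
        by_cases h4 : r = 3
        · subst h4
          rw [Nat.gcd_eq_left h3]
          exact h.2 h2 rfl h3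
        · exact (((Nat.coprime_primes Nat.prime_three hr).2 (Ne.symm h4)).coprime_dvd_left
            (Nat.gcd_dvd_left _ _)).mul_dvd_of_dvd_of_dvd (Nat.gcd_dvd_right _ _) h3
      · refine hL.mem_range_of_dvd (((H53.ls_pair (u := u) ?_).add (H53.ls_unip two_pos)).pad
          (by omega)) fun N hN => hc.mul_dvd_of_dvd_of_dvd ?_ (hN.p_dvd hp (u := 1) (by simp) le_rfl)
        · simpa using H53.zpow_pow_eq_iff.2 (show (orderOf u : ℤ) ∣ q ^ 1 - 1 by rwa [hu, pow_one])
        · rw [H53.jsc_iff_jone (k := 2) (by simp)] at hN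
          exact hu ▸ orderOf_dvd_of_pow_eq_one (hN (u, 1) (by simp)).1
    · refine hL.mem_range_of_dvd (((H53.ls_orb_prime hr hu ((e1 k).2 dvd_rfl) h1).add
        (H53.ls_unip two_pos)).pad (by omega))
        fun N hN => hc.mul_dvd_of_dvd_of_dvd ?_ (hN.p_dvd hp (u := 1) (by simp) le_rfl)
      rw [H53.jsc_iff_jone (k := 2) (by simp)] at hN
      exact hu ▸ orderOf_dvd_of_pow_eq_one (hN (u, 1) (by simp [H53.self_mem_orb hk0])).1
  · rintro h (h1 | ⟨h1, rfl, h2, h3⟩)
    · obtain ⟨m, hm, h3⟩ := hL.exists_of_mem h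
      obtain ⟨e, he, h4, h5⟩ := hm.1.exists_char hT hQ (fun k hk => h3 k hk.jsc) hr hrp
        (Dvd.intro _ rfl) (Dvd.intro_left _ rfl)
      have h6 := Nat.le_of_dvd he ((e1 e).1 h5)
      by_cases h7 : n = 3
      · have h8 := ((e3 h7).1 h).trans (Nat.div_dvd_of_dvd (Nat.gcd_dvd_right _ _))
        have := Nat.le_of_dvd one_pos ((e1 1).1 (by rw [pow_one, Int.natCast_dvd, e0]; exact h8))
        omega
      obtain rfl : n = 2 := by omega
      obtain ⟨v, l, hy, hl⟩ := hT.exists_two_le (fun k hk => h3 k hk.jsc) (Dvd.intro_left _ rfl)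
      obtain ⟨f, t, n', hP, -, ht, rfl, h8⟩ := hm.1.step (hT.inj hQ) hy
      have := hP.pos
      obtain rfl : f = 1 := by nlinarith
      obtain rfl : l = 2 := by omega
      obtain rfl : n' = 0 := by omega
      obtain rfl := ht.eq_zero
      have h9 := h3 p ⟨v ^ p, by simp [H53.clog_two hp]⟩
      have := Nat.le_of_dvd hp.pos h9
      have := hr.two_le
      have := hp.pos
      nlinarith
    · have h4 := (e3 h1).1 h
      rw [Nat.gcd_eq_left h2, Nat.dvd_div_iff_mul_dvd h2] at h4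
      exact h3 h4

end Cfsg.Agent.S2470
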