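import Cfsg.Statements.S2472
import Cfsg.Agent.H53.FormSpec

set_option autoImplicit false
open Cfsg

namespace Cfsg.Agent.S2472

/-- Adjacency of a prime and the characteristic in the prime graph of PSp(2n,q): let F be a finite field of characteristic p with q elements, n ≥ 2 with PSp(2n,F) simple, and let r ≠ p be an odd prime dividing the order of PSp(2n,F), with k the multiplicative order of q modulo r and η(k) = k for odd k, k/2 for even k. Then PSp(2n,F) has NO element of order r·p if and only if η(k) > n − 1. -/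
theorem result {F : Type*} [Field F] [Fintype F] (p : ℕ) [Fact p.Prime] [CharP F p] (n : ℕ) (hn : 2 ≤ n) (hsmall : n = 2 → 3 ≤ Fintype.card F)
    (r : ℕ) (hr : r.Prime) (hr2 : r ≠ 2) (hrp : r ≠ p) (hrG : r ∣ Nat.card (Cfsg.PSp n F))
    (k ηk : ℕ) (hk : k = orderOf ((Fintype.card F : ℕ) : ZMod r)) (hηk : (Odd k ∧ ηk = k) ∨ (Even k ∧ 2 * ηk = k)) :
    (r * p ∉ Set.range (orderOf : Cfsg.PSp n F → ℕ)) ↔ n - 1 < ηk := by
  have hL := H53.jfam_psp (F := F) (AlgebraicClosure F) p n
  have hT := H53.tor_units F (AlgebraicClosure F) p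
  have hQ := H53.qp_card F p
  rw [Nat.card_eq_fintype_card] at hL hQ
  have h0 : 0 < ηk := by
    obtain ⟨m, hm, h2⟩ := hL.exists_of_mem' (H53.mem_range_of_prime_dvd hr hrG)
    obtain ⟨d, h3, -⟩ := hm.1.exists_le hT hQ h2 hr hr2 hrp dvd_rfl
    exact Nat.pos_of_dvd_of_pos (h3.eta_dvd hk hηk) h3.1
  rw [not_iff_comm]
  constructor
  · intro h
    obtain ⟨u, hu⟩ := hT.ex_prime hr hrp
    obtain ⟨ε, h1⟩ := (H53.td_eta hk hηk hr h0).exists_tb hu
    exact hL.mem_range_of_dvd (((h1.fd one_pos).add (H53.fd_unip two_pos (by decide))).pad_sp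
      (n' := ηk + 1) (by simp; ring) (by omega)) fun N hN =>
      ((Nat.coprime_primes hr hT.prime).2 hrp).mul_dvd_of_dvd_of_dvd
        (hN.dvd_of_tb_odd ((Multiset.le_add_right _ _).trans (Multiset.le_add_right _ _)) h0
          (hr.odd_of_ne_two hr2) (hu ▸ dvd_rfl)) (hN.p_dvd hT.prime (u := 1) (by simp) le_rfl)
  · intro h
    obtain ⟨m, hm, h2⟩ := hL.exists_of_mem' h
    obtain ⟨d, h3, h4⟩ := hm.1.exists_char hT hQ h2 hr hr2 hrp (Dvd.intro _ rfl)
      (Dvd.intro_left _ rfl)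
    have := Nat.le_of_dvd h3.1 (h3.eta_dvd hk hηk)
    have := hm.2
    omega

end Cfsg.Agent.S2472
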