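import Cfsg.Statements.S2518
import Cfsg.Agent.Base
import Cfsg.Agent.H67.G2Spec
import Cfsg.Agent.S2475
import Cfsg.Agent.S1059

set_option autoImplicit false
open Cfsg

namespace Cfsg.Agent.S2518

/-- Let F₃ be the field with 3 elements and F₁₃ the field with 13 elements. The Chevalley group G₂(F₃) and PSL(2, F₁₃) have the same prime graph: the same prime divisors of their orders, and for distinct primes r, s an element of order rs in one iff in the other. -/
theorem result {F : Type*} [Field F] [Fintype F] (hF : Fintype.card F = 3) {E : Type*} [Field E] [Fintype E] (hE : Fintype.card E = 13) :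
    ((∀ r : ℕ, r.Prime → (r ∣ Nat.card ↥(Cfsg.Lie.chevG2.group F) ↔ r ∣ Nat.card (Matrix.ProjectiveSpecialLinearGroup (Fin 2) E))) ∧
      (∀ r s : ℕ, r.Prime → s.Prime → r ≠ s → ((∃ x : ↥(Cfsg.Lie.chevG2.group F), orderOf x = r * s) ↔ (∃ y : (Matrix.ProjectiveSpecialLinearGroup (Fin 2) E), orderOf y = r * s)))) := by
  haveI : Fact (Nat.Prime 13) := ⟨by norm_num⟩
  haveI : CharP F 3 := charP_of_card_eq_prime hF
  haveI : CharP E 13 := charP_of_card_eq_prime hE
  have h1 := Cfsg.Agent.S2475.result (F := E) 13 (by omega)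
  rw [hE] at h1
  have h2 : ∀ n, (∃ y : Matrix.ProjectiveSpecialLinearGroup (Fin 2) E, orderOf y = n) ↔
      n ∣ 13 ∨ n ∣ 6 ∨ n ∣ 7 := fun n => Set.ext_iff.1 h1 n
  have h3 : ∀ r s : ℕ, r.Prime → s.Prime → r ≠ s → ∀ m ∈ [8, 13, 7, 6, 12, 9], r * s ∣ m →
      r * s = 6 := by
    intro r s hr hs hrs m hm hd
    have h4 : r ≤ 13 := (Nat.le_of_dvd (by simp at hm; omega) ((dvd_mul_right r s).trans hd)).trans
      (by simp at hm; omega)
    have h5 : s ≤ 13 := (Nat.le_of_dvd (by simp at hm; omega) ((dvd_mul_left s r).trans hd)).trans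
      (by simp at hm; omega)
    have : ∀ m ∈ [8, 13, 7, 6, 12, 9], ∀ r ≤ 13, ∀ s ≤ 13, r.Prime ∧ s.Prime ∧ r ≠ s ∧
        r * s ∣ m → r * s = 6 := by decide +kernel
    exact this m hm r h4 s h5 ⟨hr, hs, hrs, hd⟩
  refine ⟨fun r hr => ?_, fun r s hr hs hrs => ⟨?_, fun h => ?_⟩⟩
  · haveI := Fact.mk hr
    rw [Cfsg.Agent.S1059.result hF]
    refine Iff.trans ?_ ((h2 r).symm.trans ⟨?_, fun h => exists_prime_orderOf_dvd_card' r h⟩)
    · rw [show 3 ^ 6 * (3 ^ 2 - 1) * (3 ^ 6 - 1) = 13 * (3 ^ 6 * 2 ^ 6 * 7) from rfl,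
        show 6 = 3 * 2 from rfl]
      simp only [hr.dvd_mul, hr.prime.dvd_pow_iff_dvd (show 3 * 2 ≠ 0 by norm_num), or_assoc]
    · rintro ⟨y, rfl⟩
      exact orderOf_dvd_natCard y
  · rintro ⟨x, hx⟩
    rw [h2]
    refine .inr (.inl (dvd_of_eq ?_))
    rcases H67.g2_orderOf_dvd 3 hF x with h | h | h | h | h | ⟨h, -⟩ | h
    any_goals exact h3 r s hr hs hrs _ (by simp) (hx ▸ h)
    · omega
    · exact h3 r s hr hs hrs 9 (by simp) (hx ▸ h 2 (by norm_num))
  · have : r * s = 6 := by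
      rcases (h2 _).1 h with h | h | h <;> exact h3 r s hr hs hrs _ (by simp) h
    rw [this]
    exact H67.g2_exists_orderOf 3 hF (by simp)

end Cfsg.Agent.S2518
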