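import Cfsg.Statements.S2523
import Cfsg.Agent.H68.EG3
import Cfsg.Agent.H91.EGAC
import Cfsg.Agent.H58.EGO2

set_option autoImplicit false
open Cfsg

namespace Cfsg.Agent.S2523

open H68.EG in
theorem of_mod {G₀ G : Type*} [Group G₀] [Group G] (h : Thom G₀) (π : G₀ →* G)
    (h1 : Function.Surjective π) (h2 : Subgroup.center G₀ ≤ π.ker) :
    ∃ c : G, ∀ g : G, ∃ x y : G, g = (x * c * x⁻¹) * (y * c * y⁻¹) := by
  obtain ⟨x, hx, h⟩ := h
  refine ⟨π x, fun g => ?_⟩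
  obtain ⟨g, rfl⟩ := h1 g
  by_cases hg : g ∈ Subgroup.center G₀
  · obtain ⟨c, hc⟩ := isConj_iff.1 hx
    exact ⟨1, π c, by rw [h2 hg, ← map_inv π c, ← map_mul π c, ← map_mul π (c * x), hc]; simp⟩
  · obtain ⟨u, v, e⟩ := h g hg
    exact ⟨π u, π v, by simp [e]⟩

open H68.EG in
theorem of_quot {G₀ G : Type*} [Group G₀] [Group G] (h : Thom G₀) (e : G ≃* G₀ ⧸ Subgroup.center G₀) :
    ∃ c : G, ∀ g : G, ∃ x y : G, g = (x * c * x⁻¹) * (y * c * y⁻¹) :=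
  of_mod h (e.symm.toMonoidHom.comp (QuotientGroup.mk' _))
    (e.symm.surjective.comp (QuotientGroup.mk'_surjective _)) fun g hg => by
      simpa using hg

/-- Let F be a finite field with at least 9 elements and let G be one of PSL(n, F) (n ≥ 2), PSp(2m, F) (m ≥ 2), PΩ(2m+1, F) (m ≥ 3, here q odd), PΩ⁺(2m, F) (m ≥ 4), or the Chevalley group of type G₂, F₄, E₆, E₇ or E₈ over F. Then G is the square of one of its conjugacy classes (Thompson's conjecture on products of conjugacy classes, not his conjecture on class sizes): there is a conjugacy class C of G with C·C = G, i.e. every element of G is a product of two elements of C. -/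
theorem result {F : Type*} [Field F] [Fintype F] (hF : 9 ≤ Fintype.card F) {G : Type*} [Group G] [Finite G]
    (hG : (∃ n : ℕ, 2 ≤ n ∧ Nonempty (G ≃* Matrix.ProjectiveSpecialLinearGroup (Fin n) F)) ∨
      (∃ m : ℕ, 2 ≤ m ∧ Nonempty (G ≃* Cfsg.PSp m F)) ∨
      (∃ m : ℕ, 3 ≤ m ∧ Odd (Fintype.card F) ∧ Nonempty (G ≃* Cfsg.POmega F (Cfsg.quadFormOdd m F))) ∨
      (∃ m : ℕ, 4 ≤ m ∧ Nonempty (G ≃* Cfsg.POmega F (Cfsg.quadFormPlus m F))) ∨
      Nonempty (G ≃* ↥(Cfsg.Lie.chevG2.group F)) ∨ Nonempty (G ≃* ↥(Cfsg.Lie.chevF4.group F)) ∨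
      Nonempty (G ≃* ↥(Cfsg.Lie.chevE6.group F)) ∨ Nonempty (G ≃* ↥(Cfsg.Lie.chevE7.group F)) ∨ Nonempty (G ≃* ↥(Cfsg.Lie.chevE8.group F))) :
    ∃ c : G, ∀ g : G, ∃ x y : G, g = (x * c * x⁻¹) * (y * c * y⁻¹) := by
  rw [← Nat.card_eq_fintype_card] at hF hG
  have h4 : 4 ≤ Nat.card F := by omega
  have key : ∀ D ∈ [Lie.chevG2, Lie.chevF4, Lie.chevE6, Lie.chevE7, Lie.chevE8], (G ≃* D.group F) →
      ∃ c : G, ∀ g : G, ∃ x y : G, g = (x * c * x⁻¹) * (y * c * y⁻¹) := fun D hD e => by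
    obtain ⟨_, _, _⟩ := H65.of_mem (D := D) (by simp only [List.mem_cons] at hD ⊢; tauto)
    have : Finite (D.group F) := Finite.of_equiv _ e.toEquiv
    refine of_mod (H68.EG.jobMain F _ h4 (H68.EG.jobE F hF D hD)) e.symm.toMonoidHom
      e.symm.surjective fun g hg => ?_
    have hG := H68.mat_Gp (D := D) (K := F)
    have h1 : ∀ x ∈ (H68.mat D F).T.Gp, x * g = g * x := fun x hx =>
      congrArg Subtype.val (Subgroup.mem_center_iff.1 hg ⟨x, hG ▸ hx⟩)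
    obtain ⟨c, hc⟩ := (H68.mat D F).exists_tor ((H54.ofRGD (H68.mat D F).T).mem_H_of_comm (z := g)
      (hG.ge g.2) fun r x hx => (h1 x ((H68.mat D F).T.X_le_Gp r hx)).symm)
    have h2 : g = 1 := Subtype.ext (hc.trans ((H68.mat D F).tor_eq_one_iff.2 fun j =>
      (H68.mat D F).chi_eq_one_of_comm ((H68.rd D).sim j).2 one_ne_zero (by
        rw [← hc, mul_inv_eq_iff_eq_mul]
        exact (h1 _ ((H68.mat D F).x_mem_Gp ((H68.rd D).sim j).2 1)).symm)))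
    rw [h2]
    exact one_mem _
  rcases hG with ⟨n, hn, ⟨e⟩⟩ | ⟨m, hm, ⟨e⟩⟩ | ⟨m, hm, ho, ⟨e⟩⟩ | ⟨m, hm, ⟨e⟩⟩ | ⟨⟨e⟩⟩ | ⟨⟨e⟩⟩ | ⟨⟨e⟩⟩ |
    ⟨⟨e⟩⟩ | ⟨⟨e⟩⟩
  · exact of_quot (H68.EG.jobMain F _ h4 (H91.EG.jobA F h4 n hn)) e
  · exact of_quot (H68.EG.jobMain F _ h4 (H91.EG.jobC F hF m hm)) e
  · exact of_quot (H68.EG.jobMain F _ h4 (H58.EGO.jobB F hF ho m hm)) e
  · exact of_quot (H68.EG.jobMain F _ h4 (H58.EGO.jobD F hF m hm)) e
  all_goals exact key _ (by simp) e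

end Cfsg.Agent.S2523
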