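import Cfsg.Statements.S2530
import Cfsg.Agent.Base
import Cfsg.Agent.H75.SymCoxeter

set_option autoImplicit false
open Cfsg

namespace Cfsg.Agent.S2530


/-- The Coxeter presentation of the symmetric group: for every n, the symmetric group on n+1 letters is the Coxeter group of type A_n with the adjacent transpositions (i, i+1) as simple reflections; that is, it is presented by generators r_1, …, r_n subject to r_i² = 1, (r_i r_j)² = 1 for |i − j| > 1 and (r_i r_{i+1})³ = 1, with r_i mapping to (i, i+1). -/
theorem result (n : ℕ) :
    ∃ cs : CoxeterSystem (CoxeterMatrix.A n) (Equiv.Perm (Fin (n + 1))), ∀ i : Fin n, cs.simple i = Equiv.swap i.castSucc i.succ := by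
  refine (H75.adjSwap_exch n).exists_coxeterSystem (CoxeterMatrix.A n) fun i j => ?_
  rw [H75.orderOf_adjSwap_mul]
  rfl

end Cfsg.Agent.S2530
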