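import Cfsg.Statements.S2554
import Cfsg.Agent.H42.ReeSyl3

set_option autoImplicit false
open Cfsg

namespace Cfsg.Agent.S2554

/-- A non-abelian finite simple group all of whose Sylow subgroups are abelian is isomorphic to the Janko group J₁ or to PSL₂(q) for some prime power q > 3 with q ≡ 0, 3 or 5 (mod 8). -/
theorem result {G : Type*} [Group G] [Finite G]
    [IsSimpleGroup G] (hna : ¬ IsMulCommutative G)
    (hA : ∀ (p : ℕ), p.Prime → ∀ (P : Sylow p G), IsMulCommutative ↥P) :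
    Cfsg.Spor.IsoJ1 G ∨
      ∃ (F : Type) (_ : Field F) (_ : Fintype F), 3 < Fintype.card F ∧
        (Fintype.card F % 8 = 0 ∨ Fintype.card F % 8 = 3 ∨ Fintype.card F % 8 = 5) ∧
        Nonempty (G ≃* Matrix.ProjectiveSpecialLinearGroup (Fin 2) F) := by
  rcases H42.Ree.cases_of_abelian hna (hA 2 Nat.prime_two) (hA 3 Nat.prime_three) with
    ⟨n, hn, h⟩ | ⟨q, hq, h8, F, _, _, rfl, h⟩ | ⟨t, L, h⟩
  · rcases hn.eq_or_lt with rfl | hn
    · obtain ⟨F, _, _, hF, h⟩ := H10.W.IsL2.five_of_four h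
      exact Or.inr ⟨F, _, _, by omega, by omega, h⟩
    · obtain ⟨F, _, _, hF, h⟩ := h
      obtain ⟨k, rfl⟩ := Nat.exists_eq_add_of_le (show 3 ≤ n from hn)
      have : 0 < 2 ^ k := by positivity
      rw [pow_add] at hF
      exact Or.inr ⟨F, _, _, by omega, by omega, h⟩
  · exact Or.inr ⟨F, _, _, hq, Or.inr h8, h⟩
  · exact Or.inl (H24.JR.isoJ1 h)

end Cfsg.Agent.S2554
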