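import Cfsg.Statements.S2652
import Cfsg.Agent.H6.R24

set_option autoImplicit false
open Cfsg

namespace Cfsg.Agent.S2652
open H6 H80 H38

/-- Let T be a Sylow 2-subgroup of the Fischer group Fi₂₃ (the finitely presented group `Spor.Fi23`; T has order 2¹⁸). Then every elementary abelian subgroup of Fi₂₃ contained in T and normal in T has order at most 2¹¹, and there is exactly one such subgroup of order 2¹¹. -/
theorem result
    (T : Sylow 2 Cfsg.Spor.Fi23) :
    (∀ A : Subgroup Cfsg.Spor.Fi23, A ≤ T → (A.subgroupOf T).Normal → Cfsg.IsElementaryAbelian 2 A →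
        Nat.card A ≤ 2 ^ 11) ∧
    ∃! A : Subgroup Cfsg.Spor.Fi23, A ≤ T ∧ (A.subgroupOf T).Normal ∧ Cfsg.IsElementaryAbelian 2 A ∧
        Nat.card A = 2 ^ 11 := by
  have := H71.Fi23.finite
  obtain ⟨Θ, F, -⟩ := isFi23_spor
  have J := jp23 F
  have h11 : 2 * 2 ^ 10 = 2 ^ 11 := by norm_num
  rw [h11] at J
  have l : thompsonSubgroupOf 2 (T : Subgroup Spor.Fi23) ≤ T := Subgroup.map_subtype_le _
  have J1 := J.thompson T
  refine ⟨fun A _ _ a => ?_, thompsonSubgroupOf 2 (T : Subgroup Spor.Fi23), ⟨l, ⟨fun x hx g => ?_⟩, J1.1.isEA, J1.2⟩,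
    fun A ⟨h1, _, h2, h3⟩ => J.uq _ T.isPGroup' _ h1 _ l (EA.of_isEA h2) J1.1 h3.ge J1.2.ge⟩
  · by_contra! h
    have := J.card (EA.of_isEA a) h.le
    omega
  · have e := J.uq _ T.isPGroup' ((thompsonSubgroupOf 2 (T : Subgroup Spor.Fi23)).map (cj (g : Spor.Fi23)))
      (by
        rintro _ ⟨y, hy, rfl⟩
        exact mul_mem (mul_mem g.2 (l hy)) (inv_mem g.2)) _ l (J1.1.map _) J1.1
      (by rw [card_cj]; exact J1.2.ge) J1.2.ge
    rw [Subgroup.mem_subgroupOf, ← e]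
    exact ⟨x, hx, rfl⟩

end Cfsg.Agent.S2652
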