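import Cfsg.Statements.S2756
import Cfsg.Agent.H13.ZJ3Inv

set_option autoImplicit false
open Cfsg

namespace Cfsg.Agent.S2756

/-- For a finite group G the following are equivalent: (a) G has a normal Sylow 2-subgroup; (b) for every odd prime q dividing the order of G and every Sylow q-subgroup T, the normalizer of Z(J(T)) has a normal Sylow 2-subgroup; (c) for every odd prime q and every Sylow q-subgroup T, no nonidentity element of T is inverted by an element of the normalizer of Z(J(T)). Here J(T) is the Thompson subgroup generated by the abelian subgroups of T of largest order. Stated as the two equivalences (a) ⇔ (b) and (a) ⇔ (c). -/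
theorem result {G : Type*} [Group G] [Finite G] : ((∀ P : Sylow 2 G, (P : Subgroup G).Normal) ↔ ∀ (q : ℕ) [Fact q.Prime], q ≠ 2 → q ∣ Nat.card G → ∀ T : Sylow q G, ∀ P : Sylow 2 ↥(Subgroup.normalizer (Cfsg.centerThompsonAOf (T : Subgroup G) : Set G)), (P : Subgroup ↥(Subgroup.normalizer (Cfsg.centerThompsonAOf (T : Subgroup G) : Set G))).Normal) ∧ ((∀ P : Sylow 2 G, (P : Subgroup G).Normal) ↔ ∀ (q : ℕ) [Fact q.Prime], q ≠ 2 → ∀ T : Sylow q G, ∀ x ∈ (T : Subgroup G), x ≠ 1 → ∀ g ∈ Subgroup.normalizer (Cfsg.centerThompsonAOf (T : Subgroup G) : Set G), g * x * g⁻¹ ≠ x⁻¹) := by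
  have := Fact.mk Nat.prime_two
  have sub : (∀ P : Sylow 2 G, (P : Subgroup G).Normal) → ∀ (K : Subgroup G) (P : Sylow 2 K),
      (P : Subgroup K).Normal := fun h K P => by
    obtain ⟨Q, hQ⟩ := P.exists_comap_subtype_eq
    have := h Q
    rw [← hQ]
    infer_instance
  have odd : ∀ (q : ℕ) [Fact q.Prime], q ≠ 2 → ∀ T : Sylow q G, ∀ x ∈ (T : Subgroup G), Odd (orderOf x) := by
    intro q hq h2 T x hx
    obtain ⟨k, hk⟩ := T.2 ⟨x, hx⟩
    exact ((hq.out.odd_of_ne_two h2).pow).of_dvd_nat (orderOf_dvd_of_pow_eq_one (congrArg Subtype.val hk))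
  refine ⟨⟨fun h _ _ _ _ _ => sub h _, fun h => H13.two_closed_of_zj fun q hq h2 T x hx h1 g hg e => h1 ?_⟩,
    fun h q _ h2 T x hx h1 g _ e => h1 (H13.eq_one_of_inv_of_two_closed h (odd q h2 T x hx) e),
    H13.two_closed_of_zj⟩
  have hN : x ∈ Subgroup.normalizer (Cfsg.centerThompsonAOf (T : Subgroup G) : Set G) := by
    rw [H13.centerThompsonAOf_eq]
    exact H13.normalizer_le_normalizer_zj 0 _ (Subgroup.le_normalizer hx)
  exact congrArg Subtype.val (H13.eq_one_of_inv_of_two_closed (h q h2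
    (((T.2.card_eq_or_dvd).resolve_left fun e => h1 (Subgroup.mem_bot.1 (Subgroup.card_eq_one.1 e ▸ hx))).trans
      (Subgroup.card_subgroup_dvd_card _)) T) (x := ⟨x, hN⟩) (g := ⟨g, hg⟩)
    (by rw [Subgroup.orderOf_mk]; exact odd q h2 T x hx) (Subtype.ext e))

end Cfsg.Agent.S2756
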