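import Cfsg.Statements.S2765
import Cfsg.Agent.H52.Chief

set_option autoImplicit false
open Cfsg

namespace Cfsg.Agent.S2765

/-- In the same pushing-up situation (G finite, C_G(O_p(G)) ≤ O_p(G), G/K ≅ PSL₂(p^n) with n ≥ 1, a Sylow p-subgroup S in exactly one maximal subgroup, no nontrivial characteristic subgroup of S normal in G), one of the following holds: (I) S has nilpotency class 2, exponent 4 if p = 2 and exponent p otherwise, and G has exactly one noncentral chief factor inside O_p(G); or (II) p = 3, S has class 3 and exponent 9, and G has exactly two noncentral chief factors inside O_p(G). 'Exactly one' is phrased as: some noncentral chief factor U/W inside O_p(G) with G acting hypercentrally on W and on O_p(G)/U; 'exactly two' analogously with a chain. -/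
theorem result {G : Type*} [Group G] [Finite G] {p : ℕ} [Fact p.Prime] (S : Sylow p G) (hE₁ : Subgroup.centralizer (Cfsg.pCore p G : Set G) ≤ Cfsg.pCore p G) (hE₂ : ∃! M : Subgroup G, IsCoatom M ∧ (S : Subgroup G) ≤ M) (K : Subgroup G) [K.Normal] (F : Type) [Field F] [Fintype F] (n : ℕ) (hn : 1 ≤ n) (hF : Fintype.card F = p ^ n) (hE₃ : Nonempty (G ⧸ K ≃* Matrix.ProjectiveSpecialLinearGroup (Fin 2) F)) (hd : ∀ T : Subgroup ↥(S : Subgroup G), T ≠ ⊥ → T.Characteristic → ¬ (T.map (S : Subgroup G).subtype).Normal) : ((S : Subgroup G).lowerCentralSeries 2 = ⊥ ∧ (S : Subgroup G).lowerCentralSeries 1 ≠ ⊥ ∧ (p = 2 → Monoid.exponent ↥(S : Subgroup G) = 4) ∧ (p ≠ 2 → Monoid.exponent ↥(S : Subgroup G) = p) ∧ (∃ U W : Subgroup G, W ≤ U ∧ U ≤ (Cfsg.pCore p G) ∧ Cfsg.IsChiefFactor U W ∧ ¬ ⁅U, (⊤ : Subgroup G)⁆ ≤ W ∧ (∃ k : ℕ, Cfsg.iterCommutator W ⊤ k = ⊥) ∧ (∃ k : ℕ, Cfsg.iterCommutator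 (Cfsg.pCore p G) ⊤ k ≤ U))) ∨ (p = 3 ∧ (S : Subgroup G).lowerCentralSeries 3 = ⊥ ∧ (S : Subgroup G).lowerCentralSeries 2 ≠ ⊥ ∧ Monoid.exponent ↥(S : Subgroup G) = 9 ∧ (∃ U₁ W₁ U₂ W₂ : Subgroup G, W₁ ≤ U₁ ∧ U₁ ≤ W₂ ∧ W₂ ≤ U₂ ∧ U₂ ≤ (Cfsg.pCore p G) ∧ Cfsg.IsChiefFactor U₁ W₁ ∧ Cfsg.IsChiefFactor U₂ W₂ ∧ ¬ ⁅U₁, (⊤ : Subgroup G)⁆ ≤ W₁ ∧ ¬ ⁅U₂, (⊤ : Subgroup G)⁆ ≤ W₂ ∧ (∃ k : ℕ, Cfsg.iterCommutator W₁ ⊤ k = ⊥) ∧ (∃ k : ℕ, Cfsg.iterCommutator W₂ ⊤ k ≤ U₁) ∧ (∃ k : ℕ, Cfsg.iterCommutator (Cfsg.pCore p G) ⊤ k ≤ U₂))) := by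
  have hS := H98.isSyl_sylow S
  have hd' := H52.noChar_top hd
  rw [← H98.pCoreOf_top]
  rcases (H52.r1_of_quot S hE₂ K hF hE₃).push (H98.charP_top_iff.2 hE₁) hS hd'
    with ⟨A, h⟩ | ⟨A, Y, g, h⟩
  · have h1 := h.vtx.lcs_one_ne hS
    refine Or.inl ⟨hd'.lcs_eq_bot hS h.dec h.dec_cent inf_le_left h.Y_lcs, h1, ?_, fun hp2 => ?_,
      _, _, H52.Cv_le ⊤, H52.Vv_le_Q ⊤, h.vtx.spr.isChief, h.vtx.spr.not_central, H52.iter_Cv,
      H52.iter_le_of_res hS (H52.Vv_le_Q ⊤) (H52.n_Vv ⊤) h.QE⟩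
    · rintro rfl
      refine H52.exponent_eq_of_sq (p := 2)
        (hd'.pow_eq_one hS h.dec h.dec_cent inf_le_left h.Y_pow_sq) fun h2 => h1 ?_
      refine Subgroup.commutator_eq_bot_iff_le_centralizer.2 fun a ha b hb => ?_
      have h3 := h2 a ha
      have h4 := h2 b hb
      have h5 := h2 _ ((S : Subgroup G).mul_mem ha hb)
      rw [sq] at h3 h4 h5
      calc b * a = b * a * (a * b * (a * b)) := by rw [h5, mul_one]
        _ = b * (a * a) * b * (a * b) := by simp only [mul_assoc]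
        _ = a * b := by rw [h3, mul_one, h4, one_mul]
    · refine H52.exponent_eq_of_pow (fun t ht => ?_) fun e => h1 (eq_bot_iff.2 (e ▸ H52.lcs_le _ 1))
      simpa using hd'.pow_eq_one hS h.dec h.dec_cent inf_le_left (n := 1)
        (by simpa using h.Y_pow_odd hp2) t ht
  · obtain rfl := h.eq_three
    have hD := (inf_le_left : _ ⊓ Subgroup.centralizer (Y : Set G) ≤ _).trans h.DQ
    exact Or.inr ⟨rfl, hd'.lcs_eq_bot hS h.dec h.dec_cent hD h.Y_lcs, h.lcs_two_ne,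
      H52.exponent_eq_of_sq (p := 3) (hd'.pow_eq_one hS h.dec h.dec_cent hD h.Y_pow_sq)
        h.not_exp_three, _, _, _, _, H52.Cv_le ⊤, le_rfl, h.VU, h.UQ, h.vtx.spr.isChief,
      h.spr.isChief, h.vtx.spr.not_central, h.spr.not_central, H52.iter_Cv, ⟨0, le_rfl⟩,
      H52.iter_le_of_res hS h.UQ h.nU h.QE⟩

end Cfsg.Agent.S2765
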