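import Cfsg.Statements.S2768
import Cfsg.Agent.H52.Baum

set_option autoImplicit false
open Cfsg

namespace Cfsg.Agent.S2768

/-- Let G be a finite group and p a prime with C_G(O_p(G)) ≤ O_p(G), such that a Sylow p-subgroup S lies in exactly one maximal subgroup of G and G/K ≅ PSL₂(p^n) for some normal K and n ≥ 1. Put J̃(S) = C_S(Z(J(S))), where J(S) is generated by the abelian subgroups of S of largest order. If Z(S) is not normal in G, then J̃(S) is a Sylow p-subgroup of its normal closure ⟨J̃(S)^G⟩. -/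
theorem result {G : Type*} [Group G] [Finite G] {p : ℕ} [Fact p.Prime] (S : Sylow p G) (hE₁ : Subgroup.centralizer (Cfsg.pCore p G : Set G) ≤ Cfsg.pCore p G) (hE₂ : ∃! M : Subgroup G, IsCoatom M ∧ (S : Subgroup G) ≤ M) (K : Subgroup G) [K.Normal] (F : Type) [Field F] [Fintype F] (n : ℕ) (hn : 1 ≤ n) (hF : Fintype.card F = p ^ n) (hE₃ : Nonempty (G ⧸ K ≃* Matrix.ProjectiveSpecialLinearGroup (Fin 2) F)) (hZ : ¬ ((S : Subgroup G) ⊓ Subgroup.centralizer ((S : Subgroup G) : Set G)).Normal) : ∃ P : Sylow p ↥(Subgroup.normalClosure (((S : Subgroup G) ⊓ Subgroup.centralizer (Cfsg.centerThompsonAOf (S : Subgroup G) : Set G)) : Set G)), (P : Subgroup ↥(Subgroup.normalClosure (((S : Subgroup G) ⊓ Subgroup.centralizer (Cfsg.centerThompsonAOf (S : Subgroup G) : Set G)) : Set G))) = (((S : Subgroup G) ⊓ Subgroup.centralizer (Cfsg.centerThompsonAOf (S : Subgroup G) : Set G))).subgroupOf (Subgroup.normalClosure (((S : Subgroup G) ⊓ Subgroup.centralizer (Cfsg.centerThompsonAOf (S : Subgroup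 G) : Set G)) : Set G)) := by
  rw [H13.centerThompsonAOf_eq]
  have hS := H98.isSyl_sylow S
  have h0 := H52.r1_of_quot S hE₂ K hF hE₃
  refine H98.IsSyl.exists_sylow ?_
  change H98.IsSyl p (H52.jb (S : Subgroup G)) (Subgroup.normalClosure (H52.jb (S : Subgroup G) : Set G))
  rcases h0.tri (H98.charP_top_iff.2 hE₁) hS with h1 | h1 | ⟨h1, A, hA, hAQ⟩
  · exact (hZ (H52.normal_of_cent h1)).elim
  · have := H98.normal_of_top_le_normalizer h1
    rw [Subgroup.normalClosure_eq_self]
    exact H98.isSyl_self (hS.isPGroup.to_le inf_le_left)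
  · obtain ⟨g, hg, e⟩ := h0.exists_opp hS
    obtain ⟨h2, h3⟩ := h1.jb_syl hS hA hAQ hg e
    have := H98.normal_of_top_le_normalizer h2
    exact h3.of_le Subgroup.le_normalClosure (Subgroup.normalClosure_le_normal
      (SetLike.coe_subset_coe.2 le_sup_left))

end Cfsg.Agent.S2768
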