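import Cfsg.Statements.S2772
import Cfsg.Agent.S4385
import Cfsg.Agent.S3022
import Cfsg.Agent.H29.Burnside
import Cfsg.Agent.H14.FStar
import Cfsg.Agent.H3.FrattiniP
import Cfsg.Agent.H98.Core

set_option autoImplicit false
open Cfsg

namespace Cfsg.Agent.S2772

open Subgroup H98

/-- Sims' Theorem in local form: let H be a finite non-abelian simple group and G a maximal subgroup of H with C_G(O₂(G)) ≤ O₂(G), such that N_H(S) is not contained in G for a Sylow 2-subgroup S of G and G/O₂(G) is dihedral of order 2q for a prime q. Then G is isomorphic to the symmetric group of degree 4 or to its direct product with a group of order 2. -/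
theorem result {H : Type*} [Group H] [Finite H] [IsSimpleGroup H] (hna : ¬ IsMulCommutative H) (G : Subgroup H) (hG : IsCoatom G) (hchar : Subgroup.centralizer (Cfsg.pCore 2 ↥G : Set ↥G) ≤ Cfsg.pCore 2 ↥G) (S : Sylow 2 ↥G) (hN : ¬ Subgroup.normalizer (((S : Subgroup ↥G).map G.subtype : Subgroup H) : Set H) ≤ G) (q : ℕ) (hq : q.Prime) (hD : Nonempty (↥G ⧸ Cfsg.pCore 2 ↥G ≃* DihedralGroup q)) : Nonempty (↥G ≃* Equiv.Perm (Fin 4)) ∨ Nonempty (↥G ≃* Equiv.Perm (Fin 4) × Multiplicative (ZMod 2)) := by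
  haveI : Fact (Nat.Prime 2) := ⟨Nat.prime_two⟩
  obtain ⟨e⟩ := hD
  haveI : NeZero q := ⟨hq.ne_zero⟩
  have hi : (pCore 2 G).index = 2 * q := by
    rw [index, Nat.card_congr e.toEquiv, DihedralGroup.nat_card]
  have np : ¬ IsPGroup 2 G := fun h => by
    have : pCore 2 G = ⊤ := by rw [← pCoreOf_top, pCoreOf_eq_self (isPGroup_top_iff.2 h)]
    rw [this, index_top] at hi
    omega
  obtain ⟨a, ha⟩ := IsPGroup.iff_card.1 (isPGroup_pCore 2 G)
  have cG : Nat.card G = 2 ^ (a + 1) * q ^ 1 := by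
    rw [← (pCore 2 G).index_mul_card, hi, ha]; ring
  have idx : ∀ R : Sylow 2 G, (R : Subgroup G).index = q := fun R => by
    have h1 : (R : Subgroup G).index ∣ 2 ^ (a + 1) * q ^ 1 := cG ▸ index_dvd_card _
    have h2 := ((Nat.prime_two.coprime_iff_not_dvd.2 R.not_dvd_index).symm.pow_right (a + 1)).dvd_of_dvd_mul_left h1
    rw [pow_one] at h2
    refine ((Nat.dvd_prime hq).1 h2).resolve_left fun h => np ?_
    rw [index_eq_one] at h
    exact isPGroup_top_iff.1 (h ▸ R.isPGroup')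
  have hP := isSyl_map_subtype S
  set P := (S : Subgroup G).map G.subtype with hPd
  have key : ∀ y ∉ G, ∀ Q ≤ P, G ≤ normalizer (Q : Set H) → y ∈ normalizer (Q : Set H) → Q = ⊥ :=
    fun y hy Q hQ h1 h2 => by
    have := normal_of_top_le_normalizer (hG.2 _ (lt_of_le_of_ne h1 fun e => hy (e ▸ h2))).ge
    refine (IsSimpleGroup.eq_bot_or_eq_top_of_normal Q this).resolve_right fun e => hG.1 ?_
    exact top_le_iff.1 (e ▸ hQ.trans hP.le)
  have two : ∀ x ∈ normalizer (P : Set H), ∀ {K : Subgroup H}, IsSyl 2 P K → x ∈ K → ∀ k : ℕ, x ^ 2 ^ k = 1 →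
      x ∈ P := fun x hx K hK xK k h =>
    zpowers_le.1 (hK.le_of_le_normalizer' (isPGroup_zpowers h) (zpowers_le.2 xK) (zpowers_le.2 hx))
  obtain ⟨T, hPT⟩ := hP.isPGroup.exists_le_sylow
  rcases hPT.eq_or_lt with hT | hT
  · exfalso
    have hS : IsSyl 2 P ⊤ := hT ▸ isSyl_sylow T
    obtain ⟨r, hr, x, hx, k, hk, xG⟩ : ∃ r : ℕ, r.Prime ∧ ∃ x ∈ normalizer (P : Set H), ∃ k : ℕ,
        x ^ r ^ k = 1 ∧ x ∉ G := by
      by_contra! h
      exact hN (le_of_forall_prime_pow_mem fun r hr _ x hx ⟨k, hk⟩ => h r hr x hx k hk)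
    have r2 : r ≠ 2 := by
      rintro rfl
      exact xG (hP.le (two x hx hS (mem_top x) k hk))
    haveI : Group.IsSolvable G := H29.isSolvable_of_card_dvd_pow_mul_pow Nat.prime_two hq cG.dvd
    let f := (S : Subgroup G).equivMapOfInjective G.subtype G.subtype_injective
    let α : MulAut (S : Subgroup G) := (MulAut.congr f).symm (P.normalizerMonoidHom ⟨x, hx⟩)
    obtain ⟨U, U1, Un, US, hU⟩ := Cfsg.Agent.S3022.result (G := G)
      (fun K N _ _ hc => (hc ⟨⟨IsSimpleGroup.comm_iff_isSolvable.2 inferInstance⟩⟩).elim)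
      (fun R => ⟨R, ⟨H3.isCoatom_of_index_prime (idx R ▸ hq), le_rfl⟩, fun M hM =>
        ((H3.isCoatom_of_index_prime (idx R ▸ hq)).le_iff.1 hM.2).resolve_left hM.1.1⟩) hchar S (zpowers α) (by
      rw [Nat.card_zpowers]
      refine Odd.of_dvd_nat (hr.odd_of_ne_two r2).pow (orderOf_dvd_of_pow_eq_one (n := r ^ k) ?_)
      have : (⟨x, hx⟩ : normalizer (P : Set H)) ^ r ^ k = 1 := Subtype.ext hk
      rw [← map_pow, ← map_pow, this, map_one, map_one])
    refine U1 ((map_eq_bot_iff_of_injective U G.subtype_injective).1 (key x xG _ (map_mono US)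
      (le_normalizer_map_subtype U) (mem_normalizer_of_cj_le ?_)))
    rintro _ ⟨_, ⟨u, hu, rfl⟩, rfl⟩
    refine ⟨_, hU α (mem_zpowers α) ⟨u, US hu⟩ hu, ?_⟩
    have : f (α ⟨u, US hu⟩) = P.normalizerMonoidHom ⟨x, hx⟩ (f ⟨u, US hu⟩) := f.apply_symm_apply _
    exact congrArg Subtype.val this
  · obtain ⟨x, ⟨xT, xN⟩, xP⟩ := SetLike.exists_of_lt (lt_inf_normalizer T.isPGroup' hT)
    obtain ⟨k, hk⟩ := isPGroup_iff_forall.1 T.isPGroup' x xT
    classical
    have ex : ∃ k : ℕ, x ^ 2 ^ k ∈ P := ⟨k, hk ▸ one_mem _⟩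
    have k0 : Nat.find ex ≠ 0 := fun e => xP (by simpa [e] using Nat.find_spec ex)
    obtain ⟨j, hj⟩ := Nat.exists_eq_succ_of_ne_zero k0
    have yP : x ^ 2 ^ j ∉ P := Nat.find_min ex (by omega)
    have y2 : (x ^ 2 ^ j) ^ 2 ∈ P := by
      have := Nat.find_spec ex
      rwa [hj, pow_succ, pow_mul] at this
    have yG : x ^ 2 ^ j ∉ G := fun h => yP (two _ (pow_mem xN _) hP h k (by
      rw [← pow_mul, mul_comm, pow_mul, hk, one_pow]))
    have hO : oddCore G = ⊥ := H14.pPrimeCore_eq_bot_of_centralizer_pCore_le hchar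
    have ε : G ⧸ oddCore G ≃* G := (QuotientGroup.quotientMulEquivOfEq hO).trans QuotientGroup.quotientBot
    have h1 : pCore 2 G ≠ ⊥ := fun h => by
      rw [h, centralizer_bot', top_le_iff] at hchar
      rw [h, hchar, index_top] at hi
      omega
    rcases (Cfsg.Agent.S4385.result G h1 q hq.two_le ⟨e⟩ P hP.le hP.isPGroup hP.not_dvd_relIndex T hPT
      (x ^ 2 ^ j) (pow_mem xT _) yP (mem_sup_left y2) (cj_eq_self (pow_mem xN _)) fun Q hQ hn h =>
        key _ yG Q hQ ((normal_subgroupOf_iff_le_normalizer (hQ.trans hP.le)).1 hn) (cj_eq_self_iff.1 h)).2 with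
      ⟨⟨g⟩⟩ | ⟨⟨g⟩⟩ | ⟨⟨g⟩⟩
    · refine (np (IsPGroup.of_card (n := 2) ?_)).elim
      rw [← Nat.card_congr ε.toEquiv, Nat.card_congr g.toEquiv]
      simp
    · exact Or.inl ⟨ε.symm.trans g⟩
    · exact Or.inr ⟨ε.symm.trans g⟩

end Cfsg.Agent.S2772
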