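import Cfsg.Statements.S2773
import Cfsg.Agent.Base
import Cfsg.Agent.H98.GK

set_option autoImplicit false
universe u
open Cfsg

namespace Cfsg.Agent.S2773

open Subgroup H98
open scoped commutatorElement


/-- For every nontrivial finite 3-group S there is a nontrivial characteristic subgroup K of S such that, in every finite group G containing S as a Sylow 3-subgroup, S ∩ G' is the product of S ∩ (C_G(Z(S)))' and S ∩ (N_G(K))' (derived subgroups; product taken elementwise). -/
theorem result {S : Type u} [Group S] [Finite S] [Nontrivial S] (hS : IsPGroup 3 S) : ∃ K : Subgroup S, K ≠ ⊥ ∧ K.Characteristic ∧ ∀ (G : Type u) [Group G] [Finite G] (τ : S →* G), Function.Injective τ → (∃ P : Sylow 3 G, (P : Subgroup G) = τ.range) → ∀ g : G, g ∈ τ.range ⊓ commutator G ↔ ∃ a ∈ τ.range ⊓ ⁅Subgroup.centralizer ((τ.range ⊓ Subgroup.centralizer (τ.range : Set G) : Subgroup G) : Set G), Subgroup.centralizer ((τ.range ⊓ Subgroup.centralizer (τ.range : Set G) : Subgroup G) : Set G)⁆, ∃ b ∈ τ.range ⊓ ⁅Subgroup.normalizer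 ((K.map τ : Subgroup G) : Set G), Subgroup.normalizer ((K.map τ : Subgroup G) : Set G)⁆, g = a * b := by
  have : Fact (Nat.Prime 3) := ⟨Nat.prime_three⟩
  refine ⟨kb 3 ⊤, kb_ne_bot (isPGroup_top_iff.2 hS) top_ne_bot, kb_char, fun G _ _ τ hτ hP g => ?_⟩
  rw [map_kb hτ, ← MonoidHom.range_eq_map]
  have h1 := isSyl_top_iff.2 hP
  generalize τ.range = T at h1 ⊢
  have h2 : T ≤ normalizer (kb 3 T : Set G) := n_kb (n_jb' (le_normalizer_bm le_normalizer))
  refine ⟨fun h => (mem_sup_left_norm (inf_le_left.trans (le_normalizer_inf le_normalizer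
    (le_normalizer_commutator (le_normalizer_of_le h2) (le_normalizer_of_le h2))))).1
    (inf_commutator_le_zk (by decide) h1 h), ?_⟩
  rintro ⟨a, ha, b, hb, rfl⟩
  exact mul_mem ⟨ha.1, commutator_mono le_top le_top ha.2⟩ ⟨hb.1, commutator_mono le_top le_top hb.2⟩

end Cfsg.Agent.S2773
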