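import Cfsg.Statements.S2781
import Cfsg.Agent.H47.CycNormal

set_option autoImplicit false
open Cfsg
open H46

namespace Cfsg.Agent.S2781

/-- Let H act faithfully by conjugation on the elementary abelian p-subgroup V of a finite group, let O^p(H) be the subgroup of H generated by its elements of order prime to p, and T a Sylow p-subgroup of O^p(H). If V is generated by the H-conjugates of C_V(T) (V is the smallest H-invariant subgroup containing C_V(T)), then V = [V, O^p(H)]·C_V(O^p(H)). -/
theorem result {G : Type*} [Group G] [Finite G] {p : ℕ} [Fact p.Prime] (V H : Subgroup G) (hV : Cfsg.IsElementaryAbelian p V) (hHV : H ≤ Subgroup.normalizer (V : Set G)) (hf : H ⊓ Subgroup.centralizer (V : Set G) = ⊥) (R : Subgroup G) (hR : R = (Cfsg.pResidual p ↥H).map H.subtype) (S : Sylow p ↥R) (T : Subgroup G) (hT : T = ((S : Subgroup ↥R).map R.subtype)) (hgen : ∀ W : Subgroup G, H ≤ Subgroup.normalizer (W : Set G) → (V ⊓ Subgroup.centralizer ((T : Subgroup G) : Set G)) ≤ W → V ≤ W) : ⁅V, R⁆ ⊔ (V ⊓ Subgroup.centralizer ((R : Subgroup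 G) : Set G)) = V := by
  have hRH : R ≤ H := hR ▸ Subgroup.map_subtype_le _
  have hHR : H ≤ Nrm R := by
    rw [hR]
    have := H7.pResidual_normal (p := p) (G := H)
    exact (normalIn_map_subtype this).nrm
  have hRV : R ≤ Nrm V := hRH.trans hHV
  refine le_antisymm (sup_le (commutator_le_left' hRV) inf_le_left) (hgen _ ?_ ?_)
  · exact nrm_sup (nrm_commutator hHV hHR) (nrm_inf hHV (nrm_cent hHR))
  · intro v hv
    refine H47.mem_of_pow_mem_of_coprime (m := p) (by rw [hV.2 v hv.1]; exact one_mem _)
      (H47.pow_relIndex_mem_commutator_sup_cent hV.1 hRV hv.1 hv.2) ?_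
    rw [Nat.Prime.coprime_iff_not_dvd Fact.out, hT]
    exact (isSylowOf_map_subtype S).not_dvd Fact.out

end Cfsg.Agent.S2781
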