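import Cfsg.Statements.S2794
import Cfsg.Agent.H13.Ctrl3
import Cfsg.Agent.S2763

set_option autoImplicit false
open Cfsg

namespace Cfsg.Agent.S2794

/-- For an odd prime p and a finite group G, the group Qd(p) is not involved in G if and only if in every section K/R of G, for every Sylow p-subgroup S* of K/R, the centre of J(S*) (J generated by the abelian subgroups of largest order) controls strong fusion in K/R. -/
theorem result {G : Type*} [Group G] [Finite G] {p : ℕ} [Fact p.Prime] (hp : p ≠ 2) : ¬ Cfsg.Involves ↥(Cfsg.qd p) G ↔ ∀ (K R : Subgroup G) [hR : (R.subgroupOf K).Normal], ∀ T : Sylow p (K ⧸ R.subgroupOf K), Cfsg.ControlsStrongFusion p (Cfsg.centerThompsonAOf (T : Subgroup (K ⧸ R.subgroupOf K))) := by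
  constructor
  · intro h K R hR T
    rw [H13.centerThompsonAOf_eq]
    exact H13.controlsStrongFusion_of_ctrl T (H13.zj_le 0 _)
      (H13.ctrl_zjD_of_not_involves_qd hp (dvd_zero p) (fun h' => h (H94.involves_trans h'
        (H94.involves_trans (H94.involves_quotient _) (H94.involves_subgroup K)))) T (H13.sc_self _))
  · rintro h ⟨K, R, hR, ⟨e⟩⟩
    let T : Sylow p (K ⧸ R.subgroupOf K) := default
    have h1 := h K R T
    rw [H13.centerThompsonAOf_eq] at h1
    have hc : H10.IsCharP p (Cfsg.qd p) := by
      change H10.IsCharP p (Cfsg.qdOver (ZMod p))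
      unfold H10.IsCharP
      rw [H11.pCore_qdOver p, H11.centralizer_ker_qLin]
    have h2 := H13.normal_of_controlsStrongFusion (hc.of_mulEquiv e.symm)
      ((H2.pCore_le_sylow T).trans (Subgroup.le_normalizer.trans
        (H13.normalizer_le_normalizer_zj 0 _))) h1
    have : Finite (Cfsg.qd p) := Finite.of_equiv _ e.toEquiv
    have hs : Function.Surjective e.toMonoidHom := e.surjective
    have h3 := h2.map e.toMonoidHom hs
    rw [← H13.zj_map e.injective.injOn, ← Sylow.coe_mapSurjective hs] at h3
    set S := T.mapSurjective hs with hS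
    have h4 : H13.zj 0 (S : Subgroup (Cfsg.qd p)) =
        (H13.zj 0 ⊤).map (S : Subgroup (Cfsg.qd p)).subtype := by
      rw [← H13.zj_map (S : Subgroup (Cfsg.qd p)).subtype_injective.injOn,
        ← MonoidHom.range_eq_map, Subgroup.range_subtype]
    have h5 : (H13.zj 0 (⊤ : Subgroup (S : Subgroup (Cfsg.qd p)))).Characteristic :=
      Subgroup.characteristic_iff_map_eq.mpr fun φ => by
        rw [← H13.zj_map φ.injective.injOn, Subgroup.map_top_of_surjective _ φ.surjective]
    by_cases hb : H13.zj 0 (⊤ : Subgroup (S : Subgroup (Cfsg.qd p))) = ⊥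
    · have h6 : (S : Subgroup (Cfsg.qd p)) = ⊥ := by
        by_contra h6
        exact H13.zj_ne_bot (dvd_zero p) S.2 h6 (by rw [h4, hb, Subgroup.map_bot])
      have h7 := H2.pCore_le_sylow S
      have : Nontrivial (Cfsg.qd p) := by
        change Nontrivial (Cfsg.qdOver (ZMod p))
        exact H11.qTr_injective.nontrivial
      exact hc.pCore_ne_bot (eq_bot_iff.mpr (h6 ▸ h7))
    · obtain ⟨h6, h7⟩ := Cfsg.Agent.S2763.result S _ hb h5
      rw [← h4, Subgroup.normalizer_eq_top_iff.mpr h3] at h6
      exact h7 h6.symm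

end Cfsg.Agent.S2794
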