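import Cfsg.Statements.S2799
import Cfsg.Agent.H94.WeakClosed

set_option autoImplicit false
open Cfsg

namespace Cfsg.Agent.S2799

/-- Let S be a Sylow p-subgroup of the finite group G, J(S) the subgroup generated by the abelian subgroups of S of largest order, and x an element of S lying in the centre of N_G(J(S)). Assume that p is odd, or that x is a p-th power of an element of Z(S), or that the symmetric group of degree 4 is not involved in G. Then x is weakly closed in S with respect to G: every G-conjugate of x that lies in S equals x. -/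
theorem result {G : Type*} [Group G] [Finite G] {p : ℕ} [Fact p.Prime] (S : Sylow p G) (x : G) (hxS : x ∈ (S : Subgroup G)) (hxZ : x ∈ (Subgroup.center ↥(Subgroup.normalizer ((Cfsg.thompsonSubgroupAOf (S : Subgroup G)) : Set G))).map (Subgroup.normalizer ((Cfsg.thompsonSubgroupAOf (S : Subgroup G)) : Set G)).subtype) (h : p ≠ 2 ∨ (∃ z ∈ (S : Subgroup G) ⊓ Subgroup.centralizer ((S : Subgroup G) : Set G), z ^ p = x) ∨ ¬ Cfsg.Involves (Equiv.Perm (Fin 4)) G) : ∀ g : G, g * x * g⁻¹ ∈ (S : Subgroup G) → g * x * g⁻¹ = x := by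
  rw [H94.map_center_subtype] at hxZ
  have hw := H94.isFun_J p
  have hx : x ∈ FusionSystem.centralizerIn (S : Subgroup G) S :=
    ⟨hxS, fun y hy => hxZ.2 y (hw.le_normalizerIn S.isPGroup' hy).2⟩
  have h1 : H94.NSub (groupFusionSystem (S : Subgroup G)) (thompsonSubgroupAOf (S : Subgroup G))
      (H94.fixSys x) := fun P f hf hJ _ e => by
    have hxP := hJ (H94.center_le_thompsonA _ hx)
    refine H94.mor_fixSys_of hx hf hxP ?_
    obtain ⟨-, -, g, eg⟩ := H92.mor_group_iff.1 hf
    have hg : g ∈ Subgroup.normalizer (thompsonSubgroupAOf (S : Subgroup G) : Set G) := by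
      rw [H94.mem_normalizer_iff_cj, ← H94.img_conj_eq_cj,
        ← H92.img_congr fun y hy => eg y (hJ hy), e]
    rw [eg x hxP, hxZ.2 g hg, mul_inv_cancel_right]
  have hF := H94.isSaturated_group S
  have h2 : (groupFusionSystem (S : Subgroup G)).IsSubsystemOf (H94.fixSys x) := by
    rcases h with h | ⟨z, hz, e⟩ | h
    · exact H94.center_ctrl_thompsonA S.isPGroup' hF (Or.inl h) hx h1
    · have h3 : x ∈ H94.mhoZ p (S : Subgroup G) := Subgroup.subset_closure ⟨z, hz, by simp [e]⟩
      exact H94.gen_thompsonA S.isPGroup' hF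
        (fun P f hf _ hP e => H94.mor_fixSys_of hx hf (hP h3) (e x h3)) h1
    · exact H94.center_ctrl_thompsonA S.isPGroup' hF (Or.inr (H94.sectionFree_group S h)) hx h1
  intro g hg
  have h5 : H92.Mor (groupFusionSystem (S : Subgroup G)) (Subgroup.zpowers x)
      (fun y => g * y * g⁻¹) := by
    refine H92.mor_group_iff.2 ⟨(Subgroup.zpowers_le).2 hxS, ?_, g, fun _ _ => rfl⟩
    rintro _ ⟨n, rfl⟩
    simp only [← conj_zpow]
    exact zpow_mem hg n
  exact H94.Mor.fix_of_fixSys (h5.of_sub h2) (Subgroup.mem_zpowers x)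

end Cfsg.Agent.S2799
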