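import Cfsg.Statements.S2803
import Cfsg.Agent.Base
import Cfsg.Agent.H98.PReduced

set_option autoImplicit false
open Cfsg

namespace Cfsg.Agent.S2803

open Subgroup H98
open scoped commutatorElement


/-- Let L be a finite group and p a prime with C_L(O_p(L)) ≤ O_p(L), T a Sylow p-subgroup, and Y the largest p-reduced normal subgroup of L. Put T_L = C_T(Y) and L_T = N_L(T_L). Then L = L_T · C_L(Y) (elementwise), T_L = O_p(L_T), and Y = Ω₁(Z(T_L)). -/
theorem result {L : Type*} [Group L] [Finite L] {p : ℕ} [Fact p.Prime] (hchar : Subgroup.centralizer (Cfsg.pCore p L : Set L) ≤ Cfsg.pCore p L) (T : Sylow p L) (Y : Subgroup L) (hY : (Cfsg.IsPReducedNormal p Y ∧ ∀ V : Subgroup L, Cfsg.IsPReducedNormal p V → V ≤ Y)) (TL : Subgroup L) (hTL : TL = (T : Subgroup L) ⊓ Subgroup.centralizer (Y : Set L)) : (∀ g : L, ∃ a ∈ Subgroup.normalizer (TL : Set L), ∃ c ∈ Subgroup.centralizer (Y : Set L), g = a * c) ∧ (Cfsg.pCore p ↥(Subgroup.normalizer (TL : Set L))).map (Subgroup.normalizer (TL :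 Set L)).subtype = TL ∧ Y = Cfsg.omegaOne p (TL ⊓ Subgroup.centralizer (TL : Set L)) := by
  have hY' : Y = Cfsg.largestPReducedOf p ⊤ :=
    eq_Y_of_forall (isPReducedNormal_iff_top.mp hY.1) fun V hV => hY.2 V (isPReducedNormal_iff_top.mpr hV)
  have h1 := isPReducedNormal_iff_top.mp hY.1
  refine ⟨fun g => ?_, ?_, ?_⟩
  · have := (isSyl_sylow T).frattini_centralizer' h1.norm
    rw [top_sup_eq, top_inf_eq, ← hTL] at this
    exact (mem_sup_left_norm (le_top.trans (le_normalizer_centralizer h1.norm))).mp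
      (this.le (mem_top g))
  · have := h1.pCoreOf_normalizer (isSyl_sylow T)
    rw [top_inf_eq, ← hTL] at this
    exact this
  · have := (charP_top_iff.mpr hchar).Y_eq_oz (isSyl_sylow T)
    rw [← hY', ← hTL] at this
    exact this

end Cfsg.Agent.S2803
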