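import Cfsg.Statements.S2804
import Cfsg.Agent.Base
import Cfsg.Agent.H98.PReduced

set_option autoImplicit false
open Cfsg

namespace Cfsg.Agent.S2804

open Subgroup H98
open scoped commutatorElement


/-- Let L be a finite group and p a prime with C_L(O_p(L)) ≤ O_p(L), V a p-reduced normal subgroup of L and K a subnormal subgroup of L. Then [V, O^p(K)] is contained in K and is a p-reduced normal subgroup of K, where O^p(K) is the subgroup of K generated by its elements of order prime to p. -/
theorem result {L : Type*} [Group L] [Finite L] {p : ℕ} [Fact p.Prime] (hchar : Subgroup.centralizer (Cfsg.pCore p L : Set L) ≤ Cfsg.pCore p L) (V : Subgroup L) (hV : Cfsg.IsPReducedNormal p V) (K : Subgroup L) (hK : K.IsSubnormal) : ⁅V, (Cfsg.pResidual p ↥K).map K.subtype⁆ ≤ K ∧ Cfsg.IsPReducedNormal p ((⁅V, (Cfsg.pResidual p ↥K).map K.subtype⁆).subgroupOf K) := by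
  have h := isPReducedNormal_iff_top.mp hV
  have hs := subN_top_iff.mpr hK
  have h1 : ⁅V, res p K⁆ ≤ V ⊓ res p K := hs.commutator_res_le h.isPGroup le_top (le_top.trans h.norm)
  have h2 : ⁅V, res p K⁆ ≤ K := (h1.trans inf_le_right).trans (res_le K)
  refine ⟨h2, (isPReducedNormal_subgroupOf_iff h2).mpr ⟨h2,
    le_normalizer_commutator (le_top.trans h.norm) (self_le_normalizer_res K),
    H12.ea_mono h.ea (h1.trans inf_le_left), fun D d1 d2 d3 => ?_⟩⟩
  refine (h.red.subN_le h.norm ((SubN.of_normal d1 d2).trans hs) ?_).trans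
    (centralizer_anti (h1.trans inf_le_left))
  rw [← res_res]
  refine res_le_centralizer_of_quadratic h.isPGroup (le_top.trans h.norm) ?_
  rw [commutator_eq_bot_iff_le_centralizer]
  exact (commutator_mono le_rfl (res_mono d1)).trans (le_centralizer_iff.mp d3)

end Cfsg.Agent.S2804
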