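import Cfsg.Statements.S2806
import Cfsg.Agent.Base
import Cfsg.Agent.H98.Kieler
import Cfsg.Agent.H98.JoinSylow

set_option autoImplicit false
open Cfsg

namespace Cfsg.Agent.S2806

open Subgroup H98
open scoped commutatorElement

theorem ps_eq {H : Type*} [Group H] [Finite H] {p : ℕ} [Fact p.Prime]
    (hH : Cfsg.IsOfLocalCharacteristic p H) (T : Sylow p H) (L : Subgroup H) (h : SubN L ⊤) :
    Cfsg.pointStabilizer p L ((T : Subgroup H) ⊓ L) =
      Cfsg.pElementClosure p (L ⊓ centralizer (oz p (T : Subgroup H) : Set H)) := by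
  by_cases hne : (T : Subgroup H) ⊓ L = ⊥
  · have hL : Cfsg.pElementClosure p L = ⊥ := by
      rw [((isSyl_sylow T).inf_subN h).pcl_eq_ncl, hne, ncl_eq_bot_iff]
    have h1 := pcl_mono (p := p) (inf_le_left : L ⊓ centralizer (oz p (T : Subgroup H) : Set H) ≤ L)
    have h2 := pcl_mono (p := p)
      (inf_le_left : L ⊓ centralizer (oz p ((T : Subgroup H) ⊓ L) : Set H) ≤ L)
    rw [hL, le_bot_iff] at h1 h2
    exact h2.trans h1.symm
  · rw [(locCharP_top hH).kieler (isSyl_sylow T) h hne]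
    rfl

/-- Let H be a finite group of local characteristic p, T a Sylow p-subgroup, and L₁, L₂ subnormal subgroups of H generating the subgroup L. Then the point stabilizer of L with respect to T ∩ L is generated by the point stabilizers of L₁ and L₂ with respect to T ∩ L₁ and T ∩ L₂ (point stabilizer of X w.r.t. R: the subgroup generated by the p-elements of X centralizing Ω₁(Z(R))). -/
theorem result {H : Type*} [Group H] [Finite H] {p : ℕ} [Fact p.Prime] (hH : Cfsg.IsOfLocalCharacteristic p H) (T : Sylow p H) (L₁ L₂ : Subgroup H) (h₁ : L₁.IsSubnormal) (h₂ : L₂.IsSubnormal) : Cfsg.pointStabilizer p (L₁ ⊔ L₂) ((T : Subgroup H) ⊓ (L₁ ⊔ L₂)) = Cfsg.pointStabilizer p L₁ ((T : Subgroup H) ⊓ L₁) ⊔ Cfsg.pointStabilizer p L₂ ((T : Subgroup H) ⊓ L₂) := by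
  have s₁ := subN_top_iff.mpr h₁
  have s₂ := subN_top_iff.mpr h₂
  have s := H18.subN_sup _ _ s₁ s₂
  rw [ps_eq hH T _ s, ps_eq hH T _ s₁, ps_eq hH T _ s₂]
  set C := centralizer (oz p (T : Subgroup H) : Set H)
  have hTC : (T : Subgroup H) ≤ C := le_centralizer_oz _
  refine le_antisymm ?_ (sup_le (pcl_mono (inf_le_inf_right C le_sup_left))
    (pcl_mono (inf_le_inf_right C le_sup_right)))
  have hP : ∀ L : Subgroup H, SubN L ⊤ → SubN (Cfsg.pElementClosure p (L ⊓ C)) C := fun L h =>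
    SubNIn.step _ _ (pcl_le _) (le_normalizer_pcl le_normalizer) (h.inf_of_le le_top)
  have hs := (H18.subN_sup _ _ (hP _ s₁) (hP _ s₂)).of_le
    (sup_le ((pcl_le _).trans (inf_le_inf_right C le_sup_left))
      ((pcl_le _).trans (inf_le_inf_right C le_sup_right))) inf_le_right
  have hS := ((isSyl_sylow T).of_le hTC le_top).inf_subN (s.inf_of_le (le_top (a := C)))
  have hle : (T : Subgroup H) ⊓ ((L₁ ⊔ L₂) ⊓ C) ≤
      Cfsg.pElementClosure p (L₁ ⊓ C) ⊔ Cfsg.pElementClosure p (L₂ ⊓ C) := by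
    refine (le_inf (inf_le_right.trans inf_le_left) inf_le_left).trans
      (((isSyl_sylow T).sup_inf_eq s₁ s₂).le.trans (sup_le_sup ?_ ?_)) <;>
    exact le_pcl T.isPGroup'.to_inf_right (inf_le_inf_left _ hTC)
  refine pcl_le_of_forall_isPGroup fun Q hQ hp => ?_
  obtain ⟨R, hR, hQR⟩ := exists_isSyl_le hp hQ
  have h1 := hR.inf_subN hs
  have h2 := hS.of_le hle hs.le
  have h3 : Nat.card R ≤ Nat.card ↥(R ⊓ (Cfsg.pElementClosure p (L₁ ⊓ C) ⊔ Cfsg.pElementClosure p (L₂ ⊓ C))) := by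
    rw [h1.card_eq, ← h2.card_eq, hS.card_eq, hR.card_eq]
  exact hQR.trans ((eq_of_le_of_card_ge inf_le_left h3).ge.trans inf_le_right)

end Cfsg.Agent.S2806
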