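import Cfsg.Statements.S2810
import Cfsg.Agent.Base
import Cfsg.Agent.H98.CharP

set_option autoImplicit false
open Cfsg

namespace Cfsg.Agent.S2810

open Subgroup H98
open scoped commutatorElement


/-- Let H be a finite group of characteristic p and L a subgroup of H centralizing every factor of some H-invariant chain 1 = A₀ ≤ A₁ ≤ … ≤ Aₙ = O_p(H) of normal subgroups (that is, [A_{i+1}, L] ≤ Aᵢ for each i). Then L ≤ O_p(H). -/
theorem result {H : Type*} [Group H] [Finite H] {p : ℕ} [Fact p.Prime] (hchar : Subgroup.centralizer (Cfsg.pCore p H : Set H) ≤ Cfsg.pCore p H) (L : Subgroup H) (n : ℕ) (A : Fin (n + 1) → Subgroup H) (h0 : A 0 = ⊥) (hn : A (Fin.last n) = Cfsg.pCore p H) (hmono : Monotone A) (hnorm : ∀ i, (A i).Normal) (hcent : ∀ i : Fin n, ⁅A i.succ, L⁆ ≤ A i.castSucc) : L ≤ Cfsg.pCore p H := by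
  have hc : CharP p (⊤ : Subgroup H) := charP_top_iff.mpr hchar
  have hN : (normalClosure (L : Set H)).Normal := inferInstance
  refine le_trans subset_normalClosure (H2.le_pCore (N := normalClosure (L : Set H)) ?_)
  refine hc.isPGroup_of_chain le_top (fun i => A ⟨n - i, by omega⟩) ?_ ?_ (n := n) ?_
  · rw [pCoreOf_top, ← hn]; exact le_of_eq (congrArg A (Fin.ext (by simp)))
  · intro i
    have hi := hnorm ⟨n - (i + 1), by omega⟩
    have hi' := hnorm ⟨n - i, by omega⟩
    have : (stab (A ⟨n - i, by omega⟩) (A ⟨n - (i + 1), by omega⟩)).Normal :=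
      normal_of_top_le_normalizer (le_normalizer_stab le_normalizer_of_normal le_normalizer_of_normal)
    refine (le_stab_iff.mp (normalClosure_le_normal (le_stab_iff.mpr ⟨le_normalizer_of_normal, ?_⟩))).2
    by_cases h : i < n
    · have := hcent ⟨n - (i + 1), by omega⟩
      have e : (⟨n - (i + 1), by omega⟩ : Fin n).succ = ⟨n - i, by omega⟩ := Fin.ext (by simp; omega)
      rw [e] at this
      exact this
    · have e : (⟨n - (i + 1), by omega⟩ : Fin (n + 1)) = ⟨n - i, by omega⟩ := Fin.ext (by simp; omega)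
      rw [e]
      exact commutator_le_left _ _
  · rw [← h0]; exact congrArg A (Fin.ext (by simp))

end Cfsg.Agent.S2810
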