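import Cfsg.Statements.S2812
import Cfsg.Agent.Base
import Cfsg.Agent.H98.FStarP

set_option autoImplicit false
open Cfsg

namespace Cfsg.Agent.S2812

open Subgroup H98
open scoped commutatorElement


/-- Let H be a subgroup of the finite group G with O_p(H) = 1, Y a p-subgroup of G normalizing H, and L a subgroup of the generalized Fitting subgroup F*(H) that is subnormal in H and normalized by Y. Then L = [L, Y]·C_L(Y) and [L, Y] = [L, Y, Y]. -/
theorem result {G : Type*} [Group G] [Finite G] {p : ℕ} [Fact p.Prime] (H : Subgroup G) (hO : Cfsg.pCore p ↥H = ⊥) (Y : Subgroup G) (hY : IsPGroup p ↥Y) (hYH : Y ≤ Subgroup.normalizer (H : Set G)) (L : Subgroup G) (hLF : L ≤ (Cfsg.generalizedFittingSubgroup ↥H).map H.subtype) (hLsn : (L.subgroupOf H).IsSubnormal) (hYL : Y ≤ Subgroup.normalizer (L : Set G)) : ⁅L, Y⁆ ⊔ (L ⊓ Subgroup.centralizer (Y : Set G)) = L ∧ ⁅L, Y⁆ = ⁅⁅L, Y⁆, Y⁆ := by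
  have hLH : L ≤ H := hLF.trans (map_subtype_le _)
  have h1 : Cfsg.generalizedFittingSubgroup ↥(L.subgroupOf H) = ⊤ :=
    H14.fstar_eq_top_of_subnormal_of_le hLsn (fun x hx => by
      obtain ⟨y, hy, e⟩ := hLF hx
      rwa [← show y = x from Subtype.ext e])
  have h2 : Cfsg.generalizedFittingSubgroup L = ⊤ := by
    rw [← H14.map_fstar_mulEquiv (subgroupOfEquivOfLe hLH), h1]
    exact map_top_of_surjective _ (MulEquiv.surjective _)
  have h3 : Cfsg.pCore p L = ⊥ := pCoreOf_eq_bot_iff.mp (le_bot_iff.mp (by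
    rw [← pCoreOf_eq_bot_iff.mpr hO]
    exact (subN_of_isSubnormal_subgroupOf hLH hLsn).pCoreOf_le))
  have h4 := fstar_split h2 h3 hY hYL
  exact ⟨h4, (commutator_commutator_eq_of_sup h4).symm⟩

end Cfsg.Agent.S2812
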