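import Cfsg.Statements.S2813
import Cfsg.Agent.Base
import Cfsg.Agent.H98.Norm

set_option autoImplicit false
open Cfsg

namespace Cfsg.Agent.S2813

open Subgroup H98
open scoped commutatorElement


/-- Let K be a subgroup of the finite group H with O_p(K) = 1 and Y a p-subgroup of N_H(K) with [K, Y, Y] = 1. Then [K, Y] = 1. -/
theorem result {H : Type*} [Group H] [Finite H] {p : ℕ} [Fact p.Prime] (K : Subgroup H) (hO : Cfsg.pCore p ↥K = ⊥) (Y : Subgroup H) (hY : IsPGroup p ↥Y) (hYK : Y ≤ Subgroup.normalizer (K : Set H)) (hq : ⁅⁅K, Y⁆, Y⁆ = ⊥) : ⁅K, Y⁆ = ⊥ := by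
  have h1 : Y ≤ Cfsg.pCoreOf p (ncl K Y) := by
    refine le_pCoreOf hY (le_ncl K Y) ?_
    rw [ncl_eq_commutator_sup, commutator_comm]
    exact sup_le (le_normalizer_of_le_centralizer (commutator_eq_bot_iff_le_centralizer.mp hq))
      le_normalizer
  have h2 := ncl_le h1 (le_normalizer_pCoreOf (le_normalizer_ncl K Y))
  have h3 : ⁅K, Y⁆ ≤ ncl K Y := by
    rw [ncl_eq_commutator_sup, commutator_comm]; exact le_sup_left
  have h4 := le_pCoreOf ((isPGroup_pCoreOf _).to_le (h3.trans h2)) (commutator_le_left' hYK)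
    (normalizer_commutator_ge_left _ _)
  rwa [pCoreOf_eq_bot_iff.mpr hO, le_bot_iff] at h4

end Cfsg.Agent.S2813
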