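import Cfsg.Statements.S2814
import Cfsg.Agent.Base
import Cfsg.Agent.H98.PIrr

set_option autoImplicit false
open Cfsg

namespace Cfsg.Agent.S2814

open Subgroup H98
open scoped commutatorElement


/-- Let A be a subgroup of the finite group H and K the subnormal closure of A (intersection of the subnormal subgroups containing A). Then K is the normal closure of A inside K and N_H(A) ≤ N_H(K); K = A·O^p(K), O^p(K) being generated by the elements of K of order prime to p; and if A is a p-group, O^p(K) = [O^p(K), A]. -/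
theorem result {H : Type*} [Group H] [Finite H] {p : ℕ} [Fact p.Prime] (A : Subgroup H) (K : Subgroup H) (hK : K = Cfsg.subnormalClosure A) : (Subgroup.normalClosure ((A.subgroupOf K : Subgroup ↥K) : Set ↥K)).map K.subtype = K ∧ Subgroup.normalizer (A : Set H) ≤ Subgroup.normalizer (K : Set H) ∧ A ⊔ (Cfsg.pResidual p ↥K).map K.subtype = K ∧ (IsPGroup p ↥A → ⁅(Cfsg.pResidual p ↥K).map K.subtype, A⁆ = (Cfsg.pResidual p ↥K).map K.subtype) := by
  have hs : SubN K ⊤ := hK ▸ subN_subnormalClosure A
  have hA : A ≤ K := hK ▸ le_subnormalClosure A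
  have hmin : ∀ L, A ≤ L → SubN L K → L = K := fun L h1 h2 =>
    le_antisymm h2.le (hK ▸ subnormalClosure_le h1 (h2.trans hs))
  have h1 : ncl K A = K := hmin _ (le_ncl K A) (SubN.of_normal (ncl_le_of_le hA) (le_normalizer_ncl K A))
  have h2 : A ⊔ res p K = K := hmin _ le_sup_left (subN_of_res_le le_sup_right (sup_le hA (res_le K)))
  refine ⟨(map_normalClosure_subgroupOf hA).trans h1, fun g hg => ?_, h2, fun hp => ?_⟩
  · refine mem_normalizer_of_cj_le (cj_le_iff.mpr ?_)
    conv_lhs => rw [hK]
    refine subnormalClosure_le ?_ (hs.cj_of_mem_normalizer (top_le_normalizer ⊤ (mem_top _)))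
    rw [← cj_eq_self (inv_mem hg)]
    exact cj_mono _ hA
  · refine commutator_res_eq_of_le_ncl (res_res K) hp (le_normalizer_res_of_le hA) ((res_le K).trans ?_)
    conv_lhs => rw [← h1]
    conv_lhs => rw [← h2, sup_comm, ncl_sup_centralizer le_normalizer (Or.inr (le_normalizer_res_of_le hA))]

end Cfsg.Agent.S2814
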