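import Cfsg.Statements.S2815
import Cfsg.Agent.Base
import Cfsg.Agent.H98.FStarP

set_option autoImplicit false
open Cfsg

namespace Cfsg.Agent.S2815

open Subgroup H98
open scoped commutatorElement


/-- Let H be a finite group and p a prime dividing its order with O_p(H) = 1, and suppose K = O^p(H) (generated by the elements of order prime to p) is quasisimple. Then K = F*(H); for every nontrivial p-subgroup Y of H, K = [K, Y] and K lies in the subgroup generated by the K-conjugates of Y; every normal subgroup of H not containing K has order prime to p; and H is p-irreducible. -/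
theorem result {H : Type*} [Group H] [Finite H] {p : ℕ} [Fact p.Prime] (hp : p ∣ Nat.card H) (hO : Cfsg.pCore p H = ⊥) (hq : Cfsg.IsQuasisimple ↥(Cfsg.pResidual p H)) : Cfsg.pResidual p H = Cfsg.generalizedFittingSubgroup H ∧ (∀ Y : Subgroup H, IsPGroup p ↥Y → Y ≠ ⊥ → ⁅Cfsg.pResidual p H, Y⁆ = Cfsg.pResidual p H ∧ Cfsg.pResidual p H ≤ ⨆ k : ↥(Cfsg.pResidual p H), Y.map (MulAut.conj (k : H)).toMonoidHom) ∧ (∀ C : Subgroup H, C.Normal → ¬ Cfsg.pResidual p H ≤ C → (Nat.card ↥C).Coprime p) ∧ Cfsg.IsPIrreducible p H := by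
  haveI := pResidual_normal' (p := p) (G := H)
  have h3 : ∀ C : Subgroup H, C.Normal → ¬ Cfsg.pResidual p H ≤ C → (Nat.card C).Coprime p := by
    intro C hC hn
    obtain ⟨T, hT⟩ := exists_isSyl p C
    refine ((Nat.Prime.coprime_iff_not_dvd Fact.out).mpr (hT.eq_bot_iff.mp ?_)).symm
    by_contra hne
    rw [← commutator_residual_eq hO hq hT.isPGroup hne] at hn
    exact hn ((commutator_mono le_rfl hT.le).trans (commutator_le_right _ _))
  refine ⟨residual_eq_fstar hO hq, fun Y hY hne => ⟨commutator_residual_eq hO hq hY hne, ?_⟩, h3, ?_⟩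
  · change _ ≤ ncl _ Y
    rw [ncl_eq_commutator_sup, commutator_comm, commutator_residual_eq hO hq hY hne]
    exact le_sup_left
  · rw [isPIrreducible_top_iff]
    refine ⟨fun h => ?_, fun N _ hn hc => ?_⟩
    · have := h.isSyl
      rw [pCoreOf_top, hO] at this
      exact this.eq_bot_iff.mp rfl (by rwa [card_top])
    · rw [res_top]
      by_contra hle
      obtain ⟨T, hT⟩ := exists_isSyl p N
      have := hT.eq_bot_iff.mpr ((Nat.Prime.coprime_iff_not_dvd Fact.out).mp
        (h3 N (normal_of_top_le_normalizer hn) hle).symm)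
      exact hc (hT.pcl_of_le (this ▸ bot_le))

end Cfsg.Agent.S2815
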