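import Cfsg.Statements.S2816
import Cfsg.Agent.Base
import Cfsg.Agent.H98.FStarP

set_option autoImplicit false
open Cfsg

namespace Cfsg.Agent.S2816

open Subgroup H98
open scoped commutatorElement

theorem le_of_le_commutator {G : Type*} [Group G] {W Y K H : Subgroup G} (h : SubN K H) (hW : W ≤ H)
    (e : W ≤ ⁅W, Y⁆) (hY : Y ≤ K) : W ≤ K := by
  induction h with
  | refl => exact hW
  | step K L h1 h2 _ ih =>
    exact e.trans ((commutator_mono (ih (hY.trans h1)) hY).trans (commutator_le_right' h2))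

/-- Let H be a finite group and p a prime with O_p(H) = 1, and Y a p-subgroup of H. Then for every subnormal subgroup K of H containing Y, [F*(H), Y] = [F*(K), Y] = [F*(K), Y, Y]; and if Y₀ ≤ Y with [F*(H), Y, Y₀] = 1 then Y₀ = 1 (in particular [F*(H), Y] = 1 forces Y = 1). -/
theorem result {H : Type*} [Group H] [Finite H] {p : ℕ} [Fact p.Prime] (hO : Cfsg.pCore p H = ⊥) (Y : Subgroup H) (hY : IsPGroup p ↥Y) : (∀ K : Subgroup H, K.IsSubnormal → Y ≤ K → ⁅Cfsg.generalizedFittingSubgroup H, Y⁆ = ⁅(Cfsg.generalizedFittingSubgroup ↥K).map K.subtype, Y⁆ ∧ ⁅(Cfsg.generalizedFittingSubgroup ↥K).map K.subtype, Y⁆ = ⁅⁅(Cfsg.generalizedFittingSubgroup ↥K).map K.subtype, Y⁆, Y⁆) ∧ (∀ Y₀ : Subgroup H, Y₀ ≤ Y → ⁅⁅Cfsg.generalizedFittingSubgroup H, Y⁆, Y₀⁆ = ⊥ → Y₀ = ⊥) := by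
  have h0 := fstar_commutator_commutator hO hY
  refine ⟨fun K hK hYK => ?_, fun Y₀ h1 h2 => ?_⟩
  · have h1 : ⁅Cfsg.generalizedFittingSubgroup H, Y⁆ ≤ K :=
      le_of_le_commutator (subN_top_iff.mpr hK) le_top h0.ge hYK
    have h2 : ⁅Cfsg.generalizedFittingSubgroup H, Y⁆ =
        ⁅(Cfsg.generalizedFittingSubgroup K).map K.subtype, Y⁆ := by
      rw [H14.map_fstar_subtype_eq_of_subnormal hK]
      refine le_antisymm ?_ (commutator_mono inf_le_left le_rfl)
      conv_lhs => rw [← h0]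
      exact commutator_mono (le_inf (commutator_le_left _ _) h1) le_rfl
    exact ⟨h2, by rw [← h2, h0]⟩
  · refine eq_bot_of_centralizes_fstar hO (hY.to_le h1) ?_
    rw [← commutator_eq_bot_iff_le_centralizer, commutator_comm,
      ← fstar_commutator_commutator hO (hY.to_le h1), eq_bot_iff, ← h2]
    exact commutator_mono (commutator_mono le_rfl h1) le_rfl

end Cfsg.Agent.S2816
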