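import Cfsg.Statements.S2817
import Cfsg.Agent.Base
import Cfsg.Agent.H98.FStarP
import Cfsg.Agent.H3.Frattini

set_option autoImplicit false
open Cfsg

namespace Cfsg.Agent.S2817

open Subgroup H98
open scoped commutatorElement

theorem eq_of_sup_central {G : Type*} [Group G] {K N L : Subgroup G} (hc : N ≤ centralizer (L : Set G))
    (hN : N ≤ ⁅L, L⁆) (hK : K ≤ L) (e : L ≤ K ⊔ N) : K = L := by
  have hNL : N ≤ L := hN.trans (commutator_le_of_le le_rfl le_rfl)
  have e' : K ⊔ N = L := le_antisymm (sup_le hK hNL) e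
  have h1 : ⁅L, L⁆ ≤ K := by
    have h2 : ⁅L, K⁆ ≤ K := by
      conv_lhs => rw [← e']
      rw [commutator_sup_centralizer_left (hc.trans (centralizer_anti hK))
        (Or.inl (le_normalizer_of_le_centralizer (hc.trans (centralizer_anti hK))))]
      exact commutator_le_of_le le_rfl le_rfl
    have h3 : ⁅K ⊔ N, L⁆ = ⁅K, L⁆ := commutator_sup_centralizer_left hc
        (Or.inl (le_normalizer_of_le_centralizer (hc.trans (centralizer_anti hK))))
    rw [e'] at h3
    rwa [h3, commutator_comm]
  exact le_antisymm hK (e.trans (sup_le le_rfl (hN.trans h1)))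

/-- Let H be a finite group and p a prime with O_p(H) = 1, Q a p-subgroup of H, L = [F*(H), Q], and F the largest normal subgroup of F*(H) centralized by Q (a normal subgroup of F*(H) centralized by Q and containing every such). Then F = C_{F*(H)}(LQ); L = [L, Q]; L ∩ F ≤ Φ(L); every p-subgroup B of N_H(Q) with [L, B] ≤ F satisfies [L, B] = 1; and C_H(FL) has order prime to p. -/
theorem result {H : Type*} [Group H] [Finite H] {p : ℕ} [Fact p.Prime] (hO : Cfsg.pCore p H = ⊥) (Q : Subgroup H) (hQ : IsPGroup p ↥Q) (L : Subgroup H) (hL : L = ⁅Cfsg.generalizedFittingSubgroup H, Q⁆) (F : Subgroup H) (hF : F ≤ Cfsg.generalizedFittingSubgroup H ∧ Cfsg.generalizedFittingSubgroup H ≤ Subgroup.normalizer (F : Set H) ∧ Q ≤ Subgroup.centralizer (F : Set H) ∧ ∀ N : Subgroup H, N ≤ Cfsg.generalizedFittingSubgroup H → Cfsg.generalizedFittingSubgroup H ≤ Subgroup.normalizer (N : Set H) → Q ≤ Subgroup.centralizer (N : Set H) → N ≤ F) : F = Cfsg.generalizedFittingSubgroup H ⊓ Subgroup.centralizer ((L ⊔ Q : Subgroup H) : Set H)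 ∧ ⁅L, Q⁆ = L ∧ L ⊓ F ≤ (frattini ↥L).map L.subtype ∧ (∀ B : Subgroup H, IsPGroup p ↥B → B ≤ Subgroup.normalizer (Q : Set H) → ⁅L, B⁆ ≤ F → ⁅L, B⁆ = ⊥) ∧ (Nat.card ↥(Subgroup.centralizer ((F ⊔ L : Subgroup H) : Set H))).Coprime p := by
  set A := Cfsg.generalizedFittingSubgroup H
  obtain ⟨hF1, hF2, hF3, hF4⟩ := hF
  have hLA : L ≤ A := hL ▸ commutator_le_left _ _
  have hAL : A ≤ normalizer (L : Set H) := hL ▸ normalizer_commutator_ge_left _ _
  have hQL : Q ≤ normalizer (L : Set H) := hL ▸ normalizer_commutator_ge_right _ _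
  have hA : SubN A ⊤ := SubN.of_normal le_top (top_le_normalizer _)
  have hLs : SubN L ⊤ := (SubN.of_normal hLA hAL).trans hA
  have hFL : F ≤ centralizer (L : Set H) := by
    rw [← commutator_eq_bot_iff_le_centralizer, commutator_comm, hL]
    have h0 : ⁅Q, F⁆ = ⊥ := commutator_eq_bot_iff_le_centralizer.mpr hF3
    refine commutator_commutator_eq_bot_of_rotate (by rw [h0, commutator_bot_left]) ?_
    rw [eq_bot_iff, ← h0, commutator_comm Q]
    exact commutator_mono (commutator_le_left' hF2) le_rfl
  have h1 : F = A ⊓ centralizer ((L ⊔ Q : Subgroup H) : Set H) := by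
    refine le_antisymm (le_inf hF1 ?_) (hF4 _ inf_le_left ?_ ?_)
    · rw [centralizer_sup]
      exact le_inf hFL (le_centralizer_iff.mp hF3)
    · refine le_normalizer_inf le_normalizer (le_normalizer_centralizer ?_)
      rw [hL, commutator_comm, ← ncl_eq_commutator_sup]
      exact le_normalizer_ncl _ _
    · exact le_centralizer_iff.mp (inf_le_right.trans (centralizer_anti le_sup_right))
  have h2 : ⁅L, Q⁆ = L := by rw [hL]; exact fstar_commutator_commutator hO hQ
  have h3 : L ⊓ F ≤ ⁅L, L⁆ := by
    have hs : SubN (L ⊓ F) ⊤ :=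
      (SubN.of_normal (inf_le_left.trans hLA) (le_normalizer_inf hAL hF2)).trans hA
    haveI : Group.IsNilpotent ↥(L ⊓ F) := H14.isNilpotent_of_commutator_commutator (by
      rw [commutator_eq_bot_iff_le_centralizer.mpr
        ((inf_le_right.trans hFL).trans (centralizer_anti inf_le_left)), commutator_bot_left])
    have hc := coprime_card_of_le_fitting hO (H2.le_fitting_of_isSubnormal (subN_top_iff.mp hs))
    intro z hz
    refine mem_of_pow_mem_of_coprime (pow_card_mem_commutator hQL h2.ge hz.1
      (le_centralizer_iff.mp hF3 hz.2)) ?_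
    obtain ⟨k, hk⟩ := IsPGroup.iff_card.mp hQ
    rw [hk]
    exact Nat.Coprime.pow_right _ (Nat.Coprime.coprime_dvd_left (orderOf_dvd_natCard _ hz) hc)
  refine ⟨h1, h2, ?_, fun B hB hBQ hBF => ?_, ?_⟩
  · refine le_trans ?_ (map_mono (H3.le_frattini_of_nongenerating (N := (L ⊓ F).subgroupOf L)
      fun K hK => ?_))
    · rw [map_subgroupOf_eq_of_le inf_le_left]
    · have h4 := congrArg (map L.subtype) hK
      rw [Subgroup.map_sup, map_subgroupOf_eq_of_le inf_le_left, map_subtype_top] at h4
      have h5 := eq_of_sup_central (inf_le_right.trans hFL) h3 (map_subtype_le K) h4.ge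
      exact map_injective L.subtype_injective (by rw [h5, map_subtype_top])
  · have hBL : B ≤ normalizer (L : Set H) :=
      hL ▸ le_normalizer_commutator (le_normalizer_of_normal' _ _) hBQ
    have h4 := fstar_split_of_subN hO hLs hLA hB hBL
    have h5 := eq_of_sup_central (K := L ⊓ centralizer (B : Set H)) (inf_le_right.trans hFL) h3
      inf_le_left (by
        conv_lhs => rw [← h4]
        exact sup_le (le_sup_of_le_right (le_inf (commutator_le_left' hBL) hBF)) le_sup_left)
    exact commutator_eq_bot_iff_le_centralizer.mpr (h5.ge.trans inf_le_right)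
  · obtain ⟨X, hX⟩ := exists_isSyl p (centralizer ((F ⊔ L : Subgroup H) : Set H))
    refine ((Nat.Prime.coprime_iff_not_dvd Fact.out).mpr (hX.eq_bot_iff.mp ?_)).symm
    refine eq_bot_of_centralizes_fstar hO hX.isPGroup ?_
    have hXL : ⁅L, X⁆ = ⊥ := commutator_eq_bot_iff_le_centralizer.mpr
      (le_centralizer_iff.mp (hX.le.trans (centralizer_anti le_sup_right)))
    have h4 : ⁅A, X⁆ ≤ A ⊓ centralizer (L : Set H) := by
      refine le_inf (commutator_le_left _ _) ?_
      rw [← commutator_eq_bot_iff_le_centralizer]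
      refine commutator_commutator_eq_bot_of_rotate (by rw [commutator_comm X, hXL, commutator_bot_left]) ?_
      rw [eq_bot_iff, ← hXL]
      exact commutator_mono (commutator_le_left' hAL) le_rfl
    have h5 := fstar_split_of_subN hO (L := A ⊓ centralizer (L : Set H)) ((SubN.of_normal inf_le_left
      (le_normalizer_inf le_normalizer (le_normalizer_centralizer hAL))).trans hA) inf_le_left hQ
      (le_normalizer_inf (le_normalizer_of_normal' _ _) (le_normalizer_centralizer hQL))
    have h6 : A ⊓ centralizer (L : Set H) ≤ F ⊔ L := by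
      conv_lhs => rw [← h5]
      refine sup_le (le_sup_of_le_right (hL ▸ commutator_mono inf_le_left le_rfl)) (le_sup_of_le_left ?_)
      rw [h1, centralizer_sup, inf_assoc]
    rw [← commutator_eq_bot_iff_le_centralizer, commutator_comm,
      ← fstar_commutator_commutator hO hX.isPGroup, commutator_eq_bot_iff_le_centralizer]
    exact (h4.trans h6).trans (le_centralizer_iff.mp hX.le)

end Cfsg.Agent.S2817
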