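import Cfsg.Statements.S2818
import Cfsg.Agent.Base
import Cfsg.Agent.H98.PReduced
import Cfsg.Agent.H9.ClassTwo

set_option autoImplicit false
open Cfsg

namespace Cfsg.Agent.S2818

open Subgroup H98
open scoped commutatorElement


/-- Let P be a finite p-subgroup of a group G and H a subgroup of N_G(P) with [P, H] ≤ Ω₁(Z(P)) (the elements of order dividing p in the centre of P). Then H centralizes the Frattini subgroup of P. -/
theorem result {G : Type*} [Group G] [Finite G] {p : ℕ} [Fact p.Prime] (P : Subgroup G) (hP : IsPGroup p ↥P) (H : Subgroup G) (hH : H ≤ Subgroup.normalizer (P : Set G)) (h : ⁅P, H⁆ ≤ Cfsg.omegaOne p (P ⊓ Subgroup.centralizer (P : Set G))) : ⁅(frattini ↥P).map P.subtype, H⁆ = ⊥ := by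
  rw [commutator_eq_bot_iff_le_centralizer]
  refine H9.map_frattini_le_of_forall (p := p) (fun x hx y hy => ?_) (fun x hx g hg => ?_)
  · have h1 : ⁅⁅P, H⁆, P⁆ = ⊥ :=
      commutator_eq_bot_iff_le_centralizer.mpr (h.trans (oz_le_centralizer P))
    have : ⁅⁅P, P⁆, H⁆ = ⊥ := commutator_commutator_eq_bot_of_rotate h1 (by rwa [commutator_comm H])
    exact commutator_eq_bot_iff_le_centralizer.mp this (commutator_mem_commutator hx hy)
  · have h1 := mem_oz.mp (h (commutator_mem_commutator hx hg))
    have h2 := H9.commutatorElement_pow_left (x := x) (y := g) (h1.2.1 x hx) p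
    rw [h1.2.2, commutatorElement_eq_one_iff_mul_comm] at h2
    exact h2.symm

end Cfsg.Agent.S2818
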