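import Cfsg.Statements.S2819
import Cfsg.Agent.Base
import Cfsg.Agent.H98.Norm
import Cfsg.Agent.H9.ClassTwo

set_option autoImplicit false
open Cfsg

namespace Cfsg.Agent.S2819

open Subgroup H98
open scoped commutatorElement

theorem mul_pow_mem {G : Type*} [Group G] {P : Subgroup G} {a b : G} (ha : a ∈ P) (hb : b ∈ P) (n : ℕ) :
    (a ^ n)⁻¹ * (a * b) ^ n * (b ^ n)⁻¹ ∈ ⁅P, P⁆ := by
  have h : (⟨a, ha⟩ ^ n : P)⁻¹ * ((⟨a, ha⟩ : P) * ⟨b, hb⟩) ^ n * ((⟨b, hb⟩ : P) ^ n)⁻¹ ∈ commutator P := by
    rw [← Abelianization.ker_of, MonoidHom.mem_ker]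
    simp only [map_mul, map_inv, map_pow, mul_pow]
    group
  have := mem_map_of_mem P.subtype h
  rw [map_subtype_commutator] at this
  simpa using this

/-- Let P be a finite p-subgroup of a group G, H a subgroup of N_G(P), and Y a subgroup of H centralizing the derived subgroup P' such that [P, Y] is elementary abelian. Then O^p(⟨Y^H⟩), the subgroup of the normal closure of Y in H generated by its elements of order prime to p, centralizes the Frattini subgroup of P. -/
theorem result {G : Type*} [Group G] [Finite G] {p : ℕ} [Fact p.Prime] (P : Subgroup G) (hP : IsPGroup p ↥P) (H : Subgroup G) (hH : H ≤ Subgroup.normalizer (P : Set G)) (Y : Subgroup G) (hYH : Y ≤ H) (hYc : Y ≤ Subgroup.centralizer ((⁅P, P⁆ : Subgroup G) : Set G)) (hel : Cfsg.IsElementaryAbelian p ⁅P, Y⁆) (NY : Subgroup G) (hNY : NY = (Subgroup.normalClosure ((Y.subgroupOf H : Subgroup ↥H) : Set ↥H)).map H.subtype) : (Cfsg.pResidual p ↥NY).map NY.subtype ≤ Subgroup.centralizer (((frattini ↥P).map P.subtype : Subgroup G) : Set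 G) := by
  rw [map_normalClosure_subgroupOf hYH] at hNY
  have hPP : H ≤ normalizer ((⁅P, P⁆ : Subgroup G) : Set G) := le_normalizer_commutator hH hH
  have hF : H ≤ normalizer (((frattini ↥P).map P.subtype : Subgroup G) : Set G) :=
    hH.trans (normalizer_le_normalizer_map_subtype _)
  have h1 : NY ≤ centralizer ((⁅P, P⁆ : Subgroup G) : Set G) := hNY ▸ ncl_le_centralizer hYc hPP
  have h2 : (frattini ↥P).map P.subtype ≤ stab Y ⁅P, P⁆ := by
    refine H9.map_frattini_le_of_forall (p := p) (fun x hx y hy => ?_) (fun x hx => ?_)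
    · refine ⟨le_normalizer (commutator_mem_commutator hx hy), fun c hc => ?_⟩
      rw [commutatorElement_eq_one_iff_mul_comm.mpr (hYc hc _ (commutator_mem_commutator hx hy)).symm]
      exact one_mem _
    · refine ⟨normalizer_commutator_ge_left _ _ (pow_mem hx p), fun c hc => ?_⟩
      have a : ⁅c, x⁆ ∈ ⁅P, Y⁆ := by rw [commutator_comm]; exact commutator_mem_commutator hc hx
      have b := mul_pow_mem (commutator_le_left' (hYH.trans hH) a) hx p
      rw [hel.2 _ a, ← H9.conj_eq_commutatorElement_mul, conj_pow] at b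
      simpa [commutatorElement_def] using b
  have h3 : NY ≤ stab ((frattini ↥P).map P.subtype) ⁅P, P⁆ := by
    rw [hNY]
    refine ncl_le (le_stab_iff.mpr ⟨hYH.trans hPP, ?_⟩) (le_normalizer_stab hF hPP)
    rw [commutator_comm]
    exact (le_stab_iff.mp h2).2
  refine res_le_centralizer_of_quadratic (hP.to_le (map_subtype_le _)) ((hNY ▸ ncl_le_of_le hYH).trans hF) ?_
  rw [commutator_eq_bot_iff_le_centralizer]
  exact (le_stab_iff.mp h3).2.trans (le_centralizer_iff.mp h1)

end Cfsg.Agent.S2819
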