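import Cfsg.Statements.S2823
import Cfsg.Agent.Base
import Cfsg.Agent.H98.PReduced

set_option autoImplicit false
open Cfsg

namespace Cfsg.Agent.S2823

open Subgroup H98
open scoped commutatorElement


/-- Let H be a finite group, p a prime, T a Sylow p-subgroup and L a subgroup of characteristic p containing T; let Z_L be the subgroup generated by the Ω₁(Z(S)) over the Sylow p-subgroups S of L and O^p(L) the subgroup generated by the elements of L of order prime to p. Then Z_L = Ω₁(Z(L))·[Z_L, O^p(L)] and [Z_L, L] = [Z_L, O^p(L)]. -/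
theorem result {H : Type*} [Group H] [Finite H] {p : ℕ} [Fact p.Prime] (T : Sylow p H) (L : Subgroup H) (hTL : (T : Subgroup H) ≤ L) (hL : Subgroup.centralizer (Cfsg.pCore p ↥L : Set ↥L) ≤ Cfsg.pCore p ↥L) : Cfsg.sylowCenterClosure p L = (Cfsg.omegaOne p (L ⊓ Subgroup.centralizer ((L : Subgroup H) : Set H))) ⊔ ⁅Cfsg.sylowCenterClosure p L, (Cfsg.pResidual p ↥L).map L.subtype⁆ ∧ ⁅Cfsg.sylowCenterClosure p L, L⁆ = ⁅Cfsg.sylowCenterClosure p L, (Cfsg.pResidual p ↥L).map L.subtype⁆ := by
  have hc : CharP p L := charP_iff.mpr hL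
  have hT := isSyl_sylow_of_le T hTL
  have hZ := hc.pred_Z
  set Z := Cfsg.sylowCenterClosure p L with hZdef
  have hW : ⁅Z, res p L⁆ ≤ Z := commutator_le_left' ((res_le L).trans hZ.norm)
  have hn : L ≤ normalizer ((⁅Z, res p L⁆ : Subgroup H) : Set H) :=
    le_normalizer_commutator hZ.norm (self_le_normalizer_res L)
  have h1 : Z = oz p L ⊔ ⁅Z, res p L⁆ := by
    refine le_antisymm ?_ (sup_le ?_ hW)
    · conv_lhs => rw [hZdef, hT.Z_eq_ncl]
      refine ncl_le ((hT.inf_centralizer_le hZ.isPGroup (H12.ea_le_centralizer hZ.ea) hZ.norm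
        hT.oz_le_Z (oz_le_centralizer _)).trans (sup_le_sup ?_ (commutator_mono hT.oz_le_Z le_rfl)))
        (le_normalizer_sup (le_normalizer_oz le_normalizer) hn)
      exact le_oz (H12.ea_mono hZ.ea inf_le_left) (inf_le_left.trans hZ.le) inf_le_right
    · refine (oz_le_oz hTL ?_).trans hT.oz_le_Z
      exact hT.le_of_le_normalizer (isPGroup_oz L) (oz_le L) (le_normalizer_oz (le_normalizer_of_le hTL))
  refine ⟨h1, le_antisymm ?_ (commutator_mono le_rfl (res_le L))⟩
  conv_lhs => rw [h1]
  refine commutator_sup_left_le ((oz_le L).trans hn) (le_normalizer_of_le le_rfl) ?_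
    (commutator_le_left' hn)
  rw [(commutator_eq_bot_iff_le_centralizer).mpr (oz_le_centralizer L)]
  exact bot_le

end Cfsg.Agent.S2823
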