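import Cfsg.Statements.S2825
import Cfsg.Agent.Base
import Cfsg.Agent.H98.Kieler

set_option autoImplicit false
open Cfsg

namespace Cfsg.Agent.S2825

open Subgroup H98
open scoped commutatorElement


/-- Let L be a subnormal subgroup of the finite group H, p a prime, Y_H and Y_L the largest p-reduced normal subgroups. Then Y_H ∩ L = Y_H ∩ Y_L and this subgroup is a p-reduced normal subgroup of L; C_L(Y_L) = C_L(Y_H) = C_L(Y_H ∩ L); and if O^p(H) ≤ L, then [Y_L, L] = 1 if and only if [Y_H, H] = 1. -/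
theorem result {H : Type*} [Group H] [Finite H] {p : ℕ} [Fact p.Prime] (L : Subgroup H) (hL : L.IsSubnormal) : Cfsg.largestPReduced p H ⊓ L = Cfsg.largestPReduced p H ⊓ (Cfsg.largestPReducedOf p L) ∧ Cfsg.IsPReducedNormal p ((Cfsg.largestPReduced p H ⊓ L).subgroupOf L) ∧ L ⊓ Subgroup.centralizer ((Cfsg.largestPReducedOf p L : Subgroup H) : Set H) = L ⊓ Subgroup.centralizer (Cfsg.largestPReduced p H : Set H) ∧ L ⊓ Subgroup.centralizer (Cfsg.largestPReduced p H : Set H) = L ⊓ Subgroup.centralizer ((Cfsg.largestPReduced p H ⊓ L : Subgroup H) : Set H) ∧ (Cfsg.pResidual p H ≤ L → (⁅(Cfsg.largestPReducedOf p L), L⁆ = ⊥ ↔ ⁅Cfsg.largestPReduced p H, (⊤ : Subgroup H)⁆ = ⊥)) := by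
  have hs := subN_top_iff.mpr hL
  have hY := pred_largestPReduced (p := p) (G := H)
  have h1 := hs.inf_centralizer_Y (p := p)
  rw [Y_top] at h1
  refine ⟨le_antisymm (le_inf inf_le_left (hY.inf_subN hs).le_Y) (inf_le_inf_left _ (pred_Y L).le),
    (isPReducedNormal_subgroupOf_iff inf_le_right).mpr (hY.inf_subN hs), h1,
    (hY.inf_centralizer_inf_subN hs).symm, fun h => ?_⟩
  rw [commutator_eq_bot_iff_le_centralizer, commutator_eq_bot_iff_le_centralizer,
    le_centralizer_iff, le_centralizer_iff (K := ⊤)]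
  constructor
  · intro h2
    refine hY.red ⊤ le_rfl le_normalizer ?_
    rw [res_top]
    exact (le_inf h (h.trans h2)).trans (h1.le.trans inf_le_right)
  · intro h2
    exact (le_inf le_rfl (le_top.trans h2)).trans (h1.ge.trans inf_le_right)

end Cfsg.Agent.S2825
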