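import Cfsg.Statements.S2826
import Cfsg.Agent.Base
import Cfsg.Agent.H98.PReduced

set_option autoImplicit false
open Cfsg

namespace Cfsg.Agent.S2826

open Subgroup H98
open scoped commutatorElement


/-- Let H be a finite group of characteristic p, T a Sylow p-subgroup, and V a normal elementary abelian p-subgroup of H containing Ω₁(Z(T)). Then C_H(Ω₁(Z(T))) = C_H([V, O^p(H)] ∩ Ω₁(Z(T))), O^p(H) being generated by the elements of order prime to p. -/
theorem result {H : Type*} [Group H] [Finite H] {p : ℕ} [Fact p.Prime] (hH : Subgroup.centralizer (Cfsg.pCore p H : Set H) ≤ Cfsg.pCore p H) (T : Sylow p H) (V : Subgroup H) [V.Normal] (hV : Cfsg.IsElementaryAbelian p V) (hZV : (Cfsg.omegaOne p ((T : Subgroup H) ⊓ Subgroup.centralizer (((T : Subgroup H) : Subgroup H) : Set H))) ≤ V) : Subgroup.centralizer ((Cfsg.omegaOne p ((T : Subgroup H) ⊓ Subgroup.centralizer (((T : Subgroup H) : Subgroup H) : Set H))) : Set H) = Subgroup.centralizer (((⁅V, Cfsg.pResidual p H⁆ ⊓ (Cfsg.omegaOne p ((T : Subgroup H) ⊓ Subgroup.centralizer (((T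 : Subgroup H) : Subgroup H) : Set H)))) : Subgroup H) : Set H) := by
  have hT := isSyl_sylow T
  have hn : ⊤ ≤ normalizer (V : Set H) := by rw [normalizer_eq_top]
  have hVT : V ≤ T := hT.le_of_le_normalizer (H12.ea_isPGroup hV) le_top (le_top.trans hn)
  refine le_antisymm (centralizer_anti inf_le_right) ?_
  have h1 := hT.inf_centralizer_le (H12.ea_isPGroup hV) (H12.ea_le_centralizer hV) hn hZV
    (oz_le_centralizer _)
  have h2 : V ⊓ centralizer ((⊤ : Subgroup H) : Set H) ≤ oz p T :=
    le_oz (H12.ea_mono hV inf_le_left) (inf_le_left.trans hVT) (inf_le_right.trans (centralizer_anti le_top))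
  rw [res_top] at h1
  have h3 := (le_inf (h1.trans (sup_le_sup_left (commutator_mono hZV le_rfl) _)) le_rfl).trans
    (sup_inf_of_le_left (le_normalizer_of_le_centralizer
      (inf_le_right.trans (centralizer_anti le_top))) h2).le
  refine le_trans ?_ (centralizer_anti h3)
  rw [centralizer_sup]
  exact le_inf (le_centralizer_iff.mp (inf_le_right.trans (centralizer_anti le_top))) le_rfl

end Cfsg.Agent.S2826
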