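import Cfsg.Statements.S2831
import Cfsg.Agent.H96.PMin
import Cfsg.Agent.H26.PClosed

set_option autoImplicit false
open Cfsg

namespace Cfsg.Agent.S2831

open Subgroup H98 H96

/-- Let H be a finite group with Sylow p-subgroup T such that H is T-minimal (H is generated by the conjugates of T and T lies in exactly one maximal subgroup of H). Then H is p-irreducible: H is not p-closed and O^p(H) lies in every normal subgroup of H that is not p-closed. -/
theorem result {H : Type*} [Group H] [Finite H] {p : ℕ} [Fact p.Prime] (T : Sylow p H) (hmin : Cfsg.IsMinimalOver (T : Subgroup H)) : Cfsg.IsPIrreducible p H := by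
  obtain ⟨M, hM⟩ := exists_umax_top hmin.2
  have hT := isSyl_sylow T
  refine ⟨fun h => ?_, fun N hN h => ?_⟩
  · have := h T
    have h1 := hmin.1
    rw [normalClosure_eq_self] at h1
    exact hM.not_le (h1.ge.trans hM.le)
  · have hn : ⊤ ≤ normalizer (N : Set H) := (normalizer_eq_top N).ge
    rw [← res_top]
    refine hM.res_le T.isPGroup' le_top (fun h1 => h ?_) (le_top.trans hn)
    obtain ⟨S, hS⟩ := (hT.inf_of_le_normalizer le_top (le_top.trans hn)).exists_sylow
    refine H26.isPClosed_of_normal S ?_
    rw [hS]
    exact (normal_subgroupOf_iff_le_normalizer inf_le_right).2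
      (le_top.trans (hM.le_normalizer_inf hT h1 hn))

end Cfsg.Agent.S2831
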