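import Cfsg.Statements.S2832
import Cfsg.Agent.H96.PMin

set_option autoImplicit false
open Cfsg

namespace Cfsg.Agent.S2832

open Subgroup H98 H96

/-- Let H be a finite group with Sylow p-subgroup T such that H is T-minimal (generated by the conjugates of T, with T in exactly one maximal subgroup), and let N be a normal subgroup of H. Then either H/N is a p-group or H/N is minimal over the image of T in the same sense. -/
theorem result {H : Type*} [Group H] [Finite H] {p : ℕ} [Fact p.Prime] (T : Sylow p H) (hmin : Cfsg.IsMinimalOver (T : Subgroup H)) (N : Subgroup H) [N.Normal] : IsPGroup p (H ⧸ N) ∨ Cfsg.IsMinimalOver ((T : Subgroup H).map (QuotientGroup.mk' N)) := by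
  obtain ⟨M, hM⟩ := exists_umax_top hmin.2
  have hn : ⊤ ≤ normalizer (N : Set H) := (normalizer_eq_top N).ge
  by_cases h : N ≤ M
  · right
    have hs := QuotientGroup.mk'_surjective N
    have h1 := hM.map (QuotientGroup.mk' N) (by rw [QuotientGroup.ker_mk']; exact inf_le_right.trans h)
    rw [map_top_of_surjective _ hs] at h1
    refine ⟨?_, h1.existsUnique⟩
    rw [← ncl_top, ← map_top_of_surjective _ hs, ← map_ncl, ncl_top, hmin.1]
  · left
    rw [isPGroup_quotient_iff_res_le, ← res_top]
    exact hM.res_le T.isPGroup' le_top h (le_top.trans hn)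

end Cfsg.Agent.S2832
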