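import Cfsg.Statements.S2833
import Cfsg.Agent.H98.Norm
import Cfsg.Agent.H12.Basic

set_option autoImplicit false
open Cfsg

namespace Cfsg.Agent.S2833

open Subgroup H98
open scoped commutatorElement

/-- Let V be a subgroup of a finite group G normalized by the subgroup L, let X ≤ L and g ∈ L with [V, X, X] = 1 and L generated by X and gXg⁻¹. Put W = [V, L]. Then W = [V, X]·[V, gXg⁻¹], C_W(X) = [V, X], and C_W(L) = [V, X] ∩ [V, gXg⁻¹]. -/
theorem result {G : Type*} [Group G] [Finite G] (V L : Subgroup G) (hLV : L ≤ Subgroup.normalizer (V : Set G)) (X : Subgroup G) (hX : X ≤ L) (g : G) (hg : g ∈ L) (hq : ⁅⁅V, X⁆, X⁆ = ⊥) (hgen : X ⊔ X.map (MulAut.conj g).toMonoidHom = L) (W : Subgroup G) (hW : W = ⁅V, L⁆) : ⁅V, X⁆ ⊔ ⁅V, X.map (MulAut.conj g).toMonoidHom⁆ = W ∧ W ⊓ Subgroup.centralizer (X : Set G) = ⁅V, X⁆ ∧ W ⊓ Subgroup.centralizer (L : Set G) = ⁅V, X⁆ ⊓ ⁅V, X.map (MulAut.conj g).toMonoidHom⁆ := by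
  subst hW
  have hXV : X ≤ normalizer (V : Set G) := hX.trans hLV
  have hYL : cj g X ≤ L := cj_le_of_le_of_mem hX hg
  have hYV := hYL.trans hLV
  have hV : cj g V = V := cj_eq_self (hLV hg)
  have e1 : ⁅V, X⁆ ⊔ ⁅V, cj g X⁆ = ⁅V, L⁆ := by rw [← hgen, H12.commutator_sup_right hXV hYV]
  have hq' : ⁅⁅V, cj g X⁆, cj g X⁆ = ⊥ := by
    rw [← hV, ← cj_commutator, ← cj_commutator, hq, cj_bot]
  have c1 : ⁅V, X⁆ ≤ centralizer (X : Set G) := commutator_eq_bot_iff_le_centralizer.1 hq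
  have c2 : ⁅V, cj g X⁆ ≤ centralizer (cj g X : Set G) :=
    commutator_eq_bot_iff_le_centralizer.1 hq'
  have hAV : ⁅V, X⁆ ≤ V := commutator_le_left' hXV
  have hBV : ⁅V, cj g X⁆ ≤ V := commutator_le_left' hYV
  have n1 : V ≤ normalizer ((⁅V, X⁆ : Subgroup G) : Set G) := normalizer_commutator_ge_left V X
  have n2 : V ≤ normalizer ((⁅V, cj g X⁆ : Subgroup G) : Set G) :=
    normalizer_commutator_ge_left V _
  have cL : centralizer (L : Set G) = centralizer (X : Set G) ⊓ centralizer (cj g X : Set G) := by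
    rw [← hgen, centralizer_sup]
  -- `C_{[V,Y]}(X)` is centralized by `L`, so lies in `[V,X]`
  have k1 : ⁅V, cj g X⁆ ⊓ centralizer (X : Set G) ≤ ⁅V, X⁆ := by
    intro x hx
    have h1 : x ∈ centralizer (L : Set G) := cL ▸ ⟨hx.2, c2 hx.1⟩
    have h2 : x ∈ cj g ⁅V, X⁆ := by rw [cj_commutator, hV]; exact hx.1
    rw [mem_cj, mul_assoc, ← h1 g hg, inv_mul_cancel_left] at h2
    exact h2
  have e2 : ⁅V, L⁆ ⊓ centralizer (X : Set G) = ⁅V, X⁆ := by
    rw [← e1, sup_inf_of_le_left (hAV.trans n2) c1]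
    exact sup_eq_left.2 k1
  have e3 : ⁅V, L⁆ ⊓ centralizer (cj g X : Set G) = ⁅V, cj g X⁆ := by
    have := congrArg (cj g) e2
    rwa [cj_inf, cj_commutator, cj_commutator, hV, cj_eq_self_of_mem hg, cj_centralizer] at this
  refine ⟨e1, e2, ?_⟩
  rw [cL, ← e2, ← e3]
  exact inf_inf_distrib_left _ _ _

end Cfsg.Agent.S2833
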