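import Cfsg.Statements.S2834
import Cfsg.Agent.H96.LLemma

set_option autoImplicit false
open Cfsg

namespace Cfsg.Agent.S2834

open Subgroup H98 H96

/-- The L-Lemma: let H be a finite group with Sylow p-subgroup T such that H is T-minimal (generated by the conjugates of T, T in exactly one maximal subgroup M), and let A ≤ T with A not contained in O_p(H). Then there is a subgroup L of H containing A·O_p(H) such that (a) A·O_p(L) lies in exactly one maximal subgroup L₀ of L, and L₀ = L ∩ gMg⁻¹ for some g ∈ H; (b) L = ⟨A, xAx⁻¹⟩·O_p(L) for every x ∈ L outside L₀. -/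
theorem result {H : Type*} [Group H] [Finite H] {p : ℕ} [Fact p.Prime] (T : Sylow p H) (hmin : Cfsg.IsMinimalOver (T : Subgroup H)) (M : Subgroup H) (hM : IsCoatom M ∧ (T : Subgroup H) ≤ M) (A : Subgroup H) (hAT : A ≤ (T : Subgroup H)) (hA : ¬ A ≤ Cfsg.pCore p H) : ∃ L : Subgroup H, A ⊔ Cfsg.pCore p H ≤ L ∧ ∃ L₀ : Subgroup H, A ⊔ (Cfsg.pCoreOf p L) ≤ L₀ ∧ L₀ < L ∧ (∀ X : Subgroup H, A ⊔ (Cfsg.pCoreOf p L) ≤ X → X < L → X ≤ L₀) ∧ (∃ g : H, L₀ = L ⊓ ((M : Subgroup H).map (MulAut.conj (g : H)).toMonoidHom)) ∧ ∀ x ∈ L, x ∉ L₀ → (A ⊔ ((A : Subgroup H).map (MulAut.conj (x : H)).toMonoidHom)) ⊔ (Cfsg.pCoreOf p L) = L := by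
  have hU := umax_top hmin.2 hM.1 hM.2
  obtain ⟨L, -, g, -, h1, h2, h3⟩ := lLemma (isSyl_sylow T) hU hAT (by rwa [pCoreOf_top])
  rw [pCoreOf_top] at h1
  refine ⟨L, h1, L ⊓ cj g M, h2.le, h2.lt, fun X h4 h5 => h2.le_of_ne h4 h5.le h5.ne, ⟨g, rfl⟩,
    fun x hx hx' => h2.eq_of_not_le (sup_le_sup_right le_sup_left _) ?_ fun h4 => ?_⟩
  · have hA : A ≤ L := le_sup_left.trans h1
    exact sup_le (sup_le hA (cj_le_of_le_of_mem hA hx)) (pCoreOf_le L)
  · exact h3 x hx (fun h5 => hx' ⟨hx, h5⟩)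
      ((le_sup_right.trans le_sup_left).trans (h4.trans inf_le_right))

end Cfsg.Agent.S2834
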