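import Cfsg.Statements.S2835
import Cfsg.Agent.H96.PMin

set_option autoImplicit false
open Cfsg

namespace Cfsg.Agent.S2835

open Subgroup H98 H96

/-- Let L be a finite group, L₀ a maximal subgroup, T a Sylow p-subgroup of L₀ and Y ≤ T, and suppose L is Y-minimal (generated by the conjugates of Y, with Y in exactly one maximal subgroup, necessarily L₀). Then N_L(T) ≤ L₀, O_p(L) ≤ L₀ and T is a Sylow p-subgroup of L; N_L(L₀) = L₀; L = ⟨Y, gYg⁻¹⟩ for each g ∈ L outside L₀; and if Y is abelian then Y ∩ gYg⁻¹ = C_Y(L) for each such g. -/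
theorem result {L : Type*} [Group L] [Finite L] {p : ℕ} [Fact p.Prime] (L₀ : Subgroup L) (hL₀ : IsCoatom L₀) (T : Sylow p ↥L₀) (Y : Subgroup L) (hYT : Y ≤ (T : Subgroup ↥L₀).map L₀.subtype) (hmin : Cfsg.IsMinimalOver Y) : Subgroup.normalizer (((T : Subgroup ↥L₀).map L₀.subtype : Subgroup L) : Set L) ≤ L₀ ∧ Cfsg.pCore p L ≤ L₀ ∧ (∃ P : Sylow p L, (P : Subgroup L) = (T : Subgroup ↥L₀).map L₀.subtype) ∧ Subgroup.normalizer (L₀ : Set L) = L₀ ∧ (∀ g : L, g ∉ L₀ → Y ⊔ Y.map (MulAut.conj g).toMonoidHom = ⊤) ∧ (IsMulCommutative ↥Y → ∀ g : L, g ∉ L₀ → Y ⊓ Y.map (MulAut.conj g).toMonoidHom = Y ⊓ Subgroup.center L) := by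
  have hT := isSyl_map_subtype T
  set S := (T : Subgroup ↥L₀).map L₀.subtype with hS
  have hU := umax_top hmin.2 hL₀ (hYT.trans hT.le)
  have key : ∀ K : Subgroup L, Y ≤ K → K ≤ L₀ → normalizer (K : Set L) ≤ L₀ := by
    intro K h1 h2
    refine hU.le_of_ne (h1.trans le_normalizer) le_top fun e => ?_
    have : K.Normal := normalizer_eq_top_iff.1 e
    exact hU.not_le (hmin.1.ge.trans ((normalClosure_le_normal h1).trans h2))
  have h1 := key S hYT hT.le
  have h2 : IsSyl p S ⊤ := isSyl_of_isSyl_normalizer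
    (hT.of_le (le_inf le_top le_normalizer) (inf_le_right.trans h1))
  have h3 := key L₀ hU.le le_rfl
  have h4 : ∀ g : L, g ∉ L₀ → Y ⊔ cj g Y = ⊤ := by
    intro g hg
    refine hU.eq_of_not_le le_sup_left le_top fun h5 => hg ?_
    have h6 : Y ≤ cj g⁻¹ L₀ := cj_le_iff.1 (le_sup_right.trans h5)
    have h7 : cj g⁻¹ L₀ ≤ L₀ := hU.le_of_ne h6 le_top fun e => hL₀.1 (by
      rw [← cj_inj (g := g⁻¹), e, cj_top])
    exact inv_mem_iff.1 (h3 (mem_normalizer_of_cj_le h7))
  refine ⟨h1, ?_, isSyl_top_iff.1 h2, le_antisymm h3 le_normalizer, h4, fun hc g hg => ?_⟩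
  · rw [← pCoreOf_top]; exact h2.pCoreOf_le.trans hT.le
  · have hY : Y ≤ centralizer (Y : Set L) := le_centralizer Y
    refine le_antisymm (le_inf inf_le_left ?_) (le_inf inf_le_left fun x hx => ?_)
    · rw [← centralizer_top', ← h4 g hg, centralizer_sup]
      refine inf_le_inf hY ?_
      rw [← cj_centralizer]; exact cj_mono g hY
    · have := conj_mem_cj (g := g) hx.1
      rwa [mem_center_iff.1 hx.2 g, mul_inv_cancel_right] at this

end Cfsg.Agent.S2835
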