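import Cfsg.Statements.S2836
import Cfsg.Agent.H96.PMin
import Cfsg.Agent.H26.PClosed
import Cfsg.Agent.H2.Core

set_option autoImplicit false
open Cfsg

namespace Cfsg.Agent.S2836

open Subgroup H98 H96

/-- Let L be a finite group, L₀ a maximal subgroup, T a Sylow p-subgroup of L₀, Y ≤ T, and suppose L is Y-minimal. Let D be the intersection of the conjugates of L₀ (the core of L₀). Then D contains O_p(L) and D/O_p(L) is the Frattini subgroup of L/O_p(L), so D is p-closed; and every normal subgroup N of L contained in L₀ is p-closed with N/O_p(N) a nilpotent group of order prime to p. -/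
theorem result {L : Type*} [Group L] [Finite L] {p : ℕ} [Fact p.Prime] (L₀ : Subgroup L) (hL₀ : IsCoatom L₀) (T : Sylow p ↥L₀) (Y : Subgroup L) (hYT : Y ≤ (T : Subgroup ↥L₀).map L₀.subtype) (hmin : Cfsg.IsMinimalOver Y) : (Cfsg.pCore p L ≤ L₀.normalCore ∧ (L₀.normalCore).map (QuotientGroup.mk' (Cfsg.pCore p L)) = frattini (L ⧸ Cfsg.pCore p L) ∧ Cfsg.IsPClosed p ↥(L₀.normalCore)) ∧ ∀ (N : Subgroup L) [N.Normal], N ≤ L₀ → Cfsg.IsPClosed p ↥N ∧ Group.IsNilpotent (↥N ⧸ Cfsg.pCore p ↥N) ∧ (Nat.card (↥N ⧸ Cfsg.pCore p ↥N)).Coprime p := by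
  have hT := isSyl_map_subtype T
  set S := (T : Subgroup ↥L₀).map L₀.subtype with hS
  have hU := umax_top hmin.2 hL₀ (hYT.trans hT.le)
  have key : ∀ K : Subgroup L, Y ≤ K → K ≤ L₀ → normalizer (K : Set L) ≤ L₀ := by
    intro K h1 h2
    refine hU.le_of_ne (h1.trans le_normalizer) le_top fun e => ?_
    have : K.Normal := normalizer_eq_top_iff.1 e
    exact hU.not_le (hmin.1.ge.trans ((normalClosure_le_normal h1).trans h2))
  have h2 : IsSyl p S ⊤ := isSyl_of_isSyl_normalizer
    (hT.of_le (le_inf le_top le_normalizer) (inf_le_right.trans (key S hYT hT.le)))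
  have hS' := hU.mono hYT hT.le
  have hQ : pCore p L ≤ L₀ := by rw [← pCoreOf_top]; exact h2.pCoreOf_le.trans hT.le
  have hcl : ∀ (N : Subgroup L) [N.Normal], N ≤ L₀ → IsSyl p (S ⊓ N) N ∧ S ⊓ N ≤ pCore p L ∧
      IsPClosed p N := by
    intro N _ hN
    have hn : ⊤ ≤ normalizer (N : Set L) := (normalizer_eq_top N).ge
    have h3 := h2.inf_of_le_normalizer le_top (le_top.trans hn)
    refine ⟨h3, pCoreOf_top (p := p) (G := L) ▸ hS'.inf_le_pCoreOf h2 hN hn, ?_⟩
    obtain ⟨P, hP⟩ := h3.exists_sylow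
    refine H26.isPClosed_of_normal P ?_
    rw [hP]
    exact (normal_subgroupOf_iff_le_normalizer inf_le_right).2
      (le_top.trans (hS'.le_normalizer_inf h2 hN hn))
  have hs := QuotientGroup.mk'_surjective (pCore p L)
  have hfr : L₀.normalCore.map (QuotientGroup.mk' (pCore p L)) = frattini (L ⧸ pCore p L) := by
    apply le_antisymm
    · rw [H3.le_frattini_iff]
      intro M hM
      rw [map_le_iff_le_comap]
      set K := M.comap (QuotientGroup.mk' (pCore p L)) with hK
      have hKc : IsCoatom K := isCoatom_comap_of_surjective hs hM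
      have hQK : pCore p L ≤ K := fun x hx => by
        simp [hK, (QuotientGroup.eq_one_iff x).2 hx]
      by_contra hc
      have h3 : K ⊔ L₀.normalCore = ⊤ := hKc.2 _ (left_lt_sup.2 hc)
      obtain ⟨h4, h5, -⟩ := hcl L₀.normalCore L₀.normalCore_le
      obtain ⟨R, hR⟩ := exists_isSyl p K
      have h6 : ¬ p ∣ K.relIndex ⊤ := by
        rw [← h3, relIndex_sup_of_le_normalizer (le_top.trans (normalizer_eq_top _).ge)]
        exact fun h7 => h4.not_dvd_relIndex (h7.trans (by
          rw [← inf_relIndex_right]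
          exact relIndex_dvd_of_le_left _ (le_inf (h5.trans hQK) inf_le_right)))
      have h7 : IsSyl p R ⊤ := by
        refine isSyl_of_not_dvd_relIndex le_top hR.isPGroup ?_
        rw [← relIndex_mul_relIndex R K ⊤ hR.le le_top]
        exact fun h8 => ((Nat.Prime.dvd_mul Fact.out).1 h8).elim hR.not_dvd_relIndex h6
      obtain ⟨g, -, e⟩ := h2.exists_cj_eq h7
      have h8 := hS'.cj_of_mem (mem_top g)
      rw [e] at h8
      have h9 := hKc.le_iff_eq h8.lt.ne |>.1 (h8.le_of_ne hR.le le_top hKc.1)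
      apply hc
      rw [← h9, ← cj_eq_self_of_normal g L₀.normalCore]
      exact cj_mono g L₀.normalCore_le
    · have h3 : (frattini (L ⧸ pCore p L)).comap (QuotientGroup.mk' (pCore p L)) ≤
          L₀.normalCore := by
        rw [normal_le_normalCore]
        have := H3.isCoatom_map_of_surjective_of_ker_le _ hs hL₀ (by rwa [QuotientGroup.ker_mk'])
        refine (comap_mono (frattini_le_coatom this)).trans ?_
        rw [comap_map_eq, QuotientGroup.ker_mk']
        exact sup_le le_rfl hQ
      rw [← map_comap_eq_self_of_surjective hs (frattini _)]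
      exact map_mono h3
  refine ⟨⟨normal_le_normalCore.2 hQ, hfr, (hcl _ L₀.normalCore_le).2.2⟩, fun N _ hN => ?_⟩
  obtain ⟨h3, h4, h5⟩ := hcl N hN
  have h6 : pCore p N = (pCore p L).subgroupOf N := H2.pCore_eq_subgroupOf N
  refine ⟨h5, ?_, ?_⟩
  · let f : N →* frattini (L ⧸ pCore p L) :=
      ((QuotientGroup.mk' (pCore p L)).comp N.subtype).codRestrict _ fun x => by
        rw [← hfr]; exact mem_map_of_mem _ (normal_le_normalCore.2 hN x.2)
    have hk : f.ker = pCore p N := by
      ext x
      rw [h6, MonoidHom.mem_ker, mem_subgroupOf, Subtype.ext_iff, ← QuotientGroup.eq_one_iff]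
      rfl
    have := frattini_nilpotent (G := L ⧸ pCore p L)
    have e := (QuotientGroup.quotientMulEquivOfEq hk.symm).trans (QuotientGroup.quotientKerEquivRange f)
    exact Group.nilpotent_of_mulEquiv e.symm
  · rw [Nat.coprime_comm, (Fact.out : p.Prime).coprime_iff_not_dvd, ← index_eq_card, h6]
    refine fun h7 => h3.not_dvd_relIndex (h7.trans ?_)
    change (pCore p L).relIndex N ∣ _
    rw [← inf_relIndex_right]
    exact relIndex_dvd_of_le_left _ (le_inf h4 inf_le_right)

end Cfsg.Agent.S2836
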