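import Cfsg.Statements.S2837
import Cfsg.Agent.Base
import Cfsg.Agent.H98.YMin
import Cfsg.Agent.H3.FrattiniP

set_option autoImplicit false
open Cfsg

namespace Cfsg.Agent.S2837

open Subgroup H98
open scoped commutatorElement


/-- Let L be a finite group of characteristic p, L₀ a maximal subgroup, Y an elementary abelian p-subgroup of L₀ with L Y-minimal and O_p(L) ≤ N_L(Y). Put A = the normal closure of O_p(L) ∩ Y in L. Then for every g ∈ L outside L₀: Φ(A) = A' = [A ∩ Y, A] = [A ∩ Y, A ∩ gYg⁻¹] ≤ C_Y(L), and Y ∩ gYg⁻¹ = (A ∩ Y) ∩ (A ∩ gYg⁻¹) = C_Y(L) = C_A(L). -/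
theorem result {L : Type*} [Group L] [Finite L] {p : ℕ} [Fact p.Prime] (hchar : Subgroup.centralizer (Cfsg.pCore p L : Set L) ≤ Cfsg.pCore p L) (L₀ : Subgroup L) (hL₀ : IsCoatom L₀) (Y : Subgroup L) (hYL₀ : Y ≤ L₀) (hYel : Cfsg.IsElementaryAbelian p Y) (hmin : Cfsg.IsMinimalOver Y) (hOY : Cfsg.pCore p L ≤ Subgroup.normalizer (Y : Set L)) (A : Subgroup L) (hA : A = Subgroup.normalClosure (((Cfsg.pCore p L ⊓ Y : Subgroup L)) : Set L)) (g : L) (hg : g ∉ L₀) : (frattini ↥A).map A.subtype = ⁅A, A⁆ ∧ ⁅A, A⁆ = ⁅A ⊓ Y, A⁆ ∧ ⁅A ⊓ Y, A⁆ = ⁅A ⊓ Y, A ⊓ Y.map (MulAut.conj g).toMonoidHom⁆ ∧ ⁅A ⊓ Y, A⁆ ≤ Y ⊓ Subgroup.center L ∧ Y ⊓ Y.map (MulAut.conj g).toMonoidHom = Y ⊓ Subgroup.center L ∧ (A ⊓ Y) ⊓ (A ⊓ Y.map (MulAut.conj g).toMonoidHom) = Y ⊓ Subgroup.center L ∧ A ⊓ Subgroup.center L = Y ⊓ Subgroup.center L := by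
  have hm := isMinimalOver_iff_top.mp hmin
  have e := (hm.um_of_isCoatom hL₀ hYL₀).sup_cj_eq hm.1 (mem_top g) hg
  have h : QP p Y ⊤ (Cfsg.pCoreOf p ⊤) := qp_pCoreOf le_top hYel (by rwa [pCoreOf_top])
  have h' := h.cj (mem_top g)
  have eZ := h.cj_Z (mem_top g)
  have hA' : A = (Y ⊓ Cfsg.pCoreOf p ⊤) ⊔ (cj g Y ⊓ Cfsg.pCoreOf p ⊤) := by
    rw [hA, ← ncl_top, ← pCoreOf_top, inf_comm]
    refine le_antisymm (ncl_le le_sup_left (h.le_normalizer_A h' e)) (sup_le (le_ncl _ _) ?_)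
    rw [← h.cj_B (mem_top g)]
    exact cj_le_ncl (mem_top g)
  have hAO : A ≤ Cfsg.pCoreOf p ⊤ := hA' ▸ sup_le inf_le_right inf_le_right
  have h1 : A ⊓ Y = Y ⊓ Cfsg.pCoreOf p ⊤ :=
    le_antisymm (le_inf inf_le_right (inf_le_left.trans hAO)) (le_inf (hA' ▸ le_sup_left) inf_le_left)
  have h2 : A ⊓ cj g Y = cj g Y ⊓ Cfsg.pCoreOf p ⊤ :=
    le_antisymm (le_inf inf_le_right (inf_le_left.trans hAO)) (le_inf (hA' ▸ le_sup_right) inf_le_left)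
  obtain ⟨h3, h4⟩ := h.commutator_A h' e eZ
  have h5 := h.inf_eq h' e eZ
  have h6 := h.inf_centralizer_eq h' e eZ
  have h7 := h.Z_le
  rw [← hA'] at h3 h6
  rw [centralizer_top'] at h4 h5 h7
  have h8 : ⁅Y ⊓ Cfsg.pCoreOf p ⊤, A⁆ = ⁅Y ⊓ Cfsg.pCoreOf p ⊤, cj g Y ⊓ Cfsg.pCoreOf p ⊤⁆ :=
    le_antisymm (h3 ▸ commutator_mono (hA' ▸ le_sup_left) le_rfl)
      (commutator_mono le_rfl (hA' ▸ le_sup_right))
  change _ ∧ _ ∧ _ = ⁅A ⊓ Y, A ⊓ cj g Y⁆ ∧ _ ∧ Y ⊓ cj g Y = _ ∧ (A ⊓ Y) ⊓ (A ⊓ cj g Y) = _ ∧ _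
  rw [h1, h2]
  refine ⟨?_, by rw [h3, h8], h8, h8 ▸ h4, h5, ?_, ?_⟩
  · have hp : IsPGroup p A := (isPGroup_pCoreOf _).to_le hAO
    refine le_antisymm ?_ ?_
    · rw [← map_subtype_commutator]
      refine map_mono (H3.frattini_le_of_elementary_quotient (p := p) _ le_rfl fun x => ?_)
      obtain ⟨b, hb, c, hc, hx⟩ := (mem_sup_left_norm (inf_le_right.trans h'.normB)).mp (hA'.le x.2)
      have hx' : x = ⟨b, hA'.ge (mem_sup_left hb)⟩ * ⟨c, hA'.ge (mem_sup_right hc)⟩ := Subtype.ext hx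
      have e1 : (⟨b, hA'.ge (mem_sup_left hb)⟩ : A) ^ p = 1 := Subtype.ext (h.ea.2 b hb.1)
      have e2 : (⟨c, hA'.ge (mem_sup_right hc)⟩ : A) ^ p = 1 := Subtype.ext (h'.ea.2 c hc.1)
      rw [← Abelianization.ker_of, MonoidHom.mem_ker, map_pow, hx', map_mul, mul_pow, ← map_pow, ← map_pow,
        e1, e2, map_one, mul_one]
    · rw [← map_subtype_commutator]
      exact map_mono (H3.commutator_le_frattini_pgroup hp)
  · rw [← inf_inf_distrib_right, h5]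
    exact inf_eq_left.mpr (h7.trans inf_le_right)
  · refine le_antisymm (le_inf (le_trans (inf_le_inf_left _ (center_le_centralizer _)) (h6.le.trans inf_le_left))
      inf_le_right) (inf_le_inf_right _ ?_ |>.trans' (le_inf h7 inf_le_right))
    exact hA' ▸ le_sup_left

end Cfsg.Agent.S2837
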