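import Cfsg.Statements.S2839
import Cfsg.Agent.Base
import Cfsg.Agent.H98.WeakClosed

set_option autoImplicit false
open Cfsg

namespace Cfsg.Agent.S2839

open Subgroup H98
open scoped commutatorElement


/-- Let Q be a nontrivial p-subgroup of the finite group H that is a weakly closed subgroup, K a subgroup containing Q and N a normal subgroup of H. Then Q is a weakly closed subgroup of K; every H-conjugate of Q contained in K is a K-conjugate of Q; N_K(Q) contains a Sylow p-subgroup of K; N = N_N(Q)·O^p(N); and QN/N is a weakly closed subgroup of H/N. -/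
theorem result {H : Type*} [Group H] [Finite H] {p : ℕ} [Fact p.Prime] (Q : Subgroup H) (hQp : IsPGroup p ↥Q) (hQ1 : Q ≠ ⊥) (hwc : Cfsg.IsWeaklyClosedSubgroup p Q) (K : Subgroup H) (hQK : Q ≤ K) (N' : Subgroup H) [N'.Normal] : Cfsg.IsWeaklyClosedSubgroup p (Q.subgroupOf K) ∧ (∀ g : H, ((Q : Subgroup H).map (MulAut.conj (g : H)).toMonoidHom) ≤ K → ∃ k ∈ K, ((Q : Subgroup H).map (MulAut.conj (g : H)).toMonoidHom) = ((Q : Subgroup H).map (MulAut.conj (k : H)).toMonoidHom)) ∧ Cfsg.IsParabolic p ((Subgroup.normalizer ((Q : Subgroup H) : Set H)).subgroupOf K) ∧ (N' ⊓ Subgroup.normalizer ((Q : Subgroup H) : Set H)) ⊔ (Cfsg.pResidual p ↥N').map N'.subtype = N' ∧ Cfsg.IsWeaklyClosedSubgroup p (Q.map (QuotientGroup.mk' N')) := by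
  have h := wc_of_isWeaklyClosedSubgroup hwc
  refine ⟨(h.of_le hQK le_top).isWeaklyClosedSubgroup, fun g hg => h.exists_cj_eq hQK le_top (mem_top g) hg,
    ?_, ?_, ?_⟩
  · obtain ⟨T, hT, hQT⟩ := exists_isSyl_le hQp hQK
    obtain ⟨P, hP⟩ := hT.exists_sylow
    exact ⟨P, hP ▸ comap_mono (h.le_normalizer hT.isPGroup hQT le_top)⟩
  · obtain ⟨T, hT, hQT⟩ := exists_isSyl_le hQp (le_top (a := Q))
    refine le_antisymm (sup_le inf_le_left (res_le _)) ?_
    conv_lhs => rw [← (hT.inf_of_le_normalizer le_top (le_normalizer_of_normal' T N')).sup_res]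
    exact sup_le_sup_right (le_inf inf_le_right
      (inf_le_left.trans (h.le_normalizer hT.isPGroup hQT le_top))) _
  · have := h.map (QuotientGroup.mk' N')
    rw [map_top_of_surjective _ (QuotientGroup.mk'_surjective N')] at this
    exact (wc_top_iff this.isPGroup).mpr this

end Cfsg.Agent.S2839
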