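import Cfsg.Statements.S2840
import Cfsg.Agent.Base
import Cfsg.Agent.H98.WeakClosed

set_option autoImplicit false
open Cfsg

namespace Cfsg.Agent.S2840

open Subgroup H98
open scoped commutatorElement


/-- Let Q be a nontrivial p-subgroup of the finite group H that is a weakly closed subgroup and K a subgroup containing Q; let K° be the weak closure of Q in K (generated by the H-conjugates of Q inside K). Then K° is generated by the K-conjugates of Q, and K° is the subnormal closure of Q in K. -/
theorem result {H : Type*} [Group H] [Finite H] {p : ℕ} [Fact p.Prime] (Q : Subgroup H) (hQp : IsPGroup p ↥Q) (hQ1 : Q ≠ ⊥) (hwc : Cfsg.IsWeaklyClosedSubgroup p Q) (K : Subgroup H) (hQK : Q ≤ K) (Kc : Subgroup H) (hKc : Kc = Cfsg.weakClosure Q K) : Kc = ⨆ k : ↥K, ((Q : Subgroup H).map (MulAut.conj ((k : H) : H)).toMonoidHom) ∧ Kc = (Cfsg.subnormalClosure (Q.subgroupOf K)).map K.subtype := by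
  have h := wc_of_isWeaklyClosedSubgroup hwc
  rw [h.weakClosure_eq hQK] at hKc
  refine ⟨hKc, ?_⟩
  rw [hKc]
  refine le_antisymm (le_of_ncl_eq_of_subN (h.ncl_ncl_eq hQK le_top) (ncl_le_of_le hQK)
    (subN_map_subtype (subN_top_iff.mp (subN_subnormalClosure _))) ?_) ?_
  · conv_lhs => rw [← map_subgroupOf_eq_of_le hQK]
    exact map_mono (le_subnormalClosure _)
  · refine map_le_iff_le_comap.mpr (subnormalClosure_le (comap_mono (le_ncl K Q)) ?_)
    exact subN_top_iff.mpr (SubN.of_normal (ncl_le_of_le hQK) (le_normalizer_ncl K Q)).isSubnormal_subgroupOf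

end Cfsg.Agent.S2840
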