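import Cfsg.Statements.S2845
import Cfsg.Agent.Base
import Cfsg.Agent.H98.WeakClosed

set_option autoImplicit false
open Cfsg

namespace Cfsg.Agent.S2845

open Subgroup H98
open scoped commutatorElement


/-- Let Q be a nontrivial large p-subgroup of the finite group H. Then for every subgroup L ≥ Q with O_p(L) ≠ 1, C_H(O_p(L)) is a p-group and L has characteristic p, and either the weak closure L° of Q in L equals Q or C_H(L°) = 1; for every subgroup R of H containing a Sylow p-subgroup of H with O_p(R) ≠ 1, C_H(O_p(R)) ≤ O_p(R); and H has parabolic characteristic p. -/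
theorem result {H : Type*} [Group H] [Finite H] {p : ℕ} [Fact p.Prime] (Q : Subgroup H) (hQp : IsPGroup p ↥Q) (hQ1 : Q ≠ ⊥) (hL : Cfsg.IsLarge Q) : (∀ L : Subgroup H, Q ≤ L → Cfsg.pCore p ↥L ≠ ⊥ → IsPGroup p ↥(Subgroup.centralizer (((Cfsg.pCoreOf p L) : Subgroup H) : Set H)) ∧ Subgroup.centralizer (Cfsg.pCore p ↥L : Set ↥L) ≤ Cfsg.pCore p ↥L ∧ (Cfsg.weakClosure Q L = Q ∨ Subgroup.centralizer (((Cfsg.weakClosure Q L) : Subgroup H) : Set H) = ⊥)) ∧ (∀ R : Subgroup H, Cfsg.IsParabolic p R → Cfsg.pCore p ↥R ≠ ⊥ → Subgroup.centralizer (((Cfsg.pCoreOf p R) : Subgroup H) : Set H) ≤ (Cfsg.pCoreOf p R)) ∧ Cfsg.IsOfParabolicCharacteristic p H := by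
  have hpar := large_parCharP hL hQp hQ1
  refine ⟨fun L h1 h2 => ?_, ?_, parCharP_top_iff.mpr hpar⟩
  · have h := large_charP hL hQp hQ1 h1 (by rwa [Ne, pCoreOf_eq_bot_iff])
    refine ⟨h.2.1, H98.charP_iff.mp h.2.2, or_iff_not_imp_right.mpr fun hne => ?_⟩
    rw [(large_wc hL hQp hQ1).weakClosure_eq h1]
    exact ncl_eq_self (large_le_normalizer hL (centralizer_anti (le_weakClosure h1)) hne
      (le_normalizer_centralizer (le_normalizer_weakClosure le_normalizer)))
  · rintro R ⟨T, hT⟩ h2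
    have := hpar.inf_centralizer_pCoreOf_le (isSyl_sylow T) hT le_top (by rwa [Ne, pCoreOf_eq_bot_iff])
    rwa [top_inf_eq] at this

end Cfsg.Agent.S2845
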