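import Cfsg.Statements.S2850
import Cfsg.Agent.Base
import Cfsg.Agent.H98.FrakM

set_option autoImplicit false
open Cfsg

namespace Cfsg.Agent.S2850

open Subgroup H98
open scoped commutatorElement


/-- Standing hypotheses: G a finite group, S a Sylow p-subgroup, Q a nontrivial large p-subgroup of G contained in S (C_G(Q) ≤ Q and N_G(U) ≤ N_G(Q) for all nontrivial U ≤ C_G(Q)), and M a subgroup containing S with the basic property (M ∈ 𝔐_G(S)); Y_M denotes the largest p-reduced normal subgroup of M and M† = M·C_G(Y_M). Suppose Y_M is asymmetric in G. Then N_G(L) ≤ N_G(O_p(M)) ≤ M† for every p-subgroup L containing O_p(M); O_p(M) is a weakly closed subgroup of G; for every subgroup L containing O_p(M), L ∩ M† contains a Sylow p-subgroup of L; and two elements of Y_M conjugate in G are conjugate in M. -/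
theorem result {G : Type*} [Group G] [Finite G] {p : ℕ} [Fact p.Prime] (S : Sylow p G) (Q : Subgroup G) (hQp : IsPGroup p ↥Q) (hQ1 : Q ≠ ⊥) (hQS : Q ≤ (S : Subgroup G)) (hQ : Cfsg.IsLarge Q) (M : Subgroup G) (hSM : (S : Subgroup G) ≤ M) (hM : Cfsg.IsInFrakM p M) (hasym : ¬ Cfsg.IsSymmetricIn (Cfsg.largestPReducedOf p M)) : (∀ L : Subgroup G, IsPGroup p ↥L → (Cfsg.pCoreOf p M) ≤ L → Subgroup.normalizer ((L : Subgroup G) : Set G) ≤ Subgroup.normalizer (((Cfsg.pCoreOf p M) : Subgroup G) : Set G) ∧ Subgroup.normalizer (((Cfsg.pCoreOf p M) : Subgroup G) : Set G) ≤ (M ⊔ Subgroup.centralizer (((Cfsg.largestPReducedOf p M) : Subgroup G) : Set G))) ∧ Cfsg.IsWeaklyClosedSubgroup p (Cfsg.pCoreOf p M) ∧ (∀ L : Subgroup G, (Cfsg.pCoreOf p M) ≤ L → Cfsg.IsParabolic p ((L ⊓ (M ⊔ Subgroup.centralizer (((Cfsg.largestPReducedOf p M) : Subgroup G) : Set G))).subgroupOf L)) ∧ (∀ x ∈ (Cfsg.largestPReducedOf p M), ∀ g : G, g * x * g⁻¹ ∈ (Cfsg.largestPReducedOf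 p M) → ∃ m ∈ M, m * x * m⁻¹ = g * x * g⁻¹) := by
  have h := fm_of_large S hQp hQ1 hQ hSM hM
  have hw := h.wc_of_asym hasym
  refine ⟨fun L h1 h2 => ⟨hw.le_normalizer_of h1 h2 le_top le_rfl, h.normalizer_O_le⟩,
    (wc_top_iff hw.isPGroup).mpr hw, fun L hL => ?_, fun x hx g hg => ?_⟩
  · obtain ⟨T, hT, -, h2⟩ := h.exists_isSyl_le_dag hasym hL
    obtain ⟨P, hP⟩ := hT.exists_sylow
    exact ⟨P, hP ▸ comap_mono (le_inf hT.le h2)⟩
  · have a : ∀ y ∈ Cfsg.largestPReducedOf p M, Cfsg.pCoreOf p M ≤ centralizer (zpowers y : Set G) :=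
      fun y hy => h.isSyl_O.le.trans (centralizer_anti (zpowers_le.mpr hy))
    obtain ⟨k, hk, e⟩ := hw.exists_cj_eq (a _ hg) le_top (mem_top g) (by
      rw [← cj_zpowers, ← cj_centralizer]; exact cj_mono g (a x hx))
    have b : k⁻¹ * g ∈ normalizer (Cfsg.pCoreOf p M : Set G) := by
      rw [← cj_eq_self_iff, ← cj_cj, e, cj_inv_cj]
    obtain ⟨m, hm, c, hc, e2⟩ := mem_dag.mp (h.normalizer_O_le b)
    refine ⟨m, hm, ?_⟩
    have c1 := hc x hx
    have c2 := hk _ (mem_zpowers _)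
    calc m * x * m⁻¹ = m * (x * c) * (m * c)⁻¹ := by group
      _ = k⁻¹ * (g * x * g⁻¹ * k) := by rw [c1, ← mul_assoc, ← e2]; group
      _ = _ := by rw [c2]; group

end Cfsg.Agent.S2850
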