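import Cfsg.Statements.S2851
import Cfsg.Agent.Base
import Cfsg.Agent.H98.FrakM
import Cfsg.Agent.H14.FStar

set_option autoImplicit false
open Cfsg

namespace Cfsg.Agent.S2851

open Subgroup H98
open scoped commutatorElement


/-- Standing hypotheses: G a finite group, S a Sylow p-subgroup, Q a nontrivial large p-subgroup of G contained in S, M a subgroup containing S with the basic property (M ∈ 𝔐_G(S)); Y_M the largest p-reduced normal subgroup of M and M† = M·C_G(Y_M). Let F be the preimage in M† of the generalized Fitting subgroup of M†/C_{M†}(Y_M). If Y_M is asymmetric in G and H is a subgroup of characteristic p containing F, then Y_M ≤ Y_H. -/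
theorem result {G : Type*} [Group G] [Finite G] {p : ℕ} [Fact p.Prime] (S : Sylow p G) (Q : Subgroup G) (hQp : IsPGroup p ↥Q) (hQ1 : Q ≠ ⊥) (hQS : Q ≤ (S : Subgroup G)) (hQ : Cfsg.IsLarge Q) (M : Subgroup G) (hSM : (S : Subgroup G) ≤ M) (hM : Cfsg.IsInFrakM p M) (hasym : ¬ Cfsg.IsSymmetricIn (Cfsg.largestPReducedOf p M)) [hn : ((Subgroup.centralizer (((Cfsg.largestPReducedOf p M) : Subgroup G) : Set G)).subgroupOf (M ⊔ Subgroup.centralizer (((Cfsg.largestPReducedOf p M) : Subgroup G) : Set G))).Normal] (F : Subgroup G) (hF : F = ((Cfsg.generalizedFittingSubgroup (↥(M ⊔ Subgroup.centralizer (((Cfsg.largestPReducedOf p M) : Subgroup G) : Set G)) ⧸ (Subgroup.centralizer (((Cfsg.largestPReducedOf p M) : Subgroup G) : Set G)).subgroupOf (M ⊔ Subgroup.centralizer (((Cfsg.largestPReducedOf p M) : Subgroup G) : Set G)))).comap (QuotientGroup.mk' ((Subgroup.centralizer (((Cfsg.largestPReducedOf p M) : Subgroup G) : Set G)).subgroupOf (M ⊔ Subgroup.centralizer (((Cfsg.largestPReducedOf p M) : Subgroup G) : Set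 G))))).map ((M ⊔ Subgroup.centralizer (((Cfsg.largestPReducedOf p M) : Subgroup G) : Set G))).subtype) (H : Subgroup G) (hFH : F ≤ H) (hH : Subgroup.centralizer (Cfsg.pCore p ↥H : Set ↥H) ≤ Cfsg.pCore p ↥H) : (Cfsg.largestPReducedOf p M) ≤ Cfsg.largestPReducedOf p H := by
  have h := fm_of_large S hQp hQ1 hQ hSM hM
  set Y := Cfsg.largestPReducedOf p M with hY
  set f := QuotientGroup.mk' ((centralizer (Y : Set G)).subgroupOf (M ⊔ centralizer (Y : Set G)))
  have hf : f.ker = (centralizer (Y : Set G)).subgroupOf _ := QuotientGroup.ker_mk' _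
  have hCF : centralizer (Y : Set G) ≤ F := by
    rw [hF]
    conv_lhs => rw [← map_subgroupOf_eq_of_le (le_sup_right : centralizer (Y : Set G) ≤ M ⊔ _), ← hf]
    exact map_mono (ker_le_comap f _)
  have hO := h.isSyl_O.le.trans (hCF.trans hFH)
  obtain ⟨T, hT, -, h2⟩ := h.exists_isSyl_le_dag hasym hO
  have hd := pred_Y_dag (p := p) M
  have h0 := (red_iff_pCore_quotient _ rfl).mp hd.red
  refine le_trans (PRed.le_Y ⟨le_inf ((pred_Y M).le_pCoreOf.trans hO) hd.le, inf_le_right.trans hd.norm,
    hd.ea, fun D d1 d2 d3 => ?_⟩) ((H98.charP_iff.mpr hH).Y_mono hT (le_inf hT.le h2) inf_le_left)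
  have d4 : D ≤ M ⊔ centralizer (Y : Set G) := d1.trans inf_le_right
  set E := (D.subgroupOf (M ⊔ centralizer (Y : Set G))).map f
  have e1 : IsPGroup p E := by
    rw [isPGroup_map_iff, hf]
    exact map_le_iff_le_comap.mp (by rw [map_res_subgroupOf d4]; exact d3)
  have e2 : Cfsg.generalizedFittingSubgroup _ ≤ normalizer (SetLike.coe E) := by
    rw [← map_comap_eq_self_of_surjective (QuotientGroup.mk'_surjective _) (Cfsg.generalizedFittingSubgroup _)]
    refine map_le_normalizer_map f ((le_comap_map (Subgroup.subtype _) _).trans (comap_le_normalizer_comap _ ?_))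
    rw [← hF]
    exact (le_inf hFH (hF ▸ map_subtype_le _)).trans d2
  have e3 : E ⊓ Cfsg.generalizedFittingSubgroup _ = ⊥ := by
    rw [eq_bot_iff, ← h0, ← pCoreOf_top]
    exact (le_pCoreOf e1.to_inf_left inf_le_right (le_normalizer_inf e2 le_normalizer)).trans
      (pCoreOf_le_pCoreOf_of_normal le_top (top_le_normalizer _))
  have e4 : E ≤ centralizer (SetLike.coe (Cfsg.generalizedFittingSubgroup _)) := by
    rw [← commutator_eq_bot_iff_le_centralizer, eq_bot_iff, ← e3]
    exact le_inf (commutator_le_left' e2) (commutator_le_right _ _)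
  rw [inf_of_le_left (e4.trans H14.centralizer_fstar_le), Subgroup.map_eq_bot_iff, hf] at e3
  have := map_mono (f := Subgroup.subtype _) e3
  rw [map_subgroupOf_eq_of_le d4] at this
  exact this.trans (map_comap_le _ _)

end Cfsg.Agent.S2851
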