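import Cfsg.Statements.S2855
import Cfsg.Agent.Base
import Cfsg.Agent.H98.MinOver
import Cfsg.Agent.H98.FStarP

set_option autoImplicit false
open Cfsg

namespace Cfsg.Agent.S2855

open Subgroup H98
open scoped commutatorElement

section
variable {H : Type*} [Group H] [Finite H] {p : ℕ} [Fact p.Prime] {𝒳 : Set (Subgroup H)}

theorem exists_cj_syl (htr : ∀ E ∈ 𝒳, ∀ K ∈ 𝒳, ∃ h : H, K = cj h E) (hres : res p ⊤ ≤ sSup 𝒳)
    (hnorm : ∀ E ∈ 𝒳, sSup 𝒳 ≤ normalizer (E : Set H)) {T : Subgroup H} (hT : IsSyl p T ⊤)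
    {E K : Subgroup H} (hE : E ∈ 𝒳) (hK : K ∈ 𝒳) : ∃ t ∈ T, K = cj t E := by
  obtain ⟨h, rfl⟩ := htr E hE K hK
  obtain ⟨t, ht, r, hr, rfl⟩ := hT.exists_mul_res (mem_top h)
  exact ⟨t, ht, by rw [← cj_cj, cj_eq_self (hnorm E hE (hres hr))]⟩

theorem subN_of_mem (hres : res p ⊤ ≤ sSup 𝒳) (hnorm : ∀ E ∈ 𝒳, sSup 𝒳 ≤ normalizer (E : Set H))
    {E : Subgroup H} (hE : E ∈ 𝒳) : SubN E ⊤ :=
  (SubN.of_normal (le_sSup hE) (hnorm E hE)).trans (subN_of_res_le hres le_top)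

theorem partA (hne : 𝒳.Nonempty) (hinv : ∀ h : H, ∀ E ∈ 𝒳, cj h E ∈ 𝒳)
    (htr : ∀ E ∈ 𝒳, ∀ K ∈ 𝒳, ∃ h : H, K = cj h E) (hres : res p ⊤ ≤ sSup 𝒳)
    (hnorm : ∀ E ∈ 𝒳, sSup 𝒳 ≤ normalizer (E : Set H))
    (hmin : ∀ E ∈ 𝒳, ∀ S, IsSyl p S E → MinO S E) {T : Subgroup H} (hT : IsSyl p T ⊤) : MinO T ⊤ := by
  have hS : ∀ E ∈ 𝒳, IsSyl p (T ⊓ E) E := fun E hE => hT.inf_subN (subN_of_mem hres hnorm hE)
  have hgen : ∀ Y, T ≤ Y → (∀ E ∈ 𝒳, E ≤ Y) → Y = ⊤ := fun Y h1 h2 =>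
    top_le_iff.mp (hT.sup_res.ge.trans (sup_le h1 (hres.trans (sSup_le h2))))
  let C : H → Prop := fun h => ∀ E ∈ 𝒳, ∀ M, UM (T ⊓ E) E M → UM (T ⊓ cj h E) (cj h E) (cj h M)
  have hC : ∀ Y, T ≤ Y → Y < ⊤ → ∀ y ∈ Y, C y := fun Y h1 h2 y hy E hE M hM => by
    have h3 : ∀ K ∈ 𝒳, ¬ K ≤ Y := fun K hK hle => h2.ne (hgen Y h1 fun L hL => by
      obtain ⟨t, ht, rfl⟩ := exists_cj_syl htr hres hnorm hT hK hL
      exact cj_le_of_le_of_mem hle (h1 ht))
    have hL := hinv y E hE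
    obtain ⟨-, M', hM'⟩ := hmin _ hL _ (hS _ hL)
    have h4 : Y ⊓ cj y E ≤ M' := hM'.max _ (inf_le_inf_right _ h1)
      (lt_of_le_of_ne inf_le_right fun e => h3 _ hL (inf_eq_right.mp e))
    have h5 : IsSyl p (cj y (T ⊓ E)) (Y ⊓ cj y E) := ((hS E hE).cj y).of_le
      (le_inf (cj_le_of_le_of_mem (inf_le_left.trans h1) hy) (cj_mono y inf_le_right)) inf_le_right
    obtain ⟨m, hm, e⟩ := h5.exists_cj_eq ((hS _ hL).of_le (inf_le_inf_right _ h1) inf_le_right)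
    have h6 := (hM.cj y).cj m
    rw [e, cj_eq_self_of_mem hm.2] at h6
    have h7 : cj y M = M' := by
      rw [← cj_inj (g := m), h6.unique hM', cj_eq_self_of_mem (h4 hm)]
    rwa [h7]
  obtain ⟨E, hE⟩ := hne
  obtain ⟨h1, M, hM⟩ := hmin E hE _ (hS E hE)
  have hTlt : T < ⊤ := lt_top_iff_ne_top.mpr fun e => hM.lt.not_ge (by
    have := hM.le
    rwa [e, top_inf_eq] at this)
  refine ⟨hgen _ (le_ncl _ _) fun K hK => (hmin K hK _ (hS K hK)).1.ge.trans (ncl_mono le_top inf_le_left),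
    ⨆ Y : {Y : Subgroup H // T ≤ Y ∧ Y < ⊤}, Y.1, le_iSup_of_le ⟨T, le_rfl, hTlt⟩ le_rfl,
    lt_top_iff_ne_top.mpr fun e => hM.not_le_normalizer h1 fun x hx => ?_,
    fun Y h2 h3 => le_iSup_of_le ⟨Y, h2, h3⟩ le_rfl⟩
  have h2 : C x := by
    refine iSup_induction _ (C := C) (e.ge (mem_top x)) (fun Y y hy => hC Y.1 Y.2.1 Y.2.2 y hy)
      (fun K _ N hN => by simpa only [cj_one] using hN) fun a b ha hb K hK N hN => ?_
    simpa only [cj_cj] using ha _ (hinv b K hK) _ (hb K hK N hN)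
  have h3 := h2 E hE M hM
  rw [cj_eq_self_of_mem hx] at h3
  exact cj_eq_self_iff.mp (h3.unique hM)

theorem res_le_of_forall_res_le (hres : res p ⊤ ≤ sSup 𝒳)
    (hnorm : ∀ E ∈ 𝒳, sSup 𝒳 ≤ normalizer (E : Set H)) (N : Subgroup H) [N.Normal]
    (h : ∀ E ∈ 𝒳, res p E ≤ N) : res p ⊤ ≤ N := by
  let f := QuotientGroup.mk' N
  have h1 : (sSup 𝒳).map f ≤ Cfsg.pCoreOf p ((sSup 𝒳).map f) :=
    map_le_iff_le_comap.mpr (sSup_le fun E hE => map_le_iff_le_comap.mp (le_pCoreOf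
      ((isPGroup_map_iff f E).mpr (by rw [QuotientGroup.ker_mk']; exact h E hE)) (map_mono (le_sSup hE))
      (map_le_normalizer_map f (hnorm E hE))))
  have h2 := (isPGroup_map_iff f _).mp ((isPGroup_pCoreOf _).to_le h1)
  rw [QuotientGroup.ker_mk'] at h2
  rw [← res_res]
  exact (res_mono hres).trans h2

theorem partB (hO : Cfsg.pCoreOf p (⊤ : Subgroup H) = ⊥) (hne : 𝒳.Nonempty)
    (hinv : ∀ h : H, ∀ E ∈ 𝒳, cj h E ∈ 𝒳)
    (htr : ∀ E ∈ 𝒳, ∀ K ∈ 𝒳, ∃ h : H, K = cj h E) (hres : res p ⊤ ≤ sSup 𝒳)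
    (hnorm : ∀ E ∈ 𝒳, sSup 𝒳 ≤ normalizer (E : Set H)) (hs : ∀ E ∈ 𝒳, SPIrr p E) :
    PIrr p (⊤ : Subgroup H) ∧ ∀ E ∈ 𝒳, ∀ K ∈ 𝒳, res p E = res p K ∨ ⁅E, K⁆ = ⊥ := by
  obtain ⟨T, hT⟩ := exists_isSyl p (⊤ : Subgroup H)
  have hS : ∀ E ∈ 𝒳, IsSyl p (T ⊓ E) E := fun E hE => hT.inf_subN (subN_of_mem hres hnorm hE)
  have hOE : ∀ E ∈ 𝒳, Cfsg.pCoreOf p E = ⊥ := fun E hE =>
    le_bot_iff.mp (hO ▸ (subN_of_mem hres hnorm hE).pCoreOf_le)
  have hK : ∀ E ∈ 𝒳, ⁅res p E, T ⊓ E⁆ = res p E := fun E hE =>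
    (hs E hE).pirr.commutator_res_eq (hS E hE) le_rfl le_normalizer fun h =>
      (hs E hE).1 ((hS E hE).pcl_of_le h)
  have h3 : ∀ E ∈ 𝒳, ∀ A : Subgroup H, ⁅⁅A, E⁆, E⁆ = ⊥ → ⁅res p E, A⁆ = ⊥ := fun E hE A h => by
    have : ⁅⁅E, E⁆, A⁆ = ⊥ := commutator_commutator_eq_bot_of_rotate (by rwa [commutator_comm E A]) h
    rw [eq_bot_iff, ← this, ← hK E hE]
    exact commutator_mono (commutator_mono (res_le E) inf_le_right) le_rfl
  refine ⟨⟨fun h => ?_, fun N _ hN hc => ?_⟩, fun E hE K hK' => ?_⟩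
  · obtain ⟨E, hE⟩ := hne
    exact (hs E hE).1 (h.of_le le_top)
  · haveI := normal_of_top_le_normalizer hN
    by_contra hle
    have h1 : ∀ E ∈ 𝒳, ¬ res p E ≤ N := fun E hE h => hle (res_le_of_forall_res_le hres hnorm N fun K hK => by
      obtain ⟨g, rfl⟩ := htr E hE K hK
      rw [← cj_res]
      exact cj_le_of_le h (hN (mem_top g)))
    have h2 : ∀ E ∈ 𝒳, ∀ A : Subgroup H, A ≤ N → A ≤ sSup 𝒳 → ⁅⁅A, E⁆, E⁆ = ⊥ := fun E hE A hA hA' => by
      have : ⁅N ⊓ E, E⁆ ≤ ⊥ := by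
        by_contra h
        exact h1 E hE (((hs E hE).2 _ inf_le_right (le_normalizer_inf (le_top.trans hN) le_normalizer)
          (by rwa [hOE E hE])).trans inf_le_left)
      exact le_bot_iff.mp ((commutator_mono (le_inf ((commutator_mono hA le_rfl).trans
        (commutator_le_left _ _)) (commutator_le_right' (hA'.trans (hnorm E hE)))) le_rfl).trans this)
    have hcent : ∀ A : Subgroup H, T ≤ normalizer (A : Set H) → (∀ E ∈ 𝒳, ⁅res p E, A⁆ = ⊥) →
        IsPGroup p A → A = ⊥ := fun A hA h hp => by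
      have hn : ⊤ ≤ normalizer ((⨆ E : 𝒳, res p E.1 : Subgroup H) : Set H) := fun g _ =>
        mem_normalizer_of_cj_le (by
          rw [cj, Subgroup.map_iSup]
          exact iSup_le fun E => le_iSup_of_le ⟨_, hinv g E.1 E.2⟩ (cj_res g E.1).le)
      haveI := normal_of_top_le_normalizer hn
      have h4 := (res_le_of_forall_res_le hres hnorm _ fun E hE =>
        le_iSup_of_le (f := fun E : 𝒳 => res p E.1) ⟨E, hE⟩ le_rfl).trans
        (iSup_le fun E => commutator_eq_bot_iff_le_centralizer.mp (h E.1 E.2))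
      rw [eq_bot_iff, ← hO]
      exact le_pCoreOf hp le_top (hT.sup_res.ge.trans (sup_le hA (le_normalizer_of_le_centralizer h4)))
    have hRn : ⊤ ≤ normalizer ((sSup 𝒳 : Subgroup H) : Set H) := fun g _ =>
      mem_normalizer_of_cj_le (map_le_iff_le_comap.mpr (sSup_le fun E hE =>
        map_le_iff_le_comap.mp (le_sSup (hinv g E hE))))
    have hAn : ⊤ ≤ normalizer ((N ⊓ sSup 𝒳 : Subgroup H) : Set H) := le_normalizer_inf hN hRn
    have hA : ¬ p ∣ Nat.card ↥(N ⊓ sSup 𝒳) :=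
      (hT.inf_of_le_normalizer le_top (le_top.trans hAn)).eq_bot_iff.mp (hcent _
        (le_normalizer_inf le_normalizer (le_top.trans hAn))
        (fun E hE => h3 E hE _ (h2 E hE _ (inf_le_right.trans inf_le_left) (inf_le_right.trans inf_le_right)))
        (hT.isPGroup.to_le inf_le_left))
    have hSN := hT.inf_of_le_normalizer le_top (le_top.trans hN)
    refine hc (hSN.pcl_of_le (le_trans (le_of_eq (hcent _
      (le_normalizer_inf le_normalizer (le_top.trans hN)) (fun E hE => ?_) hSN.isPGroup)) bot_le))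
    have hle' : ∀ B : Subgroup H, B ≤ E → ⁅T ⊓ N, B⁆ ≤ N ⊓ sSup 𝒳 := fun B hB =>
      le_inf ((commutator_mono inf_le_right le_rfl).trans (commutator_le_left _ _))
        ((commutator_mono le_rfl (hB.trans (le_sSup hE))).trans (commutator_le_right' (le_top.trans hRn)))
    rw [← hK E hE]
    refine commutator_commutator_eq_bot_of_rotate ?_ ?_
    · rw [commutator_comm, commutator_comm (T ⊓ E)]
      exact h3 E hE _ (h2 E hE _ ((hle' _ inf_le_right).trans inf_le_left)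
        ((hle' _ inf_le_right).trans inf_le_right))
    · rw [eq_bot_iff]
      refine (commutator_mono (hle' _ (res_le E)) le_rfl).trans ?_
      rw [← commutator_commutator_eq (hS E hE).isPGroup hA (le_top.trans hAn),
        ← h2 E hE _ inf_le_left inf_le_right]
      exact commutator_mono (commutator_mono le_rfl inf_le_right) inf_le_right
  · have hEK : E ≤ normalizer (K : Set H) := (le_sSup hE).trans (hnorm K hK')
    have hKE : K ≤ normalizer (E : Set H) := (le_sSup hK').trans (hnorm E hE)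
    have hcard : Nat.card (res p E) = Nat.card (res p K) := by
      obtain ⟨g, rfl⟩ := htr E hE K hK'
      rw [← cj_res, card_cj]
    by_cases h1 : ⁅⁅E, K⁆, E⁆ = ⊥
    swap
    · refine Or.inl (eq_of_le_of_card_ge ?_ hcard.ge)
      rw [← res_res]
      exact res_mono (((hs E hE).2 _ (commutator_le_left' hKE) (normalizer_commutator_ge_left _ _)
        (by rwa [hOE E hE, le_bot_iff])).trans (commutator_le_right' hEK))
    by_cases h2 : ⁅⁅E, K⁆, K⁆ = ⊥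
    swap
    · refine Or.inl (eq_of_le_of_card_ge ?_ hcard.le).symm
      rw [← res_res]
      exact res_mono (((hs K hK').2 _ (commutator_le_right' hEK) (normalizer_commutator_ge_right _ _)
        (by rwa [hOE K hK', le_bot_iff])).trans (commutator_le_left' hKE))
    right
    have h4 : ⁅res p E, K⁆ = ⊥ := h3 E hE K (by rwa [commutator_comm K])
    have h5 : ⁅res p K, E⁆ = ⊥ := h3 K hK' E h2
    have h6 : ⁅T ⊓ E, T ⊓ K⁆ = ⊥ := by
      have h7 : ⁅T ⊓ E, T ⊓ K⁆ ≤ ⁅E, K⁆ := commutator_mono inf_le_right inf_le_right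
      rw [eq_bot_iff, ← hOE E hE]
      exact le_pCoreOf (hT.isPGroup.to_le (commutator_le_of_le inf_le_left inf_le_left))
        (h7.trans (commutator_le_left' hKE)) (le_normalizer_of_le_centralizer (le_centralizer_iff.mp
          (h7.trans (commutator_eq_bot_iff_le_centralizer.mp h1))))
    rw [← (hS E hE).sup_res]
    refine H14.commutator_sup_left_eq_bot ?_ h4
    rw [← (hS K hK').sup_res]
    exact H14.commutator_sup_right_eq_bot h6
      (H14.commutator_eq_bot_symm (H14.commutator_eq_bot_mono h5 le_rfl inf_le_right))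

end

/-- Let H be a finite group, p a prime, and 𝒦 a nonempty set of subgroups of H permuted transitively by conjugation, with R the subgroup generated by the members of 𝒦. Suppose O^p(H) ≤ R, each E ∈ 𝒦 has E·O_p(H) normal in R·O_p(H), and each E ∈ 𝒦 is p-minimal (generated by the conjugates of a Sylow p-subgroup T_E of E, with T_E in exactly one maximal subgroup of E). Then H is p-minimal in the same sense. If instead each E ∈ 𝒦 is strongly p-irreducible, then H is p-irreducible and, for E, K ∈ 𝒦, either O^p(E·O_p(H)) = O^p(K·O_p(H)) or [E, K] ≤ O_p(H). -/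
theorem result {H : Type*} [Group H] [Finite H] {p : ℕ} [Fact p.Prime] (𝒦 : Set (Subgroup H)) (hne : 𝒦.Nonempty) (hinv : ∀ h : H, ∀ E ∈ 𝒦, E.map (MulAut.conj h).toMonoidHom ∈ 𝒦) (htr : ∀ E ∈ 𝒦, ∀ K ∈ 𝒦, ∃ h : H, K = E.map (MulAut.conj h).toMonoidHom) (hres : Cfsg.pResidual p H ≤ sSup 𝒦) (hnorm : ∀ E ∈ 𝒦, sSup 𝒦 ⊔ Cfsg.pCore p H ≤ Subgroup.normalizer ((E ⊔ Cfsg.pCore p H : Subgroup H) : Set H)) : ((∀ E ∈ 𝒦, ∀ T : Sylow p ↥E, Cfsg.IsMinimalOver (T : Subgroup ↥E)) → ∀ T : Sylow p H, Cfsg.IsMinimalOver (T : Subgroup H)) ∧ ((∀ E ∈ 𝒦, Cfsg.IsStronglyPIrreducible p ↥E) → Cfsg.IsPIrreducible p H ∧ ∀ E ∈ 𝒦, ∀ K ∈ 𝒦, (Cfsg.pResidual p ↥(E ⊔ Cfsg.pCore p H)).map (E ⊔ Cfsg.pCore p H).subtype = (Cfsg.pResidual p ↥(K ⊔ Cfsg.pCore p H)).map (K ⊔ Cfsg.pCore p H).subtype ∨ ⁅E, K⁆ ≤ Cfsg.pCore p H) := by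
  have hOp := isPGroup_pCore p H
  rw [← res_top] at hres
  refine ⟨fun hmin T => isMinimalOver_iff_top.mpr ?_, fun hs => ?_⟩
  · refine partA (𝒳 := (· ⊔ Cfsg.pCore p H) '' 𝒦) (hne.image _) ?_ ?_ ?_ ?_ ?_ (isSyl_sylow T)
    · rintro h _ ⟨E, hE, rfl⟩
      exact ⟨_, hinv h E hE, by simp only [cj_sup, cj_eq_self_of_normal]⟩
    · rintro _ ⟨E, hE, rfl⟩ _ ⟨K, hK, rfl⟩
      obtain ⟨h, rfl⟩ := htr E hE K hK
      exact ⟨h, by simp only [cj_sup, cj_eq_self_of_normal]⟩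
    · exact hres.trans (sSup_le fun E hE => le_sup_left.trans (le_sSup ⟨E, hE, rfl⟩))
    · rintro _ ⟨E, hE, rfl⟩
      refine le_trans (sSup_le ?_) (hnorm E hE)
      rintro _ ⟨K, hK, rfl⟩
      exact sup_le_sup_right (le_sSup hK) _
    · rintro _ ⟨E, hE, rfl⟩ S hS
      refine minO_sup_of_isPGroup (fun S hS => ?_) hOp (le_normalizer_of_normal' _ _) hS
      obtain ⟨P, rfl⟩ := hS.exists_sylow_map
      exact isMinimalOver_iff.mp (hmin E hE P)
  · let f := QuotientGroup.mk' (Cfsg.pCore p H)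
    have hf : f.ker = Cfsg.pCore p H := QuotientGroup.ker_mk' _
    have hfs : Function.Surjective f := QuotientGroup.mk'_surjective _
    have hk : IsPGroup p f.ker := by rw [hf]; exact hOp
    have hm : ∀ E : Subgroup H, (E ⊔ Cfsg.pCore p H).map f = E.map f := fun E => by
      rw [Subgroup.map_sup, (Subgroup.map_eq_bot_iff _).mpr hf.ge, sup_bot_eq]
    have hsup : sSup (Subgroup.map f '' 𝒦) = (sSup 𝒦).map f := ((gc_map_comap f).l_sSup.trans
      sSup_image.symm).symm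
    obtain ⟨h1, h2⟩ := partB (p := p) (𝒳 := Subgroup.map f '' 𝒦) (by
        rw [← map_top_of_surjective _ hfs, ← map_pCoreOf_of_ker hk, pCoreOf_top]
        exact (Subgroup.map_eq_bot_iff _).mpr hf.ge) (hne.image _)
      (by
        rintro h _ ⟨E, hE, rfl⟩
        obtain ⟨g, rfl⟩ := hfs h
        exact ⟨_, hinv g E hE, map_cj f g E⟩)
      (by
        rintro _ ⟨E, hE, rfl⟩ _ ⟨K, hK, rfl⟩
        obtain ⟨h, rfl⟩ := htr E hE K hK
        exact ⟨f h, map_cj f h E⟩)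
      (by
        rw [hsup, ← map_top_of_surjective _ hfs, ← map_res]
        exact map_mono hres)
      (by
        rintro _ ⟨E, hE, rfl⟩
        rw [hsup, ← hm, ← hm E]
        exact map_le_normalizer_map f (hnorm E hE))
      (by
        rintro _ ⟨E, hE, rfl⟩
        exact (spirr_map_iff hk).mpr (isStronglyPIrreducible_iff.mp (hs E hE)))
    rw [← map_top_of_surjective _ hfs, pirr_map_iff hk] at h1
    refine ⟨isPIrreducible_top_iff.mpr h1, fun E hE K hK => ?_⟩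
    have h3 : ∀ E K : Subgroup H, res p (E.map f) = res p (K.map f) →
        res p (E ⊔ Cfsg.pCore p H) ≤ res p (K ⊔ Cfsg.pCore p H) := fun E K h => by
      rw [← hm E, ← hm K, ← map_res, ← map_res] at h
      have h4 := Subgroup.map_le_map_iff.mp h.le
      rw [← res_res]
      exact res_mono (h4.trans (sup_le (res_le _) (hf.le.trans le_sup_right)))
    rcases h2 _ ⟨E, hE, rfl⟩ _ ⟨K, hK, rfl⟩ with h | h
    · exact Or.inl (le_antisymm (h3 E K h) (h3 K E h.symm))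
    · rw [← map_commutator, Subgroup.map_eq_bot_iff, hf] at h
      exact Or.inr h

end Cfsg.Agent.S2855
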