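import Cfsg.Statements.S2859
import Cfsg.Agent.Base
import Cfsg.Agent.H98.WeakClosed

set_option autoImplicit false
open Cfsg

namespace Cfsg.Agent.S2859

open Subgroup H98
open scoped commutatorElement

theorem half {G : Type*} [Group G] [Finite G] {p : ℕ} [Fact p.Prime] {Q Hc H₁ H₂ : Subgroup G}
    (h : WC p Q ⊤) (hHc : ncl Hc Q = Hc) (hn₁ : H₁ ≤ Hc ∧ Hc ≤ normalizer (H₁ : Set G))
    (hn₂ : H₂ ≤ Hc ∧ Hc ≤ normalizer (H₂ : Set G)) (hprod : H₁ ⊔ H₂ = Hc)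
    (hcomm : ⁅H₁, H₂⁆ ≤ normalizer (Q : Set G)) (K : Subgroup G)
    (hK : K = res p (Cfsg.weakClosure Q (H₁ ⊔ Q))) :
    (⁅K, Q⁆ = K ∧ ⁅K, H₁⁆ = K ∧ K ≤ ⁅H₁, H₁⁆ ∧ Hc ≤ normalizer (K : Set G)) ∧
      ⁅K, H₂⁆ ≤ Cfsg.pCoreOf p Hc ∧ K ≤ H₁ ∧ ∀ W, K ≤ W → Hc ≤ normalizer (W : Set G) →
        H₁ ≤ normalizer ((Q ⊔ W : Subgroup G) : Set G) := by
  have hQ : Q ≤ Hc := hHc ▸ le_ncl Hc Q
  rw [h.weakClosure_eq le_sup_right] at hK
  set X := ncl (H₁ ⊔ Q) Q with hX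
  have hXX : ncl X Q = X := h.ncl_ncl_eq le_sup_right le_top
  have hQX : Q ≤ X := le_ncl _ Q
  have k1 : ⁅K, Q⁆ = K := hK ▸ commutator_res_eq_of_ncl_eq hQX h.isPGroup hXX
  have k2 : K ≤ H₁ := by
    rw [hK]
    refine (res_mono (ncl_le_of_le le_sup_right)).trans ?_
    rw [sup_comm]
    exact res_sup_le_right h.isPGroup (hQ.trans hn₁.2)
  have hrK : res p K = K := hK ▸ res_res X
  set P := Cfsg.pCoreOf p Hc
  set D := ⁅H₁, H₂⁆
  have hP : Hc ≤ normalizer (P : Set G) := self_le_normalizer_pCoreOf Hc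
  have hDn : Hc ≤ normalizer (D : Set G) := le_normalizer_commutator hn₁.2 hn₂.2
  have hD : D ≤ Hc := commutator_le_of_le hn₁.1 hn₂.1
  have d1 : ⁅D, Hc⁆ ≤ P := by
    refine (le_stab_iff.mp (hHc ▸ ncl_le (le_stab_iff.mpr ⟨hQ.trans hP, ?_⟩)
      (le_normalizer_stab hDn hP) : Hc ≤ stab D P)).2
    refine (le_inf (commutator_le_left' (hQ.trans hDn)) (commutator_le_right' hcomm)).trans ?_
    exact (le_pCoreOf h.isPGroup.to_inf_right inf_le_left (le_normalizer_inf le_normalizer hcomm)).trans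
      (pCoreOf_le_pCoreOf_of_normal hD hDn)
  have d2 : ⁅⁅H₁, H₁⁆, H₂⁆ ≤ P := three_subgroups (hn₁.1.trans hP) (hn₁.1.trans hP) (hn₂.1.trans hP)
    ((commutator_mono le_rfl hn₁.1).trans d1)
    (by rw [commutator_comm H₂]; exact (commutator_mono le_rfl hn₁.1).trans d1)
  have hH' : Hc ≤ normalizer ((⁅H₁, H₁⁆ : Subgroup G) : Set G) := le_normalizer_commutator hn₁.2 hn₁.2
  have k3 : K ≤ ⁅H₁, H₁⁆ ⊔ D := by
    rw [← k1]
    refine (commutator_mono k2 (hQ.trans hprod.ge)).trans (commutator_sup_right_le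
      (hn₁.1.trans (le_normalizer_sup hH' hDn)) (hn₂.1.trans (le_normalizer_sup hH' hDn))
      le_sup_left le_sup_right)
  have k4 : ⁅K, H₂⁆ ≤ P := (commutator_mono k3 le_rfl).trans (commutator_sup_left_le
    ((commutator_le_of_le hn₁.1 hn₁.1).trans hP) (hD.trans hP) d2 ((commutator_mono le_rfl hn₂.1).trans d1))
  have k5 : H₁ ≤ normalizer (K : Set G) :=
    hK ▸ le_normalizer_res (le_sup_left.trans (le_normalizer_ncl _ Q))
  have hPQ : P ≤ normalizer (Q : Set G) := h.pCoreOf_le_normalizer le_top (le_normalizer_of_le hQ)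
  have k6 : P ≤ normalizer (K : Set G) := hK ▸ le_normalizer_res (le_normalizer_ncl_of
    (le_normalizer_sup ((pCoreOf_le Hc).trans hn₁.2) hPQ) hPQ)
  have k7 : Hc ≤ normalizer (K : Set G) := by
    rw [← hprod]
    refine sup_le k5 ?_
    rw [← hrK, ← res_sup_eq_right (isPGroup_pCoreOf Hc) k6]
    refine le_normalizer_res (le_normalizer_of_commutator_le (A := P ⊔ K) (le_sup_of_le_left ?_) le_rfl)
    exact commutator_sup_left_le le_normalizer ((k2.trans hn₁.1).trans hP)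
      (commutator_le_left' (hn₂.1.trans hP)) k4
  have hKH := le_normalizer_commutator k7 hn₁.2
  have k8 : ⁅K, H₁⁆ = K := by
    refine le_antisymm (commutator_le_left' k5) ?_
    conv_lhs => rw [← hrK]
    refine (res_mono ?_).trans (res_sup_le_right (isPGroup_pCoreOf Hc) ((pCoreOf_le Hc).trans hKH))
    conv_lhs => rw [← k1]
    refine (commutator_mono le_rfl (hQ.trans hprod.ge)).trans (commutator_sup_right_le
      (hn₁.1.trans (le_normalizer_sup hP hKH)) (hn₂.1.trans (le_normalizer_sup hP hKH))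
      le_sup_right (k4.trans le_sup_left))
  refine ⟨⟨k1, k8, k8 ▸ commutator_mono k2 le_rfl, k7⟩, k4, k2, fun W w1 w2 => ?_⟩
  have e : Q ⊔ W = X ⊔ W := by
    rw [← sup_res_eq_of_ncl_eq (p := p) hQX hXX, ← hK, sup_assoc, sup_of_le_right w1]
  rw [e]
  exact le_normalizer_sup (le_sup_left.trans (le_normalizer_ncl _ Q)) (hn₁.1.trans w2)

/-- Let Q be a nontrivial p-subgroup of the finite group H that is a weakly closed subgroup, H° the weak closure of Q in H (generated by the conjugates of Q) and H_∘ = O^p(H°). Suppose H₁, H₂ are normal subgroups of H° with H° = H₁H₂ and [H₁, H₂] ≤ N_H(Q), and put Kᵢ = O^p of the weak closure of Q in HᵢQ. Then for i = 1, 2: Kᵢ = [Kᵢ, Q] = [Kᵢ, Hᵢ] ≤ Hᵢ′ and Kᵢ is normal in H°; H_∘ = K₁K₂; and [K₁, K₂] ≤ O_p(H°). -/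
theorem result {G : Type*} [Group G] [Finite G] {p : ℕ} [Fact p.Prime] (Q : Subgroup G) (hQp : IsPGroup p ↥Q) (hQ1 : Q ≠ ⊥) (hwc : Cfsg.IsWeaklyClosedSubgroup p Q) (Hc : Subgroup G) (hHc : Hc = Cfsg.weakClosure Q ⊤) (H₁ H₂ : Subgroup G) (hn₁ : H₁ ≤ Hc ∧ Hc ≤ Subgroup.normalizer ((H₁ : Subgroup G) : Set G)) (hn₂ : H₂ ≤ Hc ∧ Hc ≤ Subgroup.normalizer ((H₂ : Subgroup G) : Set G)) (hprod : H₁ ⊔ H₂ = Hc) (hcomm : ⁅H₁, H₂⁆ ≤ Subgroup.normalizer ((Q : Subgroup G) : Set G)) (K₁ K₂ : Subgroup G) (hK₁ : K₁ = ((Cfsg.pResidual p ↥(Cfsg.weakClosure Q (H₁ ⊔ Q))).map ((Cfsg.weakClosure Q (H₁ ⊔ Q))).subtype)) (hK₂ : K₂ = ((Cfsg.pResidual p ↥(Cfsg.weakClosure Q (H₂ ⊔ Q))).map ((Cfsg.weakClosure Q (H₂ ⊔ Q))).subtype)) : (⁅K₁, Q⁆ = K₁ ∧ ⁅K₁, H₁⁆ = K₁ ∧ K₁ ≤ ⁅H₁, H₁⁆ ∧ Hc ≤ Subgroup.normalizer ((K₁ : Subgroup G) : Set G)) ∧ (⁅K₂, Q⁆ = K₂ ∧ ⁅K₂, H₂⁆ = K₂ ∧ K₂ ≤ ⁅H₂, H₂⁆ ∧ Hc ≤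 Subgroup.normalizer ((K₂ : Subgroup G) : Set G)) ∧ K₁ ⊔ K₂ = ((Cfsg.pResidual p ↥Hc).map (Hc).subtype) ∧ ⁅K₁, K₂⁆ ≤ (Cfsg.pCoreOf p Hc) := by
  have h := wc_of_isWeaklyClosedSubgroup hwc
  rw [h.weakClosure_eq le_top] at hHc
  have e : ncl Hc Q = Hc := hHc ▸ h.ncl_ncl_eq le_top le_top
  obtain ⟨a1, a2, a3, a4⟩ := half h e hn₁ hn₂ hprod hcomm K₁ hK₁
  obtain ⟨b1, b2, b3, b4⟩ := half h e hn₂ hn₁ (by rw [sup_comm, hprod]) (by rwa [commutator_comm]) K₂ hK₂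
  refine ⟨a1, b1, ?_, (commutator_mono le_rfl b3).trans a2⟩
  have hQ : Q ≤ Hc := e ▸ le_ncl Hc Q
  have hW := le_normalizer_sup a1.2.2.2 b1.2.2.2
  refine le_antisymm (sup_le (hK₁ ▸ res_mono ((weakClosure_le _ _).trans (sup_le hn₁.1 hQ)))
    (hK₂ ▸ res_mono ((weakClosure_le _ _).trans (sup_le hn₂.1 hQ)))) ?_
  refine (res_mono ?_).trans (res_sup_le_right hQp (hQ.trans hW))
  conv_lhs => rw [← e]
  refine ncl_le le_sup_left ?_
  conv_lhs => rw [← hprod]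
  exact sup_le (a4 _ le_sup_left hW) (b4 _ le_sup_right hW)

end Cfsg.Agent.S2859
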