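import Cfsg.Statements.S2860
import Cfsg.Agent.Base
import Cfsg.Agent.H98.FStarP
import Cfsg.Agent.H98.WeakClosed

set_option autoImplicit false
open Cfsg

namespace Cfsg.Agent.S2860

open Subgroup H98
open scoped commutatorElement

theorem comm_subgroupOf {G : Type*} [Group G] {X Y E : Subgroup G} (hX : X ≤ E) (hY : Y ≤ E) :
    (⁅X, Y⁆).subgroupOf E = ⁅X.subgroupOf E, Y.subgroupOf E⁆ :=
  map_injective E.subtype_injective (by
    rw [map_commutator, map_subgroupOf_eq_of_le hX, map_subgroupOf_eq_of_le hY,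
      map_subgroupOf_eq_of_le (commutator_le_of_le hX hY)])

theorem res_subgroupOf_eq {G : Type*} [Group G] [Finite G] {p : ℕ} [Fact p.Prime] {X E : Subgroup G}
    (hX : X ≤ E) : (res p X).subgroupOf E = res p (X.subgroupOf E) :=
  map_injective E.subtype_injective (by
    rw [map_res_subgroupOf hX, map_subgroupOf_eq_of_le ((res_le X).trans hX)])

theorem le_of_map_le {G G' : Type*} [Group G] [Group G'] {X Y E C : Subgroup G} (f : E →* G')
    (hf : f.ker = C.subgroupOf E) (hX : X ≤ E) (hY : Y ≤ E)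
    (h : (X.subgroupOf E).map f ≤ (Y.subgroupOf E).map f) : X ≤ Y ⊔ (E ⊓ C) := by
  rw [Subgroup.map_le_map_iff, hf] at h
  have := map_mono (f := E.subtype) h
  rwa [Subgroup.map_sup, map_subgroupOf_eq_of_le hX, map_subgroupOf_eq_of_le hY, subgroupOf_map_subtype,
    inf_comm] at this

/-- Let Q be a nontrivial large p-subgroup of the finite group H, U a nontrivial elementary abelian p-subgroup of H, and Q ≤ E ≤ N_H(U) with Q not normal in E. Suppose O_p(E/C_E(U)) = 1 and O^p(E)·C_E(U)/C_E(U) is quasisimple. Let E° be the weak closure of Q in E (generated by the conjugates of Q inside E) and E_∘ = O^p(E°). Then O^p(E)·C_E(U) = E_∘·C_E(U); E_∘ is perfect and equals O^p(E_∘); E_∘/C_{E_∘}(U) and E_∘/O_p(E_∘) are quasisimple; and E_∘ = [E_∘, Y] for every p-subgroup Y of E not centralizing U. -/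
theorem result {G : Type*} [Group G] [Finite G] {p : ℕ} [Fact p.Prime] (Q : Subgroup G) (hQp : IsPGroup p ↥Q) (hQ1 : Q ≠ ⊥) (hQ : Cfsg.IsLarge Q) (U : Subgroup G) (hU : Cfsg.IsElementaryAbelian p U) (hU1 : U ≠ ⊥) (E : Subgroup G) (hQE : Q ≤ E) (hEU : E ≤ Subgroup.normalizer ((U : Subgroup G) : Set G)) (hQn : ¬ E ≤ Subgroup.normalizer ((Q : Subgroup G) : Set G)) [hn : ((Subgroup.centralizer ((U : Subgroup G) : Set G)).subgroupOf E).Normal] (hred : Cfsg.pCore p (↥E ⧸ (Subgroup.centralizer ((U : Subgroup G) : Set G)).subgroupOf E) = ⊥) (hqs : Cfsg.IsQuasisimple ↥(((Cfsg.pResidual p ↥E) ⊔ (Subgroup.centralizer ((U : Subgroup G) : Set G)).subgroupOf E).map (QuotientGroup.mk' ((Subgroup.centralizer ((U : Subgroup G) : Set G)).subgroupOf E)))) (Er : Subgroup G) (hEr : Er = ((Cfsg.pResidual p ↥(Cfsg.weakClosure Q E)).map ((Cfsg.weakClosure Q E)).subtype)) [hn2 : ((Subgroup.centralizer ((U : Subgroup G) : Set G)).subgroupOf Er).Normal] : ((Cfsg.pResidual p ↥E).map (E).subtype)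 ⊔ (E ⊓ Subgroup.centralizer ((U : Subgroup G) : Set G)) = Er ⊔ (E ⊓ Subgroup.centralizer ((U : Subgroup G) : Set G)) ∧ ⁅Er, Er⁆ = Er ∧ ((Cfsg.pResidual p ↥Er).map (Er).subtype) = Er ∧ Cfsg.IsQuasisimple (↥Er ⧸ (Subgroup.centralizer ((U : Subgroup G) : Set G)).subgroupOf Er) ∧ Cfsg.IsQuasisimple (↥Er ⧸ Cfsg.pCore p ↥Er) ∧ ∀ Y : Subgroup G, Y ≤ E → IsPGroup p ↥Y → ¬ Y ≤ Subgroup.centralizer ((U : Subgroup G) : Set G) → ⁅Er, Y⁆ = Er := by
  set C := centralizer (U : Set G) with hCdef
  set f := QuotientGroup.mk' (C.subgroupOf E)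
  have hf : f.ker = C.subgroupOf E := QuotientGroup.ker_mk' _
  have hfs : Function.Surjective f := QuotientGroup.mk'_surjective _
  have hWE := weakClosure_le Q E
  have hQW := le_weakClosure hQE
  have hwc := large_wc hQ hQp hQ1
  have hW := hwc.weakClosure_eq hQE
  have hErW : Er ≤ Cfsg.weakClosure Q E := hEr ▸ res_le _
  have hErE : Er ≤ E := hErW.trans hWE
  have hEEr : E ≤ normalizer (Er : Set G) := hEr ▸ le_normalizer_res (le_normalizer_weakClosure le_normalizer)
  have hres : res p Er = Er := hEr ▸ res_res _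
  have hErQ : ⁅Er, Q⁆ = Er := by
    rw [hEr]
    refine commutator_res_eq_of_ncl_eq hQW hQp ?_
    rw [hW]
    exact hwc.ncl_ncl_eq hQE le_top
  have hK : (Cfsg.pResidual p E).map f = Cfsg.pResidual p (E ⧸ C.subgroupOf E) := by
    rw [← res_top, map_res, map_top_of_surjective _ hfs, res_top]
  rw [Subgroup.map_sup, hK, (Subgroup.map_eq_bot_iff _).mpr hf.ge, sup_bot_eq] at hqs
  have hY : ∀ Y : Subgroup G, Y ≤ E → IsPGroup p Y → ¬ Y ≤ C →
      ⁅Cfsg.pResidual p (E ⧸ C.subgroupOf E), (Y.subgroupOf E).map f⁆ =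
        Cfsg.pResidual p (E ⧸ C.subgroupOf E) := fun Y h1 h2 h3 =>
    commutator_residual_eq hred hqs ((isPGroup_subgroupOf h2 E).map f) fun e => h3 fun y hy => by
      rw [Subgroup.map_eq_bot_iff, hf] at e
      exact e (show (⟨y, h1 hy⟩ : E) ∈ _ from hy)
  have hQC : ¬ Q ≤ C := fun h => hQn (large_le_normalizer hQ (le_centralizer_iff.mp h) hU1 hEU)
  have hE : (Er.subgroupOf E).map f = Cfsg.pResidual p (E ⧸ C.subgroupOf E) := by
    rw [hEr]
    change ((res p _).subgroupOf E).map f = _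
    rw [res_subgroupOf_eq hWE, map_res]
    refine le_antisymm ((res_mono le_top).trans res_top.le) ?_
    rw [← res_top, ← res_res, res_top]
    refine res_mono ?_
    rw [← hY Q hQE hQp hQC, ← hK, ← map_commutator, ← res_subgroupOf, ← comm_subgroupOf (res_le E) hQE]
    refine map_mono (comap_mono ?_)
    rw [hW, ncl_eq_commutator_sup, commutator_comm]
    exact le_sup_of_le_left (commutator_mono le_rfl (res_le E))
  obtain ⟨-, hc⟩ := large_commutator_weakClosure_le hQ hQp (H12.ea_isPGroup hU) hU1 hEU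
  have hEC : E ≤ normalizer (C : Set G) := le_normalizer_centralizer hEU
  have hD : ∀ X : Subgroup G, X ≤ Cfsg.weakClosure Q E → ⁅Er ⊓ C, X⁆ ≤ Cfsg.pCoreOf p Er := fun X hX => by
    have h1 : ⁅Er ⊓ C, X⁆ ≤ Cfsg.pCoreOf p C ⊓ Er := by
      refine le_inf ?_ ((commutator_mono inf_le_left le_rfl).trans
        (commutator_le_left' ((hX.trans hWE).trans hEEr)))
      rw [commutator_comm]
      exact (commutator_mono hX inf_le_right).trans (hc.trans inf_le_left)
    exact h1.trans (pCoreOf_inf_le (hErE.trans hEC))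
  have key : ∀ W X : Subgroup G, W ≤ Er → Er ≤ normalizer (W : Set G) → X ≤ Cfsg.weakClosure Q E →
      X ≤ normalizer (W : Set G) → ⁅Er, X⁆ = Er → (W.subgroupOf E).map f = (Er.subgroupOf E).map f →
      W = Er := fun W X h1 h2 h3 h4 h5 h6 => by
    have h7 : Er ≤ W ⊔ (Er ⊓ C) := by
      have := le_inf (le_of_map_le f hf hErE (h1.trans hErE) h6.ge) (le_refl Er)
      rw [sup_inf_of_le_left ((h1.trans hErE).trans (le_normalizer_inf le_normalizer hEC)) h1] at this
      exact this.trans (sup_le_sup_left (le_inf inf_le_right (inf_le_left.trans inf_le_right)) _)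
    have hn : Er ≤ normalizer ((Cfsg.pCoreOf p Er ⊔ W : Subgroup G) : Set G) :=
      le_normalizer_sup (self_le_normalizer_pCoreOf _) h2
    have h8 : Er ≤ Cfsg.pCoreOf p Er ⊔ W := by
      conv_lhs => rw [← h5]
      exact (commutator_mono h7 le_rfl).trans (commutator_sup_left_le (h1.trans hn) (inf_le_left.trans hn)
        (le_sup_of_le_right (commutator_le_left' h4)) (le_sup_of_le_left (hD X h3)))
    refine le_antisymm h1 ?_
    conv_lhs => rw [← hres]
    exact (res_mono h8).trans (res_sup_le_right (isPGroup_pCoreOf _) ((pCoreOf_le _).trans h2))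
  have hperf : ⁅Er, Er⁆ = Er := key _ Q (commutator_le_of_le le_rfl le_rfl)
    (le_normalizer_commutator le_normalizer le_normalizer) hQW
    (le_normalizer_commutator (hQE.trans hEEr) (hQE.trans hEEr)) hErQ (by
      rw [comm_subgroupOf hErE hErE, map_commutator, hE, H14.quasi_sub_perfect hqs])
  haveI : Group.IsPerfect Er := isPerfect_iff.mpr hperf
  have hq1 : Cfsg.IsQuasisimple (Er ⧸ C.subgroupOf Er) := by
    let g : Er →* E ⧸ C.subgroupOf E := f.comp (inclusion hErE)
    have hg : g.ker = C.subgroupOf Er := by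
      ext x
      exact QuotientGroup.eq_one_iff _
    have hr : g.range = Cfsg.pResidual p (E ⧸ C.subgroupOf E) := by
      rw [MonoidHom.range_comp, inclusion_range, hE]
    exact H14.quasi_of_mulEquiv (hr ▸ hqs) ((QuotientGroup.quotientKerEquivRange g).symm.trans
      (QuotientGroup.quotientMulEquivOfEq hg))
  refine ⟨le_antisymm (sup_le (le_of_map_le f hf (res_le E) hErE ?_) le_sup_right)
    (sup_le_sup_right (hres ▸ res_mono hErE) _), hperf, hres, hq1, ?_, fun Y h1 h2 h3 => ?_⟩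
  · rw [res_subgroupOf, hK, hE]
  · have h1 : Cfsg.pCoreOf p Er ≤ C := by
      have h2 : Cfsg.pCoreOf p Er ≤ Cfsg.pCoreOf p E := pCoreOf_le_pCoreOf_of_normal hErE hEEr
      have h3 := map_pCoreOf_le (p := p) f ⊤
      rw [map_top_of_surjective _ hfs, pCoreOf_top, pCoreOf_top, hred, le_bot_iff, Subgroup.map_eq_bot_iff,
        hf, ← pCoreOf_subgroupOf] at h3
      exact fun x hx => h3 (show (⟨x, pCoreOf_le E (h2 hx)⟩ : E) ∈ _ from h2 hx)
    have h2 : Cfsg.pCore p Er ≤ (C.subgroupOf Er).comap (MonoidHom.id Er) := fun x hx =>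
      h1 (mem_map_of_mem Er.subtype hx)
    refine H14.quasi_of_ker_le_center (QuotientGroup.map _ _ (MonoidHom.id Er) h2) (fun y => ?_)
      (fun y hy => ?_) hq1
    · obtain ⟨x, rfl⟩ := QuotientGroup.mk_surjective y
      exact ⟨x, rfl⟩
    · obtain ⟨x, rfl⟩ := QuotientGroup.mk_surjective y
      have hx : x ∈ C.subgroupOf Er := (QuotientGroup.eq_one_iff _).mp hy
      refine mem_center_iff.mpr fun z => ?_
      obtain ⟨w, rfl⟩ := QuotientGroup.mk_surjective z
      symm
      rw [← commutatorElement_eq_one_iff_mul_comm]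
      refine (QuotientGroup.eq_one_iff ⁅x, w⁆).mpr ?_
      rw [← pCoreOf_subgroupOf]
      exact hD Er hErW (commutator_mem_commutator ⟨x.2, hx⟩ w.2)
  · exact key _ Er (commutator_le_left' (h1.trans hEEr)) (normalizer_commutator_ge_left _ _) hErW
      (normalizer_commutator_ge_left _ _) hperf (by
        rw [comm_subgroupOf hErE h1, map_commutator, hE, hY Y h1 h2 h3])

end Cfsg.Agent.S2860
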