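import Cfsg.Statements.S2861
import Cfsg.Agent.Base
import Cfsg.Agent.H98.RankOne

set_option autoImplicit false
open Cfsg

namespace Cfsg.Agent.S2861

open Subgroup H98
open scoped commutatorElement


/-- Standing hypotheses: G a finite group, S a Sylow p-subgroup, Q a nontrivial large p-subgroup of G contained in S, M a subgroup containing S with the basic property (M ∈ 𝔐_G(S)); Y_M the largest p-reduced normal subgroup of M and M† = M·C_G(Y_M). Let L ∈ 𝔏_G(Y_M) (L ∈ 𝔏_G(Y_M): Y_M ≤ L; O_p(L) is the normal closure in L of Y_M ∩ O_p(L) and normalizes Y_M; L is Y_M-minimal of characteristic p with N_L(Y_M) its unique maximal subgroup over Y_M; and L/O_p(L) ≅ SL₂(q) with q = |Y_M : Y_M ∩ O_p(L)|, or p = 2 and L/O_p(L) is a Suzuki group Sz(q) or dihedral of order 2r, r an odd prime) and A = O_p(L). Then Y_M·A/A is the unique nontrivial elementary abelian normal p-subgroup of N_L(Y_M)/A. -/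
theorem result {G : Type*} [Group G] [Finite G] {p : ℕ} [Fact p.Prime] (S : Sylow p G) (Q : Subgroup G) (hQp : IsPGroup p ↥Q) (hQ1 : Q ≠ ⊥) (hQS : Q ≤ (S : Subgroup G)) (hQ : Cfsg.IsLarge Q) (M : Subgroup G) (hSM : (S : Subgroup G) ≤ M) (hM : Cfsg.IsInFrakM p M) (L : Subgroup G) (hL : Cfsg.IsInFrakL p M L) (NL : Subgroup G) (hNL : NL = L ⊓ Subgroup.normalizer (((Cfsg.largestPReducedOf p M) : Subgroup G) : Set G)) [hn : (((Cfsg.pCoreOf p L)).subgroupOf NL).Normal] : let Ybar : Subgroup (↥NL ⧸ ((Cfsg.pCoreOf p L)).subgroupOf NL) := (((Cfsg.largestPReducedOf p M)).subgroupOf NL).map (QuotientGroup.mk' (((Cfsg.pCoreOf p L)).subgroupOf NL)); Ybar ≠ ⊥ ∧ Ybar.Normal ∧ Cfsg.IsElementaryAbelian p Ybar ∧ ∀ (V : Subgroup (↥NL ⧸ ((Cfsg.pCoreOf p L)).subgroupOf NL)), V.Normal → Cfsg.IsElementaryAbelian p V → V ≠ ⊥ → V = Ybar := by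
  intro Ybar
  have q := frakL_qm hL
  have ro := frakL_ro hL
  have hY : Ybar = ((Cfsg.largestPReducedOf p M).subgroupOf NL).map (QuotientGroup.mk' _) := rfl
  clear_value Ybar
  generalize Cfsg.largestPReducedOf p M = Y at *
  have hle : NL ≤ L := hNL ▸ inf_le_left
  have hYN : Y ≤ NL := hNL ▸ q.um.le
  have hNY : NL ≤ normalizer (Y : Set G) := hNL ▸ inf_le_right
  haveI := normal_subgroupOf' hNY
  refine ⟨fun e => q.not_le fun y hy => ?_, hY ▸ Normal.map inferInstance _ (QuotientGroup.mk'_surjective _),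
    hY ▸ H12.ea_map (H12.ea_subgroupOf q.qp.ea _) _, fun V h1 h2 h3 => ?_⟩
  · rw [hY, Subgroup.map_eq_bot_iff, QuotientGroup.ker_mk'] at e
    exact e (show (⟨y, hYN hy⟩ : NL) ∈ _ from hy)
  set f := QuotientGroup.mk' (Cfsg.pCore p L)
  have hk : (f.comp (inclusion hle)).ker = (Cfsg.pCoreOf p L).subgroupOf NL := by
    ext x
    rw [MonoidHom.mem_ker, MonoidHom.comp_apply, ← MonoidHom.mem_ker, QuotientGroup.ker_mk',
      ← pCoreOf_subgroupOf]
    rfl
  let ι := QuotientGroup.lift _ (f.comp (inclusion hle)) hk.ge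
  have hι : Function.Injective ι := (QuotientGroup.injective_lift_iff _ _ _).mpr hk.symm
  have hc : ι.comp (QuotientGroup.mk' _) = f.comp (inclusion hle) := rfl
  have hr : (⊤ : Subgroup _).map ι = normalizer (SetLike.coe ((Y.subgroupOf L).map f)) := by
    rw [← map_top_of_surjective _ (QuotientGroup.mk'_surjective ((Cfsg.pCoreOf p L).subgroupOf NL)),
      map_map, hc, ← map_map, ← MonoidHom.range_eq_map, inclusion_range]
    refine le_antisymm (map_le_normalizer_map f (comap_le_normalizer_comap _ hNY)) fun x hx => ?_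
    obtain ⟨x, rfl⟩ := QuotientGroup.mk'_surjective _ x
    refine mem_map_of_mem f ?_
    have h4 : cj x (Y.subgroupOf L) ≤ Y.subgroupOf L ⊔ Cfsg.pCore p L := by
      rw [← QuotientGroup.ker_mk' (Cfsg.pCore p L), ← Subgroup.map_le_map_iff, map_cj]
      exact (cj_eq_self hx).le
    have h5 := map_mono (f := L.subtype) h4
    rw [map_cj, Subgroup.map_sup, map_subgroupOf_eq_of_le q.qp.le] at h5
    have h6 : cj (x : G) Y ≤ L ⊓ normalizer (Y : Set G) := (h5.trans (sup_le q.um.le
      (le_inf (pCoreOf_le L) q.qp.normY')))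
    rw [hNL]
    exact inv_mem_iff.mp (q.um.mem_of_le_cj q.gen (inv_mem x.2) (cj_le_iff.mp h6))
  refine map_injective hι ?_
  rw [hY, map_map, hc, ← map_map]
  have h4 : (Y.subgroupOf NL).map (inclusion hle) = Y.subgroupOf L :=
    map_injective L.subtype_injective (by
      rw [map_map, subtype_comp_inclusion, map_subgroupOf_eq_of_le hYN, map_subgroupOf_eq_of_le q.qp.le])
  rw [h4]
  exact ro.uniq _ (hr ▸ map_mono le_top) (hr ▸ map_le_normalizer_map ι (top_le_normalizer V))
    (H12.ea_map h2 _) fun e => h3 ((Subgroup.map_eq_bot_iff_of_injective V hι).mp e)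

end Cfsg.Agent.S2861
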