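import Cfsg.Statements.S2862
import Cfsg.Agent.Base
import Cfsg.Agent.H98.YMin
import Cfsg.Agent.H98.FrakM
import Cfsg.Agent.H83.BaerSuzuki

set_option autoImplicit false
open Cfsg

namespace Cfsg.Agent.S2862

open Subgroup H98
open scoped commutatorElement


/-- Standing hypotheses: G a finite group, S a Sylow p-subgroup, Q a nontrivial large p-subgroup of G contained in S, M a subgroup containing S with the basic property (M ∈ 𝔐_G(S)); Y_M the largest p-reduced normal subgroup of M and M† = M·C_G(Y_M). Suppose Y_M is char-p-tall and asymmetric in G, H ∈ ℌ_G(O_p(M)), and L is minimal among the subgroups of H containing Y_M with Y_M ≰ O_p(L). Then H = ⟨L, O_p(M)⟩ = ⟨hY_Mh⁻¹, O_p(M)⟩ for every h ∈ L outside N_L(Y_M); L is Y_M-minimal and of characteristic p, with N_L(Y_M) the unique maximal subgroup of L containing Y_M; [V, O^p(L)] ≠ 1 for every noncentral chief factor V/W of H inside O_p(H) (that is, O^p(L) does not act trivially on V/W); and the normal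 closure of O_p(L) ∩ Y_M in L lies in O_p(H). -/
theorem result {G : Type*} [Group G] [Finite G] {p : ℕ} [Fact p.Prime] (S : Sylow p G) (Q : Subgroup G) (hQp : IsPGroup p ↥Q) (hQ1 : Q ≠ ⊥) (hQS : Q ≤ (S : Subgroup G)) (hQ : Cfsg.IsLarge Q) (M : Subgroup G) (hSM : (S : Subgroup G) ≤ M) (hM : Cfsg.IsInFrakM p M) (htall : Cfsg.IsCharPTall p (Cfsg.largestPReducedOf p M)) (hasym : ¬ Cfsg.IsSymmetricIn (Cfsg.largestPReducedOf p M)) (H : Subgroup G) (hH : Cfsg.IsInFrakH p M H) (L : Subgroup G) (hLH : L ≤ H) (hYL : (Cfsg.largestPReducedOf p M) ≤ L) (hYO : ¬ (Cfsg.largestPReducedOf p M) ≤ (Cfsg.pCoreOf p L)) (hmin : ∀ L' : Subgroup G, L' ≤ L → (Cfsg.largestPReducedOf p M) ≤ L' → ¬ (Cfsg.largestPReducedOf p M) ≤ (Cfsg.pCoreOf p L') → L' = L) : (L ⊔ (Cfsg.pCoreOf p M) = H ∧ ∀ h ∈ L, h ∉ Subgroup.normalizer (((Cfsg.largestPReducedOf p M) : Subgroup G) : Set G) → (((Cfsg.largestPReducedOf p M) : Subgroup G).map (MulAut.conj (h : G)).toMonoidHom) ⊔ (Cfsg.pCoreOf p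 M) = H) ∧ (Cfsg.IsMinimalOver (((Cfsg.largestPReducedOf p M)).subgroupOf L) ∧ Subgroup.centralizer (Cfsg.pCore p ↥L : Set ↥L) ≤ Cfsg.pCore p ↥L ∧ L ⊓ Subgroup.normalizer (((Cfsg.largestPReducedOf p M) : Subgroup G) : Set G) < L ∧ ∀ X : Subgroup G, (Cfsg.largestPReducedOf p M) ≤ X → X < L → X ≤ L ⊓ Subgroup.normalizer (((Cfsg.largestPReducedOf p M) : Subgroup G) : Set G)) ∧ (∀ V W' : Subgroup G, V ≤ (Cfsg.pCoreOf p H) → H ≤ Subgroup.normalizer ((V : Subgroup G) : Set G) → H ≤ Subgroup.normalizer ((W' : Subgroup G) : Set G) → W' < V → (∀ Z' : Subgroup G, H ≤ Subgroup.normalizer ((Z' : Subgroup G) : Set G) → W' ≤ Z' → Z' ≤ V → Z' = W' ∨ Z' = V) → ¬ ⁅V, H⁆ ≤ W' → ¬ ⁅V, ((Cfsg.pResidual p ↥L).map (L).subtype)⁆ ≤ W') ∧ (Subgroup.normalClosure (((((Cfsg.pCoreOf p L) ⊓ (Cfsg.largestPReducedOf p M)).subgroupOf L : Subgroup ↥L)) : Set ↥L)).map L.subtype ≤ (Cfsg.pCoreOf p H) := by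
  have fm := fm_of_large S hQp hQ1 hQ hSM hM
  have hwc := fm.wc_of_asym hasym
  have hNO := fm.normalizer_O_le.trans fm.normalizer_Y.ge
  have hasy := fun g => FM.commutator_eq_bot hasym (g := g)
  have hea := (pred_Y (p := p) M).ea
  have hYO' := (pred_Y (p := p) M).le_pCoreOf
  have hOc := (pred_Y (p := p) M).red.pCoreOf_le
  obtain ⟨hch, hOH, hYH, hP⟩ := hH
  rw [← H98.charP_iff] at hch
  generalize Cfsg.largestPReducedOf p M = Y at *
  generalize Cfsg.pCoreOf p M = O at *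
  set R := Cfsg.pCoreOf p H
  have hYp := H12.ea_isPGroup hea
  have hHR : H ≤ normalizer (R : Set G) := self_le_normalizer_pCoreOf H
  have hRp : IsPGroup p R := isPGroup_pCoreOf H
  have hgen : ∀ X : Subgroup G, O ≤ X → X ≤ H → L ≤ X → X = H := fun X h1 h2 h3 => by
    by_contra hne
    exact hYO ((le_inf (hP X h1 (lt_of_le_of_ne h2 hne)) hYL).trans (pCoreOf_inf_le_of_le h3))
  have hgen' : ∀ g ∈ L, ∀ X : Subgroup G, cj g O ≤ X → X ≤ H → L ≤ X → X = H := fun g hg X h1 h2 h3 => by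
    rw [← cj_inj (g := g⁻¹), cj_eq_self_of_mem (inv_mem (hLH hg))]
    refine hgen _ (cj_le_iff.mp h1) (cj_le_of_le_of_mem h2 (inv_mem (hLH hg))) ?_
    rw [← cj_eq_self_of_mem (inv_mem hg)]
    exact cj_mono _ h3
  have hlt : ∀ X : Subgroup G, Y ≤ X → X < L → Y ≤ Cfsg.pCoreOf p X := fun X h1 h2 => by
    by_contra hc
    exact h2.ne (hmin X h2.le h1 hc)
  have hncl : ncl L Y = L := by
    by_contra hne
    exact hYO ((hlt _ (le_ncl L Y) (lt_of_le_of_ne (ncl_le_of_le hYL) hne)).trans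
      (pCoreOf_le_pCoreOf_of_normal (ncl_le_of_le hYL) (le_normalizer_ncl L Y)))
  have hres : ∀ g ∈ L, cj g Y ⊔ res p L = L := fun g hg =>
    sup_res_eq_of_ncl_eq (cj_le_of_le_of_mem hYL hg) (by rw [ncl_cj_of_mem hg, hncl])
  have hpg : ∀ x ∈ L, Y ⊔ cj x Y ≠ L → IsPGroup p ↥(Y ⊔ cj x Y) := fun x hx hne => by
    have h1 : Y ⊔ cj x Y < L := lt_of_le_of_ne (sup_le hYL (cj_le_of_le_of_mem hYL hx)) hne
    refine (isPGroup_pCoreOf (Y ⊔ cj x Y)).to_le (sup_le (hlt _ le_sup_left h1) ?_)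
    rw [cj_le_iff, cj_pCoreOf]
    refine hlt _ (cj_le_iff.mp le_sup_right) ?_
    rw [← cj_eq_self_of_mem (inv_mem hx), cj_lt_cj_iff]
    exact h1
  have hRO : ∀ g ∈ H, R ≤ normalizer (cj g O : Set G) := fun g hg =>
    (hwc.cj_of_mem (mem_top g)).pCoreOf_le_normalizer le_top (le_normalizer_of_le (cj_le_of_le_of_mem hOH hg))
  have hNO' : ∀ g : G, normalizer (cj g O : Set G) ≤ normalizer (cj g Y : Set G) := fun g => by
    rw [← cj_normalizer, ← cj_normalizer]
    exact cj_mono g hNO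
  have hOc' : ∀ g : G, cj g O ≤ centralizer (cj g Y : Set G) := fun g => by
    rw [← cj_centralizer]
    exact cj_mono g hOc
  obtain ⟨h, hh, e⟩ : ∃ h ∈ L, Y ⊔ cj h Y = L := by
    by_contra hc
    push Not at hc
    have := H83.baer_suzuki_subgroup (p := p) (Y.subgroupOf L) fun g =>
      isPGroup_of_map_injective L.subtype_injective (by
        rw [Subgroup.map_sup, map_cj, map_subgroupOf_eq_of_le hYL]
        exact hpg g g.2 (hc g g.2))
    refine hYO ((le_ncl L Y).trans (le_pCoreOf ?_ (ncl_le_of_le hYL) (le_normalizer_ncl L Y)))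
    rw [← map_normalClosure_subgroupOf hYL]
    exact this.map _
  have hOY : ∀ a ∈ L, ∀ b ∈ L, cj a Y ⊔ cj b Y = L → cj a O ⊔ cj b Y = H := fun a ha b hb e' =>
    hgen' a ha _ le_sup_left (sup_le (cj_le_of_le_of_mem hOH (hLH ha))
      (cj_le_of_le_of_mem (hYL.trans hLH) (hLH hb))) (e'.ge.trans (sup_le_sup_right (cj_mono a hYO') _))
  set Z := Y ⊓ centralizer (L : Set G)
  have hZH : Z ≤ centralizer (H : Set G) := by
    rw [← hOY 1 L.one_mem h hh (by rwa [cj_one]), cj_one, centralizer_sup]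
    exact le_inf (inf_le_left.trans (le_centralizer_iff.mp hOc))
      (inf_le_right.trans (centralizer_anti (cj_le_of_le_of_mem hYL hh)))
  have hHZ : H ≤ normalizer (Z : Set G) := le_normalizer_of_le_centralizer (le_centralizer_iff.mp hZH)
  have q : QP p Y L R := ⟨hYL, hea, hRp, hLH.trans hHR, fun l hl => (hRO l (hLH hl)).trans (hNO' l),
    le_pCoreOf (hYp.to_le inf_le_left) (inf_le_left.trans (hYL.trans hLH)) hHZ⟩
  have hRL : R ≤ normalizer (L : Set G) := by
    rw [← e]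
    exact le_normalizer_sup q.normY' (q.normY h hh)
  have hA : ∀ x ∈ L, cj x ((Y ⊓ R) ⊔ (cj h Y ⊓ R)) = (Y ⊓ R) ⊔ (cj h Y ⊓ R) := fun x hx =>
    cj_eq_self (q.le_normalizer_A (q.cj hh) e hx)
  have hAZ : ¬ (Y ⊓ R) ⊔ (cj h Y ⊓ R) ≤ Z := fun hle => hYO (by
    rw [pCoreOf_eq_self (hch.isPGroup_of_quadratic hLH (commutator_eq_bot_iff_le_centralizer.mpr
      (((q.commutator_le_A (q.cj hh) e).trans hle).trans inf_le_right)))]
    exact hYL)
  have hB : ∀ x ∈ L, Y ⊔ cj x Y ≠ L → x ∈ normalizer ((Y ⊓ R : Subgroup G) : Set G) := fun x hx hne => by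
    obtain ⟨a, ha, haZ, hfix⟩ := exists_fix_mod (hRp.to_le (sup_le inf_le_right inf_le_right)) (hpg x hx hne)
      ((sup_le hYL (cj_le_of_le_of_mem hYL hx)).trans (q.le_normalizer_A (q.cj hh) e)) hAZ
    have h1 := q.mem_of_fix (q.cj hh) e (q.cj_Z hh) (hres h hh) ha fun y hy => hfix y (mem_sup_left hy)
    have h2 : a ∈ cj x Y := by
      rw [mem_cj]
      refine (q.mem_of_fix (q.cj hh) e (q.cj_Z hh) (hres h hh) (by rwa [← mem_cj, hA x hx])
        fun y hy => ?_).1
      have h3 := conj_mem_of_mem_normalizer' (hHZ (hLH hx)) (hfix _ (mem_sup_right (conj_mem_cj hy)))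
      have h4 : x⁻¹ * ⁅a, x * y * x⁻¹⁆ * x = ⁅x⁻¹ * a * x, y⁆ := by
        simp only [commutatorElement_def]; group
      rwa [h4] at h3
    have hle : O ⊔ cj x O ≤ H := sup_le hOH (cj_le_of_le_of_mem hOH (hLH hx))
    have h3 : O ⊔ cj x O < H := lt_of_le_of_ne hle fun e' => haZ ⟨h1.1, centralizer_anti hLH (by
      rw [← e', centralizer_sup]
      exact ⟨le_centralizer_iff.mp hOc h1.1, le_centralizer_iff.mp (hOc' x) h2⟩)⟩
    have h4 : cj x Y ≤ Cfsg.pCoreOf p (O ⊔ cj x O) := by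
      rw [cj_le_iff, cj_pCoreOf]
      refine hP _ (cj_le_iff.mp le_sup_right) ?_
      rw [← cj_eq_self_of_mem (inv_mem (hLH hx)), cj_lt_cj_iff]
      exact h3
    have h5 := hasy x (h4.trans ((hwc.pCoreOf_le_normalizer le_top (le_normalizer_of_le le_sup_left)).trans hNO))
      ((hP _ le_sup_left h3).trans (((hwc.cj_of_mem (mem_top x)).pCoreOf_le_normalizer le_top
        (le_normalizer_of_le le_sup_right)).trans (hNO' x)))
    refine mem_normalizer_of_cj_le ?_
    conv_rhs => rw [← q.inf_centralizer_eq (q.cj hh) e (q.cj_Z hh), ← hA x hx]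
    exact le_inf (cj_mono x le_sup_left) ((cj_mono x inf_le_left).trans h5)
  have hRH : ∀ a ∈ L, ∀ b ∈ L, cj a Y ⊔ cj b Y = L →
      ⁅R, H⁆ ≤ (R ⊓ centralizer (cj a Y : Set G)) ⊔ (cj b Y ⊓ R) := fun a ha b hb e' => by
    have h1 : ⁅R, cj a O⁆ ≤ (R ⊓ centralizer (cj a Y : Set G)) ⊔ (cj b Y ⊓ R) :=
      le_sup_of_le_left (le_inf (commutator_le_left' ((cj_le_of_le_of_mem hOH (hLH ha)).trans hHR))
        ((commutator_le_right' (hRO a (hLH ha))).trans (hOc' a)))
    have h2 : ⁅R, cj b Y⁆ ≤ (R ⊓ centralizer (cj a Y : Set G)) ⊔ (cj b Y ⊓ R) :=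
      le_sup_of_le_right (q.cj hb).commutator_le
    have h3 : (R ⊓ centralizer (cj a Y : Set G)) ⊔ (cj b Y ⊓ R) ≤ R := sup_le inf_le_left inf_le_right
    conv_lhs => rw [← hOY a ha b hb e']
    exact commutator_sup_right_le (le_normalizer_of_commutator_le h1 h3)
      (le_normalizer_of_commutator_le h2 h3) h1 h2
  have hhB : h ∉ normalizer ((Y ⊓ R : Subgroup G) : Set G) := fun hm => hAZ (by
    rw [← q.cj_B hh, cj_eq_self hm, sup_idem]
    refine le_trans (le_inf inf_le_left ?_) (q.inf_le_Z (q.cj hh) e)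
    rw [← cj_eq_self hm]
    exact cj_mono h inf_le_left)
  have hL1 : L ⊓ normalizer ((Y ⊓ R : Subgroup G) : Set G) ≤ normalizer (Y : Set G) := by
    set B := Y ⊓ R
    set L₁ := L ⊓ normalizer (B : Set G)
    set C₂ := ⁅R, H⁆ ⊓ ((R ⊓ centralizer (L : Set G)) ⊔ B)
    have hL₁H : L₁ ≤ H := inf_le_left.trans hLH
    have hDH : ncl L₁ O ≤ H := ncl_le hOH (hL₁H.trans le_normalizer)
    have hR₁ : ⁅R, H⁆ ≤ R := commutator_le_left' hHR
    have hHR₁ : H ≤ normalizer ((⁅R, H⁆ : Subgroup G) : Set G) := normalizer_commutator_ge_right _ _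
    have hDB : ncl L₁ O ≤ centralizer (B : Set G) :=
      ncl_le_centralizer (hOc.trans (centralizer_anti inf_le_left)) inf_le_right
    have hRD : ⁅⁅R, H⁆, ncl L₁ O⁆ ≤ C₂ := by
      have h1 : ∀ k : L₁, ⁅⁅R, H⁆, cj (k : G) O⁆ ≤ C₂ := fun k => by
        have hk : (k : G) ∈ L := k.2.1
        have e' : cj h Y ⊔ cj k Y = L := by
          by_contra hne
          refine hhB ?_
          have h2 := hB (h⁻¹ * k) (mul_mem (inv_mem hh) hk) fun e'' => hne (by
            have := congrArg (cj h) e''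
            rwa [cj_sup, cj_cj, mul_inv_cancel_left, cj_eq_self_of_mem hh] at this)
          simpa using Subgroup.mul_mem _ k.2.2 (inv_mem h2)
        have h2 : ⁅⁅R, H⁆, cj (k : G) O⁆ ≤ ⁅R, H⁆ :=
          commutator_le_left' ((cj_le_of_le_of_mem hOH (hLH hk)).trans hHR₁)
        refine le_inf h2 ?_
        have h3 := le_inf (h2.trans (hRH h hh k hk e'))
          (((commutator_mono hR₁ le_rfl).trans (commutator_le_right' (hRO k (hLH hk)))).trans (hOc' k))
        rw [sup_inf_of_le_right (inf_le_left.trans (q.cj hk).normB)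
          (inf_le_left.trans (H12.ea_le_centralizer (q.cj hk).ea)), ← q.cj_B hk, cj_eq_self k.2.2,
          inf_assoc, ← centralizer_sup, e'] at h3
        exact h3
      exact commutator_iSup_right_le (fun k => le_normalizer_of_commutator_le (h1 k) inf_le_left) h1
    have hCL : ⁅C₂, L₁⁆ ≤ B := (commutator_mono inf_le_right le_rfl).trans
      (commutator_sup_left_le (inf_le_left.trans q.normB) le_normalizer (le_trans (le_of_eq
        (commutator_eq_bot_iff_le_centralizer.mpr (inf_le_right.trans (centralizer_anti inf_le_left))))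
        bot_le) (commutator_le_left' inf_le_right))
    have hE : ⁅ncl L₁ O, L₁⁆ ≤ ncl L₁ O := commutator_le_left' (le_normalizer_ncl _ _)
    have h3 : ⁅C₂, ⁅ncl L₁ O, L₁⁆⁆ ≤ B := by
      rw [commutator_comm]
      refine three_subgroups (le_normalizer_of_le_centralizer hDB) inf_le_right
        ((inf_le_left.trans hR₁).trans q.normB) ?_ ?_
      · rw [commutator_comm L₁]
        exact (commutator_mono hCL le_rfl).trans (commutator_le_left' (le_normalizer_of_le_centralizer hDB))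
      · exact (commutator_mono ((commutator_mono inf_le_left le_rfl).trans hRD) le_rfl).trans hCL
    have hEp : IsPGroup p (⁅ncl L₁ O, L₁⁆ : Subgroup G) := by
      refine hch.isPGroup_of_chain (hE.trans hDH)
        (fun i => match i with | 0 => R | 1 => ⁅R, H⁆ | 2 => C₂ | 3 => B | _ + 4 => ⊥) le_rfl
        (fun i => ?_) (n := 4) rfl
      rcases i with _ | _ | _ | _ | i
      · exact commutator_mono le_rfl (hE.trans hDH)
      · exact (commutator_mono le_rfl hE).trans hRD
      · exact h3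
      · exact le_of_eq (commutator_eq_bot_iff_le_centralizer.mpr (le_centralizer_iff.mp (hE.trans hDB)))
      · exact (commutator_bot_left _).le
    have hDp : IsPGroup p (ncl L₁ O) := by
      have h4 : ncl L₁ O ≤ O ⊔ ⁅ncl L₁ O, L₁⁆ := by
        conv_lhs => rw [ncl_eq_commutator_sup, sup_comm]
        exact sup_le_sup_left (commutator_mono (le_ncl _ _) le_rfl) _
      exact (IsPGroup.to_sup_of_normal_right' hwc.2 hEp
        ((le_ncl _ _).trans (normalizer_commutator_ge_left _ _))).to_le h4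
    exact (hwc.le_normalizer_of hDp (le_ncl _ _) le_top (le_normalizer_ncl _ _)).trans hNO
  have hmain : ∀ x ∈ L, x ∉ normalizer (Y : Set G) → Y ⊔ cj x Y = L := fun x hx hn => by
    by_contra hne
    exact hn (hL1 ⟨hx, hB x hx hne⟩)
  have um : UM Y L (L ⊓ normalizer (Y : Set G)) :=
    ⟨le_inf hYL le_normalizer, lt_of_le_of_ne inf_le_left fun e' =>
      hYO (le_pCoreOf hYp hYL (inf_eq_left.mp e')), fun X h1 h2 x hx => ⟨h2.le hx, by
        by_contra hn
        exact h2.not_ge ((hmain x (h2.le hx) hn).ge.trans (sup_le h1 (cj_le_of_le_of_mem h1 hx)))⟩⟩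
  refine ⟨⟨hgen _ le_sup_right (sup_le hLH hOH) le_sup_left, fun x hx hn => ?_⟩,
    ⟨(isMinimalOver_subgroupOf_iff hYL).mpr ⟨hncl, _, um⟩, H98.charP_iff.mp (hch.of_le_normalizer hLH hRL),
      um.lt, um.max⟩, fun V W hV hHV hHW hWV hchief hnc hc => hnc ?_, ?_⟩
  · have := hOY 1 L.one_mem x hx (by rw [cj_one, hmain x hx hn])
    rwa [cj_one, sup_comm] at this
  · have hH' : O ⊔ res p L = H := hgen _ le_sup_left (sup_le hOH ((res_le L).trans hLH)) (by
      have := hres 1 L.one_mem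
      rw [cj_one] at this
      exact this.ge.trans (sup_le_sup_right hYO' _))
    have h1 : ⁅V, O⁆ ⊔ W ≤ V := sup_le (commutator_le_left' (hOH.trans hHV)) hWV.le
    have h2 : ⁅V, O⁆ ≤ W := by
      rcases hchief (⁅V, O⁆ ⊔ W) (by
        rw [← hH']
        exact sup_le (le_normalizer_of_commutator_le le_sup_left h1)
          (le_normalizer_of_commutator_le (hc.trans le_sup_right) h1)) le_sup_right h1 with h3 | h3
      · exact le_sup_left.trans h3.le
      · exact absurd (le_of_le_commutator_sup (hRp.to_le hV) hwc.2 (hOH.trans hHV)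
          ((hV.trans (pCoreOf_le H)).trans hHW) (hOH.trans hHW) h3.ge) hWV.not_ge
    rw [← hH']
    exact commutator_sup_right_le (hOH.trans hHW) (((res_le L).trans hLH).trans hHW) h2 hc
  · rw [map_normalClosure_subgroupOf (inf_le_right.trans hYL)]
    refine ncl_le ?_ (hLH.trans hHR)
    have h1 : Cfsg.pCoreOf p L ≤ normalizer (cj h Y : Set G) := by
      rw [← cj_normalizer, ← cj_eq_self (self_le_normalizer_pCoreOf (p := p) L hh)]
      refine cj_mono h (le_sup_right.trans ((um.max (Y ⊔ Cfsg.pCoreOf p L) le_sup_left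
        (lt_of_le_of_ne (sup_le hYL (pCoreOf_le L)) fun e' => hYO ?_)).trans inf_le_right))
      rw [pCoreOf_eq_self (e' ▸ IsPGroup.to_sup_of_normal_right' hYp (isPGroup_pCoreOf L)
        (le_normalizer_pCoreOf_of_le hYL))]
      exact hYL
    have hHR₁ : H ≤ normalizer ((⁅R, H⁆ : Subgroup G) : Set G) := normalizer_commutator_ge_right _ _
    have h2 : Cfsg.pCoreOf p L ⊓ Y ≤ H ⊓ stab ⁅R, H⁆ Z := by
      refine le_inf (inf_le_right.trans (hYL.trans hLH)) (le_stab_iff.mpr
        ⟨(inf_le_right.trans (hYL.trans hLH)).trans hHZ, ?_⟩)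
      have h3 := hRH 1 L.one_mem h hh (by rwa [cj_one])
      rw [cj_one] at h3
      refine (commutator_mono h3 le_rfl).trans (commutator_sup_left_le
        ((inf_le_left.trans (pCoreOf_le H)).trans hHZ) ((inf_le_right.trans (pCoreOf_le H)).trans hHZ)
        (le_trans (le_of_eq (commutator_eq_bot_iff_le_centralizer.mpr
          (inf_le_right.trans (centralizer_anti inf_le_right)))) bot_le) ?_)
      refine le_trans (le_inf ?_ ?_) (q.inf_le_Z (q.cj hh) e)
      · exact (commutator_mono inf_le_right inf_le_right).trans (q.commutator_le.trans inf_le_left)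
      · exact (commutator_mono inf_le_left inf_le_left).trans (commutator_le_left' h1)
    refine h2.trans (le_pCoreOf ?_ inf_le_left (le_normalizer_inf le_normalizer (le_normalizer_stab hHR₁ hHZ)))
    refine hch.isPGroup_of_chain inf_le_left
      (fun i => match i with | 0 => R | 1 => ⁅R, H⁆ | 2 => Z | _ + 3 => ⊥) le_rfl (fun i => ?_) (n := 3) rfl
    rcases i with _ | _ | _ | i
    · exact commutator_mono le_rfl inf_le_left
    · exact (le_stab_iff.mp inf_le_right).2
    · exact le_of_eq (commutator_eq_bot_iff_le_centralizer.mpr (hZH.trans (centralizer_anti inf_le_left)))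
    · exact (commutator_bot_left _).le

end Cfsg.Agent.S2862
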