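import Cfsg.Statements.S2863
import Cfsg.Agent.Base
import Cfsg.Agent.H98.RankOne

set_option autoImplicit false
open Cfsg

namespace Cfsg.Agent.S2863

open Subgroup H98
open scoped commutatorElement

theorem comm_mem_of_mem_zpowers {G : Type*} [Group G] {Z : Subgroup G} {h a y : G}
    (ha : a ∈ normalizer (Z : Set G)) (hc : ⁅h, a⁆ ∈ Z) (hy : y ∈ zpowers a) : ⁅h, y⁆ ∈ Z := by
  let K : Subgroup G :=
    { carrier := {y | y ∈ normalizer (Z : Set G) ∧ ⁅h, y⁆ ∈ Z}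
      one_mem' := ⟨one_mem _, by simp⟩
      mul_mem' := fun {x y} hx hy => ⟨mul_mem hx.1 hy.1, by
        have : ⁅h, x * y⁆ = ⁅h, x⁆ * (x * ⁅h, y⁆ * x⁻¹) := by simp only [commutatorElement_def]; group
        rw [this]
        exact mul_mem hx.2 (conj_mem_of_mem_normalizer hx.1 hy.2)⟩
      inv_mem' := fun {x} hx => ⟨inv_mem hx.1, by
        have : ⁅h, x⁻¹⁆ = x⁻¹ * ⁅h, x⁆⁻¹ * x := by simp only [commutatorElement_def]; group
        rw [this]
        exact conj_mem_of_mem_normalizer' hx.1 (inv_mem hx.2)⟩ }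
  exact (zpowers_le.mpr (show a ∈ K from ⟨ha, hc⟩) hy).2


/-- Standing hypotheses: G a finite group, S a Sylow p-subgroup, Q a nontrivial large p-subgroup of G contained in S, M a subgroup containing S with the basic property (M ∈ 𝔐_G(S)); Y_M the largest p-reduced normal subgroup of M and M† = M·C_G(Y_M). Let L ∈ 𝔏_G(Y_M) (L ∈ 𝔏_G(Y_M): Y_M ≤ L; O_p(L) is the normal closure in L of Y_M ∩ O_p(L) and normalizes Y_M; L is Y_M-minimal of characteristic p with N_L(Y_M) its unique maximal subgroup over Y_M; and L/O_p(L) ≅ SL₂(q) with q = |Y_M : Y_M ∩ O_p(L)|, or p = 2 and L/O_p(L) is a Suzuki group Sz(q) or dihedral of order 2r, r an odd prime), A = O_p(L), and C = C_{Y_M}(L). Then every element h of L whose order is not a power of p acts without nontrivial fixed points on A/C: for a ∈ A, hah⁻¹a⁻¹ ∈ C implies a ∈ C. -/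
theorem result {G : Type*} [Group G] [Finite G] {p : ℕ} [Fact p.Prime] (S : Sylow p G) (Q : Subgroup G) (hQp : IsPGroup p ↥Q) (hQ1 : Q ≠ ⊥) (hQS : Q ≤ (S : Subgroup G)) (hQ : Cfsg.IsLarge Q) (M : Subgroup G) (hSM : (S : Subgroup G) ≤ M) (hM : Cfsg.IsInFrakM p M) (L : Subgroup G) (hL : Cfsg.IsInFrakL p M L) (h : G) (hh : h ∈ L) (hnp : ¬ ∃ k : ℕ, orderOf h = p ^ k) : ∀ a ∈ (Cfsg.pCoreOf p L), h * a * h⁻¹ * a⁻¹ ∈ (Cfsg.largestPReducedOf p M) ⊓ Subgroup.centralizer ((L : Subgroup G) : Set G) → a ∈ (Cfsg.largestPReducedOf p M) ⊓ Subgroup.centralizer ((L : Subgroup G) : Set G) := by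
  intro a ha hc
  have q := frakL_qm hL
  have hA := frakL_ncl hL
  have ro := frakL_ro hL
  generalize Cfsg.largestPReducedOf p M = Y at *
  set f := QuotientGroup.mk' (Cfsg.pCore p L)
  have hfs : Function.Surjective f := QuotientGroup.mk'_surjective _
  have hker : ∀ x : L, f x = 1 ↔ (x : G) ∈ Cfsg.pCoreOf p L := fun x => by
    rw [← mem_subgroupOf, pCoreOf_subgroupOf]
    exact QuotientGroup.eq_one_iff x
  have hO := isPGroup_iff_forall.mp (isPGroup_pCoreOf (p := p) L)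
  have hpe : ∀ x : L, (∃ k : ℕ, f x ^ p ^ k = 1) → ∃ k : ℕ, (x : G) ^ p ^ k = 1 := fun x ⟨k, hk⟩ => by
    obtain ⟨j, hj⟩ := hO _ ((hker _).mp (by rwa [map_pow]))
    exact ⟨k + j, by rw [pow_add, pow_mul]; exact hj⟩
  obtain ⟨n, u, y₁, y₂, g₁, g₂, a1, a2, a3, a4, a5, a6, a7, a8⟩ := ro.spl (f ⟨h, hh⟩) fun hk => hnp (by
    obtain ⟨k, hk⟩ := hpe _ hk
    obtain ⟨j, -, hj⟩ := (Nat.dvd_prime_pow Fact.out).mp (orderOf_dvd_of_pow_eq_one hk)
    exact ⟨j, hj⟩)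
  obtain ⟨u, rfl⟩ := hfs u
  obtain ⟨g₁, rfl⟩ := hfs g₁
  obtain ⟨g₂, rfl⟩ := hfs g₂
  rw [← map_cj] at a4 a5
  obtain ⟨y₁, b1, rfl⟩ := a4
  obtain ⟨y₂, b2, rfl⟩ := a5
  have c1 : (y₁ : G) ∈ cj (g₁ : G) Y := mem_cj.mpr (mem_cj (G := L).mp b1)
  have c2 : (y₂ : G) ∈ cj (g₂ : G) Y := mem_cj.mpr (mem_cj (G := L).mp b2)
  have hne : cj (g₁ : G) Y ≠ cj (g₂ : G) Y := fun e => a3 (by
    obtain ⟨k, hk⟩ := a2
    have h1 : (y₁ * y₂) ^ p = 1 := Subtype.ext ((q.qp.cj g₁.2).ea.2 _ (mul_mem c1 (e ▸ c2)))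
    have h2 : (f ⟨h, hh⟩ ^ n * f u) ^ p ^ (k + 1) = 1 := by
      rw [a8, ← map_mul, ← map_pow, pow_succ', pow_mul, h1, one_pow, map_one]
    rw [a1.symm.mul_pow, pow_succ p k, pow_mul (f u), hk, one_pow, mul_one] at h2
    exact ⟨k + 1, h2⟩)
  set Z := Y ⊓ centralizer (L : Set G)
  have hZ : L ≤ normalizer (Z : Set G) := le_normalizer_of_le_centralizer (le_centralizer_iff.mp inf_le_right)
  have hOO : ⁅Cfsg.pCoreOf p L, Cfsg.pCoreOf p L⁆ ≤ Z := by
    obtain ⟨g, hg, hg'⟩ := SetLike.exists_of_lt q.um.lt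
    have e := q.um.sup_cj_eq q.gen hg hg'
    obtain ⟨h1, h2⟩ := q.qp.commutator_A (q.qp.cj hg) e (q.qp.cj_Z hg)
    rw [← q.ncl_eq hg fun e' => hg' ⟨hg, cj_eq_self_iff.mp e'.symm⟩, hA] at h1
    exact h1.le.trans h2
  set D := zpowers (h ^ n) ⊔ Cfsg.pCoreOf p L
  have huD : (u : G) ∈ normalizer (D : Set G) := mem_normalizer_of_cj_le (by
    rw [cj_sup, cj_eq_self (q.qp.norm u.2), cj_zpowers]
    refine sup_le (zpowers_le.mpr ?_) le_sup_right
    have h1 := (hker ⁅u, ⟨h, hh⟩ ^ n⁆).mp (by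
      rw [map_commutatorElement, map_pow]; exact commutatorElement_eq_one_iff_commute.mpr a1)
    have h2 : (u : G) * h ^ n * (u : G)⁻¹ = ⁅(u : G), h ^ n⁆ * h ^ n := by
      rw [commutatorElement_def]; group
    rw [h2]
    exact mul_mem (mem_sup_right h1) (mem_sup_left (mem_zpowers _)))
  by_contra haZ
  obtain ⟨k, hk⟩ := hpe u a2
  obtain ⟨b, hb, hbZ, hfix⟩ := exists_fix_mod (A := Cfsg.pCoreOf p L ⊓ stab D Z) (Z := Z)
    (isPGroup_pCoreOf L).to_inf_left (isPGroup_zpowers hk)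
    (le_normalizer_inf (zpowers_le.mpr (q.qp.norm u.2))
      (le_normalizer_stab (zpowers_le.mpr huD) (zpowers_le.mpr (hZ u.2)))) fun hle => haZ (hle ⟨ha, zpowers_le.mp (by
      rw [le_stab_iff]
      refine ⟨zpowers_le.mpr (hZ (pCoreOf_le L ha)), commutator_sup_left_le
        (zpowers_le.mpr (hZ (pow_mem hh n))) ((pCoreOf_le L).trans hZ) ?_
        ((commutator_mono le_rfl (zpowers_le.mpr ha)).trans hOO)⟩
      refine (commutator_mono (zpowers_le.mpr (pow_mem (mem_zpowers h) n)) le_rfl).trans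
        (commutator_zpowers_le (hZ hh) fun y hy => ?_)
      exact comm_mem_of_mem_zpowers (hZ (pCoreOf_le L ha)) hc hy)⟩)
  refine hbZ (q.mem_of_commutator_mul_mem g₁.2 g₂.2 hne c1 c2 (fun e => a6 ((hker _).mpr e))
    (fun e => a7 ((hker _).mpr e)) (hA.ge hb.1) ?_)
  have h1 : D ⊔ zpowers (u : G) ≤ stab (zpowers b) Z := by
    have hbn := hZ (pCoreOf_le L hb.1)
    refine sup_le (le_stab_iff.mpr ⟨(sup_le (zpowers_le.mpr (pow_mem hh n)) (pCoreOf_le L)).trans hZ, ?_⟩)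
      (le_stab_iff.mpr ⟨zpowers_le.mpr (hZ u.2), commutator_zpowers_le hbn hfix⟩)
    rw [commutator_comm]
    exact (le_stab_iff.mp (zpowers_le.mpr hb.2)).2
  refine (h1 ?_).2 b (mem_zpowers b)
  have h2 := (hker ((⟨h, hh⟩ ^ n * u)⁻¹ * (y₁ * y₂))).mp (by
    rw [map_mul, map_inv, map_mul, map_pow, a8, map_mul, inv_mul_cancel])
  have h3 : (y₁ : G) * y₂ = h ^ n * u * ((h ^ n * u)⁻¹ * (y₁ * y₂)) := by group
  rw [h3]
  exact mul_mem (mul_mem (mem_sup_left (mem_sup_left (mem_zpowers _))) (mem_sup_right (mem_zpowers _)))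
    (mem_sup_left (mem_sup_right h2))

end Cfsg.Agent.S2863
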