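import Cfsg.Statements.S2864
import Cfsg.Agent.Base
import Cfsg.Agent.H98.FrakM

set_option autoImplicit false
open Cfsg

namespace Cfsg.Agent.S2864

open Subgroup H98
open scoped commutatorElement


/-- Standing hypotheses: G a finite group, S a Sylow p-subgroup, Q a nontrivial large p-subgroup of G contained in S, M a subgroup containing S with the basic property (M ∈ 𝔐_G(S)); Y_M the largest p-reduced normal subgroup of M and M† = M·C_G(Y_M). Let I be a nontrivial normal p-subgroup of M and Y ≤ O_p(M†); let L be a subgroup of G containing Y and A a normal p-subgroup of L with I ≤ A ≤ M. If [Y, A] ≤ [I, A], then Y ≤ O_p(L). -/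
theorem result {G : Type*} [Group G] [Finite G] {p : ℕ} [Fact p.Prime] (S : Sylow p G) (Q : Subgroup G) (hQp : IsPGroup p ↥Q) (hQ1 : Q ≠ ⊥) (hQS : Q ≤ (S : Subgroup G)) (hQ : Cfsg.IsLarge Q) (M : Subgroup G) (hSM : (S : Subgroup G) ≤ M) (hM : Cfsg.IsInFrakM p M) (I : Subgroup G) (hI1 : I ≠ ⊥) (hIp : IsPGroup p ↥I) (hIM : I ≤ M ∧ M ≤ Subgroup.normalizer ((I : Subgroup G) : Set G)) (Y : Subgroup G) (hY : Y ≤ (Cfsg.pCoreOf p (M ⊔ Subgroup.centralizer (((Cfsg.largestPReducedOf p M) : Subgroup G) : Set G)))) (L : Subgroup G) (hYL : Y ≤ L) (A : Subgroup G) (hAp : IsPGroup p ↥A) (hAL : A ≤ L ∧ L ≤ Subgroup.normalizer ((A : Subgroup G) : Set G)) (hIA : I ≤ A) (hAM : A ≤ M) (hc : ⁅Y, A⁆ ≤ ⁅I, A⁆) : Y ≤ (Cfsg.pCoreOf p L) := by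
  have h := fm_of_large S hQp hQ1 hQ hSM hM
  have hYp := (isPGroup_pCoreOf _).to_le hY
  obtain ⟨W, ⟨w1, w2⟩, hW⟩ := H2.exists_minimal_subgroup (fun W => Y ≤ W ∧ SubN W L) ⟨L, hYL, SubN.refl L⟩
  have e : Y ⊔ res p W = W :=
    hW _ ⟨le_sup_left, (subN_of_res_le le_sup_right (sup_le w1 (res_le W))).trans w2⟩ (sup_le w1 (res_le W))
  have hA' := le_normalizer_commutator hAL.2 hAL.2
  have h1 : W ≤ stab A ⁅A, A⁆ := by
    have a : ncl L Y ≤ stab A ⁅A, A⁆ := ncl_le (le_stab_iff.mpr ⟨hYL.trans hA', by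
      rw [commutator_comm]; exact hc.trans (commutator_mono hIA le_rfl)⟩) (le_normalizer_stab hAL.2 hA')
    have b := hW (W ⊓ ncl L Y) ⟨le_inf w1 (le_ncl L Y),
      w2.inf (SubN.of_normal (ncl_le_of_le hYL) (le_normalizer_ncl L Y))⟩ inf_le_left
    exact (inf_eq_left.mp b).trans a
  have h2 := res_le_centralizer_of_commutator_le hAp (w2.le.trans hAL.2) (le_stab_iff.mp h1).2
  have h3 : W ≤ dag p M := by
    rw [← e]
    exact sup_le (hY.trans (pCoreOf_le _)) (((h2.trans (centralizer_anti hIA)).trans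
      (centralizer_le_normalizer _)).trans (h.normalizer_le_dag hIp hI1 hIM.2))
  exact ((le_inf hY w1).trans (pCoreOf_inf_le_of_le h3)).trans w2.pCoreOf_le

end Cfsg.Agent.S2864
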