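import Cfsg.Statements.S2872
import Cfsg.Agent.H12.ExtTransfer
import Cfsg.Agent.H98.Baumann
import Cfsg.Agent.S0012

set_option autoImplicit false
open Cfsg

namespace Cfsg.Agent.S2872

open Subgroup H98

/-- Let S be a Sylow 2-subgroup of the finite group G. Then G has a proper normal subgroup of 2-power index (O²(G) ≠ G), or Ω₁(Z(S)) is contained in the Frattini subgroup of S, or N_G(S) acts nontrivially on Ω₁(Z(S)) by conjugation. -/
theorem result {G : Type*} [Group G] [Finite G] (S : Sylow 2 G) : Cfsg.pResidual 2 G ≠ ⊤ ∨ Cfsg.omegaOne 2 ((S : Subgroup G) ⊓ Subgroup.centralizer ((S : Subgroup G) : Set G)) ≤ (frattini ↥(S : Subgroup G)).map (S : Subgroup G).subtype ∨ ∃ g ∈ Subgroup.normalizer ((S : Subgroup G) : Set G), ∃ z ∈ Cfsg.omegaOne 2 ((S : Subgroup G) ⊓ Subgroup.centralizer ((S : Subgroup G) : Set G)), g * z * g⁻¹ ≠ z := by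
  by_contra h
  simp only [not_or, not_not, not_exists, not_and, SetLike.not_le_iff_exists] at h
  obtain ⟨h1, ⟨y, hy, hy'⟩, h2⟩ := h
  obtain ⟨h3, h4, h5⟩ := mem_oz.1 hy
  refine H12.not_mem_res_of_extremal (isSyl_sylow S) (R := S) ?_ (by rwa [← sq]) h3 hy' h3 S.isPGroup' (fun r hr => h4 r hr)
    (fun a ha => ?_) (by rw [res_top, h1]; trivial)
  · rw [← map_subtype_commutator]
    exact map_mono (Cfsg.Agent.S0012.result 2 S.isPGroup').1
  · rw [h2 a (mem_normalizer_of_cj_le ha) y hy, ← sq, h5]; exact one_mem _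

end Cfsg.Agent.S2872
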