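import Cfsg.Statements.S2873
import Cfsg.Agent.Base
import Cfsg.Agent.H83.Dihedral
import Cfsg.Agent.H2.Core

set_option autoImplicit false
open Cfsg

namespace Cfsg.Agent.S2873

open DihedralGroup Subgroup

theorem conj_of_odd {G : Type*} [Group G] {s t : G} (hs : s * s = 1) (ht : t * t = 1)
    (h : Odd (orderOf (s * t))) : ∃ g : G, g * t * g⁻¹ = s := by
  obtain ⟨k, hk⟩ := h
  have i : t * (s * t) * t⁻¹ = (s * t)⁻¹ := by
    rw [mul_inv_rev, inv_eq_of_mul_eq_one_right hs, inv_eq_of_mul_eq_one_right ht, mul_assoc,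
      mul_assoc, ht, mul_one]
  refine ⟨(s * t) ^ ((k + 1 : ℕ) : ℤ), ?_⟩
  have e : (s * t) ^ (2 * k + 1) = 1 := hk ▸ pow_orderOf_eq_one _
  rw [mul_assoc, ← zpow_neg, H83.mul_zpow_of_inverts i, neg_neg, ← mul_assoc, zpow_natCast,
    ← pow_add, show k + 1 + (k + 1) = 2 * k + 1 + 1 by ring, pow_succ, e, one_mul, mul_assoc, ht,
    mul_one]

/-- Let G be a finite group and r an odd prime such that G ⧸ O₂(G) is dihedral of order 2r, and let R be a Sylow r-subgroup of G with C_{O₂(G)}(R) = 1. Then N_G(R) is dihedral of order 2r; for any involution a of N_G(R), every involution of G outside O₂(G) is conjugate to a; and |C_{O₂(G)}(a)|² = |O₂(G)|. -/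
theorem result {G : Type*} [Group G] [Finite G] {r : ℕ} [Fact r.Prime] (hr : r ≠ 2) [hN : (Cfsg.pCore 2 G).Normal] (hquot : Nonempty (G ⧸ Cfsg.pCore 2 G ≃* DihedralGroup r)) (R : Sylow r G) (hC : Cfsg.pCore 2 G ⊓ Subgroup.centralizer ((R : Subgroup G) : Set G) = ⊥) : Nonempty (↥(Subgroup.normalizer ((R : Subgroup G) : Set G)) ≃* DihedralGroup r) ∧ ∀ a : G, a ∈ Subgroup.normalizer ((R : Subgroup G) : Set G) → orderOf a = 2 → (∀ b : G, orderOf b = 2 → b ∉ Cfsg.pCore 2 G → ∃ g : G, g * a * g⁻¹ = b) ∧ Nat.card ↥(Cfsg.pCore 2 G ⊓ Subgroup.centralizer ({a} : Set G)) ^ 2 = Nat.card ↥(Cfsg.pCore 2 G) := by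
  have hp : r.Prime := Fact.out
  have ro : Odd r := hp.odd_of_ne_two hr
  obtain ⟨e⟩ := hquot
  set Q := pCore 2 G
  let π : G →* DihedralGroup r := e.toMonoidHom.comp (QuotientGroup.mk' Q)
  have sj : Function.Surjective π := e.surjective.comp (QuotientGroup.mk'_surjective Q)
  have kπ : ∀ g, π g = 1 ↔ g ∈ Q := fun g =>
    (map_eq_one_iff e e.injective).trans (QuotientGroup.eq_one_iff g)
  have two : ∀ i : ZMod r, i + i = 0 → i = 0 := fun i h => by
    rw [← two_mul, mul_eq_zero] at h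
    refine h.resolve_left fun k => hr ?_
    exact (Nat.prime_dvd_prime_iff_eq hp Nat.prime_two).1
      ((ZMod.natCast_eq_zero_iff 2 r).1 (by exact_mod_cast k))
  have QR : ∀ x ∈ (R : Subgroup G), x ∈ Q → x = 1 := fun x h1 h2 =>
    disjoint_def.1 (IsPGroup.disjoint_of_ne r 2 hr _ _ R.isPGroup' (H2.pCore_isPGroup 2 G)) h1 h2
  have dG : r ∣ Nat.card G := ((dvd_mul_left r 2).trans (nat_card (n := r)).symm.dvd).trans
    (card_dvd_of_surjective π sj)
  have cR : Nat.card R = r := by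
    obtain ⟨k, hk⟩ := IsPGroup.iff_card.1 R.isPGroup'
    have h1 := card_dvd_of_injective (π.comp (R : Subgroup G).subtype)
      ((injective_iff_map_eq_one _).2 fun x h => Subtype.ext (QR x x.2 ((kπ x).1 h)))
    rw [hk, nat_card] at h1
    have h2 := (Nat.pow_dvd_pow_iff_le_right hp.one_lt).1 (((Nat.Coprime.pow_left k
      ((Nat.coprime_primes hp Nat.prime_two).2 hr)).dvd_of_dvd_mul_left h1).trans
      (pow_one r).symm.dvd)
    have h3 : k ≠ 0 := by
      rintro rfl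
      exact R.ne_bot_of_dvd_card dG (eq_bot_of_card_eq _ hk)
    rw [hk, show k = 1 by omega, pow_one]
  have K : ∀ y i, i ≠ 0 → π y = .r i → ∀ q ∈ Q, q * y = y * q → q = 1 := by
    intro y i i0 hy q hq hc
    have h1 : r ∣ orderOf y := by
      have := orderOf_map_dvd π y
      rwa [hy, orderOf_eq_prime (p := r) (by rw [r_pow, ZMod.natCast_self, mul_zero, r_zero])
        fun k => i0 (DihedralGroup.r.inj k)] at this
    have h2 := orderOf_pow_orderOf_div (orderOf_pos y).ne' h1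
    have h3 : IsPGroup r (zpowers (y ^ (orderOf y / r))) :=
      IsPGroup.of_card (by rw [Nat.card_zpowers, h2, pow_one])
    obtain ⟨S, hS⟩ := h3.exists_le_sylow
    obtain ⟨g, rfl⟩ := MulAction.exists_smul_eq G R S
    have h4 := eq_of_le_of_card_ge hS (by
      rw [Nat.card_zpowers, h2]
      exact ((Nat.card_congr (R.equivSMul g).toEquiv).symm.trans cR).le)
    have h5 : g⁻¹ * q * g⁻¹⁻¹ ∈ Q ⊓ centralizer ((R : Subgroup G) : Set G) :=
      ⟨hN.conj_mem q hq _, fun x hx => by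
        obtain ⟨k, hk⟩ := h4.ge (show g * x * g⁻¹ ∈ _ from ⟨x, hx, rfl⟩)
        have c : Commute q (g * x * g⁻¹) := hk ▸ ((show Commute q y from hc).pow_right _).zpow_right _
        calc _ = g⁻¹ * (g * x * g⁻¹ * q) * g := by group
          _ = _ := by rw [← c.eq]; group⟩
    rw [hC, mem_bot] at h5
    exact conj_eq_one_iff.1 h5
  have NQ : ∀ n ∈ normalizer ((R : Subgroup G) : Set G), n ∈ Q → n = 1 := fun n hn hq =>
    mem_bot.1 (hC ▸ ⟨hq, fun x hx => by
      have := QR (x * (n * x⁻¹ * n⁻¹)) (mul_mem hx ((mem_normalizer_iff.1 hn _).1 (inv_mem hx)))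
        (by simpa only [mul_assoc] using mul_mem (hN.conj_mem n hq x) (inv_mem hq))
      calc x * n = x * (n * x⁻¹ * n⁻¹) * (n * x) := by group
        _ = _ := by rw [this, one_mul]⟩ : n ∈ (⊥ : Subgroup G))
  have Rr : ∀ x ∈ (R : Subgroup G), ∃ i, π x = .r i := fun x hx => by
    cases h : π x with
    | r i => exact ⟨i, rfl⟩
    | sr i =>
      have := (orderOf_map_dvd π x).trans ((R : Subgroup G).orderOf_dvd_natCard hx)
      rw [h, orderOf_sr, cR] at this
      exact absurd this ro.not_two_dvd_nat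
  obtain ⟨⟨x, hx⟩, x1⟩ := ne_bot_iff_exists_ne_one.1 (R.ne_bot_of_dvd_card dG)
  obtain ⟨k, hk⟩ := Rr x hx
  have k0 : k ≠ 0 := fun h => x1 (Subtype.ext (QR x hx ((kπ x).1 (by rw [hk, h, r_zero]))))
  have sN : ∀ d, ∃ n ∈ normalizer ((R : Subgroup G) : Set G), π n = d := fun d => by
    let D : Subgroup (DihedralGroup r) :=
      { carrier := Set.range DihedralGroup.r
        mul_mem' := by rintro _ _ ⟨i, rfl⟩ ⟨j, rfl⟩; exact ⟨_, rfl⟩
        one_mem' := ⟨0, rfl⟩
        inv_mem' := by rintro _ ⟨i, rfl⟩; exact ⟨_, rfl⟩ }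
    have : D.Normal := ⟨by rintro _ ⟨i, rfl⟩ (j | j) <;> exact ⟨_, rfl⟩⟩
    have h1 := Sylow.normalizer_sup_eq_top' (N := D.comap π) R fun y hy => (Rr y hy).imp
      fun _ => Eq.symm
    obtain ⟨g, rfl⟩ := sj d
    obtain ⟨n, hn, m, ⟨j, hj⟩, rfl⟩ := mem_sup_of_normal_right.1 (h1.ge (mem_top g))
    refine ⟨n * x ^ (k⁻¹ * j).val, mul_mem hn (le_normalizer (pow_mem hx _)), ?_⟩
    rw [map_mul, map_mul, map_pow, hk, r_pow, ZMod.natCast_zmod_val, mul_inv_cancel_left₀ k0, hj]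
  have iv : ∀ b, orderOf b = 2 → b ∉ Q → b * b = 1 ∧ ∃ i, π b = sr i := fun b hb hq => by
    have b2 : b * b = 1 := by rw [← sq, ← hb, pow_orderOf_eq_one]
    refine ⟨b2, ?_⟩
    cases h : π b with
    | r i =>
      have := congrArg π b2
      rw [map_mul, h, map_one] at this
      exact absurd ((kπ b).1 (by rw [h, two i (DihedralGroup.r.inj this), r_zero])) hq
    | sr i => exact ⟨i, rfl⟩
  have cj : ∀ b c i j, b * b = 1 → c * c = 1 → π b = sr i → π c = sr j → i ≠ j →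
      ∃ g, g * c * g⁻¹ = b := fun b c i j b2 c2 hb hc ij => conj_of_odd b2 c2 (by
    have hy : π (b * c) = .r (j - i) := by rw [map_mul, hb, hc, sr_mul_sr]
    rw [← Nat.not_even_iff_odd, even_iff_two_dvd]
    intro d
    have h2 := orderOf_pow_orderOf_div (orderOf_pos (b * c)).ne' d
    have h3 := K _ _ (sub_ne_zero.2 ij.symm) hy ((b * c) ^ (orderOf (b * c) / 2)) (by
      by_contra n
      obtain ⟨-, l, hl⟩ := iv _ h2 n
      rw [map_pow, hy, r_pow] at hl
      cases hl) ((Commute.refl _).pow_left _)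
    rw [h3, orderOf_one] at h2
    omega)
  have xs : ∀ b i, π b = sr i → π (x * b * x⁻¹) = sr (i - k - k) := fun b i h => by
    rw [map_mul, map_mul, map_inv, hk, h, inv_r, r_mul_sr, sr_mul_r, ← sub_eq_add_neg]
  have xn : ∀ i : ZMod r, i ≠ i - k - k := fun i h => k0 (two k (by linear_combination h))
  have xq : ∀ b : G, b * b = 1 → x * b * x⁻¹ * (x * b * x⁻¹) = 1 := fun b h => by
    rw [conj_mul, h, mul_one, mul_inv_cancel]
  refine ⟨⟨MulEquiv.ofBijective (π.comp (normalizer ((R : Subgroup G) : Set G)).subtype)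
    ⟨(injective_iff_map_eq_one _).2 fun n h => Subtype.ext (NQ n n.2 ((kπ n).1 h)), fun d =>
      let ⟨n, hn, h⟩ := sN d; ⟨⟨n, hn⟩, h⟩⟩⟩, fun a ha a2 => ?_⟩
  obtain ⟨aa, i, hi⟩ := iv a a2 fun h => by
    rw [NQ a ha h, orderOf_one] at a2
    omega
  refine ⟨fun b b2 hb => ?_, ?_⟩
  · obtain ⟨bb, j, hj⟩ := iv b b2 hb
    by_cases ij : j = i
    · obtain ⟨g, hg⟩ := cj b _ j _ bb (xq a aa) hj (xs a i hi) (ij ▸ xn j)
      exact ⟨g * x, by rw [← hg]; group⟩
    · exact cj b a j i bb aa hj hi ij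
  set C := Q ⊓ centralizer ({a} : Set G)
  have h1 : Nat.card (C × C) ≤ Nat.card Q := Nat.card_le_card_of_injective
    (fun u => ⟨u.1 * (x * u.2 * x⁻¹), mul_mem u.1.2.1 (hN.conj_mem _ u.2.2.1 x)⟩) fun u v h => by
      have h : u.1 * (x * u.2 * x⁻¹) = v.1 * (x * v.2 * x⁻¹) := congrArg Subtype.val h
      have c1 : Commute ((v.1 : G)⁻¹ * u.1) a :=
        mem_centralizer_singleton_iff.1 (mul_mem (inv_mem v.1.2) u.1.2).2
      have c2 : Commute ((v.2 : G) * (u.2 : G)⁻¹) a :=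
        mem_centralizer_singleton_iff.1 (mul_mem v.2.2 (inv_mem u.2.2)).2
      have e : (v.1 : G)⁻¹ * u.1 = x * (v.2 * (u.2 : G)⁻¹) * x⁻¹ := by
        calc _ = (v.1 : G)⁻¹ * (u.1 * (x * u.2 * x⁻¹)) * (x * u.2 * x⁻¹)⁻¹ := by group
          _ = _ := by rw [h]; group
      have c3 : Commute ((v.1 : G)⁻¹ * u.1) (x * a * x⁻¹) := e ▸ c2.conj x
      have := K (a * (x * a * x⁻¹)) _ (sub_ne_zero.2 (xn i).symm)
        (by rw [map_mul, hi, xs a i hi, sr_mul_sr]) _ (mul_mem (inv_mem v.1.2) u.1.2).1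
        (c1.mul_right c3)
      rw [this, eq_comm, conj_eq_one_iff, mul_inv_eq_one] at e
      exact Prod.ext (Subtype.ext (inv_mul_eq_one.1 this).symm) (Subtype.ext e.symm)
  let f : Q ⧸ C.subgroupOf Q → G := fun q => q.out * a * (q.out : G)⁻¹
  have f1 : ∀ q, π (f q) = sr i := fun q => by
    simp only [f, map_mul, map_inv, (kπ _).2 q.out.2, hi, one_mul, inv_one, mul_one]
  have f2 : ∀ q, f q * f q = 1 := fun q => by rw [conj_mul, aa, mul_one, mul_inv_cancel]
  have fi : Function.Injective f := fun q q' h => by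
    rw [← q.out_eq, ← q'.out_eq]
    refine QuotientGroup.eq.2 ⟨(q.out⁻¹ * q'.out).2, mem_centralizer_singleton_iff.2 ?_⟩
    calc (q.out : G)⁻¹ * q'.out * a = (q.out : G)⁻¹ * f q' * q'.out := by simp only [f]; group
      _ = a * ((q.out : G)⁻¹ * q'.out) := by rw [← h]; simp only [f]; group
  have h2 : Nat.card ((Q ⧸ C.subgroupOf Q) × (Q ⧸ C.subgroupOf Q)) ≤ Nat.card Q :=
    Nat.card_le_card_of_injective (fun u => ⟨f u.1 * (x * f u.2 * x⁻¹) * (a * (x * a * x⁻¹))⁻¹,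
      (kπ _).1 (by rw [map_mul, map_inv, map_mul, map_mul π a, f1, hi, xs _ _ (f1 _), xs a i hi,
        mul_inv_cancel])⟩) fun u v h => by
      have h : f u.1 * (x * f u.2 * x⁻¹) = f v.1 * (x * f v.2 * x⁻¹) :=
        mul_right_cancel (congrArg Subtype.val h)
      have iv : ∀ s t : G, s * s = 1 → t * t = 1 → s * (s * t) = (s * t)⁻¹ * s := fun s t hs ht => by
        rw [mul_inv_rev, inv_eq_of_mul_eq_one_right hs, inv_eq_of_mul_eq_one_right ht, ← mul_assoc,
          mul_assoc t, hs, one_mul, mul_one]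
      have cm : ∀ s t y : G, s * y = y⁻¹ * s → t * y = y⁻¹ * t → t⁻¹ * s * y = y * (t⁻¹ * s) :=
        fun s t y h1 h2 => by
          calc _ = t⁻¹ * (y⁻¹ * t) * (t⁻¹ * s) := by rw [mul_assoc, h1]; group
            _ = _ := by rw [← h2]; group
      have e1 := iv _ _ (f2 u.1) (xq _ (f2 u.2))
      have e2 := iv _ _ (f2 v.1) (xq _ (f2 v.2))
      rw [← h] at e2
      have := K (f u.1 * (x * f u.2 * x⁻¹)) _ (sub_ne_zero.2 (xn i).symm)
        (by rw [map_mul, f1, xs _ _ (f1 _), sr_mul_sr]) ((f v.1)⁻¹ * f u.1)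
        ((kπ _).1 (by rw [map_mul, map_inv, f1, f1, inv_mul_cancel])) (cm _ _ _ e1 e2)
      have e3 := inv_mul_eq_one.1 this
      rw [e3, mul_right_inj, mul_left_inj, mul_right_inj] at h
      exact Prod.ext (fi e3.symm) (fi h)
  have h3 := (C.subgroupOf Q).card_mul_index
  rw [Nat.card_congr (subgroupOfEquivOfLe inf_le_left).toEquiv, index] at h3
  rw [Nat.card_prod, ← h3] at h1 h2
  have h4 := Nat.le_of_mul_le_mul_left h1 Nat.card_pos
  have h5 := Nat.le_of_mul_le_mul_right h2 Nat.card_pos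
  rw [← h3, sq, le_antisymm h5 h4]

end Cfsg.Agent.S2873
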