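import Cfsg.Statements.S2874
import Cfsg.Agent.Base

set_option autoImplicit false
open Cfsg

namespace Cfsg.Agent.S2874

open Subgroup Matrix

/-- the companion matrix of `X² + X + 1` -/
def C (R : Type*) [CommRing R] : Matrix (Fin 2) (Fin 2) R := !![0, -1; 1, -1]
/-- its inverse -/
def D (R : Type*) [CommRing R] : Matrix (Fin 2) (Fin 2) R := !![-1, 1; -1, 0]

theorem CD (R : Type*) [CommRing R] : C R * D R = 1 := by
  simp [C, D, Matrix.one_fin_two]
theorem DC (R : Type*) [CommRing R] : D R * C R = 1 := by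
  simp [C, D, Matrix.one_fin_two]

theorem mapC {R S : Type*} [CommRing R] [CommRing S] (f : R →+* S) : f.mapMatrix (C R) = C S := by
  ext i j; fin_cases i <;> fin_cases j <;> simp [C]
theorem mapD {R S : Type*} [CommRing R] [CommRing S] (f : R →+* S) : f.mapMatrix (D R) = D S := by
  ext i j; fin_cases i <;> fin_cases j <;> simp [D]

theorem all2 {R : Type*} {P : Matrix (Fin 2) (Fin 2) R → Prop} (h : ∀ a b c d, P !![a, b; c, d])
    (A : Matrix (Fin 2) (Fin 2) R) : P A := by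
  rw [Matrix.eta_fin_two A]; exact h _ _ _ _

theorem f2 : ∀ A : Matrix (Fin 2) (Fin 2) (ZMod 2), A * A * A = 1 → A ≠ 1 →
    A 1 0 ≠ 0 ∧ (A 0 0 - 1) * (A 1 1 - 1) - A 0 1 * A 1 0 ≠ 0 := all2 (by decide +kernel)

theorem g2 : ∀ A : Matrix (Fin 2) (Fin 2) (ZMod 2), A * A = 1 →
    A * (C _ * A * D _) * (D _ * A * C _) = 1 → A = 1 := all2 (by decide +kernel)

theorem g8 : ∀ A : Matrix (Fin 2) (Fin 2) (ZMod 8), A * A = 1 →
    A * (C _ * A * D _) * (D _ * A * C _) = 1 → ∀ i j, ∃ e, (A - 1) i j = 4 * e :=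
  all2 (by decide +kernel)

theorem gen4 : ∀ x : Equiv.Perm (Fin 4), Equiv.Perm.sign x = 1 → ∃ i j : Fin 3,
    x = (Equiv.swap 0 1 * Equiv.swap 1 2) ^ i.1 ∨ x = (Equiv.swap 0 1 * Equiv.swap 1 2) ^ i.1 *
      (Equiv.swap 0 1 * Equiv.swap 2 3) * (Equiv.swap 0 1 * Equiv.swap 1 2) ^ j.1 := by
  decide +kernel

theorem a4 {G : Type*} [Group G] {H : Subgroup G} (e : H ≃* alternatingGroup (Fin 4)) :
    ∃ a b : G, H = closure {a, b} ∧ a * a * a = 1 ∧ a ≠ 1 ∧ b * b = 1 ∧ b ≠ 1 ∧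
      b * (a * b * a⁻¹) * (a⁻¹ * b * a) = 1 := by
  let a : alternatingGroup (Fin 4) := ⟨Equiv.swap 0 1 * Equiv.swap 1 2, Equiv.Perm.mem_alternatingGroup.2 (by decide)⟩
  let b : alternatingGroup (Fin 4) := ⟨Equiv.swap 0 1 * Equiv.swap 2 3, Equiv.Perm.mem_alternatingGroup.2 (by decide)⟩
  let f := H.subtype.comp e.symm.toMonoidHom
  have inj : Function.Injective f := H.subtype_injective.comp e.symm.injective
  refine ⟨f a, f b, le_antisymm (fun x hx => ?_) ((closure_le _).2 ?_), ?_, ?_, ?_, ?_, ?_⟩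
  · have ma : f a ∈ closure {f a, f b} := subset_closure (by simp)
    have mb : f b ∈ closure {f a, f b} := subset_closure (by simp)
    have ex : x = f (e ⟨x, hx⟩) := by simp [f]
    obtain ⟨i, j, h | h⟩ := gen4 _ (e ⟨x, hx⟩).2
    · rw [ex, show e ⟨x, hx⟩ = a ^ i.1 from Subtype.ext h, map_pow]; exact pow_mem ma _
    · rw [ex, show e ⟨x, hx⟩ = a ^ i.1 * b * a ^ j.1 from Subtype.ext h, map_mul, map_mul, map_pow,
        map_pow]
      exact mul_mem (mul_mem (pow_mem ma _) mb) (pow_mem ma _)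
  · rintro _ (rfl | rfl) <;> exact (e.symm _).2
  · rw [← map_mul, ← map_mul, show a * a * a = 1 by decide, map_one]
  · exact fun h => absurd (inj (h.trans (map_one f).symm)) (by decide)
  · rw [← map_mul, show b * b = 1 by decide, map_one]
  · exact fun h => absurd (inj (h.trans (map_one f).symm)) (by decide)
  · simp only [← map_inv, ← map_mul]
    rw [show b * (a * b * a⁻¹) * (a⁻¹ * b * a) = 1 by decide, map_one]

variable {k : ℕ}

theorem ker_cast {m : ℕ} (h : m ∣ 2 ^ k) {x : ZMod (2 ^ k)} (e : ZMod.castHom h (ZMod m) x = 0) :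
    ∃ y, x = m * y := by
  rw [← ZMod.natCast_zmod_val x, map_natCast, ZMod.natCast_eq_zero_iff] at e
  obtain ⟨y, hy⟩ := e
  exact ⟨y, by rw [← ZMod.natCast_zmod_val x, hy, Nat.cast_mul]⟩

theorem two_pow : (2 : ZMod (2 ^ k)) ^ k = 0 := by
  exact_mod_cast ZMod.natCast_self (2 ^ k)

theorem unit_add (A : Matrix (Fin 2) (Fin 2) (ZMod (2 ^ k))) :
    IsUnit (1 + (2 : ZMod (2 ^ k)) • A) :=
  IsNilpotent.isUnit_one_add ⟨k, by rw [smul_pow, two_pow, zero_smul]⟩

theorem unit_of (h : 2 ∣ 2 ^ k) {x : ZMod (2 ^ k)} (e : ZMod.castHom h (ZMod 2) x ≠ 0) :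
    IsUnit x := by
  obtain ⟨y, hy⟩ := ker_cast h (x := x - 1) (by
    rw [map_sub, map_one]; revert e; generalize ZMod.castHom h (ZMod 2) x = z; revert z; decide)
  rw [sub_eq_iff_eq_add'] at hy
  exact hy ▸ IsNilpotent.isUnit_one_add ⟨k, by rw [mul_pow, Nat.cast_ofNat, two_pow, zero_mul]⟩

theorem ann {x : ZMod (2 ^ (k + 1))} (h : 2 * x = 0) : x = 0 ∨ x = 2 ^ k := by
  have h' : ((2 * x.val : ℕ) : ZMod (2 ^ (k + 1))) = 0 := by simpa using h
  rw [ZMod.natCast_eq_zero_iff] at h'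
  obtain ⟨c, hc⟩ : 2 ^ k ∣ x.val := Nat.dvd_of_mul_dvd_mul_left two_pos (pow_succ' 2 k ▸ h')
  have := ZMod.val_lt x
  rw [hc, pow_succ, Nat.mul_lt_mul_left (by positivity)] at this
  rw [← ZMod.natCast_zmod_val x, hc]
  interval_cases c <;> simp

theorem lift2 (h : 2 ∣ 2 ^ k) {M : Matrix (Fin 2) (Fin 2) (ZMod (2 ^ k))}
    (e : (ZMod.castHom h (ZMod 2)).mapMatrix M = 1) : ∃ A, M = 1 + (2 : ZMod (2 ^ k)) • A := by
  have : ∀ i j, ∃ y, (M - 1) i j = 2 * y := fun i j => ker_cast h (by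
    have := congrFun₂ (show (ZMod.castHom h (ZMod 2)).mapMatrix (M - 1) = 0 by
      rw [map_sub, e, map_one, sub_self]) i j
    exact this)
  choose A hA using this
  exact ⟨Matrix.of A, by rw [← sub_eq_iff_eq_add']; ext i j; exact hA i j⟩

/-- the element of order three -/
def cU (R : Type*) [CommRing R] : GL (Fin 2) R := ⟨C R, D R, CD R, DC R⟩

theorem conjC (h : 2 ∣ 2 ^ k) {a : GL (Fin 2) (ZMod (2 ^ k))} (h3 : a * a * a = 1) (h1 : a ≠ 1) :
    ∃ g, g * a * g⁻¹ = cU _ := by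
  have e3 : a.1 * a.1 * a.1 = 1 := congrArg Units.val h3
  have e0 : (a.1 - 1) * (a.1 * a.1 + a.1 + 1) = 0 := by
    rw [← sub_eq_zero] at e3; rw [← e3]; noncomm_ring
  obtain ⟨u1, u2⟩ := f2 ((ZMod.castHom h (ZMod 2)).mapMatrix a.1)
    (by rw [← map_mul, ← map_mul, e3, map_one]) fun e => h1 (by
      obtain ⟨A, hA⟩ := lift2 h e
      have : a.1 * a.1 + a.1 + 1 = 1 + (2 : ZMod (2 ^ k)) • (1 + 3 • A + 2 • (A * A)) := by
        rw [hA]; simp only [two_smul]; noncomm_ring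
      rw [this, (unit_add _).mul_left_eq_zero, sub_eq_zero] at e0
      exact Units.ext e0)
  have u3 : IsUnit (a.1 - 1) := (Matrix.isUnit_iff_isUnit_det _).2 (unit_of h (by
    rw [Matrix.det_fin_two]
    simpa [-ZMod.castHom_apply] using u2))
  rw [u3.mul_right_eq_zero] at e0
  obtain ⟨P, hP⟩ : IsUnit !![1, a.1 0 0; 0, a.1 1 0] := (Matrix.isUnit_iff_isUnit_det _).2 (by
    rw [Matrix.det_fin_two]; simpa using unit_of h u1)
  refine ⟨P⁻¹, ?_⟩
  rw [inv_inv, mul_assoc, inv_mul_eq_iff_eq_mul]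
  refine Units.ext ?_
  show a.1 * P.1 = P.1 * C _
  have q0 := congrFun₂ e0 0 0
  have q1 := congrFun₂ e0 1 0
  rw [hP]
  generalize a.1 = A at q0 q1
  simp [Matrix.mul_apply, Fin.sum_univ_two] at q0 q1
  ext i j; fin_cases i <;> fin_cases j <;> simp [C, Matrix.mul_apply, Fin.sum_univ_two]
  · linear_combination q0
  · linear_combination q1

theorem two_kill (hk : 2 ≤ k) {M : Matrix (Fin 2) (Fin 2) (ZMod (2 ^ k))} (h2 : M * M = 1)
    (h3 : M * (C _ * M * D _) * (D _ * M * C _) = 1) :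
    (2 : ZMod (2 ^ k)) • (M - 1) = 0 ∧ M - 1 + C _ * (M - 1) * D _ + D _ * (M - 1) * C _ = 0 := by
  have d2 : 2 ∣ 2 ^ k := dvd_pow_self 2 (by omega)
  obtain ⟨A, hA⟩ := lift2 d2 (g2 _ (by rw [← map_mul, h2, map_one]) (by
    rw [← mapC (ZMod.castHom d2 (ZMod 2)), ← mapD (ZMod.castHom d2 (ZMod 2))]
    simp only [← map_mul]; rw [h3, map_one]))
  have k1 : (2 : ZMod (2 ^ k)) • (M - 1) = 0 := by
    rcases hk.eq_or_lt with rfl | hk
    · rw [hA, add_sub_cancel_left, smul_smul, ← sq, two_pow, zero_smul]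
    have d8 : 8 ∣ 2 ^ k := pow_dvd_pow 2 hk
    have := g8 ((ZMod.castHom d8 (ZMod 8)).mapMatrix M) (by rw [← map_mul, h2, map_one]) (by
      rw [← mapC (ZMod.castHom d8 (ZMod 8)), ← mapD (ZMod.castHom d8 (ZMod 8))]
      simp only [← map_mul]; rw [h3, map_one])
    have k2 : ∀ i j, ∃ y, (M - 1) i j = 2 * (2 * y) := fun i j => by
      obtain ⟨e, he⟩ := this i j
      rw [← map_one (ZMod.castHom d8 (ZMod 8)).mapMatrix, ← map_sub] at he
      obtain ⟨y, hy⟩ := ker_cast d8 (x := (M - 1) i j - 4 * (e.val : ZMod (2 ^ k))) (by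
        rw [map_sub, map_mul, map_natCast, ZMod.natCast_zmod_val, map_ofNat]
        exact sub_eq_zero.2 he)
      exact ⟨e.val + 2 * y, by push_cast at hy; linear_combination hy⟩
    choose B hB using k2
    have e : M - 1 = (2 : ZMod (2 ^ k)) • (2 : ZMod (2 ^ k)) • Matrix.of B := by
      ext i j; exact hB i j
    rw [← (unit_add (Matrix.of B)).mul_left_eq_zero, smul_mul_assoc, ← mul_smul_comm, smul_add, ← e,
      ← sub_self (1 : Matrix _ _ _)]
    nth_rw 4 [← h2]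
    simp only [two_smul]; noncomm_ring
  refine ⟨k1, ?_⟩
  obtain ⟨N, rfl⟩ : ∃ N, M = 1 + N := ⟨M - 1, by simp⟩
  rw [add_sub_cancel_left] at k1 ⊢
  have z : ∀ X, N * X * N = 0 := fun X => by
    nth_rw 1 [add_left_cancel hA]
    rw [smul_mul_assoc, smul_mul_assoc, ← mul_smul_comm, k1, mul_zero]
  have e1 : C _ * (1 + N) * D _ = 1 + C _ * N * D _ := by rw [mul_add, add_mul, mul_one, CD]
  have e2 : D _ * (1 + N) * C _ = 1 + D _ * N * C _ := by rw [mul_add, add_mul, mul_one, DC]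
  rw [e1, e2, ← sub_eq_zero] at h3
  have z1 := z (C _)
  have z2 := z (D _)
  have z3 := z (D _ * D _)
  generalize C (ZMod (2 ^ k)) = c at *
  generalize D (ZMod (2 ^ k)) = d at *
  calc _ = (1 + N) * (1 + c * N * d) * (1 + d * N * c) - 1 - (N * c * N * d + N * d * N * c +
      c * (N * (d * d) * N) * c + N * c * N * (d * d * N * c)) := by noncomm_ring
    _ = 0 := by rw [h3, z1, z2, z3]; simp

/-- the involution -/
def uU (k : ℕ) : GL (Fin 2) (ZMod (2 ^ (k + 2))) :=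
  have : (!![1 + 2 ^ (k + 1), 0; 2 ^ (k + 1), 1 + 2 ^ (k + 1)] : Matrix (Fin 2) (Fin 2)
      (ZMod (2 ^ (k + 2)))) * !![1 + 2 ^ (k + 1), 0; 2 ^ (k + 1), 1 + 2 ^ (k + 1)] = 1 := by
    have := two_pow (k := k + 2)
    ext i j; fin_cases i <;> fin_cases j <;> simp [Matrix.mul_apply, Fin.sum_univ_two]
    · linear_combination (1 + 2 ^ k) * this
    · linear_combination (1 + 2 ^ (k + 1)) * this
    · linear_combination (1 + 2 ^ k) * this
  ⟨_, _, this, this⟩

theorem std {H : Subgroup (GL (Fin 2) (ZMod (2 ^ (k + 2))))} (e : H ≃* alternatingGroup (Fin 4)) :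
    ∃ g, H.map (MulAut.conj g).toMonoidHom = Subgroup.closure {cU _, uU k} := by
  obtain ⟨a, b, rfl, a3, a1, b2, b1, r⟩ := a4 e
  obtain ⟨g, hg⟩ := conjC (dvd_pow_self 2 (by omega)) a3 a1
  refine ⟨g, ?_⟩
  rw [MonoidHom.map_closure, Set.image_pair]
  change Subgroup.closure {g * a * g⁻¹, g * b * g⁻¹} = _
  have v2 : g * b * g⁻¹ * (g * b * g⁻¹) = 1 := by rw [conj_mul, b2]; simp
  have v1 : g * b * g⁻¹ ≠ 1 := fun h => b1 (conj_eq_one_iff.1 h)
  have v3 : g * b * g⁻¹ * (cU _ * (g * b * g⁻¹) * (cU _)⁻¹) * ((cU _)⁻¹ * (g * b * g⁻¹) * cU _) = 1 := by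
    rw [← hg, ← (conj_eq_one_iff (a := g)).2 r]; group
  rw [hg]
  generalize g * b * g⁻¹ = v at v1 v2 v3
  obtain ⟨k1, k2⟩ := two_kill (by omega) (congrArg Units.val v2) (congrArg Units.val v3)
  have key : v = uU k ∨ v = cU _ * uU k * (cU _)⁻¹ ∨ v = (cU _)⁻¹ * uU k * cU _ := by
    have t := two_pow (k := k + 2)
    have p0 := congrFun₂ k1 0 0; have p1 := congrFun₂ k1 0 1
    have p2 := congrFun₂ k1 1 0; have p3 := congrFun₂ k1 1 1
    have q0 := congrFun₂ k2 0 0; have q1 := congrFun₂ k2 0 1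
    simp only [Units.ext_iff, Ne] at v1 ⊢
    change v.1 = !![1 + 2 ^ (k + 1), 0; 2 ^ (k + 1), 1 + 2 ^ (k + 1)] ∨
      v.1 = C _ * !![1 + 2 ^ (k + 1), 0; 2 ^ (k + 1), 1 + 2 ^ (k + 1)] * D _ ∨
      v.1 = D _ * !![1 + 2 ^ (k + 1), 0; 2 ^ (k + 1), 1 + 2 ^ (k + 1)] * C _
    change ¬ v.1 = 1 at v1
    generalize v.1 = M at *
    rw [Matrix.eta_fin_two M, Matrix.one_fin_two] at v1
    simp [C, D, Matrix.mul_apply, Fin.sum_univ_two, Matrix.vecMul, dotProduct] at p0 p1 p2 p3 q0 q1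
    have e3 : M 1 1 = M 0 0 := by linear_combination p1 - p2 - q1
    have e2 : M 1 0 = M 0 0 - 1 + M 0 1 := by linear_combination q0 - p0 - p3
    rw [Matrix.eta_fin_two M]
    rw [e3, e2] at v1 ⊢
    simp only [C, D, Matrix.mul_fin_two]
    rcases ann p0 with h0 | h0 <;> rcases ann p1 with h1 | h1 <;>
      rw [sub_eq_iff_eq_add'.1 h0, h1] at v1 ⊢
    · simp at v1
    · refine Or.inr (Or.inl ?_)
      ext i j; fin_cases i <;> fin_cases j <;> simp <;>
        first | ring1 | linear_combination t | linear_combination -t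
    · refine Or.inl ?_
      ext i j; fin_cases i <;> fin_cases j <;> simp <;>
        first | ring1 | linear_combination t | linear_combination -t
    · refine Or.inr (Or.inr ?_)
      ext i j; fin_cases i <;> fin_cases j <;> simp <;>
        first | ring1 | linear_combination t | linear_combination -t
  have m : ∀ x y : GL (Fin 2) (ZMod (2 ^ (k + 2))), x ∈ Subgroup.closure {x, y} ∧ y ∈ Subgroup.closure {x, y} :=
    fun x y => ⟨subset_closure (by simp), subset_closure (by simp)⟩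
  have le : ∀ x y z : GL (Fin 2) (ZMod (2 ^ (k + 2))), y ∈ Subgroup.closure {x, z} →
      Subgroup.closure {x, y} ≤ Subgroup.closure {x, z} := fun x y z h =>
    (closure_le _).2 (by rintro _ (rfl | rfl); exacts [(m _ _).1, h])
  rcases key with rfl | rfl | rfl
  · rfl
  · refine le_antisymm (le _ _ _ (mul_mem (mul_mem (m _ _).1 (m _ _).2) (inv_mem (m _ _).1)))
      (le _ _ _ ((mul_mem_cancel_left (m _ _).1).1 ((mul_mem_cancel_right (inv_mem (m _ _).1)).1
        (m _ _).2)))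
  · refine le_antisymm (le _ _ _ (mul_mem (mul_mem (inv_mem (m _ _).1) (m _ _).2) (m _ _).1))
      (le _ _ _ ((mul_mem_cancel_left (inv_mem (m _ _).1)).1 ((mul_mem_cancel_right (m _ _).1).1
        (m _ _).2)))

/-- For k ≥ 2, any two subgroups of GL₂(ℤ/2ᵏℤ) (the automorphism group of the homocyclic group ℤ/2ᵏ × ℤ/2ᵏ) that are isomorphic to the alternating group of degree 4 are conjugate. -/
theorem result (k : ℕ) (hk : 2 ≤ k) (H₁ H₂ : Subgroup (GL (Fin 2) (ZMod (2 ^ k)))) (h₁ : Nonempty (↥H₁ ≃* ↥(alternatingGroup (Fin 4)))) (h₂ : Nonempty (↥H₂ ≃* ↥(alternatingGroup (Fin 4)))) : ∃ g : GL (Fin 2) (ZMod (2 ^ k)), H₂ = H₁.map (MulAut.conj g).toMonoidHom := by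
  obtain ⟨k, rfl⟩ : ∃ j, k = j + 2 := ⟨k - 2, by omega⟩
  obtain ⟨g, hg⟩ := std h₁.some
  obtain ⟨g', hg'⟩ := std h₂.some
  refine ⟨g'⁻¹ * g, map_injective (MulAut.conj g').injective (f := (MulAut.conj g').toMonoidHom) ?_⟩
  rw [hg', ← hg, Subgroup.map_map]
  congr 1
  ext x : 1
  simp [mul_assoc]

end Cfsg.Agent.S2874
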