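import Cfsg.Statements.S2880
import Cfsg.Agent.H9.ExtraAut

set_option autoImplicit false
open Cfsg

namespace Cfsg.Agent.S2880

/-- Let E be an extraspecial 2-group of order 2^(2m+1) of plus type, that is, containing an elementary abelian subgroup of order 2^(m+1) (equivalently, a central product of m dihedral groups of order 8). Then E has exactly 2^(2m) − 2^m elements of order 4. -/
theorem result {E : Type*} [Group E] [Finite E] (m : ℕ) (hm : 1 ≤ m) (hE : Cfsg.IsExtraspecial 2 E) (hcard : Nat.card E = 2 ^ (2 * m + 1)) (hplus : ∃ A : Subgroup E, Cfsg.IsElementaryAbelian 2 A ∧ Nat.card A = 2 ^ (m + 1)) : Nat.card {x : E // orderOf x = 4} = 2 ^ (2 * m) - 2 ^ m := by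
  classical
  obtain ⟨m, rfl⟩ : ∃ k, m = k + 1 := ⟨m - 1, by omega⟩
  obtain ⟨A, hA, hAc⟩ := hplus
  have hP := H9.isPlusType_of_exists_elementary hE hcard hA.2
    (by rw [hAc]; exact Nat.pow_lt_pow_right one_lt_two (by omega))
  have h1 := H9.plusType_card_sq_eq_one hP
  obtain ⟨c, -⟩ := hP
  have h4 : ∀ x : E, orderOf x = 4 ↔ ¬ x ^ 2 = 1 := by
    intro x
    constructor
    · intro h h2
      have := orderOf_dvd_of_pow_eq_one h2
      rw [h] at this
      norm_num at this
    · intro h
      refine orderOf_eq_prime_pow (p := 2) (n := 1) (by simpa using h) ?_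
      rw [show 2 ^ (1 + 1) = 2 * 2 by norm_num, pow_mul, ← c.ζ_P 2 x, c.ζ_pow_char 2]
  have : Fintype E := Fintype.ofFinite E
  have h2 : Nat.card {x : E // orderOf x = 4} = Nat.card E - Nat.card {x : E // x ^ 2 = 1} := by
    rw [Nat.card_congr (Equiv.subtypeEquivRight h4), Nat.card_eq_fintype_card,
      Nat.card_eq_fintype_card, Nat.card_eq_fintype_card, Fintype.card_subtype_compl]
  rw [h2, h1, hcard, pow_succ]
  omega

end Cfsg.Agent.S2880
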