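import Cfsg.Statements.S2881
import Cfsg.Agent.S2880

set_option autoImplicit false
open Cfsg

namespace Cfsg.Agent.S2881

/-- Let E be an extraspecial 2-group of order 2^(2m+1) of plus type (containing an elementary abelian subgroup of order 2^(m+1)), and let ω be an automorphism of E of order 5 whose fixed points are exactly the centre of E. Then m is divisible by 4. -/
theorem result {E : Type*} [Group E] [Finite E] (m : ℕ) (hm : 1 ≤ m) (hE : Cfsg.IsExtraspecial 2 E) (hcard : Nat.card E = 2 ^ (2 * m + 1)) (hplus : ∃ A : Subgroup E, Cfsg.IsElementaryAbelian 2 A ∧ Nat.card A = 2 ^ (m + 1)) (ω : E ≃* E) (hω : orderOf ω = 5) (hfix : ∀ x : E, ω x = x ↔ x ∈ Subgroup.center E) : 4 ∣ m := by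
  classical
  have h1 := Cfsg.Agent.S2880.result m hm hE hcard hplus
  have : Fact (Nat.Prime 5) := ⟨by norm_num⟩
  have : Fintype E := Fintype.ofFinite E
  let f : Function.End {x : E // orderOf x = 4} := fun x => ⟨ω x, by rw [MulEquiv.orderOf_eq, x.2]⟩
  have hf : ∀ (n : ℕ) x, ((f ^ n) x).1 = (ω ^ n) x := by
    intro n
    induction n with
    | zero => intro x; rfl
    | succ n ih =>
      intro x
      rw [pow_succ', pow_succ', MulAut.mul_apply, ← ih]
      rfl
  have hf5 : f ^ 5 ^ 1 = 1 := by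
    funext x
    apply Subtype.ext
    rw [hf, pow_one, ← hω, pow_orderOf_eq_one]
    rfl
  have h2 := Equiv.Perm.card_fixedPoints_modEq hf5
  have h3 : Fintype.card f.fixedPoints = 0 := by
    rw [Fintype.card_eq_zero_iff]
    refine ⟨fun x => ?_⟩
    have hx : ω x.1.1 = x.1.1 := congrArg Subtype.val x.2
    have h4 := Subgroup.orderOf_dvd_natCard _ ((hfix _).mp hx)
    rw [x.1.2, hE.2] at h4
    norm_num at h4
  rw [h3, ← Nat.card_eq_fintype_card, h1] at h2
  have h5 : 5 ∣ 2 ^ m * (2 ^ m - 1) := by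
    rw [Nat.mul_sub_one, ← pow_add, ← two_mul]
    exact (Nat.modEq_zero_iff_dvd.mp h2)
  have h6 : 5 ∣ 2 ^ m - 1 :=
    (Nat.Coprime.dvd_mul_left (Nat.Coprime.pow_right m (by norm_num))).mp h5
  have h7 : 2 ^ m % 5 = 1 := by
    have := Nat.one_le_two_pow (n := m)
    omega
  have h8 : 2 ^ m % 5 = 2 ^ (m % 4) % 5 := by
    conv_lhs => rw [← Nat.div_add_mod m 4, pow_add, pow_mul, Nat.mul_mod, Nat.pow_mod]
    norm_num
  rw [h8] at h7
  have h9 : m % 4 < 4 := Nat.mod_lt _ (by norm_num)
  apply Nat.dvd_of_mod_eq_zero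
  generalize m % 4 = r at h7 h9
  interval_cases r <;> simp_all

end Cfsg.Agent.S2881
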