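import Cfsg.Statements.S2902
import Cfsg.Agent.H82.HoltFinal

set_option autoImplicit false
open Cfsg

namespace Cfsg.Agent.S2902

/-- Let L be a finite group with O(L) = 1 and P a subgroup of L whose generalized Fitting subgroup F*(P) is a non-abelian simple group not isomorphic to an alternating group. Let r ∈ F*(P) be a 2-central involution of P with C_L(r) ≤ P such that every L-conjugate of r lying in P is conjugate to r under F*(P). Then F*(L) = F*(P). -/
theorem result {L : Type*} [Group L] [Finite L] (hO : Cfsg.oddCore L = ⊥) (P : Subgroup L) (hFs : IsSimpleGroup ↥(Cfsg.generalizedFittingSubgroup ↥P)) (hFna : ¬ IsMulCommutative ↥(Cfsg.generalizedFittingSubgroup ↥P)) (hnotalt : ∀ n : ℕ, ¬ Nonempty (↥(Cfsg.generalizedFittingSubgroup ↥P) ≃* ↥(alternatingGroup (Fin n)))) (r : ↥P) (hrF : r ∈ Cfsg.generalizedFittingSubgroup ↥P) (hr : Cfsg.IsTwoCentralInvolution r) (hC : Subgroup.centralizer ({(r : L)} : Set L) ≤ P) (hfus : ∀ g : L, g * (r : L) * g⁻¹ ∈ P → ∃ h : ↥P, h ∈ Cfsg.generalizedFittingSubgroup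 ↥P ∧ (h : L) * (r : L) * (h : L)⁻¹ = g * (r : L) * g⁻¹) : (Cfsg.generalizedFittingSubgroup L) = ((Cfsg.generalizedFittingSubgroup ↥P).map P.subtype) := by
  exact H29.Holt.s2902 H82.HT.holtThm hO P hFs hFna hnotalt r hrF hr hC hfus

end Cfsg.Agent.S2902
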