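import Cfsg.Statements.S2917
import Cfsg.Agent.H68.G23Link
import Cfsg.Agent.H12.LC12
import Cfsg.Agent.H35.LCFus4

set_option autoImplicit false
open Cfsg

namespace Cfsg.Agent.S2917

open H12.LC
open scoped MatrixGroups

/-- Let G be a finite group with subgroups H and M such that: H has normal subgroups H₁, H₂ both isomorphic to SL₂(3) with H₁ ∩ H₂ = Z(H₁) = Z(H₂), the product H₁H₂ has index 2 in H, and H = C_G(H₁ ∩ H₂); and M ⧸ O₂(M) ≅ SL₃(2) with O₂(M) elementary abelian of order 8 containing Z(H₁). Then G is isomorphic to the Chevalley group G₂(3). -/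
theorem result {G : Type*} [Group G] [Finite G] (H H₁ H₂ M : Subgroup G) (h1 : H₁ ≤ H) (h2 : H₂ ≤ H) (hn1 : (H₁.subgroupOf H).Normal) (hn2 : (H₂.subgroupOf H).Normal) (hiso1 : Nonempty (↥H₁ ≃* Matrix.SpecialLinearGroup (Fin 2) (ZMod 3))) (hiso2 : Nonempty (↥H₂ ≃* Matrix.SpecialLinearGroup (Fin 2) (ZMod 3))) (hidx : (H₁ ⊔ H₂).relIndex H = 2) (hint1 : H₁ ⊓ H₂ = H₁ ⊓ Subgroup.centralizer (H₁ : Set G)) (hint2 : H₁ ⊓ H₂ = H₂ ⊓ Subgroup.centralizer (H₂ : Set G)) (hHC : H = Subgroup.centralizer ((H₁ ⊓ H₂ : Subgroup G) : Set G)) [hOM : (Cfsg.pCore 2 ↥M).Normal] (hM : Nonempty ((↥M ⧸ Cfsg.pCore 2 ↥M) ≃* Matrix.SpecialLinearGroup (Fin 3) (ZMod 2))) (hOel : Cfsg.IsElementaryAbelian 2 (Cfsg.pCore 2 ↥M)) (hOcard : Nat.card ↥(Cfsg.pCore 2 ↥M) = 8) (hZin : H₁ ⊓ H₂ ≤ (Cfsg.pCore 2 ↥M).map M.subtype) : ∃ (F : Type) (_ : Field F) (_ : Fintype F), Fintype.card F = 3 ∧ Nonempty (G ≃* ↥(Cfsg.Lie.chevG2.group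 F)) := by
  have c0 : ∀ x : SL(2, ZMod 3), (∀ g, g * x = x * g) → x = 1 ∨ x = -1 := by decide +kernel
  have c1 : ∀ x : SL(2, ZMod 3), x ^ 24 = 1 ∧ (x ^ 3 = 1 → x = 1 ∨ ∃ g, (x * (g * x * g⁻¹)) ^ 3 = -1) := by
    decide +kernel
  have n1 : (-1 : SL(2, ZMod 3)) ≠ 1 := by decide +kernel
  obtain ⟨e₁⟩ := hiso1
  obtain ⟨e₂⟩ := hiso2
  obtain ⟨j, hj⟩ : ∃ j : G, j = e₁.symm (-1) := ⟨_, rfl⟩
  have jj : j * j = 1 := by rw [hj, ← Subgroup.coe_mul, ← map_mul]; simp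
  have j1 : j ≠ 1 := by simpa [hj] using n1
  have hz : H₁ ⊓ H₂ = Subgroup.zpowers j := by
    rw [hint1]
    refine le_antisymm (fun x hx => ?_) (Subgroup.zpowers_le.2 ⟨hj ▸ (e₁.symm (-1)).2, fun g hg => ?_⟩)
    · rcases c0 (e₁ ⟨x, hx.1⟩) (fun g => by
        obtain ⟨g, rfl⟩ := e₁.surjective g
        rw [← map_mul, ← map_mul]; exact congrArg _ (Subtype.ext (hx.2 g g.2))) with r | r
      · rw [show x = 1 from congrArg Subtype.val ((map_eq_one_iff _ e₁.injective).1 r)]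
        exact Subgroup.one_mem _
      · rw [hj, ← r, e₁.symm_apply_apply]; exact Subgroup.mem_zpowers _
    · obtain ⟨y, hy⟩ := e₁.symm.surjective ⟨g, hg⟩
      rw [hj, show g = e₁.symm y by rw [hy], ← Subgroup.coe_mul, ← Subgroup.coe_mul, ← map_mul,
        ← map_mul]
      simp
  have zj : ∀ x ∈ H₁ ⊓ H₂, x = 1 ∨ x = j := fun x hx => by
    rw [hz] at hx
    obtain ⟨k, rfl⟩ := hx
    rcases Int.even_or_odd' k with ⟨m, rfl | rfl⟩ <;> simp only [zpow_add, zpow_mul, zpow_two, jj] <;>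
      simp
  obtain rfl : H = C j := by
    rw [hHC, hz, Subgroup.zpowers_eq_closure, Subgroup.centralizer_closure]
  have k1 : ∀ c ∈ C j, ∀ x ∈ H₁, c * x * c⁻¹ ∈ H₁ := fun c hc x hx =>
    hn1.conj_mem ⟨x, h1 hx⟩ hx ⟨c, hc⟩
  have k2 : ∀ c ∈ C j, ∀ x ∈ H₂, c * x * c⁻¹ ∈ H₂ := fun c hc x hx =>
    hn2.conj_mem ⟨x, h2 hx⟩ hx ⟨c, hc⟩
  have o3 : Odd (Fintype.card (ZMod 3)) := by decide
  have hc : ∀ x ∈ H₁, ∀ y ∈ H₂, x * y = y * x := fun x hx y hy => by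
    have := sl_hom_ext o3 (α := (MulAut.conj y).toMonoidHom.comp (H₁.subtype.comp e₁.symm.toMonoidHom))
      (β := H₁.subtype.comp e₁.symm.toMonoidHom) jj (fun x => mem_C.1 (h1 (e₁.symm x).2)) (fun x => by
        have m := (e₁.symm x).2
        refine (zj (y * e₁.symm x * y⁻¹ * (e₁.symm x : G)⁻¹) ⟨H₁.mul_mem (k1 y (h2 hy) _ m)
          (H₁.inv_mem m), ?_⟩).imp mul_inv_eq_one.1 mul_inv_eq_iff_eq_mul.1
        rw [mul_assoc, mul_assoc, ← mul_assoc (e₁.symm x : G)]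
        exact H₂.mul_mem hy (k2 _ (h1 m) _ (H₂.inv_mem hy))) (e₁ ⟨x, hx⟩)
    simp only [MonoidHom.comp_apply, MulEquiv.coe_toMonoidHom, MulEquiv.symm_apply_apply,
      Subgroup.coe_subtype, MulAut.conj_apply] at this
    exact (mul_inv_eq_iff_eq_mul.1 this).symm
  have mY : ∀ g ∈ H₁ ⊔ H₂, ∃ a ∈ H₁, ∃ b ∈ H₂, g = a * b := fun g hg =>
    (H98.mem_sup_left_norm (H98.le_normalizer_of_le_centralizer fun x hx y hy =>
      (hc x hx y hy).symm)).1 hg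
  have key : ∀ (L : Subgroup G) (e : L ≃* SL(2, ZMod 3)), L ≤ C j →
      (∀ c ∈ C j, ∀ x ∈ L, c * x * c⁻¹ ∈ L) → ∀ o ∈ oddCore (C j), ∀ x ∈ L, x * o = o * x :=
    fun L e hL hn o ho x hx => by
      have m : (⟨x, hL hx⟩ * o * ⟨x, hL hx⟩⁻¹ * o⁻¹ : C j) ∈ oddCore (C j) :=
        Subgroup.mul_mem _ (Subgroup.Normal.conj_mem inferInstance _ ho _) (Subgroup.inv_mem _ ho)
      have m' : x * o * x⁻¹ * (o : G)⁻¹ ∈ L := by
        rw [mul_assoc, mul_assoc, ← mul_assoc (o : G)]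
        exact L.mul_mem hx (hn _ o.2 _ (L.inv_mem hx))
      have od : ∀ y : L, (⟨y, hL y.2⟩ : C j) ∈ oddCore (C j) → Odd (orderOf (e y)) := fun y hy => by
        have := odd_of_mem (H2.odd_card_oddCore _) hy
        rwa [Subgroup.orderOf_mk, Subgroup.orderOf_coe, ← e.orderOf_eq] at this
      rcases (c1 (e ⟨_, m'⟩)).2 (orderOf_dvd_iff_pow_eq_one.1 (Nat.Coprime.dvd_of_dvd_mul_left
        (Nat.Coprime.pow_right 3 (Nat.coprime_two_right.2 (od _ m)))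
        (orderOf_dvd_of_pow_eq_one (c1 _).1))) with r | ⟨g, r⟩
      · have := congrArg Subtype.val ((map_eq_one_iff _ e.injective).1 r)
        rwa [Subgroup.coe_one, mul_inv_eq_one, mul_inv_eq_iff_eq_mul] at this
      · obtain ⟨g, rfl⟩ := e.surjective g
        rw [← map_inv, ← map_mul, ← map_mul, ← map_mul, ← map_pow] at r
        have := od ((⟨_, m'⟩ * (g * ⟨_, m'⟩ * g⁻¹)) ^ 3) (Subgroup.pow_mem _ (Subgroup.mul_mem _ m
          (Subgroup.Normal.conj_mem inferInstance _ m ⟨g, hL g.2⟩)) 3)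
        rw [r] at this
        exact absurd (eq_one_of_odd_of_sq this (by simp)) n1
  have core : oddCore (C j) = ⊥ := (Subgroup.eq_bot_iff_forall _).2 fun o ho => by
    have od : Odd (orderOf (o : G)) := by
      rw [Subgroup.orderOf_coe]; exact odd_of_mem (H2.odd_card_oddCore _) ho
    obtain ⟨a, ha, b, hb, e⟩ := mY _ (mem_of_odd_of_idx hidx o.2 od)
    have m1 : a ∈ H₁ ⊓ H₂ := hint1 ▸ ⟨ha, fun x hx => by
      have := key H₁ e₁ h1 k1 o ho x hx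
      rwa [e, mul_assoc a, ← hc x hx b hb, ← mul_assoc, ← mul_assoc, mul_left_inj] at this⟩
    have m2 : b ∈ H₁ ⊓ H₂ := hint2 ▸ ⟨hb, fun x hx => by
      have := key H₂ e₂ h2 k2 o ho x hx
      rwa [e, ← mul_assoc, ← hc a ha x hx, mul_assoc, mul_assoc, mul_right_inj] at this⟩
    refine Subtype.ext (eq_one_of_odd_of_sq od ?_)
    rcases zj _ (e ▸ Subgroup.mul_mem _ m1 m2 : (o : G) ∈ _) with r | r <;> simp [r, jj]
  let s : HS G (ZMod 3) (ZMod 3) := ⟨j, H₁, H₂, e₁, e₂, o3, o3, hc, ord_two j1 jj, hz, sup_le h1 h2,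
    fun c hc y hy => by
      obtain ⟨a, ha, b, hb, rfl⟩ := mY y hy
      rw [← conj_mul]
      exact Subgroup.mul_mem_sup (k1 c hc a ha) (k2 c hc b hb), 1, odd_one, hidx, core⟩
  obtain ⟨f⟩ := H35.LCF.jobFus G _ _ s ⟨k1, k2⟩ fun hb => by
    obtain ⟨φ⟩ := hM
    obtain ⟨v, hv, ev⟩ := hZin (hz ▸ Subgroup.mem_zpowers j)
    have mC : ∀ m : M, (m : G) ∈ C j := fun m => by
      have : C j ⊔ oddCore G ≤ (C (QuotientGroup.mk' (oddCore G) j)).comap
          (QuotientGroup.mk' (oddCore G)) := sup_le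
        (fun c hc => mem_C.2 (by rw [← map_mul, ← map_mul, mem_C.1 hc])) fun c hc => mem_C.2 (by
          rw [QuotientGroup.mk'_apply _ c, (QuotientGroup.eq_one_iff c).2 hc, mul_one, one_mul])
      have h3 := mem_C.1 (this (show (m : G) ∈ C s.j ⊔ oddCore G from hb ▸ Subgroup.mem_top _))
      rw [← map_mul, ← map_mul, QuotientGroup.mk'_apply, QuotientGroup.mk'_apply, QuotientGroup.eq]
        at h3
      have h4 := hOel.2 _ (Subgroup.mul_mem _ (hOM.conj_mem _ (Subgroup.inv_mem _ hv) m⁻¹) hv)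
      refine mem_C.2 (inv_mul_eq_one.1 (eq_one_of_odd_of_sq
        (odd_of_mem (H2.odd_card_oddCore _) h3) ?_))
      rw [← ev, ← pow_two, ← show ((_ : M) : G) = 1 from congrArg Subtype.val h4]
      simp [mul_assoc]
    have p48 : ∀ m : M, m ^ 48 = 1 := fun m => Subtype.ext (by
      obtain ⟨a, ha, b, hb, e⟩ := mY _ (Subgroup.mul_self_mem_of_index_two hidx ⟨m, mC m⟩)
      have p : ∀ (L : Subgroup G) (e : L ≃* SL(2, ZMod 3)), ∀ x ∈ L, x ^ 24 = 1 := fun L e x hx =>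
        congrArg Subtype.val (e.injective (by rw [map_pow, (c1 _).1, map_one]) :
          (⟨x, hx⟩ : L) ^ 24 = 1)
      show (m : G) ^ (2 * 24) = 1
      rw [pow_mul, pow_two, show (m : G) * m = a * b from e, Commute.mul_pow (hc a ha b hb),
        p _ e₁ a ha, p _ e₂ b hb, mul_one])
    obtain ⟨q, hq⟩ := φ.surjective ⟨!![0, 0, 1; 1, 0, 1; 0, 1, 0], by decide⟩
    obtain ⟨m, rfl⟩ := QuotientGroup.mk_surjective q
    have := congrArg (fun x : M => φ x) (p48 m)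
    simp only [QuotientGroup.mk_pow, map_pow, hq, QuotientGroup.mk_one, map_one] at this
    exact absurd this (by decide +kernel)
  obtain ⟨N, -, hN, ⟨-, ⟨i⟩⟩ | ⟨r, -⟩ | ⟨r, -⟩⟩ :=
    Fus.concl (f := f) (H68.G23.root_three f (ZMod.card 3) (ZMod.card 3))
  · obtain rfl := Subgroup.index_eq_one.1 hN
    exact ⟨ZMod 3, inferInstance, inferInstance, ZMod.card 3, ⟨Subgroup.topEquiv.symm.trans i⟩⟩
  · simp at r
  · simp at r

end Cfsg.Agent.S2917
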