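import Cfsg.Statements.S2921
import Cfsg.Agent.H52.ReeW

set_option autoImplicit false
open Cfsg

namespace Cfsg.Agent.S2921

/-- Let G be a finite group whose generalized Fitting subgroup F*(G) is a non-abelian simple group and whose Sylow 2-subgroups are abelian of order at least 4. Then G ⧸ F*(G) has odd order and F*(G) is isomorphic to SL₂(2ᵉ) with e ≥ 2, to a Ree group ²G₂(3^(2e+1)) with e ≥ 1, to the smallest Janko group J₁, or to PSL₂(rᵇ) for a prime r with rᵇ ≡ 3 or 5 (mod 8) and rᵇ > 3. Moreover, if G is simple with Sylow 2-subgroups of order 2ᵃ, then the normalizer of a Sylow 2-subgroup contains a cyclic subgroup of order 2ᵃ − 1. -/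
theorem result {G : Type*} [Group G] [Finite G] (hF : IsSimpleGroup ↥(Cfsg.generalizedFittingSubgroup G)) (hFna : ¬ IsMulCommutative ↥(Cfsg.generalizedFittingSubgroup G)) (S : Sylow 2 G) (hab : IsMulCommutative ↥(S : Subgroup G)) (h4 : 4 ≤ Nat.card ↥(S : Subgroup G)) [hn : (Cfsg.generalizedFittingSubgroup G).Normal] : Odd (Nat.card (G ⧸ Cfsg.generalizedFittingSubgroup G)) ∧ ((∃ (F : Type) (_ : Field F) (_ : Fintype F) (e : ℕ), 2 ≤ e ∧ Fintype.card F = 2 ^ e ∧ Nonempty (↥(Cfsg.generalizedFittingSubgroup G) ≃* Matrix.SpecialLinearGroup (Fin 2) F)) ∨ Cfsg.Lie.IsoRee ↥(Cfsg.generalizedFittingSubgroup G) ∨ Cfsg.Spor.IsoJ1 ↥(Cfsg.generalizedFittingSubgroup G) ∨ (∃ (F : Type) (_ : Field F) (_ : Fintype F) (r b : ℕ), r.Prime ∧ Fintype.card F = r ^ b ∧ 3 < r ^ b ∧ (r ^ b % 8 = 3 ∨ r ^ b % 8 = 5) ∧ Nonempty (↥(Cfsg.generalizedFittingSubgroup G) ≃* Matrix.ProjectiveSpecialLinearGroup (Fin 2) F))) ∧ (IsSimpleGroup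 G → ∃ C : Subgroup G, C ≤ Subgroup.normalizer ((S : Subgroup G) : Set G) ∧ IsCyclic ↥C ∧ Nat.card ↥C = Nat.card ↥(S : Subgroup G) - 1) := by
  have h2 := H10.W.ab2_of_sylow S hab
  refine ⟨?_, ?_, fun hs => H52.RB.exists_cyclic (H52.RB.facts G (fun h => hFna ⟨⟨fun a b =>
    Subtype.ext (h.is_comm.comm a.1 b.1)⟩⟩) h2).singer S⟩
  · exact Odd.of_dvd_nat (Nat.odd_iff.2 (Nat.two_dvd_ne_zero.1 S.not_dvd_index))
      (Subgroup.index_dvd_of_le (H52.RB.sylow_le_fstar hF hFna S hab))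
  · rcases H52.RB.walter' _ hFna (h2.subgroup _) with h | ⟨q, h3, h8, F, _, _, rfl, e⟩ | h | h
    · exact Or.inl (H52.RB.IsL2E.sl h)
    · obtain ⟨r, _, b, hr, hb⟩ := FiniteField.card' F
      exact Or.inr (Or.inr (Or.inr ⟨F, _, _, r, b, hr, hb, hb ▸ h3, hb ▸ h8, e⟩))
    · exact Or.inr (Or.inr (Or.inl h))
    · exact Or.inr (Or.inl h)

end Cfsg.Agent.S2921
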