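import Cfsg.Statements.S2928
import Cfsg.Agent.H89.Alt2

set_option autoImplicit false
open Cfsg

namespace Cfsg.Agent.S2928

/-- Let n ≥ 8 and let H be a subgroup of the symmetric group of degree n whose generalized Fitting subgroup F*(H) is quasisimple. If H contains a Sylow 2-subgroup of the alternating group of degree n, then F*(H) is isomorphic to an alternating group of degree m for some m ∈ {n − 3, n − 2, n − 1, n}. -/
theorem result (n : ℕ) (hn : 8 ≤ n) (H : Subgroup (Equiv.Perm (Fin n))) (hF : Cfsg.IsQuasisimple ↥(Cfsg.generalizedFittingSubgroup ↥H)) (hS : ∃ P : Sylow 2 ↥(alternatingGroup (Fin n)), ((P : Subgroup ↥(alternatingGroup (Fin n))).map (alternatingGroup (Fin n)).subtype) ≤ H) : ∃ m : ℕ, (m = n - 3 ∨ m = n - 2 ∨ m = n - 1 ∨ m = n) ∧ Nonempty (↥(Cfsg.generalizedFittingSubgroup ↥H) ≃* ↥(alternatingGroup (Fin m))) := by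
  obtain ⟨P, hP⟩ := hS
  have e := Subgroup.equivMapOfInjective (Cfsg.generalizedFittingSubgroup H) _ H.subtype_injective
  obtain ⟨m, h1, h2, ⟨f⟩⟩ := H89.A2.main (H := H) (μ := Fin.revPerm) (f := ⟨n / 2, by omega⟩)
    (H14.quasi_of_mulEquiv hF e)
    (fun h hh => Subgroup.le_normalizer_map H.subtype ⟨⟨h, hh⟩,
      (Subgroup.normalizer_eq_top_iff.2 (H14.fstar_normal H)).ge trivial, rfl⟩)
    (Subgroup.map_subtype_le _) (fun h hh hc => ⟨⟨h, hh⟩, H14.centralizer_fstar_le
      fun l hl => Subtype.ext (hc l ⟨l, hl, rfl⟩).symm, rfl⟩) (H98.isSyl_map_subtype P) hP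
    (by simpa using hn) (fun x => Fin.rev_rev x) (fun x hx => by
      have := congrArg Fin.val hx
      rw [Fin.revPerm_apply, Fin.val_rev] at this
      exact Fin.ext (by simp only; omega)) (by
      rw [Fintype.card_fin]
      by_cases h : 10 ≤ n
      · exact Or.inl h
      · obtain rfl | rfl : n = 8 ∨ n = 9 := by omega
        all_goals exact Or.inr (by decide))
  rw [Fintype.card_fin] at h1 h2
  exact ⟨m, by omega, ⟨e.trans f⟩⟩

end Cfsg.Agent.S2928
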