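import Cfsg.Statements.S2929
import Cfsg.Agent.H72.Alt3

set_option autoImplicit false
open Cfsg

namespace Cfsg.Agent.S2929

/-- Let n ≥ 5 and let H be a subgroup of the symmetric group of degree n whose generalized Fitting subgroup F*(H) is quasisimple. If H contains a Sylow 3-subgroup of the symmetric group, then F*(H) is isomorphic to an alternating group of degree m for some m ∈ {n − 2, n − 1, n}. -/
theorem result (n : ℕ) (hn : 5 ≤ n) (H : Subgroup (Equiv.Perm (Fin n))) (hF : Cfsg.IsQuasisimple ↥(Cfsg.generalizedFittingSubgroup ↥H)) (hS : ∃ P : Sylow 3 (Equiv.Perm (Fin n)), (P : Subgroup (Equiv.Perm (Fin n))) ≤ H) : ∃ m : ℕ, (m = n - 2 ∨ m = n - 1 ∨ m = n) ∧ Nonempty (↥(Cfsg.generalizedFittingSubgroup ↥H) ≃* ↥(alternatingGroup (Fin m))) := by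
  obtain ⟨P, hP⟩ := hS
  have e := Subgroup.equivMapOfInjective (Cfsg.generalizedFittingSubgroup H) _ H.subtype_injective
  obtain ⟨m, h1, h2, ⟨f⟩⟩ := H72.A3.main (H := H) (H14.quasi_of_mulEquiv hF e)
    (fun h hh => Subgroup.le_normalizer_map H.subtype ⟨⟨h, hh⟩,
      (Subgroup.normalizer_eq_top_iff.2 (H14.fstar_normal H)).ge trivial, rfl⟩)
    (Subgroup.map_subtype_le _) (fun h hh hc => ⟨⟨h, hh⟩, H14.centralizer_fstar_le
      fun l hl => Subtype.ext (hc l ⟨l, hl, rfl⟩).symm, rfl⟩) P hP (by simp; omega)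
  rw [Fintype.card_fin] at h1 h2
  exact ⟨m, by omega, ⟨e.trans f⟩⟩

end Cfsg.Agent.S2929
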