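import Cfsg.Statements.S2931
import Cfsg.Agent.H65.PcIso
import Cfsg.Agent.H44.PSm2
import Cfsg.Agent.S0288

set_option autoImplicit false
open Cfsg

namespace Cfsg.Agent.S2931

/-- The Sylow 2-subgroups of the alternating group of degree 8 and of PSp₄(3) are isomorphic, and so are the Sylow 2-subgroups of the symmetric group of degree 8 and of the full isometry group of a non-degenerate quadratic form of minus type in dimension 6 over the field with 2 elements. -/
theorem result (F : Type) [Field F] [Fintype F] (hF : Fintype.card F = 3) (K : Type) [Field K] [Fintype K] (hK : Fintype.card K = 2) (a b : K) (hab : ∀ z₁ z₂ : K, z₁ ^ 2 + a * z₁ * z₂ + b * z₂ ^ 2 = 0 → z₁ = 0 ∧ z₂ = 0) (P : Sylow 2 ↥(alternatingGroup (Fin 8))) (Q : Sylow 2 (Cfsg.PSp 2 F)) (P' : Sylow 2 (Equiv.Perm (Fin 8))) (Q' : Sylow 2 ↥(Cfsg.isometryGroup K (Cfsg.quadFormMinus 2 K a b))) : Nonempty (↥(P : Subgroup ↥(alternatingGroup (Fin 8))) ≃* ↥(Q : Subgroup (Cfsg.PSp 2 F))) ∧ Nonempty (↥(P' : Subgroup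 (Equiv.Perm (Fin 8))) ≃* ↥(Q' : Subgroup ↥(Cfsg.isometryGroup K (Cfsg.quadFormMinus 2 K a b)))) := by
  classical
  constructor
  · obtain ⟨n, τ, x, t, h⟩ := H44.PSm.jobM (Cfsg.PSp 2 F) F (by rw [hF]; decide) (Q : Subgroup _) Q
      ⟨MulEquiv.refl _⟩
    have h2 : (2 : F) ≠ 0 := fun h => by
      have : ringChar F = 2 := CharP.ringChar_of_prime_eq_zero Nat.prime_two (by exact_mod_cast h)
      have := (FiniteField.even_card_iff_char_two (F := F)).1 this
      omega
    have c2 := (Subgroup.center (Matrix.symplecticGroup (Fin 2) F)).card_eq_card_quotient_mul_card_subgroup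
    rw [H54.card_center_sp, if_neg h2, Cfsg.Agent.S0245.result hF] at c2
    have c3 : Nat.card (Cfsg.PSp 2 F) = 2 ^ 6 * 405 := by
      have : Nat.card (Cfsg.PSp 2 F) * 2 = 51840 := c2.symm.trans (by decide)
      omega
    have c4 := Q.card_eq_multiplicity
    rw [h.card, c3, Nat.factorization_mul (by norm_num) (by norm_num), Nat.factorization_pow,
      Finsupp.add_apply, Nat.factorization_eq_zero_of_not_dvd (n := 405) (by norm_num)] at c4
    have c5 := Nat.pow_right_injective le_rfl c4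
    simp [Nat.prime_two.factorization_self] at c5
    obtain rfl : n = 2 := by omega
    obtain ⟨e⟩ := H44.PSm.jobM8 _ _ τ x t h P
    exact ⟨e.symm⟩
  · let e := ZMod.ringEquivOfPrime K Nat.prime_two hK
    obtain ⟨a', rfl⟩ := e.surjective a
    obtain ⟨b', rfl⟩ := e.surjective b
    have h1 : ∀ z₁ z₂ : ZMod 2, z₁ ^ 2 + a' * z₁ * z₂ + b' * z₂ ^ 2 = 0 → z₁ = 0 ∧ z₂ = 0 := by
      intro z₁ z₂ h
      have := hab (e z₁) (e z₂) (by
        have := congrArg e h
        simpa only [map_add, map_mul, map_pow, map_zero] using this)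
      simpa using this
    have h2 : a' = 1 ∧ b' = 1 := (by decide : ∀ a' b' : ZMod 2,
      (∀ z₁ z₂ : ZMod 2, z₁ ^ 2 + a' * z₁ * z₂ + b' * z₂ ^ 2 = 0 → z₁ = 0 ∧ z₂ = 0) →
        a' = 1 ∧ b' = 1) a' b' h1
    obtain ⟨rfl, rfl⟩ := h2
    revert hab Q'
    rw [map_one]
    intro hab Q'
    obtain ⟨A, B, hA, ⟨f⟩⟩ := H65.PcIso.exists_sub e
    have c0 : Nat.card (Cfsg.isometryGroup K (Cfsg.quadFormMinus 2 K 1 1)) = 2 ^ 7 * 405 :=
      (Cfsg.Agent.S0288.result hK 3 (by norm_num) 1 1 hab).trans (by decide)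
    have c1 : Nat.card (Equiv.Perm (Fin 8)) = 2 ^ 7 * 315 := by
      rw [Nat.card_perm, Nat.card_eq_fintype_card, Fintype.card_fin]; rfl
    let A' : Sylow 2 (Equiv.Perm (Fin 8)) := Sylow.ofCard A (by
      rw [hA, c1, Nat.factorization_mul (by norm_num) (by norm_num), Nat.factorization_pow,
        Finsupp.add_apply, Nat.factorization_eq_zero_of_not_dvd (n := 315) (by norm_num)]
      simp [Nat.prime_two.factorization_self])
    let B' : Sylow 2 (Cfsg.isometryGroup K (Cfsg.quadFormMinus 2 K 1 1)) := Sylow.ofCard B (by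
      rw [← Nat.card_congr f.toEquiv, hA, c0, Nat.factorization_mul (by norm_num) (by norm_num),
        Nat.factorization_pow, Finsupp.add_apply,
        Nat.factorization_eq_zero_of_not_dvd (n := 405) (by norm_num)]
      simp [Nat.prime_two.factorization_self])
    exact ⟨(Sylow.equiv P' A').trans (f.trans (Sylow.equiv B' Q'))⟩

end Cfsg.Agent.S2931
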