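import Cfsg.Statements.S2934
import Cfsg.Agent.H14.NFSpec
import Cfsg.Agent.H14.Local
import Cfsg.Agent.H84.Inv
import Cfsg.Agent.H3.DSQAut
import Cfsg.Agent.S3742
import Cfsg.Agent.S0095
import Cfsg.Agent.H46.Prod
import Cfsg.Agent.H46.Coprime
import Cfsg.Agent.H3.FrattiniP
import Cfsg.Agent.H3.Frattini
import Cfsg.Agent.H2.CoreFree

set_option autoImplicit false
open Cfsg

namespace Cfsg.Agent.S2934

open Subgroup H26.FP H98 SemidirectProduct H14.NF
open scoped commutatorElement Pointwise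

variable {Γ : Type*} [Group Γ] [Finite Γ] {p : ℕ} [hp : Fact p.Prime]

theorem act (p2 : p ≠ 2) {X E : Subgroup Γ} (hX : IsPGroup 2 X) (hE : IsPGroup p E) (hn : E ≤ N[X])
    (h1 : ∀ a ∈ X, ∀ b ∈ X, orderOf a = 2 → orderOf b = 2 → a = b) (h : ¬ E ≤ C[X]) :
    Nat.card X = 8 ∧ ¬ X ≤ C[X] ∧ p = 3 ∧ C[X].relIndex E = 3 := by
  set φ := X.normalizerMonoidHom.comp (inclusion hn) with hφ
  have k : φ.ker = C[X].subgroupOf E := by
    rw [hφ, ← MonoidHom.comap_ker, normalizerMonoidHom_ker]; rfl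
  have d : C[X].relIndex E ∣ Nat.card (MulAut X) := by
    rw [relIndex, ← k, index_ker]; exact card_subgroup_dvd_card _
  obtain ⟨k, hk⟩ := hE.index (C[X].subgroupOf E)
  replace hk : C[X].relIndex E = p ^ k := hk
  have k0 : k ≠ 0 := by
    rintro rfl
    exact h (relIndex_eq_one.1 hk)
  have pd : p ∣ Nat.card (MulAut X) := (dvd_pow_self p k0).trans (hk ▸ d)
  have n2 : ¬ IsPGroup 2 (MulAut X) := fun h2 => by
    obtain ⟨j, hj⟩ := h2.exists_card_eq
    exact p2 ((Nat.prime_dvd_prime_iff_eq hp.out Nat.prime_two).1 (hp.out.dvd_of_dvd_pow (hj ▸ pd)))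
  obtain ⟨e⟩ : Nonempty (X ≃* QuaternionGroup 2) := by
    rcases H84.isCyclic_or_quaternion_of_unique_involution hX h1 with hc | ⟨n, ⟨e⟩⟩
    · obtain ⟨n, hn⟩ := hX.exists_card_eq
      refine absurd (IsPGroup.of_card (n := n - 1) ?_) n2
      rw [IsCyclic.card_mulAut, hn]
      rcases n with _ | n
      · simp
      · rw [Nat.totient_prime_pow_succ Nat.prime_two]; simp
    · exact ((H3.dsq_quaternion n).of_mulEquiv e.symm).quaternion_eight_or_isPGroup_mulAut.resolve_right n2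
  obtain ⟨e'⟩ := S3742.result
  have c : Nat.card (MulAut X) = 24 := by
    rw [Nat.card_congr ((MulAut.congr e).trans e').toEquiv, Nat.card_perm]; simp [Nat.factorial]
  rw [c] at pd d
  have p3 : p = 3 := by
    have := Nat.le_of_dvd (by decide) pd
    have := hp.out
    interval_cases p <;> first | rfl | omega | (exact absurd this (by decide))
  subst p3
  refine ⟨by rw [Nat.card_congr e.toEquiv, Nat.card_eq_fintype_card, QuaternionGroup.card], fun hc => ?_,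
    rfl, ?_⟩
  · have := congrArg e (Subtype.ext (hc (e.symm (.a 1)).2 _ (e.symm (.xa 0)).2) :
      e.symm (.xa 0) * e.symm (.a 1) = e.symm (.a 1) * e.symm (.xa 0))
    simp only [map_mul, MulEquiv.apply_symm_apply] at this
    exact absurd this (by decide)
  · rw [hk] at d ⊢
    rcases k with _ | _ | k
    · omega
    · rfl
    · exact absurd ((pow_dvd_pow 3 (by omega : 2 ≤ k + 1 + 1)).trans d) (by decide)

theorem main (p2 : p ≠ 2) {W E : Subgroup Γ} (hW : IsPGroup 2 W) (hE : IsPGroup p E) (hn : E ≤ N[W])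
    (ab : IsMulCommutative E) (nc : ¬ IsCyclic E) (hf : E ⊓ C[W] = ⊥)
    (h1 : ∀ e ∈ E, e ≠ 1 → ∀ a ∈ W ⊓ C1[e], ∀ b ∈ W ⊓ C1[e], orderOf a = 2 → orderOf b = 2 → a = b) :
    Nat.card E = 9 ∧ W ⊓ C[E] = W ⊓ C[W] ∧ Nat.card (W ⊓ C[W] : Subgroup Γ) = 2 ∧ ¬ W ≤ C[W] ∧
      (frattini W).map W.subtype ≤ C[W] ∧ 8 < Nat.card W ∧ Nat.card W ≤ 512 := by
  have mc : ∀ {x g : Γ}, g ∈ C1[x] ↔ g * x = x * g := mem_centralizer_singleton_iff
  have EE : E ≤ C[E] := le_centralizer_iff_isMulCommutative.2 ab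
  have cop : ∀ {X : Subgroup Γ}, X ≤ W → (Nat.card E).Coprime (Nat.card X) := fun hX => by
    obtain ⟨k, hk⟩ := hE.exists_card_eq
    exact H1.coprime_card_of_isPGroup (hW.to_le hX)
      (hk ▸ Nat.Coprime.pow_left k ((Nat.coprime_primes hp.out Nat.prime_two).2 p2))
  have gen : ∀ {X L : Subgroup Γ}, X ≤ W → E ≤ N[X] → (∀ e ∈ E, e ≠ 1 → X ⊓ C1[e] ≤ L) → X ≤ L :=
    fun h2 h3 h4 => H46.coprime_abelian_gen_cent1 ab nc h3 (cop h2) h4
  have nQ : ∀ {X : Subgroup Γ}, E ≤ N[X] → ∀ e ∈ E, E ≤ N[X ⊓ C1[e]] := fun h e he =>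
    H1.le_normalizer_inf h (le_trans (fun g hg => mc.2 (EE he g hg)) le_normalizer)
  have act' : ∀ {X : Subgroup Γ}, X ≤ W → E ≤ N[X] → ∀ e ∈ E, e ≠ 1 → ¬ X ⊓ C1[e] ≤ C[E] →
      Nat.card (X ⊓ C1[e] : Subgroup Γ) = 8 ∧ ¬ X ⊓ C1[e] ≤ C[X ⊓ C1[e]] ∧ p = 3 ∧
      C[X ⊓ C1[e]].relIndex E = 3 := fun h2 h3 e he e1 h4 =>
    act p2 (hW.to_le (inf_le_left.trans h2)) hE (nQ h3 e he) (fun a ha b hb =>
      h1 e he e1 a (inf_le_inf_right _ h2 ha) b (inf_le_inf_right _ h2 hb)) fun h => h4 (le_centralizer_iff.1 h)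
  have abl : ∀ {X : Subgroup Γ}, X ≤ W → E ≤ N[X] → X ≤ C[X] → X ≤ C[E] := fun h2 h3 h4 =>
    gen h2 h3 fun e he e1 => by_contra fun h5 => (act' h2 h3 e he e1 h5).2.1
      ((inf_le_left.trans h4).trans (centralizer_le inf_le_left))
  have WE : ¬ W ≤ C[E] := fun h => nc (by
    rw [← inf_eq_left.2 (le_centralizer_iff.1 h), hf]; infer_instance)
  obtain ⟨a, ha, a1, hQ⟩ : ∃ a ∈ E, a ≠ 1 ∧ ¬ W ⊓ C1[a] ≤ C[E] := by
    by_contra! h; exact WE (gen le_rfl hn h)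
  obtain ⟨c8, na, rfl, i3⟩ := act' le_rfl hn a ha a1 hQ
  have ZQ : ∀ e ∈ E, W ⊓ C[E] ≤ W ⊓ C1[e] := fun e he => inf_le_inf_left _ fun g hg => mc.2 (hg e he).symm
  have ZW : W ⊓ C[W] ≤ W ⊓ C[E] := le_inf inf_le_left (abl inf_le_left
    (H1.le_normalizer_inf hn (H1.le_normalizer_centralizer hn)) (inf_le_right.trans (centralizer_le inf_le_left)))
  have Z0 : W ⊓ C[W] ≠ ⊥ := by
    haveI := hW.isNilpotent
    simpa using H2.inf_inf_centralizer_ne_bot (N := W) (K := W) le_normalizer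
      (by rw [inf_idem]; rintro rfl; exact WE bot_le)
  have c2 : Nat.card (W ⊓ C[E] : Subgroup Γ) ≤ 2 := by
    have h2 := H2.card_modEq_card_inf_centralizer hE (nQ hn a ha)
    have h3 : W ⊓ C1[a] ⊓ C[E] = W ⊓ C[E] :=
      le_antisymm (inf_le_inf_right _ inf_le_left) (le_inf (ZQ a ha) inf_le_right)
    have h4 := card_dvd_of_le (ZQ a ha)
    have h5 := card_lt_of_lt (lt_of_le_of_ne (ZQ a ha) fun e => hQ (e.ge.trans inf_le_right))
    rw [h3] at h2
    rw [c8] at h2 h4 h5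
    revert h2 h4 h5
    generalize Nat.card (W ⊓ C[E] : Subgroup Γ) = m
    intro h2 h4 h5
    interval_cases m <;> simp [Nat.ModEq] at h2 h4 ⊢
  have eZ : W ⊓ C[W] = W ⊓ C[E] := eq_of_le_of_card_ge ZW (c2.trans ((one_lt_card_iff_ne_bot _).2 Z0))
  have c2' : Nat.card (W ⊓ C[W] : Subgroup Γ) = 2 :=
    le_antisymm (eZ ▸ c2) ((one_lt_card_iff_ne_bot _).2 Z0)
  set F := (frattini W).map W.subtype with hF
  have FW : F ≤ W := map_subtype_le _
  have FZ : F ≤ C[W] := by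
    by_contra h
    obtain ⟨u, hu, hu', hc⟩ := H14.exists_commutator_mem (hW.to_le FW) hW
      (H1.le_normalizer_map_of_characteristic le_normalizer _) h
    have sq : ∀ x ∈ W, x ^ 2 ∈ C1[u] := fun x hx => by
      have h3 := hc x hx
      have h4 : ⁅u, x⁆ ^ 2 = 1 := by
        have := pow_card_eq_one' (x := (⟨_, FW h3.1, h3.2⟩ : (W ⊓ C[W] : Subgroup Γ)))
        rw [c2'] at this
        exact congrArg Subtype.val this
      have h5 : u * x = ⁅u, x⁆ * x * u := by rw [commutatorElement_def]; group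
      refine mc.2 (Eq.symm ?_)
      rw [pow_two, ← mul_assoc, h5, mul_assoc _ u, h5, ← mul_assoc, ← mul_assoc, mul_assoc _ x ⁅u, x⁆,
        h3.2 x hx, ← mul_assoc, ← pow_two, h4, one_mul]
    have h2 : F ≤ C1[u] := map_le_iff_le_comap.2 (H3.frattini_le_of_elementary_quotient (p := 2) _
      (commutator_le.2 fun x _ y _ => by
        have := mul_mem (mul_mem (sq x x.2) (sq _ (x⁻¹ * y).2)) (inv_mem (sq y y.2))
        rw [mem_comap]
        convert this using 1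
        simp only [commutatorElement_def, pow_two, coe_mul, coe_inv, coe_subtype]
        group) fun x => sq x x.2)
    have EF : E ≤ N[F] := H1.le_normalizer_map_of_characteristic hn _
    exact hu' (eZ.ge ⟨FW hu, abl (X := F ⊓ C[F]) (inf_le_left.trans FW) (H1.le_normalizer_inf EF
      (H1.le_normalizer_centralizer EF)) (inf_le_right.trans (centralizer_le inf_le_left))
      ⟨hu, fun g hg => mc.1 (h2 hg)⟩⟩).2
  obtain ⟨b, hb, b1, hQ'⟩ : ∃ b ∈ E, b ≠ 1 ∧ ¬ W ⊓ C1[b] ≤ W ⊓ C1[a] := by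
    by_contra! h
    rw [inf_eq_left.2 ((gen le_rfl hn h).trans inf_le_right), relIndex, ← inf_subgroupOf_right,
      inf_comm, hf, bot_subgroupOf, index_bot] at i3
    exact nc (isCyclic_of_prime_card i3)
  obtain ⟨c8', -, -, i3'⟩ := act' le_rfl hn b hb b1 fun h => hQ' ((le_inf inf_le_left h).trans (ZQ a ha))
  have c9 : Nat.card E = 9 := by
    have h2 : (C[W ⊓ C1[a]] ⊓ C[W ⊓ C1[b]]) ⊓ E = ⊥ := eq_bot_iff.2 fun e he => by_contra fun e1 => by
      have k : ∀ {x : Γ}, e ∈ C[W ⊓ C1[x]] → W ⊓ C1[x] ≤ W ⊓ C1[e] := fun h g hg => ⟨hg.1, mc.2 (h g hg)⟩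
      have h3 := (act' le_rfl hn e he.2 e1 fun h => hQ ((k he.1.1).trans h)).1
      exact hQ' ((k he.1.2).trans (eq_of_le_of_card_ge (k he.1.1) (by rw [h3, c8])).ge)
    have h3 := relIndex_inf_le (H := C[W ⊓ C1[a]]) (K := C[W ⊓ C1[b]]) (L := E)
    rw [← inf_relIndex_right, h2, relIndex_bot_left, i3, i3'] at h3
    obtain ⟨k, hk⟩ := hE.exists_card_eq
    rcases k with _ | _ | _ | k
    · haveI := (Nat.card_eq_one_iff_unique.1 hk).1
      exact absurd isCyclic_of_subsingleton nc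
    · exact absurd (isCyclic_of_prime_card hk) nc
    · exact hk
    · have := Nat.pow_le_pow_right (show 0 < 3 by decide) (show 3 ≤ k + 1 + 1 + 1 by omega)
      omega
  refine ⟨c9, eZ.symm, c2', fun h => na ((inf_le_left.trans h).trans (centralizer_le inf_le_left)), FZ,
    c8 ▸ card_lt_of_lt (lt_of_le_of_ne inf_le_left fun e => hQ' (inf_le_left.trans e.ge)), ?_⟩
  have o3 : ∀ e ∈ E, e ≠ 1 → orderOf e = 3 := fun e he e1 => by
    obtain ⟨j, hj, h⟩ := (Nat.dvd_prime_pow Nat.prime_three (m := 2)).1 (c9 ▸ orderOf_dvd_natCard E he)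
    interval_cases j
    · exact absurd (orderOf_eq_one_iff.1 h) e1
    · exact h
    · exact absurd (isCyclic_of_orderOf_eq_card (⟨e, he⟩ : E) (by rw [orderOf_mk, h, c9]; rfl)) nc
  have p3 : ∀ e ∈ E, e ^ 3 = 1 := fun e he => by
    by_cases e1 : e = 1
    · simp [e1]
    · rw [← o3 e he e1, pow_orderOf_eq_one]
  have cz : ∀ {x y : Γ}, x ∈ zpowers y → W ⊓ C1[y] ≤ W ⊓ C1[x] := fun {x y} ⟨k, hk⟩ =>
    inf_le_inf_left _ fun g hg => mc.2 (hk ▸ Commute.zpow_right (mc.1 hg) k)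
  have ba : b ∉ zpowers a := fun h => hQ' (cz ((eq_of_le_of_card_ge (zpowers_le.2 h) (by
    rw [Nat.card_zpowers, Nat.card_zpowers, o3 a ha a1, o3 b hb b1])).ge (mem_zpowers a)))
  have cab : Commute a b := EE hb a ha
  have eE : zpowers a ⊔ zpowers b = E := by
    have h2 : zpowers a ⊔ zpowers b ≤ E := sup_le (zpowers_le.2 ha) (zpowers_le.2 hb)
    have h3 := card_lt_of_lt (left_lt_sup.2 fun h => ba (zpowers_le.1 h) : zpowers a < zpowers a ⊔ zpowers b)
    have h4 := card_dvd_of_le h2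
    refine eq_of_le_of_card_ge h2 ?_
    have h5 := Nat.le_of_dvd (by rw [c9]; decide) h4
    rw [Nat.card_zpowers, o3 a ha a1] at h3
    rw [c9] at h4 h5 ⊢
    revert h3 h4 h5
    generalize Nat.card (zpowers a ⊔ zpowers b : Subgroup Γ) = m
    intro h3 h4 h5
    interval_cases m <;> simp at h4 ⊢
  have WZ : ∀ X, W ⊓ C[E] ≤ X → X ≤ W → W ≤ N[X] := fun X h2 h3 =>
    H1.le_normalizer_of_commutator_le ((commutator_mono h3 le_rfl).trans (le_trans (le_inf
      (commutator_le_self W) (le_trans (by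
        rw [← map_subtype_commutator]
        exact map_mono (H3.commutator_le_frattini_pgroup hW)) FZ)) (ZW.trans h2)))
  have c8e : ∀ e ∈ E, e ≠ 1 → Nat.card (W ⊓ C1[e] : Subgroup Γ) ≤ 8 := fun e he e1 => by
    by_cases h : W ⊓ C1[e] ≤ C[E]
    · exact (card_le_of_le (le_inf inf_le_left h)).trans (c2.trans (by decide))
    · exact (act' le_rfl hn e he e1 h).1.le
  have st : ∀ X n, W ⊓ C[E] ≤ X → X ≤ W → Nat.card X ≤ n → ∀ e ∈ E, e ≠ 1 →
      Nat.card (X ⊔ W ⊓ C1[e] : Subgroup Γ) ≤ 4 * n := fun X n h2 h3 h4 e he e1 => by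
    have h5 := H46.card_sup_mul_card_inf (inf_le_left.trans (WZ X h2 h3) : W ⊓ C1[e] ≤ _)
    have h6 := card_le_of_le (le_inf h2 (ZQ e he))
    rw [← eZ, c2'] at h6
    have h7 := c8e e he e1
    nlinarith
  have ab1 : a * b ≠ 1 := fun e => ba (eq_inv_of_mul_eq_one_right e ▸ inv_mem (mem_zpowers a))
  have ab2 : a * b⁻¹ ≠ 1 := fun e => ba (mul_inv_eq_one.1 e ▸ mem_zpowers a)
  have h3 := st _ _ ((ZQ a ha).trans (le_sup_left.trans le_sup_left))
    (sup_le (sup_le inf_le_left inf_le_left) inf_le_left) (st _ _ ((ZQ a ha).trans le_sup_left)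
    (sup_le inf_le_left inf_le_left) (st _ _ (ZQ a ha) inf_le_left c8.le b hb b1) _ (mul_mem ha hb) ab1)
    _ (mul_mem ha (inv_mem hb)) ab2
  refine (card_le_of_le (gen le_rfl hn fun e he e1 => ?_)).trans h3
  obtain ⟨_, ⟨i, rfl⟩, _, ⟨j, rfl⟩, rfl⟩ : e ∈ (zpowers a : Set Γ) * (zpowers b : Set Γ) := by
    rw [← coe_mul_of_left_le_normalizer_right _ _ ((zpowers_le.2 ha).trans ((EE.trans (centralizer_le
      (zpowers_le.2 hb))).trans (centralizer_le_normalizer _))), eE]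
    exact he
  have k : ∀ x, x = a ^ i * b ^ j ∨ x = (a ^ i * b ^ j)⁻¹ → W ⊓ C1[a ^ i * b ^ j] ≤ W ⊓ C1[x] :=
    fun x hx => cz (hx.elim (fun h => h ▸ mem_zpowers _) fun h => h ▸ inv_mem (mem_zpowers _))
  have r : ∀ x ∈ E, ∀ i : ℤ, x ^ i = 1 ∨ x ^ i = x ∨ x ^ i = x⁻¹ := fun x hx i => by
    have h : x ^ (3 : ℤ) = 1 := by exact_mod_cast p3 x hx
    rw [zpow_eq_zpow_emod i h]
    rcases (by omega : i % 3 = 0 ∨ i % 3 = 1 ∨ i % 3 = 2) with e | e | e <;> rw [e]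
    · simp
    · simp
    · exact Or.inr (Or.inr (eq_inv_of_mul_eq_one_left (by rw [← zpow_add_one]; exact h)))
  have l1 := (k a · |>.trans (le_sup_left.trans (le_sup_left.trans le_sup_left) : _ ≤
    W ⊓ C1[a] ⊔ W ⊓ C1[b] ⊔ W ⊓ C1[a * b] ⊔ W ⊓ C1[a * b⁻¹]))
  have l2 := (k b · |>.trans (le_sup_right.trans (le_sup_left.trans le_sup_left) : _ ≤
    W ⊓ C1[a] ⊔ W ⊓ C1[b] ⊔ W ⊓ C1[a * b] ⊔ W ⊓ C1[a * b⁻¹]))
  have l3 := (k (a * b) · |>.trans (le_sup_right.trans le_sup_left : _ ≤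
    W ⊓ C1[a] ⊔ W ⊓ C1[b] ⊔ W ⊓ C1[a * b] ⊔ W ⊓ C1[a * b⁻¹]))
  have l4 := (k (a * b⁻¹) · |>.trans (le_sup_right : _ ≤
    W ⊓ C1[a] ⊔ W ⊓ C1[b] ⊔ W ⊓ C1[a * b] ⊔ W ⊓ C1[a * b⁻¹]))
  dsimp only at e1 ⊢
  rcases r a ha i with h | h | h <;> rcases r b hb j with h' | h' | h' <;> rw [h, h'] at e1 l1 l2 l3 l4 ⊢
  · simp at e1
  · exact l2 (by simp)
  · exact l2 (by simp)
  · exact l1 (by simp)
  · exact l3 (by simp)
  · exact l4 (by simp)
  · exact l1 (by simp)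
  · exact l4 (by simp [cab.inv_right.eq])
  · exact l3 (by simp [cab.eq])

/-- Let p be an odd prime, W a finite 2-group and E a non-cyclic abelian p-subgroup of Aut(W) such that, for every nontrivial e ∈ E, the fixed points of e in W contain at most one involution. Then E has order 9, W is extraspecial of order 2⁵, 2⁷ or 2⁹, and the common fixed points of E in W form exactly the centre Z(W). -/
theorem result {W : Type*} [Group W] [Finite W] (hW : IsPGroup 2 W) {p : ℕ} [Fact p.Prime] (hp : p ≠ 2) (E : Subgroup (MulAut W)) (hE : IsPGroup p ↥E) (hab : IsMulCommutative ↥E) (hnc : ¬ IsCyclic ↥E) (hfix : ∀ e ∈ E, e ≠ 1 → ∀ x y : W, orderOf x = 2 → orderOf y = 2 → e x = x → e y = y → x = y) : Nat.card ↥E = 9 ∧ Cfsg.IsExtraspecial 2 W ∧ (Nat.card W = 2 ^ 5 ∨ Nat.card W = 2 ^ 7 ∨ Nat.card W = 2 ^ 9) ∧ {x : W | ∀ e ∈ E, e x = x} = (Subgroup.center W : Set W) := by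
  haveI : Finite (MulAut W) := Finite.of_injective _ DFunLike.coe_injective
  set V : Subgroup (SD W (MulAut W)) := (⊤ : Subgroup W).map inl with hV
  set e : W ≃* V := topEquiv.symm.trans (equivMapOfInjective ⊤ inl inl_injective) with he
  have mZ : ∀ x : W, (inl x : SD W (MulAut W)) ∈ C[V] ↔ x ∈ center W := fun x =>
    ⟨fun h => mem_center_iff.2 fun y => inl_injective (by
      rw [map_mul, map_mul]; exact h _ ⟨y, mem_top y, rfl⟩), by
      rintro h _ ⟨y, -, rfl⟩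
      rw [← map_mul, ← map_mul, mem_center_iff.1 h y]⟩
  obtain ⟨h1, h2, h3, h4, h5, h6, h7⟩ := main hp (W := V) (E := E.map inr) (hW.of_equiv e) (hE.map _)
    (sd_nor.2 fun _ _ _ _ => mem_top _) inferInstance
    (fun h => hnc (isCyclic_of_surjective _ (equivMapOfInjective E (inr : _ →* SD W (MulAut W)) inr_injective).symm.surjective))
    (eq_bot_iff.2 (by
      rintro _ ⟨⟨a, -, rfl⟩, h⟩
      rw [show a = 1 from MulEquiv.ext fun x => sd_comm.1 (h _ ⟨x, mem_top x, rfl⟩).symm, map_one]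
      exact one_mem _)) (by
      rintro _ ⟨a, ha, rfl⟩ a1 _ ⟨⟨x, -, rfl⟩, hx⟩ _ ⟨⟨y, -, rfl⟩, hy⟩ ox oy
      rw [orderOf_injective _ inl_injective] at ox oy
      rw [hfix a ha (fun e => a1 (by rw [e, map_one])) x y ox oy
        (sd_comm.1 (mem_centralizer_singleton_iff.1 hx).symm)
        (sd_comm.1 (mem_centralizer_singleton_iff.1 hy).symm)])
  have c2 : Nat.card (center W) = 2 := by
    rw [← h3, ← card_map_of_injective (f := (inl : W →* SD W (MulAut W))) inl_injective]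
    congr 2
    ext x
    exact ⟨by rintro ⟨y, hy, rfl⟩; exact ⟨⟨y, mem_top y, rfl⟩, (mZ y).2 hy⟩,
      by rintro ⟨⟨y, -, rfl⟩, hy⟩; exact ⟨y, (mZ y).1 hy, rfl⟩⟩
  have F : frattini W ≤ center W := fun x hx => (mZ x).1 (h5 ⟨e x, (H3.map_frattini_mulEquiv e).le ⟨x, hx, rfl⟩, rfl⟩)
  have D := (H3.commutator_le_frattini_pgroup hW)
  have D' : commutator W = center W := eq_of_le_of_card_ge (D.trans F) (c2 ▸
    (one_lt_card_iff_ne_bot _).2 fun e0 => h4 (by
      rintro _ ⟨x, -, rfl⟩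
      exact (mZ x).2 (mem_center_iff.2 fun y => commutatorElement_eq_one_iff_mul_comm.1
        (mem_bot.1 (e0.le (commutator_mem_commutator (mem_top y) (mem_top x)))))))
  have ex : IsExtraspecial 2 W := ⟨⟨hW, le_antisymm F (D'.ge.trans D), D'⟩, c2⟩
  refine ⟨(card_map_of_injective inr_injective).symm.trans h1, ex, ?_, Set.ext fun x => ?_⟩
  · obtain ⟨n, -, hn⟩ := S0095.result ex
    rw [← Nat.card_congr e.toEquiv, hn] at h6 h7
    have h8 := (Nat.pow_lt_pow_iff_right (by decide)).1 (show 2 ^ 3 < _ from h6)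
    have h9 := (Nat.pow_le_pow_iff_right (by decide)).1 (show _ ≤ 2 ^ 9 from h7)
    rw [hn]
    rcases (by omega : n = 2 ∨ n = 3 ∨ n = 4) with rfl | rfl | rfl <;> simp
  · rw [SetLike.mem_coe, ← mZ]
    exact ⟨fun h => (h2.le ⟨⟨x, mem_top x, rfl⟩, sd_cent.2 h⟩).2,
      fun h => sd_cent.1 (h2.ge ⟨⟨x, mem_top x, rfl⟩, h⟩).2⟩

end Cfsg.Agent.S2934
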