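import Cfsg.Statements.S2968
import Cfsg.Agent.Base
import Cfsg.Agent.H99.Iso

set_option autoImplicit false
open Cfsg

namespace Cfsg.Agent.S2968

open Subgroup Cfsg H98 H99

/-- Let G be a finite group, p a prime, P a Sylow p-subgroup of G and x ∈ P an element of p-power order which is isolated in G (the only conjugate of x commuting with x is x itself). Then x lies in the centre of P, and the subgroup generated by x is both strongly closed and weakly closed in P with respect to G. -/
theorem result {G : Type*} [Group G] [Finite G] {p : ℕ} [Fact p.Prime] (P : Sylow p G) (x : G) (hxP : x ∈ (P : Subgroup G)) (hx : ∃ k : ℕ, orderOf x = p ^ k) (hiso : Cfsg.IsIsolated x) : x ∈ (P : Subgroup G) ⊓ Subgroup.centralizer ((P : Subgroup G) : Set G) ∧ Cfsg.IsStronglyClosed (Subgroup.zpowers x) (P : Subgroup G) ∧ Cfsg.IsWeaklyClosed (Subgroup.zpowers x) (P : Subgroup G) := by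
  have hp := isPGroup_zpowers_of_pow hx
  have hc := iso_le_centralizer hiso P.isPGroup' hxP
  refine ⟨⟨hxP, fun y hy => mem_centralizer_singleton_iff.1 (hc hy)⟩, ⟨zpowers_le.2 hxP, ?_⟩,
    zpowers_le.2 hxP, fun g hg => ?_⟩
  · rintro _ ⟨i, rfl⟩ g hg
    change g * x ^ i * g⁻¹ ∈ _ at hg ⊢
    have h1 : x ∈ centralizer ({g * x ^ i * g⁻¹} : Set G) :=
      mem_centralizer_singleton_iff.2 (mem_centralizer_singleton_iff.1 (hc hg)).symm
    have h2 : g * x * g⁻¹ ∈ centralizer ({g * x ^ i * g⁻¹} : Set G) := by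
      rw [mem_centralizer_singleton_iff]
      group
    obtain ⟨h, hh, hhc⟩ := iso_fusion hiso hp h1 h2
    have h3 := conj_eq_of_mem_centralizer hhc
    have h4 := conj_eq_of_mem_centralizer hh
    refine ⟨i, ?_⟩
    change x ^ i = _
    rw [← h4]
    conv_lhs => rw [← h3, conj_zpow]
    group
  · have h1 := iso_conj_eq hiso P.isPGroup' hxP (hg (mem_map_of_mem _ (mem_zpowers x)))
    rw [MonoidHom.map_zpowers]
    congr 1

end Cfsg.Agent.S2968
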