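import Cfsg.Statements.S2982
import Cfsg.Agent.H96.Struct3
import Cfsg.Agent.H98.SymM

set_option autoImplicit false
open Cfsg

namespace Cfsg.Agent.S2982

open Subgroup H98 H96

/-- Pushing up for minimal parabolic groups. Let G be a finite p-minimal group (a Sylow p-subgroup T is not normal and lies in exactly one maximal subgroup) of characteristic p (C_G(O_p(G)) ≤ O_p(G)). Suppose that no nontrivial characteristic subgroup of the Baumann subgroup B(T) is normal in G and that Ω₁(Z(T)) is not normal in G. Then G has a set of B(T)-blocks with the block structure of the local C*(G,T)-Theorem, every block E with E/O_p(E) alternating of degree 2m+1 (p = 2) has 2m+1 = 2ⁿ+1, and C*(G,T) = (C*(G,T) ∩ ⟨blocks⟩)·T. -/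
theorem result {G : Type*} [Group G] [Finite G] {p : ℕ} [Fact p.Prime] (hmin : Cfsg.IsPMinimal p G) (hG : Subgroup.centralizer (Cfsg.pCore p G : Set G) ≤ Cfsg.pCore p G) (T : Sylow p G) (hchar : ∀ C : Subgroup G, C ≤ Cfsg.baumannSubgroupOf p (T : Subgroup G) → C ≠ ⊥ → (C.subgroupOf (Cfsg.baumannSubgroupOf p (T : Subgroup G))).Characteristic → ¬ C.Normal) (hz : ¬ (Cfsg.omegaOneCenter p (T : Subgroup G)).Normal) : ∃ 𝓑 : Set (Subgroup G), Cfsg.HasBaumannBlockStructure p (T : Subgroup G) 𝓑 ∧ (∀ E ∈ 𝓑, ∀ m : ℕ, Nonempty (↥E ⧸ Cfsg.pCore p ↥E ≃* ↥(alternatingGroup (Fin (2 * m + 1)))) → ∃ n : ℕ, 2 * m + 1 = 2 ^ n + 1) ∧ Cfsg.cStarOf p (T : Subgroup G) = (Cfsg.cStarOf p (T : Subgroup G) ⊓ sSup 𝓑) ⊔ (T : Subgroup G) := by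
  have c := sx_cStar (charP_top_iff.2 hG) (isSyl_sylow T) (inSB _)
  obtain ⟨-, M, ⟨hM, -⟩, hu⟩ := hmin T
  have h1 : ∀ K, (T : Subgroup G) ≤ K → ¬ K ≤ M → K = ⊤ := fun K h h' =>
    (eq_top_or_exists_le_coatom K).resolve_right fun ⟨N, h1, h2⟩ => h' (hu N ⟨h1, h.trans h2⟩ ▸ h2)
  refine ⟨_, struct c, c.pmin (sup_le (not_not.1 fun h => hz (normal_of_top_le_normalizer
    (le_normalizer_of_le_centralizer (h1 _ (le_centralizer_oz _) h).ge))) (iSup_le fun ⟨C, h2, h3, h4⟩ =>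
      not_not.1 fun h => hchar C h2 h3 h4 (normal_of_top_le_normalizer (h1 _ ?_ h).ge))) hM.1 h1⟩
  have := (le_normalizer_bm le_normalizer).trans (normalizer_le_normalizer_map_subtype (hN := h4) _)
  rwa [map_subgroupOf_eq_of_le h2] at this

end Cfsg.Agent.S2982
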