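import Cfsg.Statements.S2987
import Cfsg.Agent.Base
import Cfsg.Agent.H98.Sub

set_option autoImplicit false
open Cfsg

namespace Cfsg.Agent.S2987

open Subgroup H98
open scoped commutatorElement


/-- Let G be a finite group of characteristic p (C_G(O_p(G)) ≤ O_p(G)) and E a subnormal subgroup of G which is a B(T)-block for some Sylow p-subgroup T of G. Then E is a normal subgroup of the Baumann subgroup B(G) (generated by the B(T) over all Sylow p-subgroups T), E is a B(T')-block for every Sylow p-subgroup T' of G, and every subgroup F that is a B(T')-block for some Sylow p-subgroup T' satisfies F ≤ E or [F, E] = 1. -/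
theorem result {G : Type*} [Group G] [Finite G] {p : ℕ} [Fact p.Prime] (hG : Subgroup.centralizer (Cfsg.pCore p G : Set G) ≤ Cfsg.pCore p G) (E : Subgroup G) (hE : ∃ T : Sylow p G, Cfsg.IsBaumannBlock p (T : Subgroup G) E) (hEs : E.IsSubnormal) : E ≤ Cfsg.baumannSubgroup p G ∧ Cfsg.baumannSubgroup p G ≤ Subgroup.normalizer (E : Set G) ∧ (∀ T' : Sylow p G, Cfsg.IsBaumannBlock p (T' : Subgroup G) E) ∧ ∀ F : Subgroup G, (∃ T' : Sylow p G, Cfsg.IsBaumannBlock p (T' : Subgroup G) F) → F ≤ E ∨ ⁅F, E⁆ = ⊥ := by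
  obtain ⟨T, hT⟩ := hE
  have hH := charP_top_iff.2 hG
  have h : SB p ⊤ E := ⟨subN_top_iff.2 hEs, _, isSyl_sylow T, hT⟩
  refine ⟨hT.2.1.ge.trans ((commutator_le_of_norm (le_ncl ⊤ _)
    (le_top.trans (le_normalizer_ncl _ _))).trans (ncl_le_iff.2 fun g _ => ?_)),
    iSup_le fun T' => h.bm_le hH (isSyl_sylow T'), fun T' => h.block hH (isSyl_sylow T'),
    fun F ⟨T', hF⟩ => h.le_or_comm hH (isSyl_sylow T') le_top hF⟩
  rw [cj_bm]
  exact le_iSup (fun T : Sylow p G => baumannSubgroupOf p (T : Subgroup G))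
    ((isSyl_sylow T).cj_of_mem (mem_top g)).toSylowTop

end Cfsg.Agent.S2987
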