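import Cfsg.Statements.S2989
import Cfsg.Agent.H52.MCL

set_option autoImplicit false
open Cfsg

namespace Cfsg.Agent.S2989

/-- Let G be a finite group and S a Sylow p-subgroup of G in the basic pushing-up situation (G ≠ 1, C_G(O_p(G)) ≤ O_p(G), S lies in a unique maximal subgroup of G, and some quotient of G is isomorphic to PSL₂ over a field of order a power of p), and suppose that S centralizes Z(J(S)), where J(S) is generated by the abelian subgroups of S of largest order (that is, J̃(S) = C_S(Z(J(S))) = S). Call a subgroup R of S centrally large if |R|·|Z(R)| is as large as possible among subgroups of S, and let S_Φ be the subgroup generated by the Frattini subgroups Φ(Q) of those minimal centrally large subgroups Q of S whose Ω₁(Z(Q)) has the largest order among minimal centrally large subgroups. Then Z(S) or S_Φ is normal in G; and if S_Φ = 1, the minimal centrally large subgroups of S are exactly the abelian subgroups of S of largest order, and at least one of them is elementary abelian. -/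
theorem result {G : Type*} [Group G] [Finite G] {p : ℕ} [Fact p.Prime] (S : Subgroup G) (hE : Cfsg.IsPushingUpSituation p S) (hJ : S ≤ Subgroup.centralizer (Cfsg.centerThompsonAOf S : Set G)) : ((S ⊓ Subgroup.centralizer (S : Set G)).Normal ∨ ((Cfsg.frattiniOfMinimalCLJoin p ↥S).map S.subtype).Normal) ∧ (Cfsg.frattiniOfMinimalCLJoin p ↥S = ⊥ → (∀ Q : Subgroup ↥S, Cfsg.IsMinimalCentrallyLarge Q ↔ Q ∈ Cfsg.maxAbelianSubgroups ↥S) ∧ ∃ A ∈ Cfsg.maxAbelianSubgroups ↥S, Cfsg.IsElementaryAbelian p A) := by
  obtain ⟨q, h1, h2, h3⟩ := H52.r1_of_sit hE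
  rw [H13.centerThompsonAOf_eq] at hJ
  refine ⟨?_, fun h => ?_⟩
  · rw [H52.map_sF]
    exact (h1.fm_push h2 h3 hJ).imp H52.normal_of_cent H98.normal_of_top_le_normalizer
  obtain ⟨H, hH⟩ := H52.exists_fm p S
  obtain ⟨H, rfl⟩ := H52.exists_subtype hH.1.1.le
  have h4 := H52.fm_iff.1 hH
  have h5 : H52.Ph H = ⊥ := eq_bot_iff.2 (h ▸ le_iSup (fun Q : {Q : Subgroup S //
    IsMinimalCentrallyLarge Q ∧ Nat.card (omegaOneCenter p Q) = maxOmegaCenterOfMinimalCL p S} =>
      H52.Ph Q.1) ⟨H, h4⟩)
  have h6 : IsPGroup p H := h3.isPGroup.to_subgroup H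
  have h7 := (H99.isMulCommutative_iff_commutator_eq_bot H).2 (eq_bot_iff.2 (h5 ▸ H52.comm_le_Ph h6))
  exact ⟨H99.mcl_iff_maxAb h4.1 h7, H, H99.maxAb_of_cl_comm h4.1.1 h7, h7, fun x hx =>
    Subgroup.mem_bot.1 (h5.le (H9.pow_mem_map_frattini h6 hx))⟩

end Cfsg.Agent.S2989
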