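import Cfsg.Statements.S3040
import Cfsg.Agent.H10.Fpf3

set_option autoImplicit false
open Cfsg

namespace Cfsg.Agent.S3040

set_option synthInstance.maxSize 1000 in
theorem s3 : ∀ u : Equiv.Perm (Fin 3), u ^ 3 = 1 → u ≠ 1 → ∃ t : Equiv.Perm (Fin 3), t ^ 2 = 1 ∧
    u * t = t * u * u ∧ ∀ w, w = 1 ∨ w = u ∨ w = u * u ∨ w = t ∨ w = t * u ∨ w = t * u * u := by
  decide

theorem hyp {G : Type*} [Group G] [Finite G] (h3 : ¬ 3 ∣ Nat.card G) (Sig : Subgroup (MulAut G))
    (e : Sig ≃* Equiv.Perm (Fin 3)) (hfpf : ∀ g : G, (∀ σ ∈ Sig, σ g = g) → g = 1) (s : Sig)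
    (h1 : s ^ 3 = 1) (h2 : s ≠ 1) : H10.F3.Hyp (s : MulAut G) := by
  obtain ⟨t, t1, t2, t3⟩ := s3 (e s) (by rw [← map_pow, h1, map_one]) (by simpa using h2)
  obtain ⟨t, rfl⟩ := e.surjective t
  simp only [← map_mul, ← map_pow, e.apply_eq_iff_eq, map_eq_one_iff e e.injective] at t1 t2
  refine ⟨congrArg Subtype.val h1, h3, fun g g1 g2 => by_contra fun g3 => ?_⟩
  let C := MonoidHom.eqLocus (s : MulAut G).toMonoidHom (MonoidHom.id G)
  have := Fact.mk Nat.prime_two
  obtain ⟨a, a1, a2⟩ := H10.F3.exists_fix (σ := t) Nat.prime_two (congrArg Subtype.val t1)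
    (s := (C : Set G) \ {1}) (fun a ha => ⟨by
      have e1 : (s : MulAut G) a = a := ha.1
      have := DFunLike.congr_fun (congrArg Subtype.val t2) a
      simp only [Subgroup.coe_mul, MulAut.mul_apply, e1] at this
      exact this, by simpa using ha.2⟩) (by
      have e1 : 2 ∣ (C : Set G).ncard := orderOf_eq_prime g2 g3 ▸ C.orderOf_dvd_natCard g1
      have e2 := Set.ncard_sdiff_singleton_add_one (s := (C : Set G)) C.one_mem
      rw [Nat.card_coe_set_eq]
      omega)
  have e1 : (s : MulAut G) a = a := a1.1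
  refine a1.2 (hfpf a fun σ hσ => ?_)
  have := t3 (e ⟨σ, hσ⟩)
  simp only [← map_mul, e.apply_eq_iff_eq, map_eq_one_iff e e.injective, Subtype.ext_iff] at this
  rcases this with rfl | rfl | rfl | rfl | rfl | rfl <;> simp [e1, a2]

/-- Let G be a finite group of even order coprime to 3, and let Σ be a group of automorphisms of G isomorphic to the symmetric group of degree 3 that is fixed-point-free (only the identity of G is fixed by every element of Σ). Then G is solvable, O_{2′,2}(G) (the preimage in G of O₂(G/O(G))) has odd index in G, and G = O_{2′,2}(G) C_G(σ) for every element σ of Σ of order 3; that is, O₂(G/O(G)) is a Sylow 2-subgroup of G/O(G) and G/O(G) = O₂(G/O(G)) C_{G/O(G)}(σ). -/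
theorem result {G : Type*} [Group G] [Finite G] (heven : 2 ∣ Nat.card G) (h3 : ¬ 3 ∣ Nat.card G)
    (Sig : Subgroup (MulAut G)) (hS3 : Nonempty (↥Sig ≃* Equiv.Perm (Fin 3))) (hfpf : ∀ g : G, (∀ σ ∈ Sig, σ g = g) → g = 1) :
    Group.IsSolvable G ∧ ¬ 2 ∣ (Cfsg.pPrimePCore 2 G).index ∧ ∀ σ ∈ Sig, orderOf σ = 3 →
      Cfsg.pPrimePCore 2 G ⊔ Subgroup.closure {g : G | σ g = g} = ⊤ := by
  obtain ⟨e⟩ := hS3
  have h := hyp h3 Sig e hfpf (e.symm (finRotate 3)) (by
    rw [← map_pow, map_eq_one_iff _ e.symm.injective]; decide) (by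
    rw [Ne, map_eq_one_iff _ e.symm.injective]; decide)
  refine ⟨H10.F3.solvable _ G _ (Nat.lt_succ_self _) h, h.index, fun σ h1 h2 =>
    eq_top_iff.2 fun g _ => ?_⟩
  obtain ⟨c, c1, c2⟩ := (hyp h3 Sig e hfpf ⟨σ, h1⟩ (Subtype.ext (h2 ▸ pow_orderOf_eq_one σ))
    fun e => by rw [show σ = 1 from congrArg Subtype.val e, orderOf_one] at h2; omega).exists_rep g
  simpa using mul_mem (Subgroup.mem_sup_right (Subgroup.subset_closure (k := {g : G | σ g = g}) c1))
    (Subgroup.mem_sup_left c2)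

end Cfsg.Agent.S3040
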