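import Cfsg.Statements.S3043
import Cfsg.Agent.H35.BL2
import Cfsg.Agent.H35.BL3

set_option autoImplicit false
open Cfsg

namespace Cfsg.Agent.S3043

/-- Let M be a nontrivial subgroup of a finite group G meeting each of its other conjugates trivially, with N_G(M) = M · C_{N_G(M)}(z) for some involution z ∈ N_G(M), and with C_G(x) of odd order for every nontrivial x ∈ M. Then one of the following holds: M is normal in G; the number of involutions of G is at most |G : M|; G is isomorphic to PGL₂(F) or to PSL₂(F) for a finite field F with |F| = |M|, M is an elementary abelian p-group for the characteristic p of F, and |F| ≡ 1 (mod 4) in the PSL₂ case; G is isomorphic to PSL₂(F) with |F| = 2^e, e > 1, and M is cyclic of order 2^e + 1; or for some d ≥ 1, G has an elementary abelian normal subgroup of order 2^{2d} complemented by N_G(M), and N_G(M) is dihedral of order 2(2^d + 1). -/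
theorem result {G : Type*} [Group G] [Finite G] (M : Subgroup G) (hM1 : M ≠ ⊥)
    (hTI : ∀ g : G, M ⊓ M.map (MulAut.conj g).toMonoidHom ≠ ⊥ → M.map (MulAut.conj g).toMonoidHom = M)
    (z : G) (hz : orderOf z = 2) (hzN : z ∈ Subgroup.normalizer (M : Set G))
    (hfac : M ⊔ (Subgroup.normalizer (M : Set G) ⊓ Subgroup.centralizer ({z} : Set G)) = Subgroup.normalizer (M : Set G))
    (hodd : ∀ x ∈ M, x ≠ 1 → Odd (Nat.card ↥(Subgroup.centralizer ({x} : Set G)))) :
    M.Normal ∨
    Nat.card {g : G // orderOf g = 2} ≤ M.index ∨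
    (∃ (F : Type) (_ : Field F) (_ : Fintype F) (p : ℕ) (_ : Fact p.Prime) (_ : CharP F p), Fintype.card F = Nat.card M ∧ Cfsg.IsElementaryAbelian p M ∧
        (Nonempty (G ≃* (GL (Fin 2) F ⧸ Subgroup.center (GL (Fin 2) F))) ∨
         (Fintype.card F % 4 = 1 ∧ Nonempty (G ≃* Matrix.ProjectiveSpecialLinearGroup (Fin 2) F)))) ∨
    (∃ (F : Type) (_ : Field F) (_ : Fintype F) (e : ℕ), 1 < e ∧ Fintype.card F = 2 ^ e ∧ IsCyclic ↥M ∧ Nat.card M = 2 ^ e + 1 ∧
        Nonempty (G ≃* Matrix.ProjectiveSpecialLinearGroup (Fin 2) F)) ∨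
    (∃ (d : ℕ) (E : Subgroup G), 1 ≤ d ∧ E.Normal ∧ Cfsg.IsElementaryAbelian 2 E ∧ Nat.card E = 2 ^ (2 * d) ∧
        E ⊓ Subgroup.normalizer (M : Set G) = ⊥ ∧ E ⊔ Subgroup.normalizer (M : Set G) = ⊤ ∧
        Nonempty (↥(Subgroup.normalizer (M : Set G)) ≃* DihedralGroup (2 ^ d + 1))) := by
  have zz : z * z = 1 := by rw [← pow_two, ← hz, pow_orderOf_eq_one]
  have H : H35.BL.Hy M (Subgroup.normalizer (M : Set G)) z := by
    refine ⟨rfl, hM1, fun x hx x1 g h => ?_, zz, fun e => by simp [e] at hz, hzN, fun n hn => ?_,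
      fun x hx x1 g h => (hodd x hx x1).of_dvd_nat (Subgroup.orderOf_dvd_natCard _
        (Subgroup.mem_centralizer_singleton_iff.2 h))⟩
    · exact Subgroup.mem_normalizer_iff_map_conj_eq.2 (hTI g fun e => x1 (conj_eq_one_iff.1
        (Subgroup.mem_bot.1 (e.le ⟨h, x, hx, rfl⟩))))
    · rw [← hfac, ← SetLike.mem_coe, Subgroup.coe_mul_of_right_le_normalizer_left _ _ inf_le_left] at hn
      obtain ⟨x, hx, c, hc, rfl⟩ := hn
      exact ⟨x, hx, c, Subgroup.mem_centralizer_singleton_iff.1 hc.2, rfl⟩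
  refine or_iff_not_imp_left.2 fun h1 => or_iff_not_imp_left.2 fun h2 => ?_
  have B : H35.BL.Big M _ z := ⟨H, fun g => H.all h2⟩
  obtain ⟨g, hg⟩ : ∃ g, g ∉ Subgroup.normalizer (M : Set G) := by
    by_contra k
    exact h1 (Subgroup.normalizer_eq_top_iff.1 (eq_top_iff.2 fun g _ => by_contra fun e => k ⟨g, e⟩))
  obtain ⟨x, hx, uu⟩ := B.all g hg
  have hu : g * x ∉ Subgroup.normalizer (M : Set G) := fun k =>
    hg ((mul_mem_cancel_right (H.le hx)).1 k)
  by_cases k : ∀ d ∈ Subgroup.normalizer (M : Set G),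
    g * x * d * (g * x)⁻¹ ∈ Subgroup.normalizer (M : Set G) → d * d = 1
  · have T := B.toTwo hu uu k
    obtain ⟨e, e1, he, ⟨k1, k2, k3⟩ | ⟨d, d1, k1, k2, k3⟩⟩ := T.count
    · exact Or.inr (Or.inl (T.case_psl e1 he k1 k2 k3))
    · obtain ⟨E, hE⟩ := T.case_aff d1 k1 k2 k3
      exact Or.inr (Or.inr ⟨d, E, d1, hE⟩)
  · push Not at k
    obtain ⟨d, hd, h, dd⟩ := k
    exact Or.inl (B.case_one hu uu hd h dd)

end Cfsg.Agent.S3043
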