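import Cfsg.Statements.S3060
import Cfsg.Agent.Base
import Cfsg.Agent.H99.DStar

set_option autoImplicit false
open Cfsg

namespace Cfsg.Agent.S3060

open Subgroup
open scoped commutatorElement Pointwise

/-- The D*-Theorem. For a finite p-group S let D*(S) be the subgroup generated by the abelian subgroups A of S such that every x ∈ S with ⟨A, x⟩ of nilpotency class at most two centralizes A. Let p be an odd prime and H a finite p-stable group with Sylow p-subgroup S. Here H is p-stable in the following sense: the largest normal p-subgroup O_p(H) contains its centralizer in H, and for every normal p-subgroup P of H, every element acting quadratically on P has image in O_p(H/C_H(P)). Then D*(S) is a normal subgroup of H. -/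
theorem result {G : Type*} [Group G] [Finite G] {p : ℕ} [Fact p.Prime] (hp : p ≠ 2)
    (hc : Subgroup.centralizer (Cfsg.pCore p G : Set G) ≤ Cfsg.pCore p G)
    (hst : ∀ (P : Subgroup G) [P.Normal], IsPGroup p P → Cfsg.IsPStableOn p P) (S : Sylow p G) :
    (Cfsg.dStarOf (S : Subgroup G)).Normal := by
  rw [H99.dStarOf_eq]
  have hT := H13.isPGroup_pCore (G := G) p
  -- every `D*(R)`, `R` Sylow, lies in `O_p(G)`
  have h1 : ∀ R : Sylow p G, sSup (H99.dsFam (R : Subgroup G)) ≤ pCore p G := by
    intro R
    have hD := H99.sSup_dsFam_mem R.2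
    have hOP : pCore p G ≤ R := hT.le_sylow_of_normal R
    have h3 := (H13.le_comap_pCore_of_isPStableOn (hst (pCore p G) hT)
      (A := sSup (H99.dsFam (R : Subgroup G))) (by
      rw [eq_bot_iff, ← (H99.isMulCommutative_iff_commutator_eq_bot _).1 hD.2.1]
      exact commutator_mono (le_normalizer_iff_commutator_le_right.mp
        (hOP.trans (le_normalizer.trans (H99.normalizer_le_normalizer_sSup_dsFam _)))) le_rfl)).trans
      (H13.comap_pCore_le_normalCore R _)
    rw [sup_of_le_right (hc.trans hOP)] at h3
    exact h3.trans (H13.le_pCore (R.2.to_le (normalCore_le _)))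
  set W : Subgroup G := ⨆ R : Sylow p G, sSup (H99.dsFam (R : Subgroup G)) with hW
  have hWT : W ≤ sSup (H99.dsFam (pCore p G)) := iSup_le fun R =>
    le_sSup (H99.mem_dsFam_of_le (H99.sSup_dsFam_mem R.2) (hT.le_sylow_of_normal R) (h1 R))
  have hWc : IsMulCommutative W := H99.isMulCommutative_of_le (H99.sSup_dsFam_mem hT).2.1 hWT
  have hWO : W ≤ pCore p G := hWT.trans (H99.sSup_dsFam_le _)
  have hWn : W.Normal := by
    refine ⟨fun x hx g => ?_⟩
    have : W.map (MulAut.conj g).toMonoidHom ≤ W := by
      rw [hW, Subgroup.map_iSup]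
      refine iSup_le fun R => ?_
      rw [← H99.sSup_dsFam_map (MulAut.conj g).injective]
      exact le_iSup (fun R : Sylow p G => sSup (H99.dsFam (R : Subgroup G))) (g • R)
    exact this ⟨x, hx, rfl⟩
  have hmem : W ∈ H99.dsFam (S : Subgroup G) := by
    refine ⟨hWO.trans (hT.le_sylow_of_normal S), hWc, fun x _ hx => ?_⟩
    have h2 : ⁅⁅W, zpowers x⁆, zpowers x⁆ = ⊥ := by
      rw [eq_bot_iff, ← (H99.class_two_sup_zpowers_iff hWc x).2 hx]
      exact commutator_mono (commutator_mono le_sup_left le_sup_right) le_sup_right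
    have h3 := H13.le_comap_pCore_of_isPStableOn (hst W (hT.to_le hWO)) h2 (mem_zpowers x)
    have : W ≤ centralizer ((zpowers x : Subgroup G) : Set G) := by
      refine iSup_le fun R => le_centralizer_iff.1 ((zpowers_le).2 ?_)
      have h4 := normalCore_le _ (H13.comap_pCore_le_normalCore R _ h3)
      obtain ⟨c, hc', y, hy, rfl⟩ := H99.mem_sup_of_coe_eq_mul (normal_mul _ _) h4
      have hDW : sSup (H99.dsFam (R : Subgroup G)) ≤ W :=
        le_iSup (fun R : Sylow p G => sSup (H99.dsFam (R : Subgroup G))) R
      refine mul_mem (centralizer_le hDW hc') ((H99.sSup_dsFam_mem R.2).2.2 y hy fun a ha => ?_)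
      have haW := hDW ha
      have e1 : ⁅a, c * y⁆ = ⁅a, y⁆ := by
        have c1 := hc' a haW
        have c2 := hc' _ (hWn.conj_mem _ (inv_mem haW) y)
        simp only [commutatorElement_def, mul_inv_rev]
        calc a * (c * y) * a⁻¹ * (y⁻¹ * c⁻¹) = a * (c * (y * a⁻¹ * y⁻¹)) * c⁻¹ := by group
          _ = a * ((y * a⁻¹ * y⁻¹) * c) * c⁻¹ := by rw [c2]
          _ = _ := by group
      obtain ⟨h5, h6⟩ := hx a haW
      rw [e1] at h5 h6
      refine ⟨centralizer_le hDW h5, ?_⟩
      have h7 : ⁅a, y⁆ ∈ W := commutator_le_left W ⊤ (commutator_mem_commutator haW trivial)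
      have h8 := hc' _ h7
      rw [← mul_assoc, h8, mul_assoc, mul_assoc] at h6
      exact mul_left_cancel h6
    exact le_centralizer_iff.1 this (mem_zpowers x)
  have : sSup (H99.dsFam (S : Subgroup G)) = W :=
    le_antisymm (le_iSup (fun R : Sylow p G => sSup (H99.dsFam (R : Subgroup G))) S) (le_sSup hmem)
  rw [this]
  exact hWn

end Cfsg.Agent.S3060
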