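import Cfsg.Statements.S3062
import Cfsg.Agent.Base
import Cfsg.Agent.H99.DStar
import Cfsg.Agent.S0649
import Cfsg.Agent.S0650

set_option autoImplicit false
open Cfsg

namespace Cfsg.Agent.S3062

/-- Let S be a finite p-group, J(S) the subgroup generated by the abelian subgroups of S of largest order and Z(J(S)) its centre. Then Z(S) ≤ D*(S) ≤ Z(J(S)), and every maximal normal abelian subgroup of S contains D*(S). -/
theorem result {S : Type*} [Group S] [Finite S] {p : ℕ} [Fact p.Prime]
    (hS : IsPGroup p S) :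
    Subgroup.center S ≤ Cfsg.dStar S ∧
    Cfsg.dStar S ≤ Cfsg.thompsonSubgroupA S ⊓ Subgroup.centralizer (Cfsg.thompsonSubgroupA S : Set S) ∧
    ∀ A : Subgroup S, A.Normal → IsMulCommutative A →
      (∀ B : Subgroup S, B.Normal → IsMulCommutative B → A ≤ B → B = A) → Cfsg.dStar S ≤ A := by
  have hD := H99.sSup_dsFam_mem (hS.to_subgroup ⊤)
  have hDn : (sSup (H99.dsFam (⊤ : Subgroup S))).Normal := by
    rw [← Subgroup.normalizer_eq_top_iff, eq_top_iff]
    exact Subgroup.le_normalizer.trans (H99.normalizer_le_normalizer_sSup_dsFam ⊤)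
  rw [H99.dStar_eq]
  set D := sSup (H99.dsFam (⊤ : Subgroup S)) with hDdef
  refine ⟨le_sSup ⟨le_top, inferInstance, fun x _ _ a ha => ?_⟩, ?_, fun A hAn hAc hmax => ?_⟩
  · exact (Subgroup.mem_center_iff.1 ha x).symm
  · have key : ∀ A ∈ maxAbelianSubgroups S, D ≤ A := by
      by_contra hcon
      push Not at hcon
      obtain ⟨A, ⟨hA, hDA⟩, hmax⟩ := Set.exists_max_image
        {A : Subgroup S | A ∈ maxAbelianSubgroups S ∧ ¬ D ≤ A}
        (fun A => Nat.card ↥(A ⊓ D)) (Set.toFinite _) hcon
      by_cases hn : D ≤ Subgroup.normalizer (A : Set S)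
      · apply hDA
        rw [← H99.maxAb_centralizer_eq hA, Subgroup.le_centralizer_iff]
        intro x hx
        refine hD.2.2 x trivial (fun a ha => ?_)
        have h1 := Subgroup.commutator_mem_commutator ha hx
        have h2 := Subgroup.le_normalizer_iff_commutator_le_right.1 hn h1
        have h3 := Subgroup.commutator_le_left D A h1
        exact ⟨(H99.isMulCommutative_iff_le_centralizer D).1 hD.2.1 h3,
          ((H99.isMulCommutative_iff_le_centralizer A).1 hA.1 hx) _ h2⟩
      · have hDD : ⁅D, D⁆ ≤ A := by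
          rw [(H99.isMulCommutative_iff_commutator_eq_bot D).1 hD.2.1]; exact bot_le
        obtain ⟨b, hb, hb1, hb2⟩ := Cfsg.Agent.S0649.result hS D (fun _ => hD.2.1) A hA.1 hDD hn
        obtain ⟨r1, r2, -, r4, r5, -⟩ :=
          Cfsg.Agent.S0650.result hS D (fun _ => hD.2.1) A hA.1 hDD hn b hb hb1 hb2
        have := hmax _ ⟨H99.mem_maxAb_of_card_le hA r2 r1.ge,
          fun h => r5.ne (inf_eq_right.2 h)⟩
        exact absurd (H99.card_lt_card_of_lt r4) (not_lt.2 this)
    obtain ⟨A, hA⟩ := H99.exists_mem_maxAbelianSubgroups (G := S)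
    refine le_inf ((key A hA).trans (H99.le_thompsonSubgroupA hA)) ?_
    rw [Subgroup.le_centralizer_iff]
    refine sSup_le fun B hB => ?_
    exact ((H99.isMulCommutative_iff_le_centralizer B).1 hB.1).trans
      (Subgroup.centralizer_le (key B hB))
  · refine H99.sSup_dsFam_le_of_maximal (hS.to_subgroup ⊤) le_top Subgroup.le_normalizer_of_normal
      hAc (fun B' _ h2 h3 h4 => hmax B' ?_ h3 h4)
    rwa [← Subgroup.normalizer_eq_top_iff, eq_top_iff]

end Cfsg.Agent.S3062
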