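import Cfsg.Statements.S3063
import Cfsg.Agent.Base
import Cfsg.Agent.H99.ThompsonRepl

set_option autoImplicit false
open Cfsg

namespace Cfsg.Agent.S3063

open Subgroup
open scoped commutatorElement Pointwise

/-- A weak replacement Theorem for metabelian p-groups: let S be a finite p-group whose derived subgroup is abelian and A an abelian subgroup of S of largest possible order. Then the normal closure of A in S contains an abelian subgroup B of the same order as A that is normal in S. -/
theorem result {S : Type*} [Group S] [Finite S] {p : ℕ} [Fact p.Prime]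
    (hS : IsPGroup p S) (hmeta : IsMulCommutative ↥(commutator S))
    (A : Subgroup S) (hA : A ∈ Cfsg.maxAbelianSubgroups S) :
    ∃ B ∈ Cfsg.maxAbelianSubgroups S, B.Normal ∧ B ≤ Subgroup.normalClosure (A : Set S) := by
  obtain ⟨B, ⟨hB, hBA⟩, hmax⟩ := Set.exists_max_image
    {B : Subgroup S | B ∈ maxAbelianSubgroups S ∧ B ≤ normalClosure (A : Set S)}
    (fun B => Nat.card ↥(B ⊓ commutator S)) (Set.toFinite _) ⟨A, hA, le_normalClosure⟩
  refine ⟨B, hB, ⟨fun b hb x => ?_⟩, hBA⟩
  set M := closure {g : S | ∃ a ∈ B, g = ⁅x, a⁆} with hMdef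
  have hMS : M ≤ commutator S := by
    rw [hMdef, closure_le]
    rintro _ ⟨a, ha, rfl⟩
    exact commutator_mem_commutator trivial trivial
  have hM : IsMulCommutative M := H99.isMulCommutative_of_le hmeta hMS
  have h1 := H99.thompson_repl_mem_maxAb hB x hM
  have h2 : M ⊔ (B ⊓ centralizer (M : Set S)) ≤ normalClosure (A : Set S) := by
    refine sup_le ?_ (inf_le_left.trans hBA)
    rw [hMdef, closure_le]
    rintro _ ⟨a, ha, rfl⟩
    exact commutator_le_right ⊤ _ (commutator_mem_commutator trivial (hBA ha))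
  have h3 : B ⊓ commutator S ≤ (M ⊔ (B ⊓ centralizer (M : Set S))) ⊓ commutator S :=
    le_inf (le_sup_of_le_right (le_inf inf_le_left (inf_le_right.trans
      (((H99.isMulCommutative_iff_le_centralizer _).1 hmeta).trans (centralizer_le hMS)))))
      inf_le_right
  have h4 := Subgroup.eq_of_le_of_card_ge h3 (hmax _ ⟨h1, h2⟩)
  have h5 : ⁅x, b⁆ ∈ M := subset_closure ⟨b, hb, rfl⟩
  have h6 : ⁅x, b⁆ ∈ B ⊓ commutator S := by
    rw [h4]; exact ⟨mem_sup_left h5, hMS h5⟩
  have := B.mul_mem h6.1 hb
  simpa [commutatorElement_def] using this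

end Cfsg.Agent.S3063
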