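import Cfsg.Statements.S3070
import Cfsg.Agent.H72.JNorm3
import Cfsg.Agent.H7.Frobenius

set_option autoImplicit false
open Cfsg

namespace Cfsg.Agent.S3070

/-- Let p ≥ 5 be a prime, S a Sylow p-subgroup of the finite group G and J(S) the subgroup generated by the abelian subgroups of S of largest order. Then G has a normal p-complement if and only if N_G(J(S))/C_G(J(S)) is a p-group (every element of N_G(J(S)) of order prime to p centralizes J(S)). -/
theorem result {G : Type*} [Group G] [Finite G] {p : ℕ} [Fact p.Prime]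
    (hp : 5 ≤ p) (S : Sylow p G) :
    Cfsg.HasNormalPComplement p G ↔
      ∀ g ∈ Subgroup.normalizer (Cfsg.thompsonSubgroupAOf (S : Subgroup G) : Set G), (orderOf g).Coprime p →
        g ∈ Subgroup.centralizer (Cfsg.thompsonSubgroupAOf (S : Subgroup G) : Set G) := by
  refine ⟨fun h g hg hc => H7.mem_centralizer_of_hasNPC' h
    (S.isPGroup'.to_le (Subgroup.map_subtype_le _)) hg hc, fun h => ?_⟩
  refine H10.hasNPC_of_charFunctor (H7.isCharFunctor_thompsonSubgroupAOf p)
    (fun G _ _ S h => H72.JN.normal_J hp S h) S ?_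
  set J := Cfsg.thompsonSubgroupAOf (S : Subgroup G) with hJ
  refine H7.hasNPC_of_pResidual_le (N := (Subgroup.centralizer (J : Set G)).subgroupOf _)
    ((Subgroup.closure_le _).2 fun g hg => h g g.2 (by rwa [Subgroup.orderOf_coe])) ?_
  rw [H7.hasNPC_subgroupOf_iff (Subgroup.centralizer_le_normalizer _)]
  refine H7.hasNPC_of_normalizer_centralizer fun Q hQ g _ _ x hx => Subtype.ext (g.2 x ?_)
  obtain ⟨A, hA⟩ := H13.maxAb_nonempty 0 (S : Subgroup G)
  have hAJ : A ≤ J := by rw [hJ, H13.thompsonSubgroupAOf_eq]; exact le_sSup hA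
  have hz : ∀ a ∈ A, ∀ b ∈ Subgroup.zpowers (x : G), a * b = b * a := by
    rintro a ha _ ⟨k, rfl⟩
    exact (Commute.zpow_right (x.2 a (hAJ ha)) k).eq
  have h1 : IsPGroup p (Subgroup.zpowers (x : G)) :=
    (hQ.map (Subgroup.subtype _)).to_le (Subgroup.zpowers_le.2 ⟨x, hx, rfl⟩)
  have h2 := H72.JN.card_le_of_maxAb S hA (A ⊔ Subgroup.zpowers (x : G))
    (IsPGroup.to_sup_of_normal_left' (S.isPGroup'.to_le hA.1) h1 (fun b hb =>
      Subgroup.centralizer_le_normalizer _ fun a ha => hz a ha b hb))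
    (H72.JN.comm_sup (fun a ha b hb => congrArg Subtype.val (hA.2.1.1.is_comm.comm ⟨a, ha⟩ ⟨b, hb⟩))
      (by rintro _ ⟨i, rfl⟩ _ ⟨j, rfl⟩; exact zpow_mul_comm _ _ _) hz)
  refine hAJ ?_
  rw [Subgroup.eq_of_le_of_card_ge (le_sup_left : A ≤ A ⊔ Subgroup.zpowers (x : G)) h2]
  exact Subgroup.mem_sup_right (Subgroup.mem_zpowers _)

end Cfsg.Agent.S3070
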