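import Cfsg.Statements.S3078
import Cfsg.Agent.Base
import Cfsg.Agent.H99.ThompsonRepl


set_option autoImplicit false
open Cfsg

namespace Cfsg.Agent.S3078

open Subgroup
open scoped commutatorElement Pointwise

/-- A replacement Theorem for abelian subgroups of p-groups, p odd. Let G be a finite p-group with p odd, A an abelian subgroup of G, and B a subgroup of nilpotency class at most 2 with [B, B] ≤ A, such that A normalizes B but B does not normalize A. Then there is an abelian subgroup A* of G of the same order as A with A ∩ B strictly contained in A* ∩ B, A* contained in N_G(A) and in the normal closure of A, the exponent of A* dividing the exponent of A, and with the subgroup generated by the elements of order dividing p in A of order at most that of the corresponding subgroup of A* (the rank of A is at most the rank of A*). -/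
theorem result {G : Type*} [Group G] [Finite G] {p : ℕ} [Fact p.Prime] (hp : p ≠ 2) (hG : IsPGroup p G) (A B : Subgroup G) (hA : IsMulCommutative A) (hB2 : ⁅⁅B, B⁆, B⁆ = ⊥) (hBA : ⁅B, B⁆ ≤ A) (hAB : A ≤ Subgroup.normalizer (B : Set G)) (hBnA : ¬ B ≤ Subgroup.normalizer (A : Set G)) : ∃ Astar : Subgroup G, IsMulCommutative Astar ∧ Nat.card Astar = Nat.card A ∧ A ⊓ B < Astar ⊓ B ∧ Astar ≤ Subgroup.normalizer (A : Set G) ∧ Astar ≤ Subgroup.normalClosure (A : Set G) ∧ Monoid.exponent Astar ∣ Monoid.exponent A ∧ Nat.card (Cfsg.omegaOne p A) ≤ Nat.card (Cfsg.omegaOne p Astar) := by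
  set N := normalizer (A : Set G) ⊓ normalizer (B : Set G) with hN
  have hlt : N < N ⊔ B := by
    refine lt_of_le_of_ne le_sup_left fun h => hBnA ?_
    exact (le_sup_right.trans h.ge).trans inf_le_left
  obtain ⟨x, hx, hx'⟩ := SetLike.exists_of_lt
    (H13.lt_inf_normalizer_of_isPGroup (hG.to_subgroup _) hlt)
  obtain ⟨n, hn, b, hb, rfl⟩ := H99.mem_sup_of_coe_eq_mul
    (coe_mul_of_left_le_normalizer_right N B inf_le_right) hx.1
  have hbN : b ∈ normalizer (N : Set G) :=
    (Subgroup.mul_mem_cancel_left _ (le_normalizer hn)).1 hx.2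
  have hbA : b ∉ normalizer (A : Set G) := fun h => hx' (mul_mem hn ⟨h, le_normalizer hb⟩)
  have h2 : ∀ w : G, w ^ 2 = 1 → w = 1 := fun w =>
    H13.eq_one_of_sq_eq_one_of_isPGroup hp (hG.to_subgroup ⊤) w (Subgroup.mem_top w)
  have hAN : A ≤ N := le_inf le_normalizer hAB
  obtain ⟨r1, r2, r3, r4, r5, r6, r7, r8⟩ := H13.repl_spec hA hBA hAN inf_le_left inf_le_right
    hb hbN hbA (Or.inr fun w _ => h2 w)
  refine ⟨H13.repl A b, r2, r1, r4, r5.trans inf_le_left, ?_, ?_, ?_⟩
  · refine sup_le (inf_le_left.trans le_normalClosure) ?_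
    rw [closure_le]
    rintro _ ⟨a, ha, rfl⟩
    have h1 : a ∈ normalClosure (A : Set G) := le_normalClosure ha
    have h3 := (normalClosure_normal (s := (A : Set G))).conj_mem _ (inv_mem h1) b⁻¹
    have := mul_mem h1 h3
    simpa [mul_assoc] using this
  · rw [Monoid.exponent_dvd_iff_forall_pow_eq_one]
    intro g
    refine Subtype.ext (r8 (fun w _ => h2 w) _ (fun a ha => ?_) g g.2)
    exact congrArg Subtype.val (Monoid.pow_exponent_eq_one (⟨a, ha⟩ : A))
  · have hom : ∀ X : Subgroup G, IsMulCommutative X → ∀ y, y ∈ omegaOne p X ↔ y ∈ X ∧ y ^ p = 1 := by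
      intro X hX y
      refine ⟨fun hy => ?_, fun hy => subset_closure hy⟩
      induction hy using closure_induction with
      | mem x hx => exact hx
      | one => exact ⟨one_mem _, one_pow _⟩
      | mul x y _ _ hx hy =>
        refine ⟨mul_mem hx.1 hy.1, ?_⟩
        have : Commute x y := setLike_mul_comm hx.1 hy.1
        rw [this.mul_pow, hx.2, hy.2, one_mul]
      | inv x _ hx => exact ⟨inv_mem hx.1, by rw [inv_pow, hx.2, inv_one]⟩
    set Ab := A.map (MulAut.conj (b⁻¹)).toMonoidHom with hAb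
    have memAb : ∀ x, x ∈ Ab ↔ b * x * b⁻¹ ∈ A := fun x => H13.mem_map_conj_inv_iff
    have hconj : ∀ a ∈ A, b⁻¹ * a * b ∈ Ab := fun a ha => by
      rw [memAb]; simpa [mul_assoc] using ha
    have hAbN : Ab ≤ N := fun x hx => by
      have := H13.conj_mem_of_mem_normalizer' hbN (hAN ((memAb x).mp hx))
      simpa [mul_assoc] using this
    have hNAb : N ≤ normalizer (Ab : Set G) := by
      rw [le_normalizer_iff]
      intro n hn x hx
      rw [memAb] at hx ⊢
      have := H13.conj_mem_of_mem_normalizer (H13.conj_mem_of_mem_normalizer hbN hn).1 hx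
      simpa [mul_assoc] using this
    have hAAb : ⁅A, Ab⁆ ≤ A ⊓ Ab :=
      le_inf (le_normalizer_iff_commutator_le_left.mp (hAbN.trans inf_le_left))
        (le_normalizer_iff_commutator_le_right.mp (hAN.trans hNAb))
    have hAbc : IsMulCommutative Ab := inferInstance
    have key := H99.card_mul_le_of_map (E := omegaOne p A) (D' := A ⊓ Ab)
      (F := omegaOne p (H13.repl A b)) (D := A ⊓ Ab) (fun a => a * b⁻¹ * a⁻¹ * b) ?_ ?_
    · have hle : omegaOne p A ⊓ (A ⊓ Ab) ≤ omegaOne p (H13.repl A b) ⊓ (A ⊓ Ab) := by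
        rintro y ⟨hy1, hy2⟩
        exact ⟨(hom _ r2 y).2 ⟨mem_sup_left hy2, ((hom _ hA y).1 hy1).2⟩, hy2⟩
      exact Nat.le_of_mul_le_mul_right
        (key.trans (Nat.mul_le_mul_left _ (card_le_of_le hle))) Nat.card_pos
    · intro a ha
      obtain ⟨ha, hap⟩ := (hom _ hA a).1 ha
      refine (hom _ r2 _).2 ⟨mem_sup_right (subset_closure ⟨a, ha, rfl⟩), ?_⟩
      have hy := hconj _ (inv_mem ha)
      have hz : ⁅b⁻¹ * a⁻¹ * b, a⁆ ∈ A ⊓ Ab := by
        rw [← commutatorElement_inv]
        exact inv_mem (hAAb (commutator_mem_commutator ha hy))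
      have e1 : a * b⁻¹ * a⁻¹ * b = a * (b⁻¹ * a⁻¹ * b) := by group
      have c1 : Commute a ⁅b⁻¹ * a⁻¹ * b, a⁆ := setLike_mul_comm ha hz.1
      rw [e1, H13.mul_pow_of_commutator_commute c1 (setLike_mul_comm hy hz.2), hap]
      have e2 : (b⁻¹ * a⁻¹ * b) ^ p = 1 := by
        have := conj_pow (i := p) (a := b⁻¹) (b := a⁻¹)
        rw [inv_inv] at this
        rw [this, inv_pow, hap]; group
      have e3 : ⁅b⁻¹ * a⁻¹ * b, a⁆ ^ p = 1 := by
        set y := b⁻¹ * a⁻¹ * b
        have e4 : y * a * y⁻¹ = ⁅y, a⁆ * a := by rw [commutatorElement_def]; group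
        have e5 : (y * a * y⁻¹) ^ p = 1 := by rw [conj_pow, hap]; group
        rwa [e4, c1.symm.mul_pow, hap, mul_one] at e5
      rw [e2, one_mul, one_mul]
      refine h2 _ ?_
      rw [← pow_mul, Nat.choose_two_right, Nat.div_mul_cancel (Nat.even_mul_pred_self p).two_dvd,
        pow_mul, e3, one_pow]
    · intro a ha a' ha' h
      have ha := ((hom _ hA a).1 ha).1
      have ha' := ((hom _ hA a').1 ha').1
      refine ⟨A.mul_mem (A.inv_mem ha) ha', ?_⟩
      have e : a⁻¹ * a' = (b⁻¹ * a⁻¹ * b) * ((a * b⁻¹ * a⁻¹ * b)⁻¹ * (a' * b⁻¹ * a'⁻¹ * b)) *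
          (b⁻¹ * a' * b) := by group
      rw [e]
      exact mul_mem (mul_mem (hconj _ (inv_mem ha)) h.2) (hconj _ ha')

end Cfsg.Agent.S3078
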