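import Cfsg.Statements.S3090
import Cfsg.Agent.H96.PuD
import Cfsg.Agent.H52.Near

set_option autoImplicit false
open Cfsg

namespace Cfsg.Agent.S3090

open Subgroup H98 H96 H96.CG MatrixGroups
open scoped commutatorElement

/-- the three properties of `K` that are used -/
def Rk {G : Type*} [Group G] (K : Subgroup G) : Prop :=
  (∀ S, IsSyl 2 S K → ∃ X, UMax S X K) ∧
  (∀ N ≤ K, K ≤ nor N → N ≤ pCoreOf 2 K ∨ K ≤ N ⊔ pCoreOf 2 K) ∧
  ∀ x ∈ K, ∀ y ∈ K, ∀ z ∈ K, ⁅z, x⁆ ∈ pCoreOf 2 K → ⁅z, y⁆ ∈ pCoreOf 2 K →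
    ⁅x, y⁆ ∈ pCoreOf 2 K ∨ z ∈ pCoreOf 2 K

theorem rk_of {G Γ : Type*} [Group G] [Finite G] [Group Γ] {K : Subgroup G} (f : K →* Γ)
    (hf : Function.Surjective f) (hk : f.ker = pCore 2 K)
    (h1 : ∀ S : Subgroup K, IsSyl 2 S ⊤ → ∃ X, UMax S X ⊤)
    (h2 : ∀ N : Subgroup Γ, N.Normal → N = ⊤ ∨ N = ⊥)
    (h3 : ∀ x y z : Γ, z * x = x * z → z * y = y * z → x * y = y * x ∨ z = 1) : Rk K := by
  have k : ∀ x : K, f x = 1 ↔ (x : G) ∈ pCoreOf 2 K := fun x => by
    rw [← MonoidHom.mem_ker, hk, ← pCoreOf_subgroupOf]; rfl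
  refine ⟨fun S hS => ?_, fun N h hn => ?_, fun x hx y hy z hz e1 e2 => ?_⟩
  · obtain ⟨P, rfl⟩ := isSyl_iff_exists_sylow_map.1 hS
    obtain ⟨X, m⟩ := h1 P (isSyl_sylow P)
    exact ⟨_, by simpa only [map_subtype_top] using m.map_of_injective K.subtype_injective⟩
  · have h4 : (N.subgroupOf K).Normal := (normal_subgroupOf_iff_le_normalizer h).2 hn
    rcases h2 _ (h4.map f hf) with e | e
    · refine Or.inr fun x hx => ?_
      obtain ⟨y, hy, e'⟩ : f ⟨x, hx⟩ ∈ (N.subgroupOf K).map f := e ▸ mem_top _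
      have := (k (y⁻¹ * ⟨x, hx⟩)).1 (by rw [map_mul, map_inv, e', inv_mul_cancel])
      simpa using mul_mem (mem_sup_left hy : (y : G) ∈ N ⊔ pCoreOf 2 K) (mem_sup_right this)
    · exact Or.inl fun x hx => (k ⟨x, h hx⟩).1 (mem_bot.1 (e ▸ mem_map_of_mem f hx))
  · have c : ∀ a b : K, ⁅(a : G), (b : G)⁆ ∈ pCoreOf 2 K ↔ f a * f b = f b * f a := fun a b => by
      rw [← commutatorElement_eq_one_iff_mul_comm, ← map_commutatorElement, k]; rfl
    exact (h3 _ _ _ ((c ⟨z, hz⟩ ⟨x, hx⟩).1 e1) ((c ⟨z, hz⟩ ⟨y, hy⟩).1 e2)).imp (c ⟨x, hx⟩ ⟨y, hy⟩).2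
      (k ⟨z, hz⟩).1

theorem rk_three {G : Type*} [Group G] [Finite G] {K : Subgroup G} (f : K →* Multiplicative (ZMod 3))
    (hf : Function.Surjective f) (hk : f.ker = pCore 2 K) : Rk K := by
  have c : Nat.card (Multiplicative (ZMod 3)) = 3 := by simp
  have : Fact (Nat.card (Multiplicative (ZMod 3))).Prime := ⟨by rw [c]; norm_num⟩
  have h := fun N : Subgroup (Multiplicative (ZMod 3)) => N.eq_bot_or_eq_top_of_prime_card.symm
  refine rk_of f hf hk (fun S hS => ?_) (fun N _ => h N) fun x y z _ _ => Or.inl (mul_comm x y)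
  have h1 : f.ker ≤ S := by rw [hk, ← pCoreOf_top]; exact hS.pCoreOf_le
  have h2 : ∀ Y : Subgroup K, f.ker ≤ Y → Y = ⊤ ∨ Y ≤ f.ker := fun Y hY => (h (Y.map f)).imp
    (fun e => by rw [← comap_map_eq_self hY, e, comap_top]) (Subgroup.map_eq_bot_iff _).1
  have h3 : S ≠ ⊤ := fun e => by
    have := hS.isPGroup.map f
    rw [e, map_top_of_surjective f hf] at this
    obtain ⟨n, hn⟩ := this.exists_card_eq
    rw [card_top, c] at hn
    rcases n with _ | n <;> omega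
  exact ⟨S, le_rfl, h3.lt_top, fun Y h4 _ => (h2 Y (h1.trans h4)).symm.imp_left fun e => e.trans h1⟩

theorem rk_sl {G : Type*} [Group G] [Finite G] {K : Subgroup G} (hK : res 2 K = K) {n : ℕ} (hn : 1 ≤ n)
    (f : K →* SL(2, GaloisField 2 n)) (hf : Function.Surjective f) (hk : f.ker = pCore 2 K) : Rk K := by
  let _ : Fintype (GaloisField 2 n) := Fintype.ofFinite _
  have hF : Fintype.card (GaloisField 2 n) = 2 ^ n := by
    rw [← Nat.card_eq_fintype_card]; exact GaloisField.card 2 n (by omega)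
  have m : ∀ g : SL(2, GaloisField 2 n), -g = g := fun g => Subtype.ext (Matrix.ext fun i j => by
    simp [CharTwo.neg_eq])
  rcases hn.eq_or_lt with rfl | hn
  · have h1 := map_res (p := 2) ((sl _).comp f) ⊤
    rw [show res 2 (⊤ : Subgroup K) = ⊤ from map_injective K.subtype_injective (by
      rw [map_res, map_subtype_top, hK]), ← MonoidHom.range_eq_map, MonoidHom.range_comp,
      MonoidHom.range_eq_top.2 hf, ← MonoidHom.range_eq_map] at h1
    obtain ⟨g, hg, e⟩ := NS.res_le hF (h1.le ⟨H11.uMat 1, rfl⟩)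
    have h2 := (NS.small_facts hF fun ⟨a, h0, h⟩ => h (by
      have := FiniteField.pow_card_sub_one_eq_one a h0
      rw [hF] at this
      simp [show a = 1 by simpa using this])).1 g hg
    rw [sl_inj e, H11.uMat_pow, ← H11.uMat_zero] at h2
    have := H11.uMat_injective h2
    rw [Nat.cast_succ, CharP.cast_eq_zero] at this
    simp at this
  · have q : H57.L3.Fq (GaloisField 2 n) (2 ^ n) :=
      ⟨hF, ⟨n, rfl⟩, lt_of_lt_of_le (by norm_num) (Nat.pow_le_pow_right two_pos hn)⟩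
    refine rk_of f hf hk (fun S hS => (H52.geo_psl 2).exists_umax ((H52.pj _).comp f) (H52.pj_surj.comp hf)
      hS fun x hx => ?_) (fun N _ => q.normal N) fun x y z h1 h2 => or_iff_not_imp_left.2 fun h =>
        (NS.cent h1 h2 h).elim id fun e => e.trans (m 1)
    refine hS.pCoreOf_le ?_
    rw [pCoreOf_top, ← hk]
    exact (H52.pj_eq_iff.1 (hx.trans (map_one _).symm)).elim id fun e => e.trans (m 1)

/-- Let G be a finite group of characteristic 2 type, H a subgroup, K = O²(H) (the subgroup generated by the elements of H of odd order), M = N_G(K), and T a Sylow 2-subgroup of H. Assume: K/O₂(K) (that is, O²(H/O₂(H))) is cyclic of order 3 or isomorphic to L₂(2ⁿ) = SL(2, 2ⁿ) for some n ≥ 1; O₂(H) is a Sylow 2-subgroup of the centralizer in M of K/O₂(K) (every 2-subgroup of M containing O₂(H) and acting trivially on K/O₂(K) equals O₂(H)); and M is the unique maximal 2-local subgroup of G containing H. Then N_G(T) ≤ M,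 or G has sectional 2-rank at most 4. -/
theorem result
    {G : Type*} [Group G] [Finite G] (hG : Cfsg.IsCharacteristicTwoType G)
    (H : Subgroup G) (T : Sylow 2 ↥H)
    (hstar : Nonempty (↥(Cfsg.oddGenerated H) ⧸ Cfsg.pCore 2 ↥(Cfsg.oddGenerated H) ≃* Multiplicative (ZMod 3)) ∨
      ∃ n : ℕ, 1 ≤ n ∧ Nonempty (↥(Cfsg.oddGenerated H) ⧸ Cfsg.pCore 2 ↥(Cfsg.oddGenerated H) ≃* Matrix.SpecialLinearGroup (Fin 2) (GaloisField 2 n)))
    (hsyl : ∀ S : Subgroup G, IsPGroup 2 ↥S → (Cfsg.pCore 2 ↥H).map H.subtype ≤ S →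
      S ≤ Subgroup.normalizer (Cfsg.oddGenerated H : Set G) →
      (∀ s ∈ S, ∀ k ∈ Cfsg.oddGenerated H, s * k * s⁻¹ * k⁻¹ ∈ (Cfsg.pCore 2 ↥(Cfsg.oddGenerated H)).map (Cfsg.oddGenerated H).subtype) →
      S = (Cfsg.pCore 2 ↥H).map H.subtype)
    (huniq : Cfsg.maxTwoLocalsContaining H = {Subgroup.normalizer (Cfsg.oddGenerated H : Set G)}) :
    Subgroup.normalizer (((T : Subgroup ↥H).map H.subtype : Subgroup G) : Set G) ≤ Subgroup.normalizer (Cfsg.oddGenerated H : Set G) ∨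
      Cfsg.SectionalPRankLE 2 4 G := by
  have eK : res 2 H = oddGenerated H := by
    rw [res_eq_closure, oddGenerated]; simp only [Nat.coprime_two_right]
  have hl : H57.L3.Loc G := fun D hD h0 => charP_iff.2 (hG.2 D hD h0)
  have k : ∀ {Γ : Type} [Group Γ] (e : oddGenerated H ⧸ pCore 2 (oddGenerated H) ≃* Γ),
      Function.Surjective (e.toMonoidHom.comp (QuotientGroup.mk' _)) ∧
      (e.toMonoidHom.comp (QuotientGroup.mk' _)).ker = pCore 2 (oddGenerated H) := fun e =>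
    ⟨e.surjective.comp (QuotientGroup.mk'_surjective _), Subgroup.ext fun x => by simp⟩
  obtain ⟨r1, r2, r3⟩ : Rk (oddGenerated H) := by
    rcases hstar with ⟨⟨e⟩⟩ | ⟨n, hn, ⟨e⟩⟩
    exacts [rk_three _ (k e).1 (k e).2, rk_sl (eK ▸ res_res H) hn _ (k e).1 (k e).2]
  obtain ⟨⟨⟨D, hD, h0, e⟩, -⟩, -⟩ := huniq.ge (Set.mem_singleton _)
  refine or_iff_not_imp_left.2 fun h => H96.PU.P0.sec ⟨hl, eK, isSyl_map_subtype T, fun D hD h0 h1 => ?_,
    (show nor (oddGenerated H) = nor D from e) ▸ hl D hD h0, fun S h1 h2 h3 h4 => hsyl S h1 h2 h3 fun s hs k hk =>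
      h4 (commutator_mem_commutator hs hk), r1, r2, r3, h⟩
  obtain ⟨M, hM, m⟩ := (Set.toFinite {N : Subgroup G | IsTwoLocal N}).exists_le_maximal ⟨D, hD, h0, rfl⟩
  exact hM.trans (huniq.le ⟨⟨m.1, fun N h2 h3 => le_antisymm (m.2 h2 h3) h3⟩, h1.trans hM⟩).le

end Cfsg.Agent.S3090
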