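import Cfsg.Statements.S3091
import Cfsg.Agent.Base
import Cfsg.Agent.H57.L3C

set_option autoImplicit false
open Cfsg

namespace Cfsg.Agent.S3091

/-- Let G be a finite group of characteristic 2 type and q = 2ᵉ > 2, F the field with q elements. Let L₁ ≠ L₂ be subgroups of G such that, for i = 1, 2, V_i = O₂(L_i) is elementary abelian with L_i/V_i ≅ SL(2, q) acting on V_i as on its natural 2-dimensional module F² (an additive isomorphism V_i ≅ F² carrying conjugation by g ∈ L_i to multiplication by the matrix of gV_i), and such that J = V₁V₂ is a Sylow 2-subgroup of both L₁ and L₂. Assume that N_G(L₁) and N_G(L₂) are maximal 2-local subgroups of G and that, for a Sylow 2-subgroup T of N_G(L₁), the subgroup generated by T, L₁ and L₂ has no nontrivial normal 2-subgroup. Then G has sectional 2-rank at most 4, or F*(G) ≅ L₃(q). -/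
theorem result
    {G : Type*} [Group G] [Finite G] (hG : Cfsg.IsCharacteristicTwoType G)
    {F : Type*} [Field F] [Fintype F] (e : ℕ) (he : 2 ≤ e) (hF : Fintype.card F = 2 ^ e)
    (L₁ L₂ : Subgroup G) (hne : L₁ ≠ L₂)
    (φ₁ : ↥L₁ ⧸ Cfsg.pCore 2 ↥L₁ ≃* Matrix.SpecialLinearGroup (Fin 2) F)
    (ψ₁ : Additive ↥(Cfsg.pCore 2 ↥L₁) ≃+ (Fin 2 → F))
    (h₁ : ∀ (g : ↥L₁) (v : ↥(Cfsg.pCore 2 ↥L₁)),
      ψ₁ (Additive.ofMul ⟨g * v * g⁻¹, Subgroup.Normal.conj_mem inferInstance (v : ↥L₁) v.2 g⟩)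
        = Matrix.mulVec ((φ₁ (QuotientGroup.mk g) : Matrix.SpecialLinearGroup (Fin 2) F) : Matrix (Fin 2) (Fin 2) F) (ψ₁ (Additive.ofMul v)))
    (φ₂ : ↥L₂ ⧸ Cfsg.pCore 2 ↥L₂ ≃* Matrix.SpecialLinearGroup (Fin 2) F)
    (ψ₂ : Additive ↥(Cfsg.pCore 2 ↥L₂) ≃+ (Fin 2 → F))
    (h₂ : ∀ (g : ↥L₂) (v : ↥(Cfsg.pCore 2 ↥L₂)),
      ψ₂ (Additive.ofMul ⟨g * v * g⁻¹, Subgroup.Normal.conj_mem inferInstance (v : ↥L₂) v.2 g⟩)
        = Matrix.mulVec ((φ₂ (QuotientGroup.mk g) : Matrix.SpecialLinearGroup (Fin 2) F) : Matrix (Fin 2) (Fin 2) F) (ψ₂ (Additive.ofMul v)))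
    (hJ₁ : ∃ S : Sylow 2 ↥L₁, (S : Subgroup ↥L₁).map L₁.subtype = (Cfsg.pCore 2 ↥L₁).map L₁.subtype ⊔ (Cfsg.pCore 2 ↥L₂).map L₂.subtype)
    (hJ₂ : ∃ S : Sylow 2 ↥L₂, (S : Subgroup ↥L₂).map L₂.subtype = (Cfsg.pCore 2 ↥L₁).map L₁.subtype ⊔ (Cfsg.pCore 2 ↥L₂).map L₂.subtype)
    (hM₁ : Cfsg.IsMaximalTwoLocal (Subgroup.normalizer (L₁ : Set G))) (hM₂ : Cfsg.IsMaximalTwoLocal (Subgroup.normalizer (L₂ : Set G)))
    (T : Sylow 2 ↥(Subgroup.normalizer (L₁ : Set G)))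
    (hO : Cfsg.pCore 2 ↥(((T : Subgroup ↥(Subgroup.normalizer (L₁ : Set G))).map (Subgroup.normalizer (L₁ : Set G)).subtype) ⊔ L₁ ⊔ L₂) = ⊥) :
    Cfsg.SectionalPRankLE 2 4 G ∨
      Nonempty (↥(Cfsg.generalizedFittingSubgroup G) ≃* Matrix.ProjectiveSpecialLinearGroup (Fin 3) F) := by
    have h2 : Fact (Nat.Prime 2) := ⟨Nat.prime_two⟩
    let F₀ := GaloisField 2 e
    let _ : Fintype F₀ := Fintype.ofFinite _
    have hF₀ : Fintype.card F₀ = 2 ^ e := by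
      rw [← Nat.card_eq_fintype_card]; exact GaloisField.card 2 e (by omega)
    have ε : F ≃+* F₀ := FiniteField.ringEquivOfCardEq (hF.trans hF₀.symm)
    obtain ⟨m₁⟩ := H57.L3.exists_nm ε φ₁ ψ₁ h₁
    obtain ⟨m₂⟩ := H57.L3.exists_nm ε φ₂ ψ₂ h₂
    have P : H57.L3.Pr (2 ^ e) _ L₁ L₂ F₀ :=
      ⟨⟨hF₀, ⟨e, rfl⟩, lt_of_lt_of_le (by norm_num) (Nat.pow_le_pow_right two_pos he)⟩, m₁, m₂, rfl,
        H98.isSyl_iff_exists_sylow_map.2 hJ₁, H98.isSyl_iff_exists_sylow_map.2 hJ₂⟩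
    have hl : H57.L3.Loc G := fun D hD h0 => H98.charP_iff.2 (hG.2 D hD h0)
    have n₁ : H96.CG.nor (pCoreOf 2 L₁) = H96.CG.nor L₁ := (hM₁.2 _ ⟨_, H98.isPGroup_pCoreOf L₁, m₁.V_ne, rfl⟩
      (H98.normalizer_le_normalizer_pCoreOf L₁))
    have n₂ : H96.CG.nor (pCoreOf 2 L₂) = H96.CG.nor L₂ := (hM₂.2 _ ⟨_, H98.isPGroup_pCoreOf L₂, m₂.V_ne, rfl⟩
      (H98.normalizer_le_normalizer_pCoreOf L₂))
    obtain ⟨c₁, c₂⟩ := P.cen_both n₁.le n₂.le (n₁ ▸ hl _ (H98.isPGroup_pCoreOf L₁) m₁.V_ne)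
      (n₂ ▸ hl _ (H98.isPGroup_pCoreOf L₂) m₂.V_ne) (H98.isSyl_map_subtype T)
      (H98.pCoreOf_eq_bot_iff.2 hO)
    refine (P.main hl n₁.le n₂.le c₁ c₂).imp_right ?_
    rintro ⟨F', _, _, hF', ⟨i⟩⟩
    exact ⟨i.trans (H55.pslCongr (FiniteField.ringEquivOfCardEq (hF'.trans hF.symm)))⟩

end Cfsg.Agent.S3091
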