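import Cfsg.Statements.S3133
import Cfsg.Agent.H78.P6.Y3Fin
import Cfsg.Agent.H78.P6.Y3MP

set_option autoImplicit false
open Cfsg

namespace Cfsg.Agent.S3133

/-- Let G be a finite group with a standard subgroup L isomorphic to the symplectic group of dimension 6 over the field with 2 elements, such that the centralizer of L in G has cyclic Sylow 2-subgroups. Assume moreover that if G is not perfect, then for every 2-subgroup X of the derived subgroup G' the largest normal odd-order subgroup of N_{G'}(X) lies in that of G'. If L·O(G) is not normal in G (O(G) the largest normal odd-order subgroup of G), then the normal closure of L in G is isomorphic to one of: the simple orthogonal group PΩ⁺ or PΩ⁻ of dimension 8 over the field with 2 elements; the projective special unitary group of dimension 6 with parameter 2, the special unitary group of dimension 6 with parameter 2 (a triple cover of the former), or the projective special unitary group of dimension 7 with parameter 2 (all realised over the field with 4 elements); the symplectic group of dimension 6 over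 the field with 4 elements; the projective special linear group of dimension 6 or 7 over the field with 2 elements; or L × L. -/
theorem result {G : Type*} [Group G] [Finite G] (L : Subgroup G) (hL : Cfsg.IsStandardSubgroup L)
    {F : Type*} [Field F] [Fintype F] (hF : Fintype.card F = 2) (hLX : Nonempty (↥L ≃* Cfsg.PSp 3 F))
    (hR : ∀ R : Sylow 2 ↥(Subgroup.centralizer (L : Set G)), IsCyclic ↥(R : Subgroup ↥(Subgroup.centralizer (L : Set G))))
    (hU : commutator G ≠ ⊤ → ∀ X : Subgroup ↥(commutator G), IsPGroup 2 ↥X →
      (Cfsg.oddCore ↥(Subgroup.normalizer (X : Set ↥(commutator G)))).map (Subgroup.normalizer (X : Set ↥(commutator G))).subtype ≤ Cfsg.oddCore ↥(commutator G))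
    (hn : ¬ (L ⊔ Cfsg.oddCore G).Normal) :
    Nonempty (↥(Subgroup.normalClosure (L : Set G)) ≃* Cfsg.POmega F (Cfsg.quadFormPlus 4 F)) ∨
      (∃ a b : F, (∀ z₁ z₂ : F, z₁ ^ 2 + a * z₁ * z₂ + b * z₂ ^ 2 = 0 → z₁ = 0 ∧ z₂ = 0) ∧
        Nonempty (↥(Subgroup.normalClosure (L : Set G)) ≃* Cfsg.POmega F (Cfsg.quadFormMinus 3 F a b))) ∨
      (∃ (K : Type) (_ : Field K) (_ : Fintype K), Fintype.card K = 4 ∧
        (Nonempty (↥(Subgroup.normalClosure (L : Set G)) ≃* Cfsg.PSU 6 K 2) ∨ Nonempty (↥(Subgroup.normalClosure (L : Set G)) ≃* ↥(Cfsg.SU 6 K 2)) ∨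
          Nonempty (↥(Subgroup.normalClosure (L : Set G)) ≃* Cfsg.PSU 7 K 2) ∨ Nonempty (↥(Subgroup.normalClosure (L : Set G)) ≃* Cfsg.PSp 3 K))) ∨
      Nonempty (↥(Subgroup.normalClosure (L : Set G)) ≃* Matrix.ProjectiveSpecialLinearGroup (Fin 6) F) ∨
      Nonempty (↥(Subgroup.normalClosure (L : Set G)) ≃* Matrix.ProjectiveSpecialLinearGroup (Fin 7) F) ∨
      Nonempty (↥(Subgroup.normalClosure (L : Set G)) ≃* ↥L × ↥L) := by
  exact H78.Y3.final H78.Y3.jobFin L hL hF hLX hR hn

end Cfsg.Agent.S3133
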