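import Cfsg.Statements.S3138
import Cfsg.Agent.H65.U4Asm1
import Cfsg.Agent.H65.U4A8a
import Cfsg.Agent.H65.U4T2
import Cfsg.Agent.H65.U4III1
import Cfsg.Agent.H44.U4b
import Cfsg.Agent.H44.U4c
import Cfsg.Agent.H74.U42Ib2
import Cfsg.Agent.H37.U4Ib5
import Cfsg.Agent.H37.U4A9
import Cfsg.Agent.H87.U4GS0
import Cfsg.Agent.H83.U4Br
import Cfsg.Agent.H1.U4A2b
import Cfsg.Agent.H96.U4III
import Cfsg.Agent.H5.U42GS1
import Cfsg.Agent.H21.U42SU
import Cfsg.Agent.H55.U42A3
import Cfsg.Agent.H55.U42A5
import Cfsg.Agent.H35.U4T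
import Cfsg.Agent.H70.U42A6
import Cfsg.Agent.H18.U4A4
import Cfsg.Agent.H98.U42A8b
import Cfsg.Agent.H15.U4T4
import Cfsg.Agent.H15.U4T5
import Cfsg.Agent.H31.U4A7
import Cfsg.Agent.H31.U4A1

set_option autoImplicit false
open Cfsg

namespace Cfsg.Agent.S3138

/-- Let G be a finite group with a standard subgroup L isomorphic to the projective special unitary group of dimension 4 with parameter 2 (realised over the field with 4 elements; the group of order 25920), and suppose the centralizer of L in G has cyclic Sylow 2-subgroups. Write X for the normal closure of L in G. Then one of the following holds: X modulo its largest normal odd-order subgroup is a non-abelian simple group of sectional 2-rank at most 4; X is isomorphic to the projective special linear group of dimension 4 over the field with 4 elements, or to L × L; or L·C_G(L) has index 2 in N_G(L) (the full automorphism group of L is induced) and for every 2-central involution z of L (an involution central in some Sylow 2-subgroup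 of L) the centralizer C_G(z) has a quasisimple subgroup K containing z, with O₂(K) cyclic of order 4, commuting elementwise with the largest normal odd-order subgroup of C_G(z), and such that either K modulo its largest normal odd-order subgroup is isomorphic to the special unitary group of dimension 4 with parameter 3 (realised over the field with 9 elements), or K modulo its centre has Sylow 2-subgroups isomorphic to those of the projective special linear group of dimension 6 over some field whose order is 3 mod 4. -/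
theorem result {G : Type*} [Group G] [Finite G] (L : Subgroup G) (hL : Cfsg.IsStandardSubgroup L)
    {F : Type*} [Field F] [Fintype F] (hF : Fintype.card F = 4) (hLX : Nonempty (↥L ≃* Cfsg.PSU 4 F 2))
    (hR : ∀ R : Sylow 2 ↥(Subgroup.centralizer (L : Set G)), IsCyclic ↥(R : Subgroup ↥(Subgroup.centralizer (L : Set G)))) :
    (IsSimpleGroup (↥(Subgroup.normalClosure (L : Set G)) ⧸ Cfsg.oddCore ↥(Subgroup.normalClosure (L : Set G))) ∧
        ¬ IsMulCommutative (↥(Subgroup.normalClosure (L : Set G)) ⧸ Cfsg.oddCore ↥(Subgroup.normalClosure (L : Set G))) ∧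
        Cfsg.SectionalPRankLE 2 4 (↥(Subgroup.normalClosure (L : Set G)) ⧸ Cfsg.oddCore ↥(Subgroup.normalClosure (L : Set G)))) ∨
      Nonempty (↥(Subgroup.normalClosure (L : Set G)) ≃* Matrix.ProjectiveSpecialLinearGroup (Fin 4) F) ∨
      Nonempty (↥(Subgroup.normalClosure (L : Set G)) ≃* ↥L × ↥L) ∨
      ((L ⊔ Subgroup.centralizer (L : Set G)).relIndex (Subgroup.normalizer (L : Set G)) = 2 ∧
        ∀ z : ↥L, Cfsg.IsTwoCentralInvolution z → ∃ K : Subgroup G, K ≤ Subgroup.centralizer ({(z : G)} : Set G) ∧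
          Cfsg.IsQuasisimple ↥K ∧ (z : G) ∈ K ∧ IsCyclic ↥(Cfsg.pCore 2 ↥K) ∧ Nat.card ↥(Cfsg.pCore 2 ↥K) = 4 ∧
          ((∃ (E : Type) (_ : Field E) (_ : Fintype E), Fintype.card E = 9 ∧ Nonempty ((↥K ⧸ Cfsg.oddCore ↥K) ≃* ↥(Cfsg.SU 4 E 3))) ∨
            (∃ (E : Type) (_ : Field E) (_ : Fintype E), Fintype.card E % 4 = 3 ∧
              ∃ (S : Sylow 2 (↥K ⧸ Subgroup.center ↥K)) (T : Sylow 2 (Matrix.ProjectiveSpecialLinearGroup (Fin 6) E)),
                Nonempty (↥(S : Subgroup (↥K ⧸ Subgroup.center ↥K)) ≃* ↥(T : Subgroup (Matrix.ProjectiveSpecialLinearGroup (Fin 6) E))))) ∧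
          ⁅K, Cfsg.centralizerPPrimeCore 2 (z : G)⁆ = ⊥) := by
  exact H65.U4.goal_of'
    ⟨H31.U4Ia.jobIa, H44.U4.jobIb1, H44.U4.jobIb0, H74.U42I.jobIb2, H44.U4.jobIb3, H44.U4.jobIb4,
      H37.U4B.jobIb5⟩
    ⟨H65.III1.jobIII1, H96.U4T.jobIII2, H96.U4T.jobIII3, H31.U4A1.jobIII4, H83.U4K.jobBr, H31.U4A1.jobA1,
      H31.U4A7.jobA2a, H1.U4A2b.jobA2b, H35.U4T.jobUM, H55.U42A3.jobA3, H18.U4A4.jobA4,
      H55.U42A5.jobA5, H70.U42A6.jobA6, H31.U4A7.jobA7, H65.A8.jobA8a, H98.U42A8.jobA8b,
      H37.U4B.jobA9, H35.U4T.jobT0, H35.U4T.jobT1, H65.T3.jobT2, H65.T3.jobT3, H15.U4.jobT4,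
      H15.U4.jobT5, H35.U4T.jobT6, H87.U4GS0.jobGS0, H5.U42GS1.jobGS1, H21.U42.jobSU⟩
    L hL hF hLX hR

end Cfsg.Agent.S3138
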