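import Cfsg.Statements.S3144
import Cfsg.Agent.H11.E8G
import Cfsg.Agent.H11.E8Tri
import Cfsg.Agent.H11.E8Q
import Cfsg.Agent.H91.E8I
import Cfsg.Agent.H1.E8Cls
import Cfsg.Agent.H75.E8Syl
import Cfsg.Agent.H58.E8WT
import Cfsg.Agent.H18.E8II
import Cfsg.Agent.H48.E8SQ

set_option autoImplicit false
open Cfsg

namespace Cfsg.Agent.S3144

/-- Let G be a finite group with no nontrivial normal subgroup of odd order and L a standard subgroup of G which is a double cover of the simple orthogonal group PΩ⁺ of dimension 8 over the field with 2 elements (the centre of L has order 2 and L modulo its centre is isomorphic to that group), and suppose the centralizer of L in G has cyclic Sylow 2-subgroups. Then L is normal in G. -/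
theorem result {G : Type*} [Group G] [Finite G] (hO : Cfsg.oddCore G = ⊥) (L : Subgroup G) (hL : Cfsg.IsStandardSubgroup L)
    {F : Type*} [Field F] [Fintype F] (hF : Fintype.card F = 2)
    (hZ : Nat.card ↥(Subgroup.center ↥L) = 2) (hLX : Nonempty ((↥L ⧸ Subgroup.center ↥L) ≃* Cfsg.POmega F (Cfsg.quadFormPlus 4 F)))
    (hR : ∀ R : Sylow 2 ↥(Subgroup.centralizer (L : Set G)), IsCyclic ↥(R : Subgroup ↥(Subgroup.centralizer (L : Set G)))) :
    L.Normal := by
  exact H11.E8.Jobs.normal ⟨H11.E8.jobQ, H75.E8S.jobSYL, H1.E8.jobCLS, H58.E8W.jobWT, H58.E8W.jobF,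
    H11.E8.jobINV, H11.E8.jobCD, H18.E8II.jobII, H48.E8.jobSQ, H91.E8I.jobI, H11.E8.jobTRI,
    H11.E8.jobABC, H11.E8.jobLIFT, H11.E8.jobAUT⟩ hO hL hF hZ hLX hR

end Cfsg.Agent.S3144
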