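import Cfsg.Statements.S3153
import Cfsg.Agent.H14.Std

set_option autoImplicit false
open Cfsg

namespace Cfsg.Agent.S3153

/-- Let X be a finite group and P a standard subgroup of X whose centralizer has 2-rank at most 1 and whose centre has odd order. Let S be a Sylow 2-subgroup of N_X(P) and t an involution of S centralizing P. Suppose some element g of X normalizes S, does not lie in S, has its square in S, and conjugates t into P·C_X(P). Then P commutes elementwise with the largest normal odd-order subgroup O(X) of X; consequently every t-invariant 2-component of X containing P is quasisimple. -/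
theorem result {X : Type*} [Group X] [Finite X] (P : Subgroup X) (hP : Cfsg.IsStandardSubgroup P)
    (hr : Cfsg.PRankLE 2 1 ↥(Subgroup.centralizer (P : Set X))) (hZ : Odd (Nat.card ↥(Subgroup.center ↥P)))
    (S : Sylow 2 ↥(Subgroup.normalizer (P : Set X))) (t : X) (ht : orderOf t = 2) (htS : t ∈ (S : Subgroup ↥(Subgroup.normalizer (P : Set X))).map (Subgroup.normalizer (P : Set X)).subtype)
    (htP : t ∈ Subgroup.centralizer (P : Set X))
    (g : X) (hgN : ∀ s ∈ (S : Subgroup ↥(Subgroup.normalizer (P : Set X))).map (Subgroup.normalizer (P : Set X)).subtype, g * s * g⁻¹ ∈ (S : Subgroup ↥(Subgroup.normalizer (P : Set X))).map (Subgroup.normalizer (P : Set X)).subtype)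
    (hgS : g ∉ (S : Subgroup ↥(Subgroup.normalizer (P : Set X))).map (Subgroup.normalizer (P : Set X)).subtype) (hg2 : g ^ 2 ∈ (S : Subgroup ↥(Subgroup.normalizer (P : Set X))).map (Subgroup.normalizer (P : Set X)).subtype)
    (hgt : g * t * g⁻¹ ∈ P ⊔ Subgroup.centralizer (P : Set X)) :
    ⁅P, Cfsg.oddCore X⁆ = ⊥ ∧
      ∀ L : Subgroup X, Cfsg.IsPComponent 2 L → P ≤ L → (∀ l ∈ L, t * l * t⁻¹ ∈ L) → Cfsg.IsQuasisimple ↥L := by
  open Subgroup H14 in
  have hT := H98.isSyl_map_subtype S
  set T := (S : Subgroup (normalizer (P : Set X))).map (normalizer (P : Set X)).subtype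
  have hcp := std_cp hP ht htP
  have hs2 : orderOf (g * t * g⁻¹) = 2 := by rw [orderOf_conj', ht]
  have hgn : g ∉ normalizer (P : Set X) := by
    intro hg
    refine hgS (hT.le_of_le_normalizer' (Q := zpowers g) ?_ (zpowers_le.mpr hg)
      (zpowers_le.mpr (H98.mem_normalizer_of_cj_le ?_)) (mem_zpowers g))
    · obtain ⟨k, hk⟩ := H98.isPGroup_iff_forall.mp hT.isPGroup _ hg2
      exact H98.isPGroup_zpowers (k := k + 1) (by rw [pow_succ', pow_mul, hk])
    · rintro _ ⟨s, hs, rfl⟩
      exact hgN s hs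
  have hne : g * t * g⁻¹ ∉ centralizer (P : Set X) := fun h => hgn (std_mem_normalizer' hP ht htP h)
  have hTt : ∀ x ∈ T, x * t * x⁻¹ = t := fun x hx =>
    eq_of_prank_one_of_isPGroup hr (R := T ⊓ centralizer (P : Set X))
      (hT.isPGroup.to_le inf_le_left) inf_le_right (by rw [orderOf_conj', ht]) ht
      ⟨T.mul_mem (T.mul_mem hx htS) (T.inv_mem hx), H98.conj_mem_of_mem_normalizer
        (H98.normalizer_le_normalizer_centralizer P (hT.le hx)) htP⟩ ⟨htS, htP⟩
  have hst : g * t * g⁻¹ ∈ centralizer ({t} : Set X) :=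
    mem_centralizer_singleton_iff.mpr (mul_inv_eq_iff_eq_mul.mp (hTt _ (hgN t htS)))
  have hs : g * t * g⁻¹ ∈ P ⊔ zpowers t := by
    obtain ⟨a, ha, c, hc, e⟩ := (H98.mem_sup_right_norm (centralizer_le_normalizer _)).mp hgt
    rw [e]
    refine mul_mem (mem_sup_left ha) ?_
    have hct : c ∈ centralizer ({t} : Set X) := by
      rw [e] at hst
      exact (mul_mem_cancel_left (hcp.le ha)).mp hst
    have h1 : c * c = (a * a)⁻¹ := by
      have h2 := mul_self_of_two hs2
      rw [e] at h2
      refine eq_inv_of_mul_eq_one_right ?_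
      calc a * a * (c * c) = a * (a * c) * c := by group
        _ = a * (c * a) * c := by rw [hc a ha]
        _ = 1 := by rw [← h2]; group
    have h2 : c * c ∈ P := h1 ▸ inv_mem (mul_mem ha ha)
    have h3 : c * c ∈ (center P).map P.subtype := by
      rw [map_center_subtype]; exact ⟨h2, mul_mem hc hc⟩
    rw [← card_map_of_injective P.subtype_injective] at hZ
    obtain ⟨m, hm⟩ := hZ.of_dvd_nat (Subgroup.orderOf_dvd_natCard _ h3)
    have h4 : c ^ (2 * m + 1) * c ^ (2 * m + 1) = 1 := by
      rw [← (Commute.refl c).mul_pow, ← hm, pow_orderOf_eq_one]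
    have h5 : c ^ (2 * m + 1) ∈ zpowers t := by
      by_cases h6 : c ^ (2 * m + 1) = 1
      · rw [h6]; exact one_mem _
      · rw [eq_of_prank_one hr (orderOf_two_of_mul_self h4 h6) ht (pow_mem hc _) htP
          (mem_centralizer_singleton_iff.mp (pow_mem hct _))]
        exact mem_zpowers t
    have h6 : c = ((c * c) ^ m)⁻¹ * c ^ (2 * m + 1) := by
      rw [pow_succ, pow_mul, sq, inv_mul_cancel_left]
    rw [h6]
    exact mul_mem (mem_sup_left (inv_mem (pow_mem h2 m))) (mem_sup_right h5)
  obtain ⟨hd, hO⟩ := hcp.commutator_oddCore_of_conj ht hs hne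
  exact ⟨hO, fun L hL hPL _ => pcomp_quasi_of_le hL hcp.perfect hd hPL hO⟩

end Cfsg.Agent.S3153
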