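import Cfsg.Statements.S3154
import Cfsg.Agent.H19.L34Cov
import Cfsg.Agent.S0820

set_option autoImplicit false
open Cfsg

namespace Cfsg.Agent.S3154

/-- Let X be a finite quasisimple group whose centre is an elementary abelian 2-group and whose central quotient is isomorphic to the projective special linear group of dimension 3 over the field with 4 elements. Let T be a Sylow 2-subgroup of X and H ≠ K subgroups of T containing the centre Z(X) whose images in X/Z(X) are elementary abelian of order 16 (the two such subgroups of a Sylow 2-subgroup of the quotient). Then H and K are elementary abelian, H ∩ K is the centre of the subgroup they generate, and each of N_X(H), N_X(K) is a split extension of H, respectively K, by the projective special linear group of dimension 2 over the field with 4 elements (there is a complement isomorphic to that group). -/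
theorem result {X : Type*} [Group X] [Finite X] (hq : Cfsg.IsQuasisimple X) (hZ : Cfsg.IsElementaryAbelian 2 (Subgroup.center X))
    {F : Type*} [Field F] [Fintype F] (hF : Fintype.card F = 4) (hXL : Nonempty ((X ⧸ Subgroup.center X) ≃* Matrix.ProjectiveSpecialLinearGroup (Fin 3) F))
    (T : Sylow 2 X) (H K : Subgroup X) (hHK : H ≠ K) (hHT : H ≤ T) (hKT : K ≤ T) (hZH : Subgroup.center X ≤ H) (hZK : Subgroup.center X ≤ K)
    (hH : Cfsg.IsElementaryAbelian 2 (H.map (QuotientGroup.mk' (Subgroup.center X))) ∧ Nat.card ↥(H.map (QuotientGroup.mk' (Subgroup.center X))) = 16)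
    (hK : Cfsg.IsElementaryAbelian 2 (K.map (QuotientGroup.mk' (Subgroup.center X))) ∧ Nat.card ↥(K.map (QuotientGroup.mk' (Subgroup.center X))) = 16) :
    Cfsg.IsElementaryAbelian 2 H ∧ Cfsg.IsElementaryAbelian 2 K ∧
      H ⊓ K = (Subgroup.center ↥(H ⊔ K)).map (H ⊔ K).subtype ∧
      (∃ C : Subgroup X, C ≤ Subgroup.normalizer (H : Set X) ∧ C ⊓ H = ⊥ ∧ H ⊔ C = Subgroup.normalizer (H : Set X) ∧
        Nonempty (↥C ≃* Matrix.ProjectiveSpecialLinearGroup (Fin 2) F)) ∧
      (∃ C : Subgroup X, C ≤ Subgroup.normalizer (K : Set X) ∧ C ⊓ K = ⊥ ∧ K ⊔ C = Subgroup.normalizer (K : Set X) ∧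
        Nonempty (↥C ≃* Matrix.ProjectiveSpecialLinearGroup (Fin 2) F)) := by
  classical
  obtain ⟨e⟩ := hXL
  have t : (2 : F) = 0 := (H86.L34.four_elts hF).1
  have h := H19.L34C.hm t
  obtain ⟨hp, hi⟩ := H19.L34C.index_S hF t
  have : Finite (Matrix.ProjectiveSpecialLinearGroup (Fin 3) F) := inferInstance
  let σ0 := e.toMonoidHom.comp (QuotientGroup.mk' (Subgroup.center X))
  obtain ⟨Q, hQ⟩ := (T.isPGroup'.map σ0).exists_le_sylow
  obtain ⟨g, hg⟩ := MulAction.exists_smul_eq (Matrix.ProjectiveSpecialLinearGroup (Fin 3) F) Q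
    (hp.toSylow hi)
  let e' := e.trans (MulAut.conj g)
  let σ := e'.toMonoidHom.comp (QuotientGroup.mk' (Subgroup.center X))
  have hs : Function.Surjective σ := e'.surjective.comp (QuotientGroup.mk'_surjective _)
  have hk : σ.ker = Subgroup.center X := by
    ext x
    simp [σ]
  have hT : (T : Subgroup X).map σ ≤ h.S := by
    rintro _ ⟨x, hx, rfl⟩
    have m : σ x ∈ ((g • Q : Sylow 2 _) : Subgroup _) :=
      Subgroup.smul_mem_pointwise_smul _ (MulAut.conj g) _ (hQ ⟨x, hx, rfl⟩)
    rw [hg] at m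
    exact m
  have key : ∀ W : Subgroup X, W ≤ T → Subgroup.center X ≤ W →
      (Cfsg.IsElementaryAbelian 2 (W.map (QuotientGroup.mk' (Subgroup.center X))) ∧
        Nat.card ↥(W.map (QuotientGroup.mk' (Subgroup.center X))) = 16) →
      W = h.A.comap σ ∨ W = h.B.comap σ := fun W w1 w2 w3 => by
    have c : (W.map σ).comap σ = W := Subgroup.comap_map_eq_self (hk ▸ w2)
    have m : W.map σ = (W.map (QuotientGroup.mk' (Subgroup.center X))).map e'.toMonoidHom :=
      (Subgroup.map_map ..).symm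
    rcases H19.L34C.eq_or h hF ((Subgroup.map_mono w1).trans hT)
      (by
        rw [m]
        rintro _ ⟨x, hx, rfl⟩
        rw [← map_pow, w3.1.2 x hx, map_one])
      (by rw [m, Subgroup.card_map_of_injective e'.injective, w3.2]) with k | k
    · exact Or.inl (k ▸ c.symm)
    · exact Or.inr (k ▸ c.symm)
  have z2 : ∀ z ∈ σ.ker, z * z = 1 := fun z hz => by rw [← pow_two]; exact hZ.2 z (hk ▸ hz)
  have eA := H19.L34C.elem_comap h hF hs hk.le z2 (Cfsg.Agent.S0820.result hF)
  have eB : IsElementaryAbelian 2 (h.B.comap σ) :=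
    h.swap_A ▸ H19.L34C.elem_comap h.swap hF hs hk.le z2 (Cfsg.Agent.S0820.result hF)
  have cAB := H19.L34C.inf_eq_center h hs eA eB
  have cBA := H19.L34C.inf_eq_center h.swap hs (h.swap_A ▸ eB) (h.swap_B ▸ eA)
  rw [h.swap_A, h.swap_B] at cBA
  obtain ⟨C, c1, c2, c3, ⟨c4⟩⟩ := H19.L34C.split hs eA eB (h.B_le.trans h.norA) (h.sup ▸ hi)
    (H19.L34C.sdA hF t)
  obtain ⟨D, d1, d2, d3, ⟨d4⟩⟩ := H19.L34C.split hs eB eA (h.A_le.trans h.norB)
    (by rw [sup_comm, h.sup]; exact hi) (H19.L34C.sdB hF t)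
  obtain ⟨c5⟩ := H19.L34C.range_equiv t H19.L34C.jA_inj
  obtain ⟨d5⟩ := H19.L34C.range_equiv t H19.L34C.jB_inj
  rcases key H hHT hZH hH with rfl | rfl <;> rcases key K hKT hZK hK with rfl | rfl
  · exact (hHK rfl).elim
  · exact ⟨eA, eB, cAB, ⟨C, c1, c2, c3, ⟨c4.trans c5⟩⟩, D, d1, d2, d3, ⟨d4.trans d5⟩⟩
  · exact ⟨eB, eA, cBA, ⟨D, d1, d2, d3, ⟨d4.trans d5⟩⟩, C, c1, c2, c3, ⟨c4.trans c5⟩⟩
  · exact (hHK rfl).elim

end Cfsg.Agent.S3154
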