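import Cfsg.Statements.S3161
import Cfsg.Agent.H16.SgB

set_option autoImplicit false
open Cfsg

namespace Cfsg.Agent.S3161

/-- Let Q be a non-abelian finite 2-group admitting commuting automorphisms α of order 2 and ρ of order 2^n − 1, where n ≥ 2, such that the fixed points of α form an elementary abelian subgroup of order 2^n on whose nonidentity elements the group generated by ρ acts transitively. Then Q is isomorphic to a Sylow 2-subgroup of the projective special unitary group of dimension 3 with parameter 2^n (realised over the field with 4^n elements) or of the projective special linear group of dimension 3 over the field with 2^n elements. -/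
theorem result {Q : Type*} [Group Q] [Finite Q] (hQ : IsPGroup 2 Q) (hna : ¬ IsMulCommutative Q) (n : ℕ) (hn : 2 ≤ n)
    (α ρ : MulAut Q) (hα : orderOf α = 2) (hρ : orderOf ρ = 2 ^ n - 1) (hc : Commute α ρ)
    (C : Subgroup Q) (hC : ∀ x : Q, x ∈ C ↔ α x = x) (hCE : Cfsg.IsElementaryAbelian 2 C ∧ Nat.card ↥C = 2 ^ n)
    (htr : ∀ x y : Q, x ∈ C → y ∈ C → x ≠ 1 → y ≠ 1 → ∃ k : ℕ, (ρ ^ k) x = y) :
    (∃ (F : Type) (_ : Field F) (_ : Fintype F), Fintype.card F = 4 ^ n ∧
        ∃ S : Sylow 2 (Cfsg.PSU 3 F (2 ^ n)), Nonempty (Q ≃* ↥(S : Subgroup (Cfsg.PSU 3 F (2 ^ n))))) ∨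
      (∃ (F : Type) (_ : Field F) (_ : Fintype F), Fintype.card F = 2 ^ n ∧
        ∃ S : Sylow 2 (Matrix.ProjectiveSpecialLinearGroup (Fin 3) F), Nonempty (Q ≃* ↥(S : Subgroup (Matrix.ProjectiveSpecialLinearGroup (Fin 3) F)))) := by
  classical
  let F := GaloisField 2 n
  let _ : Fintype F := Fintype.ofFinite F
  have hF : Fintype.card F = 2 ^ n := by
    rw [← Nat.card_eq_fintype_card]; exact GaloisField.card 2 n (by omega)
  have four : 4 ≤ Nat.card F := by
    rw [Nat.card_eq_fintype_card, hF]; exact Nat.pow_le_pow_right (n := 2) two_pos hn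
  have := hCE.1.1
  let _ : CommGroup C := IsMulCommutative.instCommGroup
  have ρC : ∀ x ∈ C, ρ x ∈ C := fun x hx => (hC _).2 (by
    rw [← MulAut.mul_apply, hc.eq, MulAut.mul_apply, (hC x).1 hx])
  let σ : AddMonoid.End (Additive C) :=
    MonoidHom.toAdditive ((ρ.toMonoidHom.comp C.subtype).codRestrict C fun x => ρC x x.2)
  obtain ⟨u, u1⟩ : ∃ u : C, u ≠ 1 := Subgroup.ne_bot_iff_exists_ne_one.1 fun e => by
    have := hCE.2
    rw [e, Subgroup.card_bot, ← hF, ← Nat.card_eq_fintype_card] at this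
    omega
  obtain ⟨e, -, he⟩ := (H88.exists_field_of_irreducible (Additive.ofMul u) u1 {σ}
    (by rintro _ rfl _ rfl; rfl) fun B hB => B.bot_or_exists_ne_zero.imp_right fun ⟨b, hb, b0⟩ =>
      eq_top_iff.2 fun y _ => by
        rcases eq_or_ne y 0 with rfl | hy
        · exact zero_mem _
        obtain ⟨k, hk⟩ := htr _ _ b.toMul.2 y.toMul.2 (fun e => b0 (Subtype.ext e))
          fun e => hy (Subtype.ext e)
        induction k generalizing y with
        | zero => exact (show b = y from Subtype.ext hk) ▸ hb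
        | succ k ih =>
          have m : (ρ ^ k) b.toMul ∈ C := (hC _).2 (by
            rw [← MulAut.mul_apply, (hc.pow_right k).eq, MulAut.mul_apply, (hC _).1 b.toMul.2])
          have := hB σ rfl _ (ih (y := Additive.ofMul ⟨_, m⟩) trivial (fun e => b0 (Subtype.ext
            ((map_eq_one_iff _ (ρ ^ k).injective).1 (congrArg Subtype.val e)))) rfl)
          rw [pow_succ'] at hk
          exact (show σ (Additive.ofMul ⟨_, m⟩) = y from Subtype.ext hk) ▸ this).2 F
    (hF.trans hCE.2.symm)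
  obtain ⟨ω, hω⟩ := he σ rfl
  let ι : F → Q := fun x => (e x).toMul
  have inj : Function.Injective ι := fun x y h => e.injective (Subtype.ext h)
  have i0 : ∀ x, ι x = 1 → x = 0 := fun x h => inj (h.trans (by simp [ι]))
  have ρι : ∀ (k : ℕ) x, (ρ ^ k) (ι x) = ι (ω ^ k * x) := fun k x => by
    induction k with
    | zero => simp
    | succ k ih =>
      rw [pow_succ', MulAut.mul_apply, ih, pow_succ', mul_assoc]
      exact congrArg Subtype.val (hω _)
  have gen : ∀ x : F, x ≠ 0 → ∃ k : ℕ, ω ^ k = x := fun x hx => by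
    obtain ⟨k, hk⟩ := htr (ι 1) (ι x) (e 1).toMul.2 (e x).toMul.2 (mt (i0 1) one_ne_zero) (mt (i0 x) hx)
    exact ⟨k, by rw [← inj ((ρι k 1).symm.trans hk), mul_one]⟩
  have ω0 : ω ≠ 0 := fun h => one_ne_zero (i0 1 ((map_eq_one_iff _ (ρ ^ 1).injective).1 (by
    rw [ρι, h]; simp [ι])))
  have hg : ∀ l : Fˣ, l ∈ Subgroup.zpowers (Units.mk0 ω ω0) := fun l =>
    let ⟨k, hk⟩ := gen l l.ne_zero; ⟨k, Units.ext (by simpa using hk)⟩
  let r := monoidHomOfForallMemZpowers hg (g' := ρ) (by
    rw [orderOf_eq_card_of_forall_mem_zpowers hg, Nat.card_units, Nat.card_eq_fintype_card, hF, hρ])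
  have hr : ∀ l : Fˣ, ∃ k : ℕ, r l = ρ ^ k ∧ ω ^ k = l := fun l =>
    let ⟨k, hk⟩ := gen l l.ne_zero
    ⟨k, by rw [show l = Units.mk0 ω ω0 ^ k from Units.ext (by simpa using hk.symm), map_pow,
      monoidHomOfForallMemZpowers_apply_gen], hk⟩
  obtain ⟨T, d, s, h⟩ := H16.Sg.exists_fn hQ hna hα (ι := ι) four (fun x y => by simp [ι]) inj
    (fun a => by
      rw [← hC]
      exact ⟨fun h => ⟨e.symm (Additive.ofMul ⟨a, h⟩), by simp [ι]⟩, fun ⟨x, h⟩ => h ▸ (e x).toMul.2⟩)
    r (fun l => let ⟨k, h, _⟩ := hr l; h ▸ (hc.pow_right k).symm)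
    fun l x => let ⟨k, h, h'⟩ := hr l; by rw [h, ρι, h']
  let _ := ZMod.algebra F 2
  obtain ⟨c, γ, A, hγ, hP⟩ := h.main hna
  exact (H16.Sg.iso_q c hγ hP hF).imp_right fun k => ⟨F, _, _, hF, k⟩

end Cfsg.Agent.S3161
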