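import Cfsg.Agent.Base
import Cfsg.Statements.S3173
import Cfsg.Agent.H5.RuAll

set_option autoImplicit false
open Cfsg

namespace Cfsg.Agent.S3173

/-- A characterization of the Rudvalis group by conditions on a Sylow 2-subgroup. Let G be a finite group with Sylow 2-subgroup T such that: T has order at least 2^14; the fourth term Z₄(T) of the upper central series of T has order 16; with W the centralizer in T of the third term Z₃(T), the Frattini subgroup of W has order at most 8; and every subgroup of W of index at most 16 contains the Frattini subgroup of W. If G has no subgroup of index 2, then either G modulo its largest normal subgroup of odd order O(G) is isomorphic to the Rudvalis group, or the product O(G)W is a normal subgroup of G with quotient group isomorphic to GL(3, 2). -/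
theorem result {G : Type*} [Group G] [Finite G]
    (T : Sylow 2 G) (ha : 2 ^ 14 ≤ Nat.card ↥(T : Subgroup G))
    (hb : Nat.card ↥(Subgroup.upperCentralSeries ↥(T : Subgroup G) 4) = 16)
    (W : Subgroup ↥(T : Subgroup G))
    (hW : W = Subgroup.centralizer ((Subgroup.upperCentralSeries ↥(T : Subgroup G) 3 : Subgroup ↥(T : Subgroup G)) : Set ↥(T : Subgroup G)))
    (hc : Nat.card ↥(frattini ↥W) ≤ 8)
    (hd : ∀ U : Subgroup ↥W, U.index ≤ 16 → frattini ↥W ≤ U)
    (h2 : ∀ H : Subgroup G, H.index ≠ 2) :
    Cfsg.Spor.IsoRu (G ⧸ Cfsg.oddCore G) ∨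
      ∃ (N : Subgroup G) (_ : N.Normal), N = Cfsg.oddCore G ⊔ W.map (T : Subgroup G).subtype ∧
        Nonempty (G ⧸ N ≃* GL (Fin 3) (ZMod 2)) := by
  exact H5.Ru.st3173 G T W ⟨T.isPGroup', ha, hb, hW, hc, hd⟩ h2

end Cfsg.Agent.S3173
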