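import Cfsg.Statements.S3179
import Cfsg.Agent.H9.Nine2
import Cfsg.Agent.S3700
import Cfsg.Agent.H85.U3Syl

set_option autoImplicit false
open Cfsg

namespace Cfsg.Agent.S3179

open Matrix in
/-- The natural action as automorphisms of the multiplicative copy of the vector space. -/
def act : GL (Fin 5) (ZMod 2) →* MulAut (Multiplicative (Fin 5 → ZMod 2)) where
  toFun g :=
    { toFun := fun x => Multiplicative.ofAdd (g.1 *ᵥ x.toAdd)
      invFun := fun x => Multiplicative.ofAdd (g⁻¹.1 *ᵥ x.toAdd)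
      left_inv := fun x => by simp [Matrix.mulVec_mulVec]
      right_inv := fun x => by simp [Matrix.mulVec_mulVec]
      map_mul' := fun x y => by simp [Matrix.mulVec_add] }
  map_one' := by ext x : 1; simp
  map_mul' g h := by ext x : 1; simp [Matrix.mulVec_mulVec]

theorem cube {g : GL (Fin 5) (ZMod 2)} {n : ℕ} (h : g ^ 3 ^ n = 1) : g ^ 3 = 1 := by
  have h3 := H9.Nine.cube_of_small (a := 5) (n := n) (by simp) le_rfl (act g) (by rw [← map_pow, h, map_one])
  rw [← map_pow] at h3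
  generalize g ^ 3 = k at h3
  apply Units.ext
  apply Matrix.toLin'.injective
  apply LinearMap.ext
  intro v
  have := congrArg (fun ρ : MulAut (Multiplicative (Fin 5 → ZMod 2)) => (ρ (Multiplicative.ofAdd v)).toAdd) h3
  simpa [act] using this

theorem card_GL : Nat.card (GL (Fin 5) (ZMod 2)) = 9999360 := by
  haveI : Fact (Nat.Prime 2) := ⟨Nat.prime_two⟩
  rw [Matrix.card_GL_field]
  simp [Fin.prod_univ_five]

open H61 in
theorem nine {F : Type} [Field F] [Fintype F] (hF : Fintype.card F = 2 ^ 3) :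
    ∃ g : Matrix.ProjectiveSpecialLinearGroup (Fin 2) F, orderOf g = 9 := by
  haveI : Fact (Nat.Prime 2) := ⟨Nat.prime_two⟩
  haveI : CharP F 2 := charP_of_card_eq_prime_pow hF
  obtain ⟨y, M⟩ := main_psl (F := F) 2
  obtain ⟨g, hg⟩ := M.exists_orderOf_eq_n
  rw [Nat.card_eq_fintype_card, hF] at hg
  exact ⟨g, hg⟩

theorem two_pow_le {k m : ℕ} (h : 2 ^ k * m ∣ 3 * 9999360) : k ≤ 10 := by
  by_contra hc
  have : 2 ^ 11 ∣ 3 * 9999360 := ((pow_dvd_pow 2 (by omega)).trans (Dvd.intro _ rfl)).trans h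
  norm_num at this

/-- Let X be a section of the general linear group GL(5, 2), that is, a quotient of a subgroup of it. If X is isomorphic to PSL(2, 2^n) for some n ≥ 2, to a Suzuki group over the field with 2^(2m+1) elements for some m ≥ 1, or to PSU(3, 2^n) for some n ≥ 2, then X is isomorphic to PSL(2, 4). -/
theorem result {H : Subgroup (GL (Fin 5) (ZMod 2))}
    {K : Subgroup ↥H} [K.Normal]
    (hX : (∃ (n : ℕ) (F : Type) (_ : Field F) (_ : Fintype F), 2 ≤ n ∧ Fintype.card F = 2 ^ n ∧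
        Nonempty (↥H ⧸ K ≃* Matrix.ProjectiveSpecialLinearGroup (Fin 2) F)) ∨
      (∃ (m : ℕ) (F : Type) (_ : Field F) (_ : Fintype F), 1 ≤ m ∧ Fintype.card F = 2 ^ (2 * m + 1) ∧
        Nonempty (↥H ⧸ K ≃* ↥(Cfsg.Lie.Sz F (2 ^ (m + 1))))) ∨
      (∃ (n : ℕ) (F : Type) (_ : Field F) (_ : Fintype F), 2 ≤ n ∧ Fintype.card F = 4 ^ n ∧
        Nonempty (↥H ⧸ K ≃* Cfsg.PSU 3 F (2 ^ n)))) :
    ∃ (F : Type) (_ : Field F) (_ : Fintype F), Fintype.card F = 4 ∧
      Nonempty (↥H ⧸ K ≃* Matrix.ProjectiveSpecialLinearGroup (Fin 2) F) := by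
  have hd : Nat.card (H ⧸ K) ∣ 9999360 :=
    card_GL ▸ (Subgroup.card_quotient_dvd_card K).trans H.card_subgroup_dvd_card
  rcases hX with ⟨n, F, iF, fF, hn, hF, ⟨e⟩⟩ | ⟨m, F, iF, fF, hm, hF, ⟨e⟩⟩ | ⟨n, F, iF, fF, hn, hF, ⟨e⟩⟩
  · rw [Nat.card_congr e.toEquiv, (Cfsg.Agent.S3700.facts (by omega) hF).1] at hd
    have h10 := two_pow_le (hd.mul_left 3)
    by_cases h2 : n = 2
    · subst h2
      exact ⟨F, iF, fF, hF, ⟨e⟩⟩
    exfalso
    by_cases h3 : n = 3
    · subst h3
      obtain ⟨g, hg⟩ := nine hF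
      obtain ⟨x, hx⟩ := QuotientGroup.mk_surjective (e.symm g)
      obtain ⟨k, m, hm, hk⟩ := Nat.exists_eq_pow_mul_and_not_dvd (orderOf_pos x).ne' 3 (by norm_num)
      have h1 : ((x : GL (Fin 5) (ZMod 2)) ^ m) ^ 3 = 1 := cube (n := k) (by
        rw [← pow_mul, mul_comm, ← hk, ← Subgroup.coe_pow, pow_orderOf_eq_one, Subgroup.coe_one])
      have h2 : x ^ (m * 3) = 1 := Subtype.ext (by rw [pow_mul]; exact h1)
      have h4 : g ^ (m * 3) = 1 := by
        rw [← e.apply_symm_apply g, ← hx, ← map_pow, ← QuotientGroup.mk_pow, h2, QuotientGroup.mk_one, map_one]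
      have := orderOf_dvd_of_pow_eq_one h4
      rw [hg] at this
      omega
    · interval_cases n <;> first | omega | (revert hd; norm_num)
  · exfalso
    rw [Nat.card_congr e.toEquiv, H5.sz_card hm hF] at hd
    have h10 := two_pow_le (hd.mul_left 3)
    have : m ≤ 2 := by omega
    interval_cases m <;> (revert hd; norm_num)
  · exfalso
    have hc := H85.card_PSU_three (E := F) (q := 2 ^ n) (by rw [hF, ← pow_mul, mul_comm, pow_mul]; norm_num)
    rw [Nat.card_congr e.toEquiv] at hd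
    have h3 := Nat.mul_dvd_mul (Nat.gcd_dvd_left 3 (2 ^ n + 1)) hd
    rw [hc] at h3
    have h10 := two_pow_le (k := n * 3) (by rw [pow_mul]; exact h3)
    have : n ≤ 3 := by omega
    interval_cases n <;> (revert h3; norm_num)

end Cfsg.Agent.S3179
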