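import Cfsg.Statements.S3190
import Cfsg.Agent.H98.Coprime
import Cfsg.Agent.H46.Coprime

set_option autoImplicit false
open Cfsg

namespace Cfsg.Agent.S3190

/-- Let p be an odd prime and, inside a finite group, let P be a p-subgroup normalized by a Klein four-group T. Let R be a subgroup of P, normal in P and normalized by T, such that P is the product of R with the centralizer of T in P. If T centralizes the centre of P, then T centralizes the centre of R. -/
theorem result {X : Type*} [Group X] [Finite X]
    {p : ℕ} (hp : p.Prime) (hodd : Odd p) (P T R : Subgroup X) (hP : IsPGroup p ↥P) (hT : IsKleinFour ↥T)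
    (hTP : T ≤ Subgroup.normalizer (P : Set X)) (hRP : R ≤ P) (hRn : (R.subgroupOf P).Normal)
    (hTR : T ≤ Subgroup.normalizer (R : Set X)) (hfac : R ⊔ (P ⊓ Subgroup.centralizer (T : Set X)) = P)
    (hZ : T ≤ Subgroup.centralizer (((Subgroup.center ↥P).map P.subtype : Subgroup X) : Set X)) :
    T ≤ Subgroup.centralizer (((Subgroup.center ↥R).map R.subtype : Subgroup X) : Set X) := by
  have := Fact.mk hp
  rw [H98.map_subtype_center] at hZ ⊢
  set Z := R ⊓ Subgroup.centralizer (R : Set X) with hZ'
  have hPR : P ≤ Subgroup.normalizer (R : Set X) :=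
    (Subgroup.normal_subgroupOf_iff_le_normalizer hRP).1 hRn
  have nZ : ∀ {A : Subgroup X}, A ≤ Subgroup.normalizer (R : Set X) →
      A ≤ Subgroup.normalizer (Z : Set X) :=
    fun h => H98.le_normalizer_inf h (H98.le_normalizer_centralizer h)
  have hZP : Z ≤ P := inf_le_left.trans hRP
  have hWZ : ⁅Z, T⁆ ≤ Z := H98.commutator_le_left' (nZ hTR)
  have hcomm : IsMulCommutative Z := ⟨⟨fun a b => Subtype.ext (b.2.2 a a.2.1)⟩⟩
  have hcop : (Nat.card T).Coprime (Nat.card Z) := by
    obtain ⟨n, hn⟩ := (hP.to_le hZP).exists_card_eq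
    rw [hT.card_four, hn]
    exact ((Nat.coprime_two_left.2 hodd).pow_left 2).pow_right n
  have hti := H46.coprime_abel_cent_TI hcomm (nZ hTR) hcop
  have hn : P ≤ Subgroup.normalizer ((⁅Z, T⁆ : Subgroup X) : Set X) := by
    rw [← hfac]
    refine sup_le (H98.le_normalizer_of_le_centralizer ?_) (H98.le_normalizer_commutator
      (nZ (inf_le_left.trans hPR)) (H98.le_normalizer_of_le_centralizer inf_le_right))
    exact Subgroup.le_centralizer_iff.1 (hWZ.trans inf_le_right)
  rw [Subgroup.le_centralizer_iff, ← Subgroup.commutator_eq_bot_iff_le_centralizer]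
  by_contra hne
  refine H98.inf_centralizer_ne_bot (hP.to_le (hWZ.trans hZP)) hP hn hne ?_
  rw [eq_bot_iff, ← hti]
  exact le_inf inf_le_left ((inf_le_inf_right _ (hWZ.trans hZP)).trans
    (Subgroup.le_centralizer_iff.1 hZ))

end Cfsg.Agent.S3190
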