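import Cfsg.Agent.Base
import Cfsg.Statements.S3192
import Cfsg.Agent.H5.CS4
import Cfsg.Agent.H61.HurPair

set_option autoImplicit false
open Cfsg

namespace Cfsg.Agent.S3192

open Subgroup H4 H61 in
theorem cent_cases {G X : Type*} [Group G] [Finite G] [MulAction G X] {h : Hur 2 G X} {x y : X}
    {q d n : ℕ} (m : Main h x y q d n) (hd : 1 < d) :
    {k : ℕ | ∃ g : G, g ≠ 1 ∧ k = Nat.card (centralizer ({g} : Set G))} = {q, d, n} := by
  have h1 : ∀ a b : X, a ≠ b → ∀ g ∈ tor G a b, g ≠ 1 → centralizer ({g} : Set G) = tor G a b :=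
    fun a b hab g hg g1 => h.centralizer_eq_tor hab hg fun e =>
      g1 (h.semi g a b hab hg.1 hg.2 (by rwa [sq]))
  have h2 : ∀ (K : Subgroup G), 1 < Nat.card K → ∃ g ∈ K, g ≠ 1 := fun K hK =>
    (bot_or_exists_ne_one K).resolve_left fun e => by rw [e, card_bot] at hK; omega
  ext k
  constructor
  · rintro ⟨g, g1, rfl⟩
    by_cases e : g ^ 2 = 1
    · obtain ⟨a, ha⟩ := h.fix g
      have h3 : g ∈ h.Q a := ⟨ha, e⟩
      rw [h.centralizer_eq_Q h3 g1]
      exact Or.inl (m.card_Q_of_mem (m.mem_orbit_of_Q fun e => g1 (mem_bot.1 (e ▸ h3))))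
    · obtain ⟨a, b, hab, hg⟩ := h.exists_tor e
      rw [h1 a b hab g hg g1]
      rcases m.tor_cases hab fun e => g1 (mem_bot.1 (e ▸ hg)) with e | e
      · exact Or.inr (Or.inl e.2.2)
      · exact Or.inr (Or.inr e.2.2.2)
  · rintro (rfl | rfl | rfl)
    · obtain ⟨g, hg, g1⟩ := h2 (h.Q x) (m.card_Q ▸ m.two_le)
      exact ⟨g, g1, by rw [h.centralizer_eq_Q hg g1, m.card_Q]⟩
    · obtain ⟨b, -, hb, e⟩ := m.exists_split
      obtain ⟨g, hg, g1⟩ := h2 _ (e ▸ hd)
      exact ⟨g, g1, by rw [h1 _ _ hb g hg g1, e]⟩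
    · obtain ⟨b, -, hb, -, e⟩ := m.exists_nonsplit (MulAction.mem_orbit_self y)
      obtain ⟨g, hg, g1⟩ := h2 _ (e ▸ m.two_le_n)
      exact ⟨g, g1, by rw [h1 _ _ hb g hg g1, e]⟩

theorem center_eq_bot {G : Type*} [Group G] [IsSimpleGroup G] (h : ¬ IsMulCommutative G) :
    Subgroup.center G = ⊥ :=
  (Subgroup.Normal.eq_bot_or_eq_top inferInstance).resolve_right fun e =>
    h ⟨⟨fun a b => Subgroup.mem_center_iff.1 (e ▸ Subgroup.mem_top b) a⟩⟩

open H61 in
/-- Simple groups of conjugate type rank three. For a finite group G consider the set of indices of the centralizers of the non-central elements of G. Then G is a non-abelian simple group for which this set has exactly three members if and only if G is isomorphic to PSL(2, 2^m) for some m ≥ 2. -/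
theorem result (G : Type*) [Group G] [Finite G] :
    (IsSimpleGroup G ∧ ¬ IsMulCommutative G ∧
        Set.ncard {m : ℕ | ∃ x : G, x ∉ Subgroup.center G ∧ m = (Subgroup.centralizer ({x} : Set G)).index} = 3) ↔
      ∃ (m : ℕ) (F : Type) (_ : Field F) (_ : Fintype F), 2 ≤ m ∧ Fintype.card F = 2 ^ m ∧
        Nonempty (G ≃* Matrix.ProjectiveSpecialLinearGroup (Fin 2) F) := by
  constructor
  · rintro ⟨hs, hc, h⟩
    have hZ := center_eq_bot hc
    obtain ⟨F, _, _, n, h1, h2, h3⟩ := H5.CS.three_sizes hZ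
      (fun e => hc ⟨⟨IsSimpleGroup.comm_iff_isSolvable.2 e⟩⟩) (by
        refine le_of_eq ((congrArg Set.ncard (Set.ext fun k => ?_)).trans h)
        refine ⟨fun ⟨h1, x, hx⟩ => ⟨x, fun e => h1.ne' (hx ▸ H4.ind_eq_one_iff.2 e), hx.symm⟩,
          fun ⟨x, h1, hx⟩ => ⟨hx ▸ lt_of_le_of_ne (H4.ind_pos x)
            fun e => h1 (H4.ind_eq_one_iff.1 e.symm), x, hx.symm⟩⟩)
    exact ⟨n, F, inferInstance, inferInstance, h1, h2, h3⟩
  · rintro ⟨n, F, _, _, hn, hF, ⟨e⟩⟩
    have h4 : 4 ≤ Nat.card F := by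
      rw [Nat.card_eq_fintype_card, hF]
      exact Nat.pow_le_pow_right two_pos hn
    have h2 : 2 ∣ Nat.card F := by
      rw [Nat.card_eq_fintype_card, hF]
      exact dvd_pow_self 2 (by omega)
    have : CharP F 2 := charP_of_card_eq_prime_pow hF
    have := H61.isSimpleGroup_psl h4
    have hs : IsSimpleGroup G := e.isSimpleGroup
    have hc : ¬ IsMulCommutative G := fun h => H61.not_isMulCommutative_psl (F := F)
      ⟨⟨fun a b => e.symm.injective (by rw [map_mul, map_mul, h.1.comm])⟩⟩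
    refine ⟨hs, hc, ?_⟩
    obtain ⟨y, m⟩ := H61.main_psl (F := F) 2
    rw [show Nat.gcd 2 (Nat.card F - 1) = 1 from Nat.coprime_two_left.2 (Nat.odd_iff.2 (by omega)),
      Nat.div_one, Nat.div_one] at m
    have h5 := cent_cases m (by omega)
    have h6 : ∀ x : G, H4.ind (e x) = H4.ind x := fun x => Nat.dvd_antisymm
      (H18.index_centralizer_map_dvd e.toMonoidHom e.surjective x)
      (by simpa using H18.index_centralizer_map_dvd e.symm.toMonoidHom e.symm.surjective (e x))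
    have h7 : ∀ x : G, Nat.card (Subgroup.centralizer ({e x} : Set _)) * H4.ind x = Nat.card G :=
      fun x => by rw [← h6, Subgroup.card_mul_index, Nat.card_congr e.toEquiv]
    have h8 : ({Nat.card F, Nat.card F - 1, Nat.card F + 1} : Set ℕ).ncard = 3 := by
      rw [Set.ncard_insert_of_notMem (by simp only [Set.mem_insert_iff, Set.mem_singleton_iff]; omega), Set.ncard_pair (by omega)]
    rw [← h8, ← h5, center_eq_bot hc]
    refine Set.ncard_congr (fun k _ => Nat.card G / k) ?_ ?_ ?_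
    · rintro _ ⟨x, hx, rfl⟩
      exact ⟨e x, fun h => hx (e.injective (h.trans (map_one e).symm)), by
        rw [← h7 x, Nat.mul_div_cancel _ (H4.ind_pos x)]⟩
    · rintro _ _ ⟨x, -, rfl⟩ ⟨y, -, rfl⟩ h
      rw [← Nat.div_div_self (Subgroup.index_dvd_card (Subgroup.centralizer ({x} : Set G)))
        Nat.card_pos.ne', h, Nat.div_div_self (Subgroup.index_dvd_card _) Nat.card_pos.ne']
    · rintro _ ⟨g, g1, rfl⟩
      obtain ⟨x, rfl⟩ := e.surjective g
      exact ⟨_, ⟨x, fun h => g1 (by rw [Subgroup.mem_bot.1 h, map_one]), rfl⟩, by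
        rw [← h7 x, Nat.mul_div_cancel _ (H4.ind_pos x)]⟩

end Cfsg.Agent.S3192
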