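import Cfsg.Statements.S3207
import Cfsg.Agent.Base
import Cfsg.Agent.H12.LC11
import Cfsg.Agent.H64.Hx4

set_option autoImplicit false
open Cfsg

namespace Cfsg.Agent.S3207

/-- Let G be a finite group with subgroups L₁ ≅ SL₂(q₁) and L₂ ≅ SL₂(q₂), q₁ and q₂ odd prime powers, which commute elementwise and meet in ⟨j⟩ for an involution j, and suppose L₁L₂ has index 2 in C_G(j). If G ≠ C_G(j)O(G), then either q₁ = q₂ and neither L₁ nor L₂ is normal in C_G(j), or q₁ = q₂ and both L₁ and L₂ are normal in C_G(j), or one of q₁, q₂ is the cube of the other. -/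
theorem result {G : Type*} [Group G] [Finite G]
    {F₁ : Type*} [Field F₁] [Fintype F₁] {F₂ : Type*} [Field F₂] [Fintype F₂]
    (hF₁ : Odd (Fintype.card F₁)) (hF₂ : Odd (Fintype.card F₂)) (L₁ L₂ : Subgroup G)
    (e₁ : ↥L₁ ≃* Matrix.SpecialLinearGroup (Fin 2) F₁) (e₂ : ↥L₂ ≃* Matrix.SpecialLinearGroup (Fin 2) F₂)
    (hc : ∀ x ∈ L₁, ∀ y ∈ L₂, x * y = y * x) (j : G) (hj : orderOf j = 2) (hm : L₁ ⊓ L₂ = Subgroup.zpowers j)
    (hle : L₁ ⊔ L₂ ≤ Subgroup.centralizer ({j} : Set G)) (hi : (L₁ ⊔ L₂).relIndex (Subgroup.centralizer ({j} : Set G)) = 2)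
    (hG : Subgroup.centralizer ({j} : Set G) ⊔ Cfsg.oddCore G ≠ ⊤) :
    (Fintype.card F₁ = Fintype.card F₂ ∧ ¬ (L₁.subgroupOf (Subgroup.centralizer ({j} : Set G))).Normal ∧
        ¬ (L₂.subgroupOf (Subgroup.centralizer ({j} : Set G))).Normal) ∨
      (Fintype.card F₁ = Fintype.card F₂ ∧ (L₁.subgroupOf (Subgroup.centralizer ({j} : Set G))).Normal ∧
        (L₂.subgroupOf (Subgroup.centralizer ({j} : Set G))).Normal) ∨
      (Fintype.card F₁ = Fintype.card F₂ ^ 3 ∨ Fintype.card F₂ = Fintype.card F₁ ^ 3) := by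
  have hN : ((L₁ ⊔ L₂).subgroupOf (Subgroup.centralizer ({j} : Set G))).Normal :=
    Subgroup.normal_of_index_eq_two hi
  let s : H12.LC.HS G F₁ F₂ := ⟨j, L₁, L₂, e₁, e₂, hF₁, hF₂, hc, hj, hm, hle,
    fun c hc y hy => hN.conj_mem ⟨y, hle hy⟩ hy ⟨c, hc⟩, 1, odd_one, hi,
    H12.LC.core_bot_of_two hF₁ hF₂ e₁ e₂ hc hle hi⟩
  rcases H35.LCF.jobDich G F₁ F₂ s with h | ⟨h, e⟩
  swap
  · exact Or.inl ⟨e, H12.LC.HS.not_normal_of_swp h⟩
  obtain ⟨f⟩ := H35.LCF.jobFus G F₁ F₂ s h hG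
  have n := H12.LC.HS.normal_of_nrm h
  rcases f.cases with (⟨x, -⟩ | ⟨x, -⟩) | k
  · exact (H64.Hx.jobHexPar _ _ _ x).elim (fun e => Or.inr (Or.inl ⟨e.symm, n⟩))
      fun e => Or.inr (Or.inr (Or.inr e))
  · exact (H64.Hx.jobHexPar _ _ _ x).elim (fun e => Or.inr (Or.inl ⟨e, n⟩))
      fun e => Or.inr (Or.inr (Or.inl e))
  · exact Or.inr (Or.inl ⟨k.1, n⟩)

end Cfsg.Agent.S3207
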