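import Cfsg.Statements.S3221
import Cfsg.Agent.Base
import Cfsg.Agent.H59.P43C

set_option autoImplicit false
open Cfsg

namespace Cfsg.Agent.S3221

/-- Let F be the field with 3 elements and t₀ an involution of PSp₄(3) = PSp₄(F) lying in the centre of a Sylow 2-subgroup. If G is a finite group of even order that has no subgroup of index 2 and contains an involution t whose centralizer C_G(t) is isomorphic to C_{PSp₄(3)}(t₀), then G ≅ PSp₄(3). -/
theorem result {G : Type*} [Group G] [Finite G] (hev : Even (Nat.card G))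
    (hG : ∀ H : Subgroup G, H.index ≠ 2) {F : Type*} [Field F] [Fintype F] (hF : Fintype.card F = 3)
    (U : Sylow 2 (Cfsg.PSp 2 F)) (t₀ : Cfsg.PSp 2 F) (ht₀ : orderOf t₀ = 2) (ht₀U : t₀ ∈ (U : Subgroup (Cfsg.PSp 2 F)))
    (ht₀c : ∀ u ∈ (U : Subgroup (Cfsg.PSp 2 F)), u * t₀ = t₀ * u) (t : G) (ht : orderOf t = 2)
    (e : ↥(Subgroup.centralizer ({t} : Set G)) ≃* ↥(Subgroup.centralizer ({t₀} : Set (Cfsg.PSp 2 F)))) :
    Nonempty (G ≃* Cfsg.PSp 2 F) := by
  obtain ⟨ψ⟩ := H59.P43.exists_equivF hF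
  have : Finite (Cfsg.PSp 2 F) := Finite.of_equiv _ ψ.symm.toEquiv
  have hc := H59.P43.conj_of_central (Sylow.mapSurjective (f := ψ.toMonoidHom) ψ.surjective U)
    (u := ψ t₀) (by rw [MulEquiv.orderOf_eq, ht₀]) ⟨t₀, ht₀U, rfl⟩ (by
      rintro _ ⟨a, ha, rfl⟩
      show ψ a * ψ t₀ = ψ t₀ * ψ a
      rw [← map_mul, ht₀c a ha, map_mul])
  have hmap : (Subgroup.centralizer ({t₀} : Set (Cfsg.PSp 2 F))).map (ψ : Cfsg.PSp 2 F →* _) =
      Subgroup.centralizer ({ψ t₀} : Set H59.P43.XX) := by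
    ext a
    obtain ⟨a, rfl⟩ := ψ.surjective a
    refine (Subgroup.mem_map_equiv (f := ψ)).trans ?_
    rw [Subgroup.mem_centralizer_singleton_iff,
      Subgroup.mem_centralizer_singleton_iff, MulEquiv.symm_apply_apply, ← map_mul, ← map_mul,
      ψ.apply_eq_iff_eq]
  obtain ⟨j, C, -⟩ := H59.P43.exists_ctx ht hc
    (e.trans ((ψ.subgroupMap _).trans (MulEquiv.subgroupCongr hmap)))
  obtain ⟨φ⟩ := C.equiv hG
  exact ⟨φ.trans ψ.symm⟩

end Cfsg.Agent.S3221
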