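import Cfsg.Statements.S3222
import Cfsg.Agent.H86.Z2S4
import Cfsg.Agent.S0061

set_option autoImplicit false
open Cfsg

namespace Cfsg.Agent.S3222

open H86 H86.ZS
open scoped commutatorElement

set_option synthInstance.maxSize 2000 in
theorem comm_cases : ∀ x y : A, x * z = z * x → y * z = z * y → ⁅x, y⁆ = 1 ∨ ⁅x, y⁆ = z := by
  simp only [commutatorElement_def]
  decide +kernel

/-- Let G be a finite group of even order such that (1) some involution t lying in the centre of a Sylow 2-subgroup of G has C_G(t) ≅ Z₂ × S₄, and (2) every Sylow 2-subgroup S of G satisfies C_G(S′) = S, where S′ is the derived subgroup of S. Then G = C_G(t) if G is solvable, and G ≅ S₆ otherwise. -/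
theorem result {G : Type*} [Group G] [Finite G] (hev : Even (Nat.card G))
    (t : G) (ht : orderOf t = 2) (T : Sylow 2 G) (htT : t ∈ (T : Subgroup G)) (htc : ∀ s ∈ (T : Subgroup G), s * t = t * s)
    (e : ↥(Subgroup.centralizer ({t} : Set G)) ≃* (Multiplicative (ZMod 2) × Equiv.Perm (Fin 4)))
    (h2 : ∀ S : Sylow 2 G, Subgroup.centralizer ((⁅(S : Subgroup G), (S : Subgroup G)⁆ : Subgroup G) : Set G) = (S : Subgroup G)) :
    (Group.IsSolvable G → Subgroup.centralizer ({t} : Set G) = ⊤) ∧
      (¬ Group.IsSolvable G → Nonempty (G ≃* Equiv.Perm (Fin 6))) := by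
  obtain ⟨φ, hφ, hr⟩ := exists_model e
  have hu : φ u = t := by
    obtain ⟨y, rfl⟩ : t ∈ φ.range := hr ▸ Subgroup.mem_centralizer_singleton_iff.mpr rfl
    have key : ∀ x, y * x = x * y := fun x => hφ (by
      rw [map_mul, map_mul]
      exact (Subgroup.mem_centralizer_singleton_iff.mp (hr ▸ ⟨x, rfl⟩ : φ x ∈ _)).symm)
    rcases central_cases y (key _) (key _) (key _) with rfl | rfl
    · simp at ht
    · rfl
  subst hu
  have hC : Nat.card (Subgroup.centralizer {φ u}) = 48 := by rw [Nat.card_congr e.toEquiv, card_A]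
  have hD : Nat.card ((Subgroup.centralizer {z}).map φ) = 2 ^ 4 := by
    rw [Subgroup.card_map_of_injective hφ]
    have e' : Nat.card (Subgroup.centralizer {z} : Subgroup A) = Nat.card {y : A // y * z = z * y} :=
      Nat.card_congr (Equiv.subtypeEquivRight fun y => Subgroup.mem_centralizer_singleton_iff)
    rw [e', Nat.card_eq_fintype_card]
    decide +kernel
  obtain ⟨S, hS⟩ := (IsPGroup.of_card hD).exists_le_sylow
  have hSe : (Subgroup.centralizer {z}).map φ = S := by
    refine Subgroup.eq_of_le_of_card_ge hS ?_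
    have h1 : Nat.card (T : Subgroup G) ∣ 48 := hC ▸ Subgroup.card_dvd_of_le fun s hs =>
      Subgroup.mem_centralizer_singleton_iff.mpr (htc s hs)
    obtain ⟨k, hk⟩ := T.isPGroup'.exists_card_eq
    rw [hD, Nat.card_congr (Sylow.equiv S T).toEquiv, hk]
    rw [hk] at h1
    refine Nat.pow_le_pow_right (by norm_num) ?_
    by_contra hlt
    exact absurd ((Nat.pow_dvd_pow 2 (show 5 ≤ k by omega)).trans h1) (by decide)
  have hmem : ∀ g, g ∈ (S : Subgroup G) ↔ ∃ x, x * z = z * x ∧ φ x = g := fun g => by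
    rw [← hSe, Subgroup.mem_map]
    simp only [Subgroup.mem_centralizer_singleton_iff]
  have hcfg : Cfg φ S := ⟨hφ, fun g hg => by
      have : g ∈ φ.range := hr ▸ Subgroup.mem_centralizer_singleton_iff.mpr hg
      exact this, fun g hg => by
      rw [← h2 S, Subgroup.mem_centralizer_iff]
      intro w hw
      refine Subgroup.mem_centralizer_singleton_iff.mp (Subgroup.commutator_le.mpr ?_ hw)
      intro s hs s' hs'
      obtain ⟨x, hx, rfl⟩ := (hmem s).mp hs
      obtain ⟨y, hy, rfl⟩ := (hmem s').mp hs'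
      rw [← map_commutatorElement, Subgroup.mem_centralizer_singleton_iff]
      rcases comm_cases x y hx hy with k | k <;> rw [k]
      · simp
      · exact hg.symm, hmem⟩
  rcases hcfg.main with h | ⟨⟨ψ⟩⟩
  · refine ⟨fun _ => h, fun hn => absurd (Cfsg.Agent.S0061.result 2 3 4 (by norm_num) (by norm_num) ?_) hn⟩
    rw [h, Subgroup.card_top] at hC
    rw [hC]; norm_num
  · refine ⟨fun hs => absurd ?_ (Equiv.Perm.not_isSolvable (Fin 6) (by simp; norm_num)), fun _ => ⟨ψ⟩⟩
    exact Group.isSolvable_of_surjective (f := ψ.toMonoidHom) ψ.surjective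

end Cfsg.Agent.S3222
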