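import Cfsg.Statements.S3232
import Cfsg.Agent.Base
import Cfsg.Agent.H38.FiMain

set_option autoImplicit false
open Cfsg

namespace Cfsg.Agent.S3232

open H78 H38.Fi Subgroup in
theorem exists_xz {G : Type*} [Group G] [Finite G] {z : G} (hz : orderOf z = 2)
    {A E : Subgroup (C1 z)} (hAE : IsInternalDirectProduct A E (pCore 2 (C1 z)))
    (hA : Nat.card A = 2) (hE : IsExtraspecial 2 E) (hEc : Nat.card E = 2 ^ 9) {zc : C1 z}
    (hzc : (zc : G) = z) (hJ : ⁅pCore 2 (C1 z), pCore 2 (C1 z)⁆ = zpowers zc)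
    (hC : centralizer (pCore 2 (C1 z) : Set (C1 z)) ≤ pCore 2 (C1 z))
    [(pCore 2 (C1 z)).Normal] (e : (C1 z ⧸ pCore 2 (C1 z)) ≃* H59.U6.WM) : ∃ a, XZ z a := by
  obtain ⟨lA, lE, cm, h0, hs⟩ := hAE
  obtain ⟨y, X⟩ := exists_XS hE
  have zz := mul_self_of_orderOf_two hz
  obtain rfl : y = zc := by
    obtain ⟨i, hi, j, hj, e⟩ := X.nonab
    have h1 := commutator_mem_commutator (inv_mem (lE hi)) (inv_mem (lE hj))
    rw [hJ, mem_zpowers_invol (Subtype.ext (by simpa [hzc] using zz)), commutatorElement_def,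
      inv_inv, inv_inv, mul_assoc, (X.comm i hi j hj).resolve_left e] at h1
    simpa [mul_assoc, X.z_ne] using h1
  obtain ⟨a, a1, ha⟩ := (Nat.card_eq_two_iff' (1 : A)).1 hA
  have hA' : ∀ b ∈ A, b = 1 ∨ b = a := fun b hb => or_iff_not_imp_left.2 fun e =>
    congrArg Subtype.val (ha ⟨b, hb⟩ fun e' => e (congrArg Subtype.val e'))
  have aa : (a : C1 z) * a = 1 := (hA' _ (mul_mem a.2 a.2)).resolve_right fun e =>
    a1 (Subtype.ext (by simpa using e))
  have dec : ∀ j ∈ O2C z, ∃ e ∈ E, j = e ∨ j = e * a := by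
    rintro _ ⟨j, hj, rfl⟩
    obtain ⟨b, hb, e, he, rfl⟩ := (H98.mem_sup_left_norm fun b hb => mem_normalizer_of_conj_mem
      fun e he => by rwa [cm b hb e he, mul_inv_cancel_right]).1 (hs ▸ hj)
    refine ⟨e, he, (hA' b hb).imp (fun h => by simp [h]) fun h => ?_⟩
    rw [cm b hb e he, h]; rfl
  have mJ : ∀ {j : C1 z}, j ∈ pCore 2 (C1 z) → (j : G) ∈ O2C z := fun hj => (mem_O2C_iff _).2 hj
  have zJ : z ∈ O2C z := by simpa only [hzc] using mJ (lE X.z_mem)
  have ca : ∀ e ∈ E, (a : G) * e = e * a := fun e he => congrArg Subtype.val (cm a a.2 e he)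
  have aa' : (a : G) * a = 1 := congrArg Subtype.val aa
  have aJ : ∀ j ∈ O2C z, (a : G) * j = j * a := fun j hj => by
    obtain ⟨e, he, rfl | rfl⟩ := dec j hj
    exacts [ca e he, by rw [← mul_assoc, ca e he]]
  have sq : ∀ i ∈ O2C z, ∀ j ∈ O2C z, ∃ e ∈ E, ∃ f ∈ E, ∃ v : G, i * j = e * f * v ∧
      j * i = f * e * v ∧ v * z = z * v ∧ (i = j → e = f ∧ v = 1) := fun i hi j hj => by
    have az := aJ z zJ
    obtain ⟨e, he, rfl | rfl⟩ := dec i hi <;> obtain ⟨f, hf, rfl | rfl⟩ := dec j hj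
    · exact ⟨e, he, f, hf, 1, by simp, by simp, by simp, fun h => ⟨Subtype.ext h, rfl⟩⟩
    · exact ⟨e, he, f, hf, a, by rw [mul_assoc], by rw [mul_assoc, ca e he, mul_assoc], az,
        fun h => (a1 (Subtype.ext (mem_bot.1 (h0 ▸ ⟨a.2, (mul_mem_cancel_left hf).1
          ((Subtype.ext h : e = f * a) ▸ he)⟩)))).elim⟩
    · exact ⟨e, he, f, hf, a, by rw [mul_assoc, ca f hf, mul_assoc], by rw [mul_assoc], az,
        fun h => (a1 (Subtype.ext (mem_bot.1 (h0 ▸ ⟨a.2, (mul_mem_cancel_left he).1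
          ((Subtype.ext h : e * a = f) ▸ hf)⟩)))).elim⟩
    · exact ⟨e, he, f, hf, 1, by rw [mul_assoc, ← mul_assoc _ _ (a : G), ca f hf, mul_assoc,
        aa', mul_assoc], by rw [mul_assoc, ← mul_assoc _ _ (a : G), ca e he, mul_assoc,
        aa', mul_assoc], by simp, fun h => ⟨Subtype.ext (mul_right_cancel h), rfl⟩⟩
  refine ⟨a, zz, ne_one_of_orderOf_two hz, aa', fun e => a1 (Subtype.ext (Subtype.ext e)),
    fun e => a1 (Subtype.ext (mem_bot.1 (h0 ▸ ⟨a.2, (Subtype.ext (e.trans hzc.symm) : a.1 = y) ▸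
      X.z_mem⟩))), zJ, mJ (lA a.2), fun g => ⟨fun h => ?_, fun h j hj => ?_⟩,
    fun j hj => ?_, fun i hi j hj => ?_, ?_, H59.U6.WM.subtype.comp
      (e.toMonoidHom.comp (QuotientGroup.mk' _)), fun c => by
      rw [mem_O2C_iff, ← QuotientGroup.eq_one_iff, ← e.map_eq_one_iff, Subtype.ext_iff]; rfl, by
      rw [MonoidHom.range_comp, MonoidHom.range_eq_top.mpr
        (e.surjective.comp (QuotientGroup.mk'_surjective _)), ← MonoidHom.range_eq_map,
        range_subtype]⟩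
  · have hg := mJ (hC (x := ⟨g, mem_C1.2 (h z zJ)⟩)
      fun j hj => Subtype.ext (h j (mJ hj)).symm)
    obtain ⟨e, he, rfl | rfl⟩ := dec g hg
    · rcases X.center e he fun f hf => Subtype.ext (h f (mJ (lE hf))) with rfl | rfl
      exacts [V4.one, Or.inr (Or.inl hzc)]
    · rcases X.center e he fun f hf => Subtype.ext (mul_right_cancel (b := (a : G)) (by
        have := h f (mJ (lE hf))
        rwa [mul_assoc, ca f hf, ← mul_assoc, ← mul_assoc] at this)) with rfl | rfl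
      exacts [by simpa using V4.a, Or.inr (Or.inr (Or.inr (congrArg (· * _) hzc)))]
  · rcases h with rfl | rfl | rfl | rfl
    exacts [by simp, (cmJ hj).symm, aJ j hj, (H59.U6.cm_mul (cmJ hj).symm (aJ j hj))]
  · obtain ⟨e, he, f, -, v, h1, -, -, h2⟩ := sq j hj j hj
    obtain ⟨rfl, rfl⟩ := h2 rfl
    rw [h1, mul_one]
    exact (X.sq e he).imp (congrArg Subtype.val) fun h => (congrArg Subtype.val h).trans hzc
  · obtain ⟨e, he, f, hf, v, h1, h2, h3, -⟩ := sq i hi j hj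
    rw [h1, h2, mul_assoc _ v z, h3, ← mul_assoc _ z v, mul_left_inj, mul_left_inj]
    exact (X.comm e he f hf).imp (congrArg Subtype.val) fun h =>
      (congrArg Subtype.val h).trans (congrArg (_ * ·) hzc)
  · let φ := MonoidHom.noncommCoprod A.subtype E.subtype fun a b => cm a a.2 b b.2
    have hi : Function.Injective φ := (MonoidHom.noncommCoprod_injective _ _ _).2
      ⟨A.subtype_injective, E.subtype_injective, by simpa [disjoint_iff] using h0⟩
    have hr : φ.range = pCore 2 (C1 z) := by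
      rw [← hs]
      simpa using MonoidHom.noncommCoprod_range A.subtype E.subtype fun a b => cm a a.2 b b.2
    rw [card_map_of_injective (subtype_injective _), ← hr,
      ← Nat.card_congr (MonoidHom.ofInjective hi).toEquiv, Nat.card_prod, hA, hEc]
    rfl

/-- Let G be a finite group with an involution z, H = C_G(z), such that J = O₂(H) is an (internal) direct product of a group of order 2 and an extraspecial group of order 2⁹, with derived subgroup J′ = ⟨z⟩, C_H(J) ≤ J and H/J ≅ Aut(PSp₄(3)). Then G = H·O(G); or some involution z₁ ∈ Z(J) outside ⟨z⟩ generates a normal subgroup of G and G has a subgroup G₀ of index 2 containing z₁ with G₀/⟨z₁⟩ ≅ U₆(2); or G is isomorphic to the Fischer group Fi₂₂. -/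
theorem result {G : Type*} [Group G] [Finite G] (z : G) (hz : orderOf z = 2)
    {F : Type*} [Field F] [Fintype F] (hF : Fintype.card F = 3) {K : Type*} [Field K] [Fintype K] (hK : Fintype.card K = 4)
    (A E : Subgroup ↥(Subgroup.centralizer ({z} : Set G))) (hAE : Cfsg.IsInternalDirectProduct A E (Cfsg.pCore 2 ↥(Subgroup.centralizer ({z} : Set G)))) (hA : Nat.card ↥A = 2)
    (hE : Cfsg.IsExtraspecial 2 ↥E) (hEc : Nat.card ↥E = 2 ^ 9)
    (zc : ↥(Subgroup.centralizer ({z} : Set G))) (hzc : (zc : G) = z) (hJ' : ⁅(Cfsg.pCore 2 ↥(Subgroup.centralizer ({z} : Set G))), (Cfsg.pCore 2 ↥(Subgroup.centralizer ({z} : Set G)))⁆ = Subgroup.zpowers zc)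
    (hCJ : Subgroup.centralizer ((Cfsg.pCore 2 ↥(Subgroup.centralizer ({z} : Set G))) : Set ↥(Subgroup.centralizer ({z} : Set G))) ≤ Cfsg.pCore 2 ↥(Subgroup.centralizer ({z} : Set G))) [hJn : (Cfsg.pCore 2 ↥(Subgroup.centralizer ({z} : Set G))).Normal]
    (e : (↥(Subgroup.centralizer ({z} : Set G)) ⧸ Cfsg.pCore 2 ↥(Subgroup.centralizer ({z} : Set G))) ≃* MulAut (Cfsg.PSp 2 F)) :
    Subgroup.centralizer ({z} : Set G) ⊔ Cfsg.oddCore G = ⊤ ∨
      (∃ z₁ : G, orderOf z₁ = 2 ∧ z₁ ∉ Subgroup.zpowers z ∧ (∃ h₁ : z₁ ∈ Subgroup.centralizer ({z} : Set G), (⟨z₁, h₁⟩ : ↥(Subgroup.centralizer ({z} : Set G))) ∈ Cfsg.pCore 2 ↥(Subgroup.centralizer ({z} : Set G)) ∧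
          ∀ j ∈ Cfsg.pCore 2 ↥(Subgroup.centralizer ({z} : Set G)), j * ⟨z₁, h₁⟩ = ⟨z₁, h₁⟩ * j) ∧ (Subgroup.zpowers z₁).Normal ∧
        ∃ (G₀ : Subgroup G) (hz₁ : z₁ ∈ G₀), G₀.index = 2 ∧
          ∃ hn : ((Subgroup.zpowers z₁).subgroupOf G₀).Normal,
            Nonempty ((↥G₀ ⧸ (Subgroup.zpowers z₁).subgroupOf G₀) ≃* Cfsg.PSU 6 K 2)) ∨
      Cfsg.Spor.IsoFi22 G := by
  obtain ⟨ψ⟩ := H59.U6.exists_equivA hF
  obtain ⟨a, h⟩ := exists_xz hz hAE hA hE hEc hzc hJ' hCJ (e.trans ψ)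
  refine or_iff_not_imp_left.2 fun hne => ((h.main.resolve_left hne).imp_right And.left).imp_left ?_
  rintro ⟨y, hy, hc⟩
  have h' : H38.Fi.XZ z y := by
    rcases hy with rfl | rfl
    exacts [h, h.swap]
  exact ⟨y, H78.orderOf_eq_two h'.a1 h'.aa, fun e =>
    ((H78.mem_zpowers_invol h'.zz y).1 e).elim h'.a1 h'.az, ⟨H38.Fi.mem_C1.2 h'.a_z,
      (H78.mem_O2C_iff ⟨y, _⟩).1 h'.aJ, fun j _ => Subtype.ext (Subgroup.mem_center_iff.1 hc j)⟩,
    ⟨fun n hn g => by
      rwa [Subgroup.mem_center_iff.1 (Subgroup.zpowers_le.2 hc hn) g, mul_inv_cancel_right]⟩,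
    h'.central hc hne hK⟩

end Cfsg.Agent.S3232
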