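import Cfsg.Statements.S3237
import Cfsg.Agent.H9.A34B
import Cfsg.Agent.H9.A34S
import Cfsg.Agent.H78.XSMap
import Cfsg.Agent.H84.Hyp
import Cfsg.Agent.H14.TwoBal
import Cfsg.Agent.H29.Burnside
import Cfsg.Agent.H23.OrderType

set_option autoImplicit false
open Cfsg

namespace Cfsg.Agent.S3237

/-- Let G be a finite group of even order with an involution z, H = C_G(z), such that H has a normal subgroup E of order 32 that is extraspecial and contains no elementary abelian subgroup of order 8 (the central product of a dihedral group of order 8 with a quaternion group), C_H(E) ≤ E, and H/E ≅ S₄. Then O(G) is abelian, and if G is not solvable then G is isomorphic to the automorphism group of PGL₃(4). -/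
theorem result {G : Type*} [Group G] [Finite G]
    (hev : Even (Nat.card G)) (z : G) (hz : orderOf z = 2)
    (E : Subgroup ↥(Subgroup.centralizer ({z} : Set G))) [hEn : E.Normal] (hE : Cfsg.IsExtraspecial 2 ↥E) (hE32 : Nat.card ↥E = 32)
    (hEminus : ∀ A : Subgroup ↥E, Cfsg.IsElementaryAbelian 2 A → Nat.card ↥A ≠ 8)
    (hCE : Subgroup.centralizer (E : Set ↥(Subgroup.centralizer ({z} : Set G))) ≤ E)
    (e : (↥(Subgroup.centralizer ({z} : Set G)) ⧸ E) ≃* Equiv.Perm (Fin 4)) {F : Type*} [Field F] [Fintype F] (hF : Fintype.card F = 4) :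
    IsMulCommutative ↥(Cfsg.oddCore G) ∧
      (¬ Group.IsSolvable G → Nonempty (G ≃* MulAut (GL (Fin 3) F ⧸ Subgroup.center (GL (Fin 3) F)))) := by
  have zC : z ∈ Subgroup.centralizer ({z} : Set G) := Subgroup.mem_centralizer_singleton_iff.2 rfl
  have z1 : z ≠ 1 := fun h => by simp [h] at hz
  have cz : ∀ x : Subgroup.centralizer ({z} : Set G), (⟨z, zC⟩ : Subgroup.centralizer {z}) * x =
      x * ⟨z, zC⟩ := fun x => Subtype.ext (Subgroup.mem_centralizer_singleton_iff.1 x.2).symm
  have zE : (⟨z, zC⟩ : Subgroup.centralizer {z}) ∈ E := hCE fun y _ => (cz y).symm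
  have inj := (Subgroup.centralizer ({z} : Set G)).subtype_injective
  have lx : H78.LX (E.map (Subgroup.centralizer {z}).subtype) z :=
    ⟨(H78.XS_of_mem hE zE (fun h => z1 (congrArg Subtype.val h)) fun x _ => cz x).map _
      fun x _ h => Subtype.ext h,
      fun x hx => ⟨⟨x, Subgroup.mem_centralizer_singleton_iff.2 (hx z ⟨_, zE, rfl⟩)⟩,
        hCE fun y hy => Subtype.ext (hx y ⟨y, hy, rfl⟩).symm, rfl⟩, by
      rintro c hc _ ⟨x, hx, rfl⟩
      exact ⟨_, hEn.conj_mem x hx ⟨c, Subgroup.mem_centralizer_singleton_iff.2 hc⟩, rfl⟩⟩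
  have hf : ∀ k ∈ oddCore G, k * z = z * k → k = 1 := fun k hk h =>
    lx.eq_one_of_odd (H2.odd_card_oddCore G) Subgroup.le_normalizer_of_normal hk h
  have hc : Nat.card (Subgroup.centralizer ({z} : Set G)) = 768 := by
    rw [← E.card_mul_index, hE32, Subgroup.index, Nat.card_congr e.toEquiv, Nat.card_perm]
    simp [Nat.factorial]
  refine ⟨⟨⟨fun a b => Subtype.ext ?_⟩⟩, fun hs => ?_⟩
  · have iv := fun k hk => H78.conj_eq_inv_of_fpf (K := oddCore G) lx.z_sq
      (Subgroup.le_normalizer_of_normal (Subgroup.mem_top _)) hf (k := k) hk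
    have := iv _ (mul_mem a.2 b.2)
    rw [← conj_mul, iv _ a.2, iv _ b.2, ← mul_inv_rev, inv_inj] at this
    exact this.symm
  let f := (Subgroup.centralizer ({z} : Set G)).subtype.comp E.subtype
  have fi : Function.Injective f := inj.comp E.subtype_injective
  obtain ⟨v, fr⟩ := H9.A34.exists_frame E lx ((Subgroup.card_map_of_injective inj).trans hE32)
    (fun A hA h2 h8 => hEminus (A.comap f) (H10.C2.elem_of_forall fun x hx => fi (by
      rw [pow_two, map_mul, h2 _ hx, map_one])) (by
      rw [← Subgroup.card_map_of_injective fi, Subgroup.map_comap_eq_self, h8]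
      intro x hx
      obtain ⟨y, hy, rfl⟩ := hA hx
      exact ⟨⟨y, hy⟩, rfl⟩)) e
  obtain ⟨a, b, ψ, h, rfl⟩ := fr.exists_md hc
  have c := h.zu fun hi => by
    have := H29.isSolvable_of_card_dvd_pow_mul_pow (a := 8) (b := 1) Nat.prime_two Nat.prime_three
      (G := Subgroup.centralizer {ψ H9.A34.M.z}) (by rw [hc]; norm_num)
    have : Group.IsSolvable (oddCore G) := H31.S2.sol_of_odd (H2.odd_card_oddCore G)
    have := H23.isSolvable_sup (oddCore G) (Subgroup.centralizer {ψ H9.A34.M.z})
    rw [sup_comm, H84.zstar_sup H14.zstarThm hi] at this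
    exact hs (Group.isSolvable_of_surjective (f := (⊤ : Subgroup G).subtype)
      fun x => ⟨⟨x, trivial⟩, rfl⟩)
  obtain ⟨rfl, rfl⟩ := h.kill c
  exact h.main hF (h.oc c hf) hs

end Cfsg.Agent.S3237
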