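import Cfsg.Statements.S3241
import Cfsg.Agent.H59.P4W
import Cfsg.Agent.H92.P4LocA
import Cfsg.Agent.H92.P4LocB
import Cfsg.Agent.H3.P4T1
import Cfsg.Agent.H3.P4T2
import Cfsg.Agent.H54.P4Ab
import Cfsg.Agent.H80.P4T1
import Cfsg.Agent.H42.P4T
import Cfsg.Agent.H95.P4T4
import Cfsg.Agent.H34.P4Sg1
import Cfsg.Agent.H93.P4Sg2
import Cfsg.Agent.H36.L3CB
import Cfsg.Agent.H59.P4C
import Cfsg.Agent.H54.P4B4

set_option autoImplicit false
open Cfsg

namespace Cfsg.Agent.S3241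

/-- Let m > 1 be odd, F the field with 3^m elements, and 𝒞 the centralizer in PSp₄(3^m) = PSp₄(F) of an element of order 3 lying in the centre of a Sylow 3-subgroup. Let G be a finite group with an element α of order 3 such that C_G(α) ≅ 𝒞, such that C_G(z) = C_G(α) for every non-identity element z of the centre of C_G(α), and such that the elements of order 3 of G lying in the centre of some Sylow 3-subgroup of G are not all conjugate in G. Then C_G(α) is normal in G, or G is isomorphic to PSp₄(3^m). -/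
theorem result {G : Type*} [Group G] [Finite G]
    {F : Type*} [Field F] [Fintype F] (m : ℕ) (hm : Odd m) (hm1 : 1 < m) (hF : Fintype.card F = 3 ^ m)
    (U : Sylow 3 (Cfsg.PSp 2 F)) (x : Cfsg.PSp 2 F) (hx : orderOf x = 3) (hxU : x ∈ (U : Subgroup (Cfsg.PSp 2 F)))
    (hxc : ∀ u ∈ (U : Subgroup (Cfsg.PSp 2 F)), u * x = x * u)
    (α : G) (hα : orderOf α = 3) (e : ↥(Subgroup.centralizer ({α} : Set G)) ≃* ↥(Subgroup.centralizer ({x} : Set (Cfsg.PSp 2 F))))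
    (hb : ∀ z : G, z ≠ 1 → z ∈ Subgroup.centralizer ({α} : Set G) → (∀ c ∈ Subgroup.centralizer ({α} : Set G), c * z = z * c) →
      Subgroup.centralizer ({z} : Set G) = Subgroup.centralizer ({α} : Set G))
    (hc : ∃ (P Q : Sylow 3 G) (a b : G), orderOf a = 3 ∧ orderOf b = 3 ∧ a ∈ (P : Subgroup G) ∧ b ∈ (Q : Subgroup G) ∧
      (∀ p ∈ (P : Subgroup G), p * a = a * p) ∧ (∀ q ∈ (Q : Subgroup G), q * b = b * q) ∧ ¬ IsConj a b) :
    (Subgroup.centralizer ({α} : Set G)).Normal ∨ Nonempty (G ≃* Cfsg.PSp 2 F) := by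
  exact H59.P4.w3241 H92.P4L.jobLoc
    (fun _ _ κ hF hB => H47.P4C.caseT H3.P4T.jobAb3 H3.P4T.jobInn
      (H54.P4Ab.jobAbH H3.P4T.jobAb3) (H54.P4Ab.jobCC H3.P4T.jobAb3) H92.P4L.jobLoc
      H92.P4L.jobLoc3 H80.P4T.jobT1 H42.P4.jobT2 H42.P4.jobT3 H95.T4.jobT4 κ hF hB)
    (fun _ _ κ hF hc hB => H47.P4C.caseB H3.P4T.jobBor (H54.P4Ab.jobAbH H3.P4T.jobAb3)
      H92.P4L.jobLoc H92.P4L.jobLoc3 H34.P4.jobSg1 H93.Sg2.jobSg2 H36.L3C.jobB1 H36.L3C.jobB2
      H59.P4.jobB3 H54.P4B4.jobB4 κ hF hc hB)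
    m hm hm1 hF U x hx hxU hxc α hα e hb hc

end Cfsg.Agent.S3241
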