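import Cfsg.Statements.S3245
import Cfsg.Agent.Base
import Cfsg.Agent.H84.SPE
import Cfsg.Agent.H99.BenderB
import Cfsg.Agent.H82.Hub
import Cfsg.Agent.H42.OddOrder

set_option autoImplicit false
open Cfsg

namespace Cfsg.Agent.S3245

open Subgroup H17

theorem exists_max {G : Type*} [Group G] [Finite G] {T : Subgroup G} (hT : IsPGroup 2 T)
    (h1 : T ≠ ⊥) : ∃ M, IsMaximalTwoLocal M ∧ normalizer (T : Set G) ≤ M := by
  obtain ⟨M, hM, hmax⟩ := Finite.exists_le_maximal (p := fun N : Subgroup G => IsTwoLocal N)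
    (a := normalizer (T : Set G)) ⟨T, hT, h1, rfl⟩
  exact ⟨M, ⟨hmax.1, fun N hN hMN => le_antisymm (hmax.2 hN hMN) hMN⟩, hM⟩

theorem normalizer_map_conj {G : Type*} [Group G] (S : Subgroup G) (g : G) :
    normalizer ((S.map (MulAut.conj g).toMonoidHom : Subgroup G) : Set G) =
      (normalizer (S : Set G)).map (MulAut.conj g).toMonoidHom := by
  ext x
  rw [mem_map_conj_iff, ← map_conj_eq_iff_mem_normalizer, ← map_conj_eq_iff_mem_normalizer,
    map_conj_map_conj]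
  constructor
  · intro h
    have := congrArg (fun K : Subgroup G => K.map (MulAut.conj g⁻¹).toMonoidHom) h
    simp only [map_conj_map_conj, inv_mul_cancel, map_conj_one] at this
    rwa [mul_assoc]
  · intro h
    conv_rhs => rw [← h, map_conj_map_conj]
    congr 3
    group

theorem unique_max {G : Type*} [Group G] [Finite G]
    (h1 : ∀ M M' : Subgroup G, IsMaximalTwoLocal M → IsMaximalTwoLocal M' →
      ∃ g : G, M' = M.map (MulAut.conj g).toMonoidHom) (T : Subgroup G) :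
    IsPGroup 2 T → T ≠ ⊥ → ∀ M M' : Subgroup G, IsMaximalTwoLocal M → IsMaximalTwoLocal M' →
      T ≤ M → T ≤ M' → M = M' := by
  haveI : Fact (Nat.Prime 2) := ⟨Nat.prime_two⟩
  induction T using WellFoundedGT.induction with
  | _ T ih =>
  intro hT hT1 M M' hM hM' hTM hTM'
  obtain ⟨M0, hM0, hN0⟩ := exists_max hT hT1
  suffices key : ∀ M : Subgroup G, IsMaximalTwoLocal M → T ≤ M → M = M0 by
    rw [key M hM hTM, key M' hM' hTM']
  clear hTM hTM' hM hM' M M'
  intro M hM hTM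
  by_cases hS : SylIn 2 T M
  · -- `T` is a Sylow subgroup of `G`
    obtain ⟨S, hTS, hS0⟩ := exists_sylIn_ge (le_top : T ≤ ⊤) hT
    have hS1 : S ≠ ⊥ := fun h => hT1 (le_bot_iff.mp (h ▸ hTS))
    obtain ⟨M1, hM1, hN1⟩ := exists_max hS0.2.1 hS1
    obtain ⟨g, hg⟩ := h1 M1 M hM1 hM
    have hc : Nat.card S ≤ Nat.card T := by
      rw [← card_map_conj S g]
      exact hS.card_le (hg ▸ map_mono (le_normalizer.trans hN1)) (isPGroup_map_conj hS0.2.1 g)
    have hT0 : SylIn 2 T ⊤ := hS0.of_card_le le_top hT hc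
    obtain ⟨k, hk⟩ := h1 M0 M hM0 hM
    have h2 : T.map (MulAut.conj k⁻¹).toMonoidHom ≤ M0 := by
      have := map_mono (f := (MulAut.conj k⁻¹).toMonoidHom) hTM
      rwa [hk, map_conj_map_conj, inv_mul_cancel, map_conj_one] at this
    have h3 : SylIn 2 T M0 := hT0.mono (le_normalizer.trans hN0) le_top
    obtain ⟨m, hm, hme⟩ := h3.exists_conj_eq
      (h3.of_card_le h2 (isPGroup_map_conj hT _) (card_map_conj T _).ge)
    rw [map_conj_map_conj, map_conj_eq_iff_mem_normalizer] at hme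
    have hk0 : k ∈ M0 := by
      have := M0.mul_mem (M0.inv_mem (hN0 hme)) hm
      simpa using this
    rw [hk, map_conj_eq_iff_mem_normalizer.mpr (le_normalizer hk0)]
  · obtain ⟨B, hTB, hBM, hBN, hB⟩ := exists_pgroup_gt_le_normalizer hTM hT hS
    exact ih B hTB hB (fun h => not_lt_bot (h ▸ hTB)) M M0 hM hM0 hBM (hBN.trans hN0)

/-- A finite non-abelian simple group in which all maximal 2-local subgroups are conjugate is isomorphic to L₂(2ⁿ), Sz(2ⁿ) or U₃(2ⁿ) for some n ≥ 2. -/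
theorem result {G : Type*} [Group G] [Finite G] [IsSimpleGroup G] (hG : ¬ IsMulCommutative G)
    (h1 : ∀ M M' : Subgroup G, Cfsg.IsMaximalTwoLocal M → Cfsg.IsMaximalTwoLocal M' → ∃ g : G, M' = M.map (MulAut.conj g).toMonoidHom) :
    (∃ (F : Type) (_ : Field F) (_ : Fintype F) (n : ℕ), 2 ≤ n ∧ Fintype.card F = 2 ^ n ∧
        Nonempty (G ≃* Matrix.ProjectiveSpecialLinearGroup (Fin 2) F)) ∨
      Cfsg.Lie.IsoSuzuki G ∨
      (∃ (F : Type) (_ : Field F) (_ : Fintype F) (n : ℕ), 2 ≤ n ∧ Fintype.card F = (2 ^ n) ^ 2 ∧ Nonempty (G ≃* Cfsg.PSU 3 F (2 ^ n))) := by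
  haveI : Fact (Nat.Prime 2) := ⟨Nat.prime_two⟩
  have heven : 2 ∣ Nat.card G := by
    by_contra h
    have := H42.odd_order (G := G) (Nat.odd_iff.mpr (by omega))
    exact hG ⟨⟨IsSimpleGroup.comm_iff_isSolvable.mpr this⟩⟩
  obtain ⟨S⟩ : Nonempty (Sylow 2 G) := inferInstance
  have hS1 : (S : Subgroup G) ≠ ⊥ := (sylIn_top S).ne_bot (by simpa using heven)
  obtain ⟨M, hM, hN⟩ := exists_max S.isPGroup' hS1
  refine (H99.s1792 H82.hub M (H84.spe_iff_normalizers.mpr ⟨?_, ?_, ?_⟩)).1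
  · intro hMt
    obtain ⟨T, hT, hT1, hMT⟩ := hM.1
    rw [hMT, normalizer_eq_top_iff] at hMt
    rcases hMt.eq_bot_or_eq_top with h | h
    · exact hT1 h
    · have hp : IsPGroup 2 G := (h ▸ hT : IsPGroup 2 (⊤ : Subgroup G)).of_equiv topEquiv
      have := hp.isNilpotent
      exact hG ⟨⟨IsSimpleGroup.comm_iff_isSolvable.mpr inferInstance⟩⟩
  · obtain ⟨x, hx, hx2⟩ := H84.exists_orderOf_eq_of_isPGroup S.isPGroup' hS1
    exact (H84.dvd_card_iff_exists_orderOf M).mpr ⟨x, hN (le_normalizer hx), hx2⟩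
  · intro A hAM hA hA1
    obtain ⟨M', hM', hN'⟩ := exists_max hA hA1
    rw [unique_max h1 A hA hA1 M M' hM hM' hAM (le_normalizer.trans hN')]
    exact hN'

end Cfsg.Agent.S3245
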