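import Cfsg.Statements.S3244
import Cfsg.Agent.Base
import Cfsg.Agent.S3109
import Cfsg.Agent.S3245
import Cfsg.Agent.H52.LocA

set_option autoImplicit false
open Cfsg

namespace Cfsg.Agent.S3244

open Subgroup H98

section
variable {G : Type*} [Group G] [Finite G]

/-- the involutions of `M` centralizing `O_2(M)` coincide -/
theorem inv_unique {M : Subgroup G} (hM : CharP 2 M) (hc : IsCyclic ↥(center ↥(pCore 2 ↥M)))
    {u v : G} (hu : u ∈ M) (hv : v ∈ M) (ou : orderOf u = 2) (ov : orderOf v = 2)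
    (cu : pCoreOf 2 M ≤ centralizer ({u} : Set G)) (cv : pCoreOf 2 M ≤ centralizer ({v} : Set G)) :
    u = v := by
  haveI : Fact (Nat.Prime 2) := ⟨Nat.prime_two⟩
  have mk : ∀ w : G, w ∈ M → pCoreOf 2 M ≤ centralizer ({w} : Set G) →
      ∃ c : center ↥(pCore 2 ↥M), (((c : pCore 2 ↥M) : M) : G) = w := by
    intro w hw cw
    have h1 : w ∈ pCoreOf 2 M := hM ⟨hw, fun x hx => mem_centralizer_singleton_iff.1 (cw hx)⟩
    obtain ⟨y, hy, rfl⟩ := h1
    refine ⟨⟨⟨y, hy⟩, mem_center_iff.2 fun x => Subtype.ext (Subtype.ext ?_)⟩, rfl⟩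
    exact mem_centralizer_singleton_iff.1 (cw ⟨x.1, x.2, rfl⟩)
  obtain ⟨a, rfl⟩ := mk u hu cu
  obtain ⟨b, rfl⟩ := mk v hv cv
  rw [Subgroup.orderOf_coe, Subgroup.orderOf_coe, Subgroup.orderOf_coe] at ou ov
  classical
  haveI := Fintype.ofFinite ↥(center ↥(pCore 2 ↥M))
  have h := IsCyclic.card_orderOf_eq_totient (α := ↥(center ↥(pCore 2 ↥M))) (d := 2)
    (by have := orderOf_dvd_natCard a; rwa [ou, Nat.card_eq_fintype_card] at this)
  rw [Nat.totient_two, Finset.card_eq_one] at h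
  obtain ⟨c, hc⟩ := h
  have ha : a ∈ ({c} : Finset _) := hc ▸ Finset.mem_filter.2 ⟨Finset.mem_univ _, ou⟩
  have hb : b ∈ ({c} : Finset _) := hc ▸ Finset.mem_filter.2 ⟨Finset.mem_univ _, ov⟩
  rw [Finset.mem_singleton.1 ha, Finset.mem_singleton.1 hb]

/-- a maximal `2`-local subgroup with cyclic `Z(O_2)` centralizes an involution of `O_2` -/
theorem exists_cen {M : Subgroup G} (hm : IsMaximalTwoLocal M) (hM : CharP 2 M)
    (hc : IsCyclic ↥(center ↥(pCore 2 ↥M))) :
    ∃ z ∈ pCoreOf 2 M, orderOf z = 2 ∧ centralizer ({z} : Set G) = M := by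
  haveI : Fact (Nat.Prime 2) := ⟨Nat.prime_two⟩
  obtain ⟨T, hT, h1, hMT⟩ := hm.1
  have hne : pCoreOf 2 M ≠ ⊥ := fun h => h1 (le_bot_iff.1 (h ▸ le_pCoreOf hT
    (hMT ▸ le_normalizer) (hMT ▸ le_rfl)))
  obtain ⟨z, hz, o, cz⟩ := H52.Loc.exists_central_order_p (isPGroup_pCoreOf M) hne
  refine ⟨z, hz, o, ?_⟩
  have hle : M ≤ centralizer ({z} : Set G) := by
    intro m hmM
    have hn := self_le_normalizer_pCoreOf (p := 2) M
    have e : m * z * m⁻¹ = z := by
      refine inv_unique hM hc (M.mul_mem (M.mul_mem hmM (pCoreOf_le M hz)) (M.inv_mem hmM))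
        (pCoreOf_le M hz) (by rw [H83.orderOf_conj, o]) o (fun x hx => ?_) cz
      have h2 : m⁻¹ * x * m ∈ pCoreOf 2 M := by
        have := (mem_normalizer_iff.1 (hn (M.inv_mem hmM)) x).1 hx
        rwa [inv_inv] at this
      have h3 := mem_centralizer_singleton_iff.1 (cz h2)
      rw [mem_centralizer_singleton_iff]
      calc x * (m * z * m⁻¹) = m * (m⁻¹ * x * m * z) * m⁻¹ := by group
        _ = m * z * m⁻¹ * x := by rw [h3]; group
    rw [mem_centralizer_singleton_iff]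
    calc m * z = m * z * m⁻¹ * m := by group
      _ = z * m := by rw [e]
  have hz1 : zpowers z ≠ ⊥ := H84.zpowers_ne_bot_of_orderOf o
  have h2 := hm.2 (normalizer (zpowers z : Set G)) ⟨_, H52.Loc.pgroup_zpowers o, hz1, rfl⟩
    (hle.trans (by rw [← H52.Loc.cen_zpowers]; exact centralizer_le_normalizer _))
  refine le_antisymm ?_ hle
  rw [← h2, ← H52.Loc.cen_zpowers]
  exact centralizer_le_normalizer _

theorem unique_max (hch : ∀ M : Subgroup G, IsMaximalTwoLocal M → CharP 2 M)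
    (hc : ∀ M : Subgroup G, IsMaximalTwoLocal M → IsCyclic ↥(center ↥(pCore 2 ↥M)))
    (T : Subgroup G) :
    IsPGroup 2 T → T ≠ ⊥ → ∀ M M' : Subgroup G, IsMaximalTwoLocal M → IsMaximalTwoLocal M' →
      T ≤ M → T ≤ M' → M = M' := by
  haveI : Fact (Nat.Prime 2) := ⟨Nat.prime_two⟩
  induction T using WellFoundedGT.induction with
  | _ T ih =>
  intro hT hT1 M M' hM hM' hTM hTM'
  obtain ⟨M0, hM0, hN0⟩ := Cfsg.Agent.S3245.exists_max hT hT1
  suffices key : ∀ M : Subgroup G, IsMaximalTwoLocal M → T ≤ M → M = M0 by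
    rw [key M hM hTM, key M' hM' hTM']
  clear hTM hTM' hM hM' M M'
  intro M hM hTM
  by_cases hS : H17.SylIn 2 T M
  · have hS' : IsSyl 2 T M := isSyl_of_not_dvd_relIndex hS.1 hS.2.1 hS.2.2
    obtain ⟨z, hz, o, e⟩ := exists_cen hM (hch M hM) (hc M hM)
    obtain ⟨z0, hz0, o0, e0⟩ := exists_cen hM0 (hch M0 hM0) (hc M0 hM0)
    have hT0 : T ≤ centralizer ({z0} : Set G) := e0 ▸ le_normalizer.trans hN0
    have h1 : z0 ∈ M := by
      rw [← e, mem_centralizer_singleton_iff]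
      exact (mem_centralizer_singleton_iff.1 (hT0 (hS'.pCoreOf_le hz))).symm
    have h2 : z0 = z := inv_unique (hch M hM) (hc M hM) h1 (pCoreOf_le M hz) o0 o
      (hS'.pCoreOf_le.trans hT0) ((pCoreOf_le M).trans e.ge)
    rw [← e, ← e0, h2]
  · obtain ⟨B, hTB, hBM, hBN, hB⟩ := H17.exists_pgroup_gt_le_normalizer hTM hT hS
    exact ih B hTB hB (fun h => not_lt_bot (h ▸ hTB)) M M0 hM hM0 hBM (hBN.trans hN0)

end


/-- Say that a finite group G is of characteristic 2 type in the early sense when a Sylow 2-subgroup S of G has a self-centralizing normal subgroup of rank at least 3, S normalizes no nontrivial subgroup of odd order, and every 2-local subgroup of G is 2-constrained. If G is a non-abelian simple group of characteristic 2 type in this sense, then for some maximal 2-local subgroup M of G the centre of O₂(M) is not cyclic. -/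
theorem result {G : Type*} [Group G] [Finite G] [IsSimpleGroup G]
    (hG : ¬ IsMulCommutative G) (S : Sylow 2 G) (A : Subgroup G) (hA : Cfsg.IsSCN (S : Subgroup G) A) (hA3 : ¬ Cfsg.PRankLE 2 2 ↥A)
    (hinv : ∀ X : Subgroup G, Odd (Nat.card ↥X) → (S : Subgroup G) ≤ Subgroup.normalizer (X : Set G) → X = ⊥)
    (hcon : ∀ T : Subgroup G, IsPGroup 2 ↥T → T ≠ ⊥ → Cfsg.IsPConstrained 2 ↥(Subgroup.normalizer (T : Set G))) :
    ∃ M : Subgroup G, Cfsg.IsMaximalTwoLocal M ∧ ¬ IsCyclic ↥(Subgroup.center ↥(Cfsg.pCore 2 ↥M)) := by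
  haveI : Fact (Nat.Prime 2) := ⟨Nat.prime_two⟩
  by_contra hne
  have hc : ∀ M : Subgroup G, IsMaximalTwoLocal M → IsCyclic ↥(center ↥(pCore 2 ↥M)) :=
    fun M hM => by_contra fun h => hne ⟨M, hM, h⟩
  have hAc : IsMulCommutative A := ⟨⟨fun a b => Subtype.ext
    ((hA.2.2.ge b.2).2 a.1 a.2)⟩⟩
  obtain ⟨B, h8, hBS⟩ := H48.P2.exists_normal_e8 (S := (S : Subgroup G)) ⟨hA.1, hA.2.1⟩ hAc hA3
  have hO : ∀ t : G, orderOf t = 2 → centralizerPPrimeCore 2 t = ⊥ := fun t ht => by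
    obtain ⟨z, u, hs⟩ := H48.P2.exists_setup
      (H48.P2.hyp2_of_locals (fun h => H42.odd_order h) hcon) (H48.P2.sylow_top S) h8
    rw [H48.centralizerPPrimeCore_eq Nat.prime_two]
    exact hs.th_eq_bot (fun H hH => Cfsg.Agent.S1221.result H hH)
      (H84.oddCore_eq_bot_of_simple ht) (hs.good_of_normal_e8 h8 hBS) ht
  have key : ∀ T : Subgroup G, IsPGroup 2 ↥T → T ≠ ⊥ → CharP 2 (normalizer (T : Set G)) := by
    intro T hT h1
    obtain ⟨z, hz, o⟩ := H52.Loc.exists_order_p hT h1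
    refine H52.Loc.charP_nor_of_cen hT hz (H52.Loc.charP_of_pcon ?_ ?_)
    · have hP := H52.Loc.pgroup_zpowers o
      have := hcon _ hP (H84.zpowers_ne_bot_of_orderOf o)
      rwa [H52.Loc.pcon_nor_iff hP, H52.Loc.cen_zpowers] at this
    · exact (map_eq_bot_iff_of_injective _ (subtype_injective _)).1 (hO z o)
  have hch : ∀ M : Subgroup G, IsMaximalTwoLocal M → CharP 2 M := by
    rintro M ⟨⟨T, hT, h1, rfl⟩, -⟩
    exact key T hT h1
  simp only [Cfsg.PRankLE, not_forall, not_le] at hA3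
  obtain ⟨E, -, hE, h4⟩ := hA3
  have hex : ∀ a : A, ∃ e ∈ E, e ≠ 1 ∧ e ≠ a := by
    intro a
    by_contra! h
    classical
    have h1 : (E : Set A) ⊆ {1, a} := fun e he => by
      by_cases h1 : e = 1
      · exact Or.inl h1
      · exact Or.inr (h e he h1)
    have h2 := Set.ncard_le_ncard h1
    have h3 : ({1, a} : Set A).ncard ≤ 2 := (Set.ncard_insert_le _ _).trans (by simp)
    have h5 : Nat.card E = (E : Set A).ncard := Nat.card_coe_set_eq _
    omega
  obtain ⟨a, ha, a1, -⟩ := hex 1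
  obtain ⟨b, hb, b1, hba⟩ := hex a
  have oa : orderOf (a : G) = 2 := by
    rw [Subgroup.orderOf_coe]; exact orderOf_eq_prime (hE a ha) a1
  have ob : orderOf (b : G) = 2 := by
    rw [Subgroup.orderOf_coe]; exact orderOf_eq_prime (hE b hb) b1
  have hS1 : (S : Subgroup G) ≠ ⊥ := fun h => a1 (Subtype.ext (mem_bot.1 (h ▸ hA.1 a.2)))
  obtain ⟨M, hM, hN⟩ := Cfsg.Agent.S3245.exists_max S.isPGroup' hS1
  have hSM : (S : Subgroup G) ≤ M := le_normalizer.trans hN
  have hspe : IsStronglyPEmbedded 2 M := by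
    refine H84.spe_iff_normalizers.mpr ⟨?_, ?_, ?_⟩
    · intro hMt
      obtain ⟨T, hT, hT1, hMT⟩ := hM.1
      rw [hMT, normalizer_eq_top_iff] at hMt
      rcases hMt.eq_bot_or_eq_top with h | h
      · exact hT1 h
      · have hp : IsPGroup 2 G := (h ▸ hT : IsPGroup 2 (⊤ : Subgroup G)).of_equiv topEquiv
        have := hp.isNilpotent
        exact hG ⟨⟨IsSimpleGroup.comm_iff_isSolvable.mpr inferInstance⟩⟩
    · exact (H84.dvd_card_iff_exists_orderOf M).mpr ⟨a, hSM (hA.1 a.2), oa⟩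
    · intro X hXM hX hX1
      obtain ⟨M', hM', hN'⟩ := Cfsg.Agent.S3245.exists_max hX hX1
      rw [unique_max hch hc X hX hX1 M M' hM hM' hXM (le_normalizer.trans hN')]
      exact hN'
  obtain ⟨z, hz, o, e⟩ := exists_cen hM (hch M hM) (hc M hM)
  have hall : ∀ u ∈ M, orderOf u = 2 → u = z := by
    intro u hu ou
    obtain ⟨g, hg⟩ := isConj_iff.1 (H88.se_isConj (H84.spe_two_iff.1 hspe) o ou)
    have h1 : g ∈ M := (H84.spe_iff_conj.1 hspe).2.2 z (pCoreOf_le M hz) o g (hg ▸ hu)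
    rw [← e, mem_centralizer_singleton_iff] at h1
    rw [← hg, h1, mul_inv_cancel_right]
  exact hba (Subtype.ext ((hall b (hSM (hA.1 b.2)) ob).trans (hall a (hSM (hA.1 a.2)) oa).symm))

end Cfsg.Agent.S3244
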