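import Cfsg.Statements.S3927
import Cfsg.Agent.H30.Zipper

set_option autoImplicit false
open Cfsg

namespace Cfsg.Agent.S3927

theorem aux {G Γ : Type*} [Group G] [Group Γ] [Finite Γ] (α : MulAut G) (a : Γ) (i : G →* Γ)
    (hi : ∀ g : G, a * i g * a⁻¹ = i (α g))
    (hdec : ∀ x : Γ, ∃ g : G, ∃ b ∈ Subgroup.zpowers a, x = i g * b)
    (hdis : ∀ g : G, i g ∈ Subgroup.zpowers a → g = 1)
    (hG : Subgroup.closure (Set.range (fun c : G => c * (α c)⁻¹)) = ⊤) (k : ℕ) (hk : 1 ≤ k) :
    Subgroup.closure (Set.range ((fun c : G => c * (α c)⁻¹)^[k])) = ⊤ := by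
  have hφ : ∀ g : G, i g * a * (i g)⁻¹ * a⁻¹ = i (g * (α g)⁻¹) := fun g => by
    rw [map_mul, map_inv, ← hi]; group
  have hφk : ∀ (j : ℕ) (g : G), (fun c : Γ => c * a * c⁻¹ * a⁻¹)^[j] (i g) =
      i ((fun c : G => c * (α c)⁻¹)^[j] g) := by
    intro j
    induction j with
    | zero => exact fun g => rfl
    | succ j ih => intro g; rw [Function.iterate_succ_apply, Function.iterate_succ_apply, hφ, ih]
  have hfull : Subgroup.normalClosure (Subgroup.zpowers a : Set Γ) = ⊤ := by
    rw [eq_top_iff]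
    intro x _
    obtain ⟨g, b, hb, rfl⟩ := hdec x
    refine mul_mem ?_ (Subgroup.le_normalClosure hb)
    have : (⊤ : Subgroup G) ≤ (Subgroup.normalClosure (Subgroup.zpowers a : Set Γ)).comap i := by
      rw [← hG, Subgroup.closure_le]
      rintro _ ⟨c, rfl⟩
      rw [SetLike.mem_coe, Subgroup.mem_comap, ← hφ]
      have ha : a ∈ Subgroup.normalClosure (Subgroup.zpowers a : Set Γ) :=
        Subgroup.le_normalClosure (Subgroup.mem_zpowers a)
      exact mul_mem (Subgroup.normalClosure_normal.conj_mem a ha _) (inv_mem ha)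
    exact this (Subgroup.mem_top g)
  have h := H30.Zip.engel_gen k _ Γ a rfl hfull
  set H := Subgroup.closure (Set.range ((fun c : G => c * (α c)⁻¹)^[k])) with hH
  have hcomm : ∀ (j : ℕ) (g : G), α ((fun c : G => c * (α c)⁻¹)^[j] g) =
      (fun c : G => c * (α c)⁻¹)^[j] (α g) := by
    intro j
    induction j with
    | zero => exact fun g => rfl
    | succ j ih => intro g; rw [Function.iterate_succ_apply, Function.iterate_succ_apply, ih]; simp
  have h1 : Subgroup.closure (Set.range (fun c : Γ => c * a * c⁻¹ * a⁻¹)^[k]) ≤ H.map i := by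
    rw [Subgroup.closure_le]
    rintro _ ⟨x, rfl⟩
    obtain ⟨g, b, ⟨m, rfl⟩, rfl⟩ := hdec x
    obtain ⟨j, rfl⟩ : ∃ j, k = j + 1 := ⟨k - 1, by omega⟩
    refine ⟨_, Subgroup.subset_closure ⟨g, rfl⟩, ?_⟩
    rw [← hφk, Function.iterate_succ_apply, Function.iterate_succ_apply]
    congr 1
    group
  have h2 : Subgroup.zpowers a ≤ Subgroup.normalizer (H.map i : Set Γ) := by
    rw [Subgroup.zpowers_le]
    apply H98.mem_normalizer_of_cj_le
    rw [H98.cj, Subgroup.map_map, hH, MonoidHom.map_closure, Subgroup.closure_le]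
    rintro _ ⟨_, ⟨g, rfl⟩, rfl⟩
    refine ⟨_, Subgroup.subset_closure ⟨α g, rfl⟩, ?_⟩
    rw [← hcomm, ← hi]; rfl
  have h3 : H.map i ⊔ Subgroup.zpowers a = ⊤ := by
    rw [eq_top_iff, ← h]
    exact sup_le le_sup_right (h1.trans le_sup_left)
  rw [eq_top_iff]
  intro g _
  have hg : i g ∈ H.map i ⊔ Subgroup.zpowers a := h3 ▸ Subgroup.mem_top _
  obtain ⟨_, ⟨n, hn, rfl⟩, b, hb, e⟩ := (H98.mem_sup_right_norm h2).1 hg
  have : n⁻¹ * g = 1 := hdis _ (by rw [map_mul, map_inv, e]; simpa using hb)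
  rw [← inv_mul_eq_one.1 this]; exact hn

/-- Let G be a finite group and α an automorphism of G with [G, α] = G, that is, the elements g·α(g)⁻¹ generate G. Then for every k ≥ 1 the iterated commutators [g, α, …, α] with k entries α — the values of the k-th iterate of the map c ↦ c·α(c)⁻¹ — also generate G. -/
theorem result {G : Type*} [Group G] [Finite G] (α : MulAut G) (hG : Subgroup.closure (Set.range (fun c : G => c * (α c)⁻¹)) = ⊤) (k : ℕ) (hk : 1 ≤ k) :
    Subgroup.closure (Set.range ((fun c : G => c * (α c)⁻¹)^[k])) = ⊤ := by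
  have : Finite (G ⋊[(Subgroup.zpowers α).subtype] (Subgroup.zpowers α)) :=
    Finite.of_equiv _ SemidirectProduct.equivProd.symm
  refine aux (Γ := G ⋊[(Subgroup.zpowers α).subtype] (Subgroup.zpowers α)) α
    (SemidirectProduct.inr ⟨α, Subgroup.mem_zpowers α⟩) SemidirectProduct.inl
    (fun g => ?_) (fun x => ?_) (fun g hg => ?_) hG k hk
  · have := SemidirectProduct.inl_aut (φ := (Subgroup.zpowers α).subtype)
      ⟨α, Subgroup.mem_zpowers α⟩ g
    rw [map_inv] at this
    exact this.symm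
  · refine ⟨x.left, SemidirectProduct.inr x.right, ?_,
      (SemidirectProduct.inl_left_mul_inr_right x).symm⟩
    obtain ⟨m, hm⟩ := x.right.2
    refine ⟨m, ?_⟩
    simp only at hm ⊢
    rw [← map_zpow]
    congr 1
    exact Subtype.ext hm
  · obtain ⟨m, hm⟩ := hg
    simp only at hm
    rw [← map_zpow] at hm
    exact (congrArg SemidirectProduct.left hm).symm

end Cfsg.Agent.S3927
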