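import Cfsg.Statements.S3264
import Cfsg.Agent.Base
import Cfsg.Agent.S3927
-- import your own Cfsg.Agent.* helpers here

set_option autoImplicit false
open Cfsg

namespace Cfsg.Agent.S3264

/-- Let G be a non-abelian finite simple group and X a conjugacy class of involutions of G. Form the graph on X in which two distinct involutions are joined when their product has odd order. Then this graph is connected. (By the Baer–Suzuki Theorem the graph has at least one edge; connectedness is the stronger statement.) -/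
theorem result {G : Type*} [Group G] [Finite G] [IsSimpleGroup G]
    (hG : ¬ IsMulCommutative G) (t : G) (ht : orderOf t = 2) :
    (SimpleGraph.fromRel fun x y : {x : G // IsConj t x} => Odd (orderOf (x.1 * y.1))).Connected := by
  set Γ := SimpleGraph.fromRel fun x y : {x : G // IsConj t x} => Odd (orderOf (x.1 * y.1)) with hΓ
  have t2 : t * t = 1 := by rw [← sq, ← ht, pow_orderOf_eq_one]
  have ti : t⁻¹ = t := inv_eq_of_mul_eq_one_left t2
  let c : G → {x : G // IsConj t x} → {x : G // IsConj t x} := fun g x =>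
    ⟨g * x.1 * g⁻¹, x.2.trans (isConj_iff.mpr ⟨g, rfl⟩)⟩
  have cm : ∀ g h x, c (g * h) x = c g (c h x) := fun g h x => Subtype.ext (by simp [c, mul_assoc])
  have c1 : ∀ x, c 1 x = x := fun x => Subtype.ext (by simp [c])
  have rc : ∀ g x y, Γ.Reachable x y → Γ.Reachable (c g x) (c g y) := fun g x y h => by
    refine h.map (⟨c g, fun {a b} hab => ?_⟩ : Γ →g Γ)
    have e : ∀ a b : {x : G // IsConj t x}, orderOf ((c g a).1 * (c g b).1) = orderOf (a.1 * b.1) :=
      fun a b => by
        rw [← (MulAut.conj g).orderOf_eq (a.1 * b.1)]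
        simp [c, mul_assoc]
    rw [hΓ, SimpleGraph.fromRel_adj] at hab ⊢
    refine ⟨fun h => hab.1 ?_, by rw [e, e]; exact hab.2⟩
    rw [← c1 a, ← c1 b, ← inv_mul_cancel g, cm, cm, h]
  let t0 : {x : G // IsConj t x} := ⟨t, IsConj.refl t⟩
  let H : Subgroup G :=
    { carrier := {g | Γ.Reachable t0 (c g t0)}
      one_mem' := by simp [c1]
      mul_mem' := fun {a b} ha hb => by
        simp only [Set.mem_ofPred_eq, cm]
        exact ha.trans (rc a _ _ hb)
      inv_mem' := fun {a} ha => by
        have := rc a⁻¹ _ _ ha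
        rw [← cm, inv_mul_cancel, c1] at this
        exact this.symm }
  have odd : ∀ r : G, t * r * t = r⁻¹ → Odd (orderOf r) → r ∈ H := fun r h1 h2 => by
    change Γ.Reachable t0 (c r t0)
    by_cases e : t0 = c r t0
    · rw [← e]
    refine SimpleGraph.Adj.reachable ?_
    rw [hΓ, SimpleGraph.fromRel_adj]
    refine ⟨e, Or.inl ?_⟩
    have e2 : t * (r * t * r⁻¹) = r⁻¹ ^ 2 := by rw [sq, ← h1]; simp [mul_assoc]
    change Odd (orderOf (t * (r * t * r⁻¹)))
    rw [e2]
    exact h2.of_dvd_nat (orderOf_inv r ▸ orderOf_pow_dvd 2)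
  have it : ∀ (g : G) (k : ℕ), (fun c : G => c * (MulAut.conj t c)⁻¹)^[k + 1] g =
      (g * t * g⁻¹ * t) ^ 2 ^ k := fun g k => by
    have inv : ∀ n : ℕ, t * (g * t * g⁻¹ * t) ^ n * t⁻¹ = ((g * t * g⁻¹ * t) ^ n)⁻¹ := fun n => by
      rw [← conj_pow, ← inv_pow]
      congr 1
      rw [ti, mul_assoc, mul_assoc _ t t, t2]
      simp [ti, mul_assoc]
    induction k with
    | zero => simp [ti, mul_assoc]
    | succ k ih =>
      rw [Function.iterate_succ_apply', ih, MulAut.conj_apply, inv, inv_inv, ← pow_add, ← two_mul,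
        pow_succ']
  have hN : (Subgroup.closure (Set.range fun c : G => c * (MulAut.conj t c)⁻¹)).Normal := by
    refine ⟨fun n hn g => Subgroup.closure_induction (fun x hx => ?_) (by simp) (fun x y _ _ hx hy => ?_)
      (fun x _ hx => ?_) hn⟩
    · obtain ⟨a, rfl⟩ := hx
      have : g * (a * (MulAut.conj t a)⁻¹) * g⁻¹ =
          (g * a * (MulAut.conj t (g * a))⁻¹) * (g * (MulAut.conj t g)⁻¹)⁻¹ := by
        simp [mul_assoc]
      rw [this]
      exact mul_mem (Subgroup.subset_closure ⟨_, rfl⟩) (inv_mem (Subgroup.subset_closure ⟨_, rfl⟩))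
    · simpa [mul_assoc] using mul_mem hx hy
    · simpa [mul_assoc] using inv_mem hx
  have htop := hN.eq_bot_or_eq_top.resolve_left fun h => by
    have h1 : t ∈ Subgroup.center G := Subgroup.mem_center_iff.mpr fun g => by
      have h2 : g * (MulAut.conj t g)⁻¹ = 1 :=
        Subgroup.mem_bot.mp (h ▸ Subgroup.subset_closure ⟨g, rfl⟩)
      rw [mul_inv_eq_one, MulAut.conj_apply, eq_mul_inv_iff_mul_eq] at h2
      exact h2
    rcases (inferInstance : (Subgroup.center G).Normal).eq_bot_or_eq_top with h3 | h3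
    · rw [h3, Subgroup.mem_bot] at h1
      rw [h1, orderOf_one] at ht
      exact absurd ht (by norm_num)
    · exact hG ⟨⟨fun a b => (Subgroup.mem_center_iff.mp (h3 ▸ Subgroup.mem_top b) a)⟩⟩
  have hH : ∀ g, g ∈ H := fun g => by
    refine (Subgroup.closure_le H).mpr ?_ ((Cfsg.Agent.S3927.result (MulAut.conj t) htop
      (Nat.card G + 1) (by omega)).ge (Subgroup.mem_top g))
    rintro _ ⟨a, rfl⟩
    rw [it]
    refine odd _ ?_ ?_
    · have := conj_pow (i := 2 ^ Nat.card G) (a := t) (b := a * t * a⁻¹ * t)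
      rw [ti] at this
      rw [← this, ← inv_pow]
      congr 1
      rw [mul_assoc, mul_assoc _ t t, t2]
      simp [ti, mul_assoc]
    · rw [← Nat.not_even_iff_odd, even_iff_two_dvd, orderOf_pow' _ (pow_pos two_pos _).ne']
      set n := orderOf (a * t * a⁻¹ * t)
      have hn : n ≠ 0 := (orderOf_pos _).ne'
      intro h
      have h1 : 2 * Nat.gcd n (2 ^ Nat.card G) ∣ n :=
        Nat.mul_dvd_of_dvd_div (Nat.gcd_dvd_left _ _) h |> (mul_comm _ 2 ▸ ·)
      obtain ⟨j, hj, e⟩ := (Nat.dvd_prime_pow Nat.prime_two).mp (Nat.gcd_dvd_right n (2 ^ Nat.card G))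
      rw [e, ← pow_succ'] at h1
      have h2 : j + 1 ≤ Nat.card G := by
        have := (Nat.le_of_dvd Nat.card_pos (h1.trans (orderOf_dvd_natCard _)))
        exact (Nat.lt_two_pow_self.trans_le this).le
      have h3 := Nat.dvd_gcd h1 (pow_dvd_pow 2 h2)
      rw [e, Nat.pow_dvd_pow_iff_le_right one_lt_two] at h3
      omega
  have : Nonempty {x : G // IsConj t x} := ⟨t0⟩
  refine ⟨fun x y => ?_⟩
  have key : ∀ x : {x : G // IsConj t x}, Γ.Reachable t0 x := fun x => by
    obtain ⟨g, hg⟩ := isConj_iff.mp x.2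
    rw [show x = c g t0 from Subtype.ext hg.symm]
    exact hH g
  exact (key x).symm.trans (key y)

end Cfsg.Agent.S3264
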