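import Cfsg.Statements.S3283
import Cfsg.Agent.Base
import Cfsg.Agent.H59.SA7
import Cfsg.Agent.H78.XSMap
import Cfsg.Agent.H78.Transport

set_option autoImplicit false
open Cfsg

namespace Cfsg.Agent.S3283

/-- Let G be a finite group with an involution z whose centralizer M has Q = O₂(M) extraspecial of order 2⁹ with C_M(Q) ≤ Q, and M/Q isomorphic to S₃ × A₆ or to S₃ × S₆. Then G is not simple. -/
theorem result {G : Type*} [Group G] [Finite G] (z : G) (hz : orderOf z = 2)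
    (hQ : Cfsg.IsExtraspecial 2 ↥(Cfsg.pCore 2 ↥(Subgroup.centralizer ({z} : Set G)))) (hQ9 : Nat.card ↥(Cfsg.pCore 2 ↥(Subgroup.centralizer ({z} : Set G))) = 2 ^ 9)
    (hCQ : Subgroup.centralizer ((Cfsg.pCore 2 ↥(Subgroup.centralizer ({z} : Set G))) : Set ↥(Subgroup.centralizer ({z} : Set G))) ≤ Cfsg.pCore 2 ↥(Subgroup.centralizer ({z} : Set G)))
    (hMQ : Nonempty (↥(Subgroup.centralizer ({z} : Set G)) ⧸ Cfsg.pCore 2 ↥(Subgroup.centralizer ({z} : Set G)) ≃* (Equiv.Perm (Fin 3) × ↥(alternatingGroup (Fin 6)))) ∨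
      Nonempty (↥(Subgroup.centralizer ({z} : Set G)) ⧸ Cfsg.pCore 2 ↥(Subgroup.centralizer ({z} : Set G)) ≃* (Equiv.Perm (Fin 3) × Equiv.Perm (Fin 6)))) :
    ¬ IsSimpleGroup G := by
  intro hG
  have eQ := Subgroup.equivMapOfInjective (Cfsg.pCore 2 ↥(Subgroup.centralizer ({z} : Set G))) _
    (Subgroup.subtype_injective (Subgroup.centralizer ({z} : Set G)))
  have hc : ∀ x : G, x * z = z * x → (∀ y ∈ H78.O2C z, y * x = x * y) → x ∈ H78.O2C z :=
    fun x hx hy => (H78.mem_O2C_iff ⟨x, Subgroup.mem_centralizer_singleton_iff.2 hx⟩).2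
      (hCQ fun y h => Subtype.ext (hy y ((H78.mem_O2C_iff y).2 h)))
  have hzQ : z ∈ H78.O2C z := hc z rfl fun y hy =>
    Subgroup.mem_centralizer_singleton_iff.1 (H78.pCoreIn_le 2 _ hy)
  have hb : H1.LX.Big z 4 := ⟨H78.LX_O2C (H78.ne_one_of_orderOf_two hz)
    (H78.isExtraspecial_of_equiv eQ hQ) fun x hx => hc x (hx z hzQ).symm hx,
    (Nat.card_congr eQ.toEquiv).symm.trans hQ9⟩
  rcases hMQ with ⟨⟨e⟩⟩ | ⟨⟨e⟩⟩
  · refine H59.SA.false_of_hom hb (((MonoidHom.id _).prodMap (alternatingGroup (Fin 6)).subtype).comp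
      (e.toMonoidHom.comp (QuotientGroup.mk' _))) (fun x => ?_) fun g k _ hk => ?_
    · rw [H78.mem_O2C_iff, ← QuotientGroup.eq_one_iff, ← e.map_eq_one_iff, Prod.ext_iff,
        Prod.ext_iff]
      simp
    · obtain ⟨x, hx⟩ := QuotientGroup.mk_surjective (e.symm (g, ⟨k, hk⟩))
      exact ⟨x, by simp [hx]⟩
  · refine H59.SA.false_of_hom hb (e.toMonoidHom.comp (QuotientGroup.mk' _)) (fun x => ?_)
      fun g k _ _ => ?_
    · rw [H78.mem_O2C_iff, ← QuotientGroup.eq_one_iff, ← e.map_eq_one_iff]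
      simp
    · obtain ⟨x, hx⟩ := QuotientGroup.mk_surjective (e.symm (g, k))
      exact ⟨x, by simp [hx]⟩

end Cfsg.Agent.S3283
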