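import Cfsg.Statements.S3284
import Cfsg.Agent.Base
import Cfsg.Agent.H59.SA7
import Cfsg.Agent.H78.XSMap

set_option autoImplicit false
open Cfsg

namespace Cfsg.Agent.S3284

/-- There is no non-abelian finite simple group with an involution z whose centralizer M has generalized Fitting subgroup Q = F*(M) extraspecial of order 2⁹ and M/Q isomorphic to the subgroup of S₃ × S₆ consisting of the pairs of permutations with equal sign (a group (3 × A₆)·2 in which an involution outside 3 × A₆ induces S₃ on the first factor and S₆ on the second). -/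
theorem result {G : Type*} [Group G] [Finite G] [IsSimpleGroup G] (hG : ¬ IsMulCommutative G) (z : G) (hz : orderOf z = 2)
    [hn : (Cfsg.generalizedFittingSubgroup ↥(Subgroup.centralizer ({z} : Set G))).Normal]
    (hQ : Cfsg.IsExtraspecial 2 ↥(Cfsg.generalizedFittingSubgroup ↥(Subgroup.centralizer ({z} : Set G)))) (hQ9 : Nat.card ↥(Cfsg.generalizedFittingSubgroup ↥(Subgroup.centralizer ({z} : Set G))) = 2 ^ 9)
    (e : (↥(Subgroup.centralizer ({z} : Set G)) ⧸ Cfsg.generalizedFittingSubgroup ↥(Subgroup.centralizer ({z} : Set G))) ≃*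
      ↥(MonoidHom.ker (Equiv.Perm.sign.comp (MonoidHom.fst (Equiv.Perm (Fin 3)) (Equiv.Perm (Fin 6))) *
          Equiv.Perm.sign.comp (MonoidHom.snd (Equiv.Perm (Fin 3)) (Equiv.Perm (Fin 6)))))) :
    False := by
  have eQ := Subgroup.equivMapOfInjective
    (Cfsg.generalizedFittingSubgroup ↥(Subgroup.centralizer ({z} : Set G))) _
    (Subgroup.subtype_injective (Subgroup.centralizer ({z} : Set G)))
  have h1 := H78.isExtraspecial_of_equiv eQ hQ
  have h2 := H78.LX_of_fstar (H78.ne_one_of_orderOf_two hz) rfl h1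
  have h3 := H78.eq_O2C_of_fstar rfl h2.toXS.isPGroup
  have hb : H1.LX.Big z 4 := ⟨h3 ▸ h2, h3 ▸ (Nat.card_congr eQ.toEquiv).symm.trans hQ9⟩
  refine H59.SA.false_of_hom hb ((Subgroup.subtype _).comp
    (e.toMonoidHom.comp (QuotientGroup.mk' _))) (fun x => ?_) fun g k hg hk => ?_
  · rw [h3]
    refine Iff.trans ?_ (Subgroup.mem_map_iff_mem (Subgroup.subtype_injective _)).symm
    rw [← QuotientGroup.eq_one_iff, ← e.map_eq_one_iff]
    simp
  · obtain ⟨x, hx⟩ := QuotientGroup.mk_surjective (e.symm ⟨(g, k), by simp [hg, hk]⟩)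
    exact ⟨x, by simp [hx]⟩

end Cfsg.Agent.S3284
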