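import Cfsg.Statements.S3301
import Cfsg.Agent.H28.LXTr

set_option autoImplicit false
open Cfsg

namespace Cfsg.Agent.S3301
open _root_.H28

open H78 H28.OT

/-- Let G be a finite group with no nontrivial 2-group quotient (O^2(G) = G), z an involution of G with H = C_G(z), and suppose E = O_2(H) is extraspecial with C_G(E) ≤ E. Then the Sylow 2-subgroups of H/[H, H] are elementary abelian: every element of 2-power order of the abelianization of H has order at most 2. -/
theorem result {G : Type*} [Group G] [Finite G] (hres : Cfsg.pResidual 2 G = ⊤) (z : G) (hz : orderOf z = 2)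
    (E : Subgroup G) (hE : E = (Cfsg.pCore 2 ↥(Subgroup.centralizer ({z} : Set G))).map (Subgroup.centralizer ({z} : Set G)).subtype)
    (hext : Cfsg.IsExtraspecial 2 ↥E) (hcent : Subgroup.centralizer (E : Set G) ≤ E) :
    ∀ q : Abelianization ↥(Subgroup.centralizer ({z} : Set G)), (∃ k : ℕ, orderOf q = 2 ^ k) → q ^ 2 = 1 := by
  subst hE
  rintro q ⟨k, hk⟩
  have h := LX_O2C (ne_one_of_orderOf_two hz) hext hcent
  let N := (powMonoidHom 4 : Abelianization ↥(Subgroup.centralizer ({z} : Set G)) →* _).range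
  have h1 : ∀ a : Abelianization ↥(Subgroup.centralizer ({z} : Set G)), ∃ b, b ^ 4 = a ^ 2 := by
    intro a
    obtain ⟨y, rfl⟩ := QuotientGroup.mk_surjective a
    exact (QuotientGroup.eq_one_iff (N := N) _).1 (sq_eq_one hres h
      ((QuotientGroup.mk' N).comp Abelianization.of)
      (fun x => (QuotientGroup.eq_one_iff (N := N) _).2 ⟨_, rfl⟩) y)
  have h2 : ∀ j, ∃ b, q ^ 2 = (b ^ 2) ^ 2 ^ j := by
    intro j
    induction j with
    | zero => exact ⟨q, by simp⟩
    | succ j ih =>
      obtain ⟨b, hb⟩ := ih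
      obtain ⟨c, hc⟩ := h1 b
      exact ⟨c, by rw [hb, ← hc, ← pow_mul, ← pow_mul]; congr 1; ring⟩
  obtain ⟨a, m, hm, e⟩ := Nat.exists_eq_two_pow_mul_odd
    (Nat.card_pos (α := Abelianization ↥(Subgroup.centralizer ({z} : Set G)))).ne'
  obtain ⟨b, hb⟩ := h2 a
  refine orderOf_eq_one_iff.1 (Nat.eq_one_of_dvd_coprimes
    (Nat.Coprime.pow_right k (Nat.coprime_two_right.2 hm)) (orderOf_dvd_of_pow_eq_one ?_)
    (hk ▸ orderOf_pow_dvd 2))
  rw [hb, ← pow_mul, ← e, pow_card_eq_one']

end Cfsg.Agent.S3301
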