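import Cfsg.Statements.S3302
import Cfsg.Agent.H59.P4W
import Cfsg.Agent.H92.P4LocA
import Cfsg.Agent.H92.P4LocB
import Cfsg.Agent.H3.P4T1
import Cfsg.Agent.H3.P4T2
import Cfsg.Agent.H54.P4Ab
import Cfsg.Agent.H80.P4T1
import Cfsg.Agent.H42.P4T
import Cfsg.Agent.H95.P4T4

set_option autoImplicit false
open Cfsg

namespace Cfsg.Agent.S3302

/-- Let m > 1 be odd, F the field with 3^m elements, and 𝒞 the centralizer in PSp₄(F) of an element of order 3 lying in the centre of a Sylow 3-subgroup. Let G be a finite group with an element α of order 3 such that C_G(α) ≅ 𝒞 and C_G(z) = C_G(α) for every non-identity element z of the centre of C_G(α). Let P be a Sylow 3-subgroup of G and M ≤ P an elementary abelian subgroup of order 3^{3m}, and suppose that N_G(M) normalizes P (so that P is a normal Sylow 3-subgroup of N_G(M)). Then G = C_G(Z)·N_G(M), where Z is the centre of C_G(α): every element of G is a product of an element centralizing Z and an element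 of N_G(M); and C_G(α) is a normal subgroup of G. -/
theorem result {G : Type*} [Group G] [Finite G] {F : Type*} [Field F] [Fintype F] (m : ℕ) (hm : Odd m) (hm1 : 1 < m) (hF : Fintype.card F = 3 ^ m) (U : Sylow 3 (Cfsg.PSp 2 F)) (x : Cfsg.PSp 2 F) (hx : orderOf x = 3) (hxU : x ∈ (U : Subgroup (Cfsg.PSp 2 F))) (hxc : ∀ u ∈ (U : Subgroup (Cfsg.PSp 2 F)), u * x = x * u) (α : G) (hα : orderOf α = 3) (e : ↥(Subgroup.centralizer ({α} : Set G)) ≃* ↥(Subgroup.centralizer ({x} : Set (Cfsg.PSp 2 F)))) (hb : ∀ z : G, z ≠ 1 → z ∈ Subgroup.centralizer ({α} : Set G) → (∀ c ∈ Subgroup.centralizer ({α} : Set G), c * z = z * c) → Subgroup.centralizer ({z} : Set G) = Subgroup.centralizer ({α} : Set G)) (P : Sylow 3 G) (M : Subgroup G) (hMP : M ≤ (P : Subgroup G)) (hMel : Cfsg.IsElementaryAbelian 3 M) (hMcard : Nat.card M = 3 ^ (3 * m)) (hB : Subgroup.normalizer (M : Set G) ≤ Subgroup.normalizer ((P : Subgroup G) : Set G)) : (∀ g : G, ∃ c k : G, c ∈ Subgroup.centralizer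 {z : G | z ∈ Subgroup.centralizer ({α} : Set G) ∧ ∀ c' ∈ Subgroup.centralizer ({α} : Set G), c' * z = z * c'} ∧ k ∈ Subgroup.normalizer (M : Set G) ∧ g = c * k) ∧ (Subgroup.centralizer ({α} : Set G)).Normal := by
  exact H59.P4.w3302 H92.P4L.jobLoc
    (fun _ _ κ hF hB => H47.P4C.caseT H3.P4T.jobAb3 H3.P4T.jobInn
      (H54.P4Ab.jobAbH H3.P4T.jobAb3) (H54.P4Ab.jobCC H3.P4T.jobAb3) H92.P4L.jobLoc
      H92.P4L.jobLoc3 H80.P4T.jobT1 H42.P4.jobT2 H42.P4.jobT3 H95.T4.jobT4 κ hF hB)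
    m hm hm1 hF U x hx hxU hxc α hα e hb P M hMP
    (fun a ha b hb => congrArg Subtype.val (hMel.1.is_comm.comm ⟨a, ha⟩ ⟨b, hb⟩)) hMcard hB

end Cfsg.Agent.S3302
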