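import Cfsg.Statements.S3304
import Cfsg.Agent.H47.NQ8
import Cfsg.Agent.S3742
import Cfsg.Agent.H61.L3Inv
import Cfsg.Agent.H61.VonDyck
import Cfsg.Agent.H84.Inv
import Cfsg.Agent.H14.Std
import Cfsg.Agent.H2.MinNormal
import Cfsg.Agent.H98.Core

set_option autoImplicit false
open Cfsg

namespace Cfsg.Agent.S3304

open Subgroup H98

theorem s4 : ∀ σ ν : Equiv.Perm (Fin 4), σ ^ 2 = 1 → ν ≠ 1 → ν * ν = 1 →
    (∀ π : Equiv.Perm (Fin 4), (ν * (π * ν * π⁻¹)) * (ν * (π * ν * π⁻¹)) = 1) →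
    (∃ β : Equiv.Perm (Fin 4), β ^ 3 = 1 ∧ (σ * β) ^ 4 = 1 ∧ (σ * β) ^ 2 ≠ 1) ∨ σ = 1 ∨
      ∃ π : Equiv.Perm (Fin 4), σ = π * ν * π⁻¹ := by
  decide +kernel

theorem main {X : Type*} [Group X] [Finite X] [Group.IsSolvable X] (hO : pPrimeCore 2 X = ⊥)
    (hu : ∀ a ∈ pCore 2 X, ∀ b ∈ pCore 2 X, orderOf a = 2 → orderOf b = 2 → a = b) :
    (∃ P : Sylow 2 X, (P : Subgroup X).Normal) ∨ Nonempty (X ≃* GL (Fin 2) (ZMod 3)) ∨
    (Nat.card X = 48 ∧ Nat.card ↥(center X) = 2 ∧ Nonempty (X ⧸ center X ≃* Equiv.Perm (Fin 4)) ∧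
      ∀ P : Sylow 2 X, Nonempty (↥(P : Subgroup X) ≃* QuaternionGroup 4)) := by
  haveI : Fact (Nat.Prime 2) := ⟨Nat.prime_two⟩
  by_cases hn : ∃ P : Sylow 2 X, (P : Subgroup X).Normal
  · exact Or.inl hn
  right
  obtain ⟨P₀⟩ : Nonempty (Sylow 2 X) := inferInstance
  have h2 : ¬ IsPGroup 2 X := fun h => hn ⟨P₀, by
    rw [← (isSyl_sylow P₀).eq_of_le (isPGroup_top_iff.2 h) le_top le_top]; infer_instance⟩
  have hC := H2.centralizer_pCore_le hO
  set Q := pCore 2 X with hQd
  have Q2 : IsPGroup 2 Q := isPGroup_pCore 2 X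
  haveI hQn : Q.Normal := inferInstance
  obtain ⟨a, b, hQ⟩ := H47.N.exists_GQ_of_unique Q2 hC h2 hu
  obtain ⟨c, g, hQ', hR, hK⟩ := H47.N.exists_R24_of_normal hQ hC h2
  have cK := hR.card_eq hQ'
  have cQ : Nat.card Q = 8 := hQ.card (by norm_num)
  have c48 : Nat.card X = 48 := by
    rcases hK with hK | hK
    · rw [hK, card_top] at cK
      refine (hn ⟨P₀, ?_⟩).elim
      have e : Q = P₀ := eq_of_le_of_card_ge (Q2.le_sylow_of_normal P₀) (by
        rw [cQ, P₀.card_eq_multiplicity, cK, show 24 = 2 ^ 3 * 3 from rfl,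
          Nat.factorization_mul (by norm_num) (by norm_num), Nat.prime_two.factorization_pow,
          Nat.prime_three.factorization]
        simp)
      exact e ▸ hQn
    · rw [← (closure ({a, c, g} : Set X)).index_mul_card, hK, cK]
  have zc : a ^ 2 ∈ center X := mem_center_iff.2 fun x => by
    have h1 : x * a ^ 2 * x⁻¹ ∈ Q := hQn.conj_mem _ (pow_mem hQ.a_mem' 2) x
    rcases hQ.eq_of_sq (by norm_num) h1 (by
      rw [show x * a ^ 2 * x⁻¹ * (x * a ^ 2 * x⁻¹) = x * (a ^ 2 * a ^ 2) * x⁻¹ by group, hQ.z_mul_z]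
      group) with e | e
    · exact (hQ.z_ne_one (by norm_num) (by simpa using e)).elim
    · exact mul_inv_eq_iff_eq_mul.1 e
  let f : X →* MulAut Q := MulAut.conjNormal
  have kf : ∀ x, x ∈ f.ker ↔ x = 1 ∨ x = a ^ 2 := fun x => by
    constructor
    · intro h
      have hx : x ∈ centralizer (Q : Set X) := fun y hy => by
        have := congrArg (fun σ : MulAut Q => (σ ⟨y, hy⟩ : X)) h
        simp only [f, MulAut.conjNormal_apply, MulAut.one_apply] at this
        exact (mul_inv_eq_iff_eq_mul.1 this).symm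
      exact (hQ.central_iff le_rfl (hC hx)).1 hx
    · rintro (rfl | rfl)
      · exact one_mem _
      · ext y
        simp only [f, MulAut.conjNormal_apply, MulAut.one_apply]
        rw [← mem_center_iff.1 zc, mul_inv_cancel_right]
  have kz : f.ker = center X := by
    ext x
    constructor
    · intro h
      rcases (kf x).1 h with rfl | rfl
      exacts [one_mem _, zc]
    · intro h
      ext y
      simp only [f, MulAut.conjNormal_apply, MulAut.one_apply]
      rw [← mem_center_iff.1 h, mul_inv_cancel_right]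
  have oz : orderOf (a ^ 2) = 2 := H14.orderOf_two_of_mul_self hQ.z_mul_z (hQ.z_ne_one (by norm_num))
  have cZ : Nat.card (center X) = 2 := by
    have : center X = zpowers (a ^ 2) := by
      ext x
      rw [← kz, kf, H14.mem_zpowers_two oz]
    rw [this, Nat.card_zpowers, oz]
  obtain ⟨e1⟩ := hQ.nonempty_equiv
  obtain ⟨e2⟩ := Cfsg.Agent.S3742.result
  let φ : X →* Equiv.Perm (Fin 4) := ((MulAut.congr e1).trans e2).toMonoidHom.comp f
  have kφ : φ.ker = center X := by
    rw [← kz]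
    ext x
    exact map_eq_one_iff _ ((MulAut.congr e1).trans e2).injective
  have sφ : Function.Surjective φ := by
    rw [← MonoidHom.range_eq_top]
    apply eq_top_of_card_eq
    have := φ.ker.index_mul_card
    rw [index_ker, kφ, cZ, c48] at this
    rw [Nat.card_eq_fintype_card (α := Equiv.Perm (Fin 4)), Fintype.card_perm, Fintype.card_fin]
    have : Nat.card φ.range = 24 := by omega
    rw [this]; rfl
  have ZQ : center X ≤ Q := fun x h => hC fun y _ => mem_center_iff.1 h y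
  have sq : ∀ x ∈ Q, φ x * φ x = 1 := fun x hx => by
    rw [← map_mul, ← MonoidHom.mem_ker, kφ]
    obtain ⟨i, rfl | rfl⟩ := (hQ.mem x).1 hx
    · rw [← zpow_add, ← two_mul, zpow_mul, zpow_ofNat]
      exact zpow_mem zc i
    · rw [hQ.ba_sq]; exact zc
  have z2 : ∀ x ∈ center X, x ^ 2 = 1 := fun x hx => by
    rw [← cZ]
    exact congrArg Subtype.val (pow_card_eq_one' (x := (⟨x, hx⟩ : center X)))
  by_cases hy : ∃ y : X, orderOf y = 2 ∧ y ∉ Q
  · left
    obtain ⟨y, oy, hy⟩ := hy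
    have y2 : y ^ 2 = 1 := oy ▸ pow_orderOf_eq_one y
    have a1 : φ a ≠ 1 := fun e => by
      rw [← MonoidHom.mem_ker, kφ] at e
      exact hQ.not_comm le_rfl (mem_center_iff.1 e b)
    rcases s4 (φ y) (φ a) (by rw [← map_pow, y2, map_one]) a1 (sq a hQ.a_mem') (fun π => by
      obtain ⟨x, rfl⟩ := sφ π
      rw [← map_inv, ← map_mul, ← map_mul, ← map_mul]
      exact sq _ (mul_mem hQ.a_mem' (hQn.conj_mem _ hQ.a_mem' x))) with ⟨β, b3, b4, b2⟩ | e | ⟨π, e⟩
    · obtain ⟨w, rfl⟩ := sφ β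
      have w3 : w ^ 3 ∈ center X := by rw [← kφ, MonoidHom.mem_ker, map_pow, b3]
      have e4 : φ (w ^ 4) = φ w := by rw [map_pow, pow_succ, b3, one_mul]
      have v3 : (w ^ 4) ^ 3 = 1 := by
        rw [← pow_mul, show 4 * 3 = 3 * 2 * 2 from rfl, pow_mul, pow_mul, z2 _ w3, one_pow]
      have m4 : (y * w ^ 4) ^ 4 ∈ center X := by rw [← kφ, MonoidHom.mem_ker, map_pow, map_mul, e4, b4]
      refine H61.equiv_gl23 c48 (a := y) (b := w ^ 4) ?_ y2 v3 (by
        rw [show 8 = 4 * 2 from rfl, pow_mul, z2 _ m4]) (mem_center_iff.1 m4 y).symm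
      set H := closure ({y, w ^ 4} : Set X) with hH
      obtain ⟨e⟩ := H61.closure_equiv_sym4 (a := φ y) (b := φ w) (by rw [← map_pow, y2, map_one]) b3 b4 b2
      have t : H.map φ = ⊤ := by
        rw [hH, MonoidHom.map_closure, Set.image_pair, e4]
        exact eq_top_of_card_eq _ (Nat.card_congr e.toEquiv)
      have dec : ∀ x : X, ∃ h ∈ H, h⁻¹ * x ∈ center X := fun x => by
        obtain ⟨h, hh, e⟩ : φ x ∈ H.map φ := t ▸ mem_top _
        exact ⟨h, hh, by rw [← kφ, MonoidHom.mem_ker, map_mul, map_inv, e, inv_mul_cancel]⟩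
      have zH : a ^ 2 ∈ H := by
        obtain ⟨h, hh, e⟩ := dec a
        have : a ^ 2 = h ^ 2 := by
          have e1 : a = h * (h⁻¹ * a) := by group
          rw [e1, (show Commute h (h⁻¹ * a) from mem_center_iff.1 e h).mul_pow, z2 _ e, mul_one]
        exact this ▸ pow_mem hh 2
      rw [eq_top_iff]
      intro x _
      obtain ⟨h, hh, e⟩ := dec x
      refine (mul_mem_cancel_left (inv_mem hh)).1 ?_
      rcases (kf _).1 (kz ▸ e) with e | e <;> rw [e]
      exacts [one_mem _, zH]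
    · rw [← MonoidHom.mem_ker, kφ] at e
      exact (hy (ZQ e)).elim
    · obtain ⟨x, rfl⟩ := sφ π
      have : (x * a * x⁻¹)⁻¹ * y ∈ center X := by
        rw [← kφ, MonoidHom.mem_ker, map_mul, map_inv, e, map_mul, map_mul, map_inv, inv_mul_cancel]
      exact (hy ((mul_mem_cancel_left (inv_mem (hQn.conj_mem _ hQ.a_mem' x))).1 (ZQ this))).elim
  · right
    refine ⟨c48, cZ, ⟨(QuotientGroup.quotientMulEquivOfEq kφ.symm).trans
      (QuotientGroup.quotientKerEquivOfSurjective φ sφ)⟩, fun P => ?_⟩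
    push Not at hy
    have cP : Nat.card (P : Subgroup X) = 16 := by
      rw [P.card_eq_multiplicity, c48, show 48 = 2 ^ 4 * 3 from rfl,
        Nat.factorization_mul (by norm_num) (by norm_num), Nat.prime_two.factorization_pow,
        Nat.prime_three.factorization]
      simp
    have hle := Q2.le_sylow_of_normal P
    rcases H84.isCyclic_or_quaternion_of_unique_involution P.isPGroup'
      (fun x _ y _ hx hy' => hu x (hy x hx) y (hy y hy') hx hy') with h | ⟨n, ⟨e⟩⟩
    · haveI : IsMulCommutative (P : Subgroup X) := inferInstance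
      exact (hQ.not_comm le_rfl (congrArg Subtype.val
        (mul_comm' (⟨b, hle hQ.b_mem⟩ : (P : Subgroup X)) ⟨a, hle hQ.a_mem'⟩))).elim
    · haveI : NeZero (2 ^ (n + 1)) := ⟨by positivity⟩
      rw [Nat.card_congr e.toEquiv, Nat.card_eq_fintype_card, QuaternionGroup.card] at cP
      have : 2 ^ (n + 1) = 4 := by omega
      rw [this] at e
      exact ⟨e⟩

/-- Let G be a finite solvable group in which the intersection of any two distinct Sylow 2-subgroups has 2-rank at most 1 (contains no Klein four-group). Write Q = G/O(G), O(G) the largest normal subgroup of odd order. Then Q has a normal Sylow 2-subgroup; or Q is isomorphic to GL(2,3); or Q has order 48, centre of order 2 with central quotient isomorphic to the symmetric group of degree 4, and generalized quaternion Sylow 2-subgroups of order 16 (the binary octahedral group). The last two are the two representation groups of the symmetric group of degree 4. -/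
theorem result {G : Type*} [Group G] [Finite G] (hs : Group.IsSolvable G)
    (hI : ∀ S T : Sylow 2 G, S ≠ T → Cfsg.PRankLE 2 1 ↥((S : Subgroup G) ⊓ (T : Subgroup G))) :
    (∃ P : Sylow 2 (G ⧸ Cfsg.oddCore G), (P : Subgroup (G ⧸ Cfsg.oddCore G)).Normal) ∨
    Nonempty ((G ⧸ Cfsg.oddCore G) ≃* GL (Fin 2) (ZMod 3)) ∨
    (Nat.card (G ⧸ Cfsg.oddCore G) = 48 ∧ Nat.card ↥(Subgroup.center (G ⧸ Cfsg.oddCore G)) = 2 ∧
      Nonempty ((G ⧸ Cfsg.oddCore G) ⧸ Subgroup.center (G ⧸ Cfsg.oddCore G) ≃* Equiv.Perm (Fin 4)) ∧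
      ∀ P : Sylow 2 (G ⧸ Cfsg.oddCore G), Nonempty (↥(P : Subgroup (G ⧸ Cfsg.oddCore G)) ≃* QuaternionGroup 4)) := by
  haveI : Fact (Nat.Prime 2) := ⟨Nat.prime_two⟩
  by_cases hn : ∃ P : Sylow 2 (G ⧸ Cfsg.oddCore G), (P : Subgroup (G ⧸ Cfsg.oddCore G)).Normal
  · exact Or.inl hn
  refine main (H2.pPrimeCore_quotient_pPrimeCore 2 G) ?_
  set π := QuotientGroup.mk' (oddCore G) with hπ
  have sπ : Function.Surjective π := QuotientGroup.mk'_surjective _
  set Q := pCore 2 (G ⧸ oddCore G) with hQ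
  have Q2 : IsPGroup 2 Q := isPGroup_pCore 2 _
  obtain ⟨S⟩ : Nonempty (Sylow 2 G) := inferInstance
  have h0 := (isSyl_sylow S).inf_of_le_normalizer (le_top (a := Q.comap π)) le_normalizer_of_normal
  set S₀ := (S : Subgroup G) ⊓ Q.comap π with hS₀
  have hm : S₀.map π = Q := by
    have := h0.map π
    rw [map_comap_eq_self_of_surjective sπ] at this
    exact this.eq_of_isPGroup Q2
  obtain ⟨n, hn0, hnS⟩ : ∃ n ∈ normalizer (S₀ : Set G), n ∉ normalizer ((S : Subgroup G) : Set G) := by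
    by_contra! h
    have h1 := (isSyl_sylow S).map π
    rw [map_top_of_surjective π sπ] at h1
    refine hn ⟨h1.toSylowTop, normal_of_top_le_normalizer fun x _ => ?_⟩
    rw [h1.coe_toSylowTop]
    obtain ⟨g, rfl⟩ := sπ x
    obtain ⟨a, ha, r, hr, rfl⟩ := h0.frattini_mem (g := g) (le_normalizer_of_normal (mem_top g))
    rw [map_mul]
    refine mul_mem (map_le_normalizer_map π le_rfl ⟨a, h a ha, rfl⟩) (le_normalizer ?_)
    exact (hm ▸ map_mono inf_le_left : Q ≤ (S : Subgroup G).map π) hr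
  have h1 := (isSyl_sylow S).cj_of_mem (mem_top n)
  have hr := hI S h1.toSylowTop fun e => hnS (cj_eq_self_iff.1 (by
    rw [← h1.coe_toSylowTop, ← e]))
  rw [h1.coe_toSylowTop] at hr
  have hle : S₀ ≤ (S : Subgroup G) ⊓ cj n S := le_inf inf_le_left (cj_eq_self hn0 ▸ cj_mono n inf_le_left)
  have lift : ∀ x ∈ Q, orderOf x = 2 → ∃ y ∈ S₀, π y = x ∧ orderOf y = 2 := fun x hx ox => by
    obtain ⟨y, hy, rfl⟩ : x ∈ S₀.map π := hm ▸ hx
    refine ⟨y, hy, rfl, H14.orderOf_two_of_mul_self ?_ fun e => H14.ne_one_of_two ox (by rw [e, map_one])⟩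
    refine disjoint_def.1 (H2.disjoint_pPrimeCore_of_isPGroup h0.isPGroup) (mul_mem hy hy) ?_
    have := H14.mul_self_of_two ox
    rwa [← map_mul, hπ, QuotientGroup.mk'_apply, QuotientGroup.eq_one_iff] at this
  intro x hx y hy ox oy
  obtain ⟨u, hu, rfl, ou⟩ := lift x hx ox
  obtain ⟨v, hv, rfl, ov⟩ := lift y hy oy
  exact congrArg π (H14.eq_of_prank_one_of_isPGroup hr h0.isPGroup hle ou ov hu hv)

end Cfsg.Agent.S3304
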