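import Cfsg.Statements.S3310
import Cfsg.Agent.Base
import Cfsg.Agent.H55.RkOne6

set_option autoImplicit false
open Cfsg

namespace Cfsg.Agent.S3310

/-- Let G be a finite nonsolvable group; write O(G) for its largest normal subgroup of odd order and O₂(G) for its largest normal 2-subgroup. Suppose that every intersection of two distinct Sylow 2-subgroups of G has 2-rank at most 1, that some two distinct Sylow 2-subgroups of G/O(G) have a non-cyclic intersection, and that no Sylow 2-subgroup of G is a quaternion group, ordinary or generalized (of order 2^k ≥ 8). Then either (a) O₂(G) is a quaternion group, ordinary or generalized (of order 2^k ≥ 8), and G has a normal subgroup G₁ of odd index containing O₂(G)O(G) with G₁/O₂(G)O(G) isomorphic to PSL(2,2ⁿ) (n ≥ 2), a Suzuki group over the field with 2^(2m+1) elements (m ≥ 1), or PSU(3,2ⁿ) (n ≥ 2); or (b) G has a normal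 subgroup G₁ containing O(G), of index odd or twice an odd number, with G₁/O(G) isomorphic to the central product of two copies of SL(2,5) with amalgamated centres. -/
theorem result {G : Type*} [Group G] [Finite G] (hns : ¬ Group.IsSolvable G)
    (hI : ∀ S T : Sylow 2 G, S ≠ T → Cfsg.PRankLE 2 1 ↥((S : Subgroup G) ⊓ (T : Subgroup G)))
    (hnC : ∃ S T : Sylow 2 (G ⧸ Cfsg.oddCore G), S ≠ T ∧
      ¬ IsCyclic ↥((S : Subgroup (G ⧸ Cfsg.oddCore G)) ⊓ (T : Subgroup (G ⧸ Cfsg.oddCore G))))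
    (hnQ : ∀ S : Sylow 2 G, ∀ n : ℕ, IsEmpty (↥(S : Subgroup G) ≃* QuaternionGroup (2 ^ (n + 1)))) :
    (∃ (G₁ : Subgroup G) (_ : G₁.Normal) (_ : ((Cfsg.pCore 2 G ⊔ Cfsg.oddCore G).subgroupOf G₁).Normal),
      Odd G₁.index ∧ Cfsg.pCore 2 G ⊔ Cfsg.oddCore G ≤ G₁ ∧
      (∃ n : ℕ, Nonempty (↥(Cfsg.pCore 2 G) ≃* QuaternionGroup (2 ^ (n + 1)))) ∧
      ((∃ (n : ℕ) (F : Type) (_ : Field F) (_ : Fintype F), 2 ≤ n ∧ Fintype.card F = 2 ^ n ∧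
          Nonempty (↥G₁ ⧸ (Cfsg.pCore 2 G ⊔ Cfsg.oddCore G).subgroupOf G₁ ≃* Matrix.ProjectiveSpecialLinearGroup (Fin 2) F)) ∨
       (∃ (m : ℕ) (F : Type) (_ : Field F) (_ : Fintype F), 1 ≤ m ∧ Fintype.card F = 2 ^ (2 * m + 1) ∧
          Nonempty (↥G₁ ⧸ (Cfsg.pCore 2 G ⊔ Cfsg.oddCore G).subgroupOf G₁ ≃* ↥(Cfsg.Lie.Sz F (2 ^ (m + 1))))) ∨
       (∃ (n : ℕ) (F : Type) (_ : Field F) (_ : Fintype F), 2 ≤ n ∧ Fintype.card F = 4 ^ n ∧
          Nonempty (↥G₁ ⧸ (Cfsg.pCore 2 G ⊔ Cfsg.oddCore G).subgroupOf G₁ ≃* Cfsg.PSU 3 F (2 ^ n))))) ∨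
    (∃ (G₁ : Subgroup G) (_ : G₁.Normal) (_ : ((Cfsg.oddCore G).subgroupOf G₁).Normal),
      (Odd G₁.index ∨ ∃ k : ℕ, Odd k ∧ G₁.index = 2 * k) ∧ Cfsg.oddCore G ≤ G₁ ∧
      ∃ (Z : Subgroup (Matrix.SpecialLinearGroup (Fin 2) (ZMod 5) × Matrix.SpecialLinearGroup (Fin 2) (ZMod 5))) (_ : Z.Normal),
        Z = Subgroup.zpowers ((-1 : Matrix.SpecialLinearGroup (Fin 2) (ZMod 5)), (-1 : Matrix.SpecialLinearGroup (Fin 2) (ZMod 5))) ∧
        Nonempty (↥G₁ ⧸ (Cfsg.oddCore G).subgroupOf G₁ ≃*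
          (Matrix.SpecialLinearGroup (Fin 2) (ZMod 5) × Matrix.SpecialLinearGroup (Fin 2) (ZMod 5)) ⧸ Z)) := by
  rcases H55.RkOne.s3310 hns hI hnC hnQ with ⟨G₁, i1, i2, h1, h2, h3, h4⟩ | ⟨G₁, i1, i2, h1, h2⟩
  · refine Or.inl ⟨G₁, i1, i2, h1, h2, h3, ?_⟩
    rcases h4 with ⟨F, _, _, ⟨n, h1, h2⟩, h3⟩ | ⟨F, _, _, m, h⟩ | ⟨F, _, _, n, h1, h2, h3⟩
    · exact Or.inl ⟨n, F, _, _, h1, h2, h3⟩
    · exact Or.inr (Or.inl ⟨m, F, _, _, h⟩)
    · exact Or.inr (Or.inr ⟨n, F, _, _, h1, by rw [h2, ← pow_mul, mul_comm, pow_mul]; rfl, h3⟩)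
  · exact Or.inr ⟨G₁, i1, i2, Or.inl h1, h2⟩

end Cfsg.Agent.S3310
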