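import Cfsg.Statements.S3314
import Cfsg.Agent.Base
import Cfsg.Agent.H15.BGAll2

set_option autoImplicit false
open Cfsg

namespace Cfsg.Agent.S3314

/-- Let G be a finite group and t an involution of G whose centralizer C is the internal direct product of a nontrivial elementary abelian 2-subgroup E and a subgroup U, where U has a normal quasisimple subgroup U₀ with U₀ modulo its centre isomorphic to PSU₃(2ⁿ) (realised over the field with 4ⁿ elements, n ≥ 2) and with C_U(U₀) = Z(U₀); suppose moreover that C is the centralizer of every involution of E. Then, writing O(G) for the largest normal subgroup of G of odd order, G/O(G) has a normal subgroup isomorphic to PSU₃(2ⁿ), to PSU₃(2ⁿ) × PSU₃(2ⁿ), or to PSL₃(4ⁿ). Furthermore, if E has more than 2 elements then O(G) equals the centre of U₀ (in particular it is abelian). -/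
theorem result {G : Type*} [Group G] [Finite G] (t : G) (ht : orderOf t = 2) (E U U₀ : Subgroup G)
    (hEU : Cfsg.IsInternalDirectProduct E U (Subgroup.centralizer ({t} : Set G)))
    (hE : Cfsg.IsElementaryAbelian 2 E) (hE1 : E ≠ ⊥)
    (hU₀ : U₀ ≤ U) (hU₀n : (U₀.subgroupOf U).Normal) (hq : Cfsg.IsQuasisimple ↥U₀)
    {F : Type*} [Field F] [Fintype F] (n : ℕ) (hn : 2 ≤ n) (hF : Fintype.card F = 4 ^ n)
    (hUX : Nonempty ((↥U₀ ⧸ Subgroup.center ↥U₀) ≃* Cfsg.PSU 3 F (2 ^ n)))
    (hCU : U ⊓ Subgroup.centralizer (U₀ : Set G) = (Subgroup.center ↥U₀).map U₀.subtype)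
    (hC : ∀ e ∈ E, orderOf e = 2 → Subgroup.centralizer ({e} : Set G) = Subgroup.centralizer ({t} : Set G)) :
    (∃ N : Subgroup (G ⧸ Cfsg.oddCore G), N.Normal ∧
      (Nonempty (↥N ≃* Cfsg.PSU 3 F (2 ^ n)) ∨ Nonempty (↥N ≃* Cfsg.PSU 3 F (2 ^ n) × Cfsg.PSU 3 F (2 ^ n)) ∨
        Nonempty (↥N ≃* Matrix.ProjectiveSpecialLinearGroup (Fin 3) F))) ∧
    (2 < Nat.card ↥E → Cfsg.oddCore G = (Subgroup.center ↥U₀).map U₀.subtype) := by
  exact H15.BG.s3314 H15.BG.j0 H15.BG.j1 H15.BG.j2
    (H15.BG.EH.of H15.BG.j0 ht hEU hE hU₀ hU₀n hq hF hUX hCU hC) hq hF hUX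

end Cfsg.Agent.S3314
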