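import Cfsg.Statements.S3323
import Cfsg.Agent.H65.SRFin
import Cfsg.Agent.H52.SRW2

set_option autoImplicit false
open Cfsg

namespace Cfsg.Agent.S3323

/-- Let G be a finite group whose generalized Fitting subgroup F*(G) is a non-abelian simple group, and let L be a standard subgroup of G isomorphic to the Ree group ²F₄(q), q = 2^(2m+1) ≥ 8, such that the centralizer C_G(L) has cyclic Sylow 2-subgroups and L ≠ G. Then O²(G) has a subgroup of odd index isomorphic to the Chevalley group F₄(q) or to ²F₄(q) × ²F₄(q). -/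
theorem result
    {G : Type*} [Group G] [Finite G]
    (hFs : IsSimpleGroup ↥(Cfsg.generalizedFittingSubgroup G)) (hFna : ¬ IsMulCommutative ↥(Cfsg.generalizedFittingSubgroup G))
    (L : Subgroup G) (hL : Cfsg.IsStandardSubgroup L)
    {K : Type*} [Field K] [Fintype K] (m : ℕ) (hm : 1 ≤ m) (hK : Fintype.card K = 2 ^ (2 * m + 1))
    (e : ↥L ≃* ↥(Cfsg.Lie.twistedF4 K (2 ^ m)))
    (hcyc : ∀ R : Sylow 2 ↥(Subgroup.centralizer (L : Set G)), IsCyclic ↥R)
    (hLG : L ≠ ⊤) :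
    ∃ G₀ : Subgroup G, G₀ ≤ Cfsg.oddGenerated (⊤ : Subgroup G) ∧ Odd (G₀.relIndex (Cfsg.oddGenerated (⊤ : Subgroup G))) ∧
      (Nonempty (↥G₀ ≃* ↥(Cfsg.Lie.chevF4.group K)) ∨
        Nonempty (↥G₀ ≃* (↥(Cfsg.Lie.twistedF4 K (2 ^ m)) × ↥(Cfsg.Lie.twistedF4 K (2 ^ m))))) := by
  exact (H65.SR.jobs_of H52.SR.jobW2).main hFs hFna L hL m hm hK e hcyc

end Cfsg.Agent.S3323
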