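import Cfsg.Statements.S3336
import Cfsg.Agent.H41.C3Asm
import Cfsg.Agent.H89.C3Pre
import Cfsg.Agent.H89.C3Mid
import Cfsg.Agent.H52.CoSt
import Cfsg.Agent.H52.CoL0
import Cfsg.Agent.H71.C3L1
import Cfsg.Agent.H71.C3Loc
import Cfsg.Agent.H29.CInv
import Cfsg.Agent.H41.C3K0b
import Cfsg.Agent.H41.C3CB2
import Cfsg.Agent.H41.C3K1b
import Cfsg.Agent.H41.C3X3
import Cfsg.Agent.H41.C3Alt2
import Cfsg.Agent.H41.C3SC2

set_option autoImplicit false
open Cfsg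

namespace Cfsg.Agent.S3336

/-- A 3-local characterization of the second Conway group. Let G be a finite group, S a Sylow 3-subgroup, Z = Z(S) and C = C_G(Z). Suppose that O₃(C) is extraspecial of order 3^5, that O₂(C/O₃(C)) is extraspecial of order 2^5 with quotient (C/O₃(C))/O₂(C/O₃(C)) isomorphic to the alternating group of degree 5, and that Z is not weakly closed in S with respect to G. Then G is isomorphic to the second Conway group. -/
theorem result {G : Type*} [Group G] [Finite G]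
    (S : Sylow 3 G) (Z : Subgroup G) (hZ : Z = (S : Subgroup G) ⊓ Subgroup.centralizer ((S : Subgroup G) : Set G))
    (C : Subgroup G) (hCZ : C = Subgroup.centralizer (Z : Set G))
    (hQ : Cfsg.IsExtraspecial 3 (Cfsg.pCore 3 C)) (hQcard : Nat.card (Cfsg.pCore 3 C) = 3 ^ 5)
    (hR : Cfsg.IsExtraspecial 2 (Cfsg.pCore 2 (C ⧸ Cfsg.pCore 3 C)))
    (hRcard : Nat.card (Cfsg.pCore 2 (C ⧸ Cfsg.pCore 3 C)) = 2 ^ 5)
    (e : (C ⧸ Cfsg.pCore 3 C) ⧸ Cfsg.pCore 2 (C ⧸ Cfsg.pCore 3 C) ≃* alternatingGroup (Fin 5))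
    (hnwc : ¬ Cfsg.IsWeaklyClosed Z S) :
    Cfsg.Spor.IsoCo2 G := by
  exact H41.C3.co2_of_jobs H89.C3.jobPre H89.C3.jobMid H52.CoSt.jobSt H52.CoL0.jobL0 H71.C3M.jobL1
    H71.C3L.jobLoc H29.CInv.jobInv H71.C3L.jobR5 H41.C3.jobK0 H41.C3.jobCB H41.C3.jobK1 H41.C3.jobX
    H41.C3.jobAlt H41.C3.jobSC S Z C hZ hCZ hQ hQcard hR hRcard e hnwc

end Cfsg.Agent.S3336
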