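import Cfsg.Agent.Base
import Cfsg.Agent.H90.Free
import Cfsg.Statements.S3357

set_option autoImplicit false
open Cfsg

namespace Cfsg.Agent.S3357

/-- Let G be a finite group that occurs as a Frobenius complement. Then G has a faithful irreducible representation over an algebraic closure of the rationals in which no non-identity element of G has 1 as an eigenvalue: there are n ≥ 1 and an injective homomorphism ρ from G to GL(n) over that field, with no invariant subspace other than 0 and the whole space, such that for g ≠ 1 the only vector fixed by ρ(g) is 0. -/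
theorem result {G : Type*} [Group G] [Finite G]
    (hFC : ∃ (L : Type) (_ : Group L) (_ : Finite L) (H : Subgroup L), Cfsg.IsFrobeniusComplement H ∧ Nonempty (G ≃* H)) :
    ∃ (n : ℕ) (ρ : G →* GL (Fin n) (AlgebraicClosure ℚ)), 0 < n ∧ Function.Injective ρ ∧
      (∀ W : Submodule (AlgebraicClosure ℚ) (Fin n → AlgebraicClosure ℚ),
        (∀ g : G, ∀ w ∈ W, ((ρ g : GL (Fin n) (AlgebraicClosure ℚ)) : Matrix (Fin n) (Fin n) (AlgebraicClosure ℚ)).mulVec w ∈ W) → W = ⊥ ∨ W = ⊤) ∧
      ∀ g : G, g ≠ 1 → ∀ v : Fin n → AlgebraicClosure ℚ,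
        ((ρ g : GL (Fin n) (AlgebraicClosure ℚ)) : Matrix (Fin n) (Fin n) (AlgebraicClosure ℚ)).mulVec v = v → v = 0 := by

  have hnt := H90.nontrivial_of_FC hFC
  obtain ⟨n, σ, hirr, hσ⟩ := (H90.Free.of_FC hFC).exists_rep (AlgebraicClosure ℚ)
  let τ : G →* Matrix (Fin n) (Fin n) (AlgebraicClosure ℚ) :=
    (LinearMap.toMatrixAlgEquiv' : _ ≃ₐ[AlgebraicClosure ℚ] _).toMonoidHom.comp σ
  have hτ : ∀ g v, (τ g).mulVec v = σ g v := fun g v =>
    LinearMap.toMatrix'_mulVec (σ g) v
  have hV : Nontrivial (Fin n → AlgebraicClosure ℚ) := H28.nontrivial_of_isIrreducible σ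
  refine ⟨n, τ.toHomUnits, ?_, ?_, ?_, ?_⟩
  · rcases Nat.eq_zero_or_pos n with rfl | hn
    · exact absurd hV (not_nontrivial _)
    · exact hn
  · rw [injective_iff_map_eq_one]
    intro g hg
    by_contra h1
    obtain ⟨v, hv⟩ := exists_ne (0 : Fin n → AlgebraicClosure ℚ)
    apply hv
    apply hσ g h1
    have : τ g = 1 := congrArg Units.val hg
    rw [← hτ, this, Matrix.one_mulVec]
  · intro W hW
    let U : Subrepresentation σ := ⟨W, fun g w hw => by rw [← hτ]; exact hW g w hw⟩
    rcases eq_bot_or_eq_top U with h | h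
    · exact Or.inl (congrArg Subrepresentation.toSubmodule h)
    · exact Or.inr (congrArg Subrepresentation.toSubmodule h)
  · intro g hg v hv
    exact hσ g hg v ((hτ g v).symm.trans hv)

end Cfsg.Agent.S3357
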