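import Cfsg.Agent.Base
import Cfsg.Agent.H90.ZassSolv
import Cfsg.Statements.S3358

set_option autoImplicit false
open Cfsg

namespace Cfsg.Agent.S3358

theorem mul_comm_of_prime {G : Type*} [Group G] [Finite G] (h : H90.Free G) {u y : G}
    (hu : (orderOf u).Prime) (hcop : (orderOf u).Coprime (orderOf y))
    [hN : (Subgroup.zpowers y).Normal] : u * y = y * u := by
  suffices hs : Subgroup.zpowers y ≤ Subgroup.centralizer ({u} : Set G) from
    (Subgroup.mem_centralizer_singleton_iff.1 (hs (Subgroup.mem_zpowers y))).symm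
  have hnil : Group.IsNilpotent (Subgroup.zpowers y) := H2.isNilpotent_of_isMulCommutative _
  rw [← H2.iSup_map_pCore_subtype (Subgroup.zpowers y), iSup_le_iff]
  rintro ⟨q, hq⟩
  have := Fact.mk hq
  set Q := (pCore q (Subgroup.zpowers y)).map (Subgroup.zpowers y).subtype with hQ
  have hQn : Q.Normal := H2.normal_map_subtype_of_characteristic _ _
  have hQp : IsPGroup q Q := H2.isPGroup_map_pCore_subtype _
  have hQle : Q ≤ Subgroup.zpowers y := Subgroup.map_subtype_le _
  have hQc : IsCyclic Q := Subgroup.isCyclic_of_le hQle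
  by_cases hb : Q = ⊥
  · rw [hb]; exact bot_le
  have hqd : q ∣ Nat.card Q := by
    obtain ⟨k, hk⟩ := hQp.exists_card_eq
    rcases k with _ | k
    · exact absurd (Subgroup.card_eq_one.1 hk) hb
    · exact hk ▸ dvd_pow_self _ (by omega)
  obtain ⟨v, hv⟩ := exists_prime_orderOf_dvd_card' (G := Q) q hqd
  have hv' : orderOf (v : G) = q := by rwa [Subgroup.orderOf_coe]
  have hconj : u * v * u⁻¹ ∈ Subgroup.zpowers (v : G) := by
    obtain ⟨s, hs⟩ := hQle v.2
    obtain ⟨t, ht⟩ := hN.conj_mem y (Subgroup.mem_zpowers y) u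
    simp only at hs ht
    refine ⟨t, ?_⟩
    simp only
    rw [← hs, ← conj_zpow, ← ht, ← zpow_mul, ← zpow_mul, mul_comm]
  have hc := h.commute_of_prime_order hu (hv' ▸ hq) hconj
  have h1 := H90.mem_centralizer_of_cyclic hQp (g := u)
    (by rw [Subgroup.normalizer_eq_top]; trivial)
    (hcop.coprime_dvd_right (hqd.trans ((Subgroup.card_dvd_of_le hQle).trans
      (Nat.card_zpowers y).dvd))) v.2 (fun h0 => hq.one_lt.ne' (by rw [← hv', h0, orderOf_one]))
    hc.symm
  intro x hx
  exact Subgroup.mem_centralizer_singleton_iff.2 (h1 x hx)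

theorem pow_rad_comm {G : Type*} [Group G] [Finite G] (h : H90.Free G) {x y : G}
    (hcop : (orderOf x).Coprime (orderOf y)) [hN : (Subgroup.zpowers y).Normal] :
    x ^ (orderOf x / ∏ p ∈ (orderOf x).primeFactors, p) * y =
      y * x ^ (orderOf x / ∏ p ∈ (orderOf x).primeFactors, p) := by
  set n := orderOf x with hn
  have hn0 : 0 < n := orderOf_pos x
  set n' := ∏ p ∈ n.primeFactors, p with hn'
  have hd : n' ∣ n := Nat.prod_primeFactors_dvd n
  set w := x ^ (n / n') with hw
  have how : orderOf w = n' := by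
    rw [hw, orderOf_pow_of_dvd (Nat.div_pos (Nat.le_of_dvd hn0 hd) (Nat.pos_of_dvd_of_pos hd hn0)).ne'
      (Nat.div_dvd_of_dvd hd), Nat.div_div_self hd hn0.ne']
  have hsq : Squarefree n' := by
    rw [hn', ← Nat.radical_eq_prod_primeFactors]
    exact UniqueFactorizationMonoid.squarefree_radical
  suffices hs : Subgroup.zpowers w ≤ Subgroup.centralizer ({y} : Set G) from
    Subgroup.mem_centralizer_singleton_iff.1 (hs (Subgroup.mem_zpowers w))
  have hnil : Group.IsNilpotent (Subgroup.zpowers w) := H2.isNilpotent_of_isMulCommutative _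
  rw [← H2.iSup_map_pCore_subtype (Subgroup.zpowers w), iSup_le_iff]
  rintro ⟨q, hq⟩ u hu
  have := Fact.mk hq
  have hQp : IsPGroup q _ := H2.isPGroup_map_pCore_subtype (Subgroup.zpowers w)
  obtain ⟨k, hk⟩ := hQp ⟨u, hu⟩
  have h1 : orderOf u ∣ n' := by
    rw [← how, ← Nat.card_zpowers w]
    exact Subgroup.orderOf_dvd_natCard _ (Subgroup.map_subtype_le _ hu)
  have h2 : orderOf u ∣ q ^ k := orderOf_dvd_of_pow_eq_one (by simpa using congrArg Subtype.val hk)
  obtain ⟨j, -, hj⟩ := (Nat.dvd_prime_pow hq).1 h2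
  have h3 : orderOf u ∣ q := by
    rw [hj] at h1 ⊢
    exact hsq.pow_dvd_of_pow_dvd h1
  rw [Subgroup.mem_centralizer_singleton_iff]
  rcases (Nat.dvd_prime hq).1 h3 with h4 | h4
  · rw [orderOf_eq_one_iff.1 h4]; simp
  · exact mul_comm_of_prime h (h4 ▸ hq) (hcop.coprime_dvd_left (h1.trans hd))

theorem exists_ker {G : Type*} [Group G] [Finite G] [Group.IsSolvable G] (h : H90.Free G) :
    ∃ f : G →* Equiv.Perm (Fin 4), IsZGroup f.ker := by
  by_cases hn : HasNormalPComplement 2 G
  · rcases h.npc_structure hn with h1 | ⟨f, -, h2⟩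
    · exact ⟨1, inferInstance⟩
    · have e : DihedralGroup 2 ≃ Fin 4 := Fintype.equivFinOfCardEq (by simp [DihedralGroup.card])
      let ι : DihedralGroup 2 →* Equiv.Perm (Fin 4) :=
        e.permCongrHom.toMonoidHom.comp (MulAction.toPermHom _ _)
      have hι : Function.Injective ι := e.permCongrHom.injective.comp MulAction.toPerm_injective
      refine ⟨ι.comp f, ?_⟩
      rwa [MonoidHom.ker_comp_of_injective _ _ hι]
  · obtain ⟨φ, f, -, -, -, -, -, h2⟩ := h.solvable_structure hn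
    exact ⟨f, (h.subgroup _).isZGroup_of_sq fun c k hk =>
      Subtype.ext (h2 c c.2 k (by simpa using congrArg Subtype.val hk))⟩


/-- Structure of solvable Frobenius complements. Let G be a finite solvable group that occurs as a Frobenius complement. Then G has a normal subgroup G₀ such that G/G₀ is isomorphic to a subgroup of Sym(4) (G₀ is the kernel of a homomorphism to Sym(4)), all Sylow subgroups of G₀ are cyclic, and G₀ has a presentation ⟨x, y | x^n = 1, y^m = 1, x⁻¹ y x = y^r⟩ with n, m ≥ 1, gcd(r − 1, m) = gcd(n, m) = 1 and r^(n/n′) ≡ 1 (mod m), where n′ is the product of the distinct primes dividing n. -/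
theorem result {G : Type*} [Group G] [Finite G] (hsol : Group.IsSolvable G)
    (hFC : ∃ (L : Type) (_ : Group L) (_ : Finite L) (H : Subgroup L), Cfsg.IsFrobeniusComplement H ∧ Nonempty (G ≃* H)) :
    ∃ G₀ : Subgroup G, G₀.Normal ∧
      (∃ f : G →* Equiv.Perm (Fin 4), f.ker = G₀) ∧
      (∀ (p : ℕ) [Fact p.Prime] (P : Sylow p G₀), IsCyclic P) ∧
      ∃ n m r : ℕ, 0 < n ∧ 0 < m ∧ Nat.Coprime (r - 1) m ∧ Nat.Coprime n m ∧ 1 ≤ r ∧
        r ^ (n / ∏ p ∈ n.primeFactors, p) % m = 1 % m ∧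
        Nonempty (G₀ ≃* PresentedGroup
          ({FreeGroup.of (0 : Fin 2) ^ n, FreeGroup.of (1 : Fin 2) ^ m,
            (FreeGroup.of (0 : Fin 2))⁻¹ * FreeGroup.of 1 * FreeGroup.of 0 * (FreeGroup.of (1 : Fin 2) ^ r)⁻¹} :
            Set (FreeGroup (Fin 2)))) := by

  have h := H90.Free.of_FC hFC
  obtain ⟨f, hf⟩ := exists_ker h
  refine ⟨f.ker, inferInstance, ⟨f, rfl⟩, fun _ _ _ => inferInstance, ?_⟩
  obtain ⟨x, y, r, h1, h2, h3, h4, h5, h6, h7⟩ := H90.zgroup_data (G := f.ker)
  refine ⟨orderOf x, orderOf y, r, orderOf_pos x, orderOf_pos y, h4, h5, h6, ?_,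
    H90.nonempty_equiv_metacyclic h1 h3 h7⟩
  have : (Subgroup.zpowers y).Normal := h2 ▸ inferInstance
  have h8 := pow_rad_comm (h.subgroup _) h5
  have h9 := H90.conj_pow_pow_eq' h3 (orderOf x / ∏ p ∈ (orderOf x).primeFactors, p)
  rw [mul_assoc, ← h8, inv_mul_cancel_left] at h9
  change _ ≡ 1 [MOD orderOf y]
  rw [← pow_eq_pow_iff_modEq, ← h9, pow_one]

end Cfsg.Agent.S3358
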