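import Cfsg.Agent.Base
import Cfsg.Agent.H90.NearF2
import Cfsg.Agent.H88.InvAut
import Cfsg.Statements.S3361

set_option autoImplicit false
open Cfsg

namespace Cfsg.Agent.S3361

theorem exists_SL3 {G : Type*} [Group G] [Finite G] [Group.IsSolvable G] (h : H90.Free G)
    (f : G →* alternatingGroup (Fin 4)) (hf : Function.Surjective f)
    (h3 : ¬ 3 ∣ Nat.card f.ker) : ∃ φ : H90.SL3 →* G, Function.Injective φ := by
  obtain ⟨y, hy⟩ := exists_prime_orderOf_dvd_card' (G := G) 3 (by
    refine Dvd.dvd.trans ?_ (Subgroup.card_dvd_of_surjective f hf)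
    rw [alternatingGroup.card_of_card_eq_four (by simp)]; norm_num)
  rcases h.three_structure' hy with h1 | ⟨φ, h1, -⟩ | ⟨φ, h1, -⟩
  · have := H90.normal_zpowers_of_three hy h1
    have h2 := S4291.noZ_A4.le_ker f hf _ this inferInstance
    exact absurd (hy ▸ f.ker.orderOf_dvd_natCard (h2 (Subgroup.mem_zpowers y))) h3
  · exact ⟨φ, h1⟩
  · have : Group.IsSolvable H90.SL5 := Group.isSolvable_of_isSolvable_injective h1
    have : Nontrivial H90.SL5 := ⟨⟨1, -1, by decide⟩⟩
    exact absurd H90.commutator_SL5 (Group.IsSolvable.commutator_lt_top_of_nontrivial _).ne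


/-- Let q be a prime and V a non-trivial finite vector space over the field with q elements, and let G be a finite solvable group acting faithfully and linearly on V and regularly on the non-zero vectors (transitively, with only the identity fixing a non-zero vector). Then either V can be identified with the additive group of a finite field F so that every element of G acts as x ↦ a·σ(x) (a ∈ F, σ a field automorphism), or V has 5^2, 7^2, 11^2 or 23^2 elements. Moreover, if q ≠ 2 then G has a normal subgroup of index 2, except that when V has 25 elements G may be isomorphic to SL(2,3) and when V has 121 elements G may be isomorphic to SL(2,3) × C₅. -/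
theorem result
    (q : ℕ) [Fact q.Prime] {V : Type*} [AddCommGroup V] [Module (ZMod q) V] [Finite V] [Nontrivial V]
    {G : Type*} [Group G] [Finite G] (hsol : Group.IsSolvable G)
    (ρ : G →* (V ≃ₗ[ZMod q] V)) (hρ : Function.Injective ρ)
    (htrans : ∀ v w : V, v ≠ 0 → w ≠ 0 → ∃ g : G, ρ g v = w)
    (hreg : ∀ v : V, v ≠ 0 → ∀ g : G, ρ g v = v → g = 1) :
    ((∃ (F : Type) (_ : Field F) (_ : Fintype F) (e : V ≃+ F),
        ∀ g : G, ∃ (a : F) (σ : F ≃+* F), ∀ v : V, e (ρ g v) = a * σ (e v)) ∨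
      Nat.card V ∈ ({25, 49, 121, 529} : Set ℕ)) ∧
    (q ≠ 2 → (∃ N : Subgroup G, N.Normal ∧ N.index = 2) ∨
      (Nat.card V = 25 ∧ Nonempty (G ≃* Matrix.SpecialLinearGroup (Fin 2) (ZMod 3))) ∨
      (Nat.card V = 121 ∧ Nonempty (G ≃* Matrix.SpecialLinearGroup (Fin 2) (ZMod 3) × Multiplicative (ZMod 5)))) := by

  let _ : DistribMulAction G V := DistribMulAction.compHom V ρ
  have h : H90.RegNZ G V := ⟨htrans, fun g v hv hg => hreg v hv g hg⟩
  have := h.faithful
  have hmain : (∃ (A : Subgroup G) (E : Type) (_ : Field E) (_ : Fintype E) (_ : Module E V),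
      H90.MaxAb A ∧ Nonempty (H90.FD V A E) ∧ Module.finrank E V = 1) ∨
      (Nat.card V = 25 ∨ Nat.card V = 49 ∨ Nat.card V = 121 ∨ Nat.card V = 529) := by
    refine or_iff_not_imp_left.2 fun h1 => h.card_of_noIrr fun B hB hc => ?_
    by_contra h2
    obtain ⟨A, hBA, hA⟩ := H90.exists_maxAb B
    have := hA.normal
    have := hA.comm
    obtain ⟨E, _, _, _, ⟨D⟩⟩ := h.trans.exists_FD A
    refine h1 ⟨A, E, _, inferInstance, _, hA, ⟨D⟩, ?_⟩
    obtain ⟨v, hv⟩ := exists_ne (0 : V)
    refine (finrank_eq_one_iff_of_nonzero' v hv).2 fun w => ?_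
    by_contra h3
    refine h2 ⟨(Submodule.span E {v}).toAddSubgroup, fun h4 => hv ?_, fun h4 => h3 ?_,
      fun b hb u hu => ?_⟩
    · exact AddSubgroup.mem_bot.1 (h4 ▸ Submodule.mem_span_singleton_self v)
    · exact Submodule.mem_span_singleton.1
        (show w ∈ (Submodule.span E {v}).toAddSubgroup from h4 ▸ AddSubgroup.mem_top w)
    · rw [D.smul_eq ⟨b, hBA hb⟩]
      exact Submodule.smul_mem _ _ hu
  refine ⟨hmain.imp (fun ⟨A, E, _, _, _, _, ⟨D⟩, hd⟩ => ⟨E, _, inferInstance, D.semilinear hd⟩)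
    fun h1 => by simpa using h1, fun hq => ?_⟩
  refine or_iff_not_imp_left.2 fun h2 => ?_
  have h2' : ∀ N : Subgroup G, N.index ≠ 2 := fun N hN =>
    h2 ⟨N, Subgroup.normal_of_index_eq_two hN, hN⟩
  have hG := h.card_eq
  have heven : 2 ∣ Nat.card G := by
    have h3 := Module.natCard_eq_pow_finrank (K := ZMod q) (V := V)
    rw [Nat.card_zmod] at h3
    obtain ⟨t, ht⟩ := (((Fact.out : q.Prime).odd_of_ne_two hq).pow : Odd (q ^ Module.finrank (ZMod q) V))
    exact ⟨t, by rw [hG, h3, ht]; rfl⟩
  have hn : ¬ HasNormalPComplement 2 G := by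
    intro hn
    obtain ⟨N, hN, h3, h4⟩ := H7.hasNPC_iff_exists.1 hn
    obtain ⟨M, hM⟩ := H88.exists_index_two_of_two_group (QuotientGroup.mk' N) (h4.to_subgroup _)
      (fun h5 => h3 (by
        rw [MonoidHom.range_eq_bot_iff] at h5
        have : N = ⊤ := by rw [← QuotientGroup.ker_mk' N, h5, MonoidHom.ker_one]
        rwa [this, Subgroup.card_top]))
    exact h2' M hM
  obtain ⟨φ, f, hφ, hr, hf, -, h3, h4⟩ := h.free.solvable_structure hn
  obtain ⟨f', hf', hk⟩ := (S4291.alt_or_perm f h3).resolve_right fun h5 =>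
    h2' ((alternatingGroup (Fin 4)).comap f) (by
      rw [Subgroup.index_comap_of_surjective _ h5, alternatingGroup.index_eq_two])
  have h12 : f'.ker.index = 12 := by
    rw [S4291.index_ker_eq f' hf', alternatingGroup.card_of_card_eq_four (by simp)]
  have hc := f'.ker.index_mul_card
  rw [h12, hG] at hc
  have h5 : ¬ 4 ∣ Nat.card f'.ker := fun h5 => by
    obtain ⟨P, hP⟩ := Sylow.exists_subgroup_card_pow_prime (G := f'.ker) 2 (n := 2) h5
    have : IsMulCommutative P := IsPGroup.isMulCommutative_of_card_eq_prime_sq hP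
    obtain ⟨x, hx⟩ := (Subgroup.isCyclic_iff_exists_zpowers_eq_top P).1
      ((h.free.subgroup _).isCyclic_subgroup P)
    rw [← hx, Nat.card_zpowers, ← Subgroup.orderOf_coe] at hP
    have h6 := h4 x (hk ▸ x.2) 2 (H90.pow_of_orderOf hP)
    have := orderOf_dvd_of_pow_eq_one (show (x : G) ^ 2 = 1 by rw [sq, h6])
    rw [hP] at this
    norm_num at this
  rcases hmain with ⟨A, E, _, _, _, hA, ⟨D⟩, hd⟩ | h6 | h6 | h6 | h6
  · exfalso
    have := hA.normal
    have := D.isCyclic
    have h6 := S4291.noZ_A4.le_ker f' hf' A hA.normal inferInstance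
    have h7 : Subgroup.centralizer (A : Set G) ≤ A := fun x hx =>
      D.centralizer_inf_le (N := ⊥) hA ⟨bot_le, by simp, by simp⟩ (by simp [hd])
        ⟨hx, fun z hz => by rw [Subgroup.mem_bot.1 hz, mul_one, one_mul]⟩
    have h8 := (H90.commutator_le_centralizer_of_cyclic A).trans (h7.trans h6)
    have h9 : ∀ a b : alternatingGroup (Fin 4), a * b = b * a := fun a b => by
      obtain ⟨a, rfl⟩ := hf' a
      obtain ⟨b, rfl⟩ := hf' b
      rw [← commutatorElement_eq_one_iff_mul_comm, ← map_commutatorElement]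
      exact h8 (Subgroup.commutator_mem_commutator trivial trivial)
    revert h9
    decide +kernel
  · obtain ⟨ψ, hψ⟩ := exists_SL3 h.free f' hf' (by omega)
    exact Or.inl ⟨h6, ⟨(MulEquiv.ofBijective ψ (hψ.bijective_of_nat_card_le (by
      rw [hG, h6, H90.card_SL3]))).symm⟩⟩
  · omega
  · refine Or.inr ⟨h6, ?_⟩
    obtain ⟨ψ, hψ⟩ := exists_SL3 h.free f' hf' (by omega)
    have h10 : Nat.card f'.ker = 10 := by omega
    obtain ⟨y, hy⟩ := exists_prime_orderOf_dvd_card' (G := G) 5 (by rw [hG, h6]; norm_num)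
    have hyk : ∀ x : G, orderOf x = 5 → x ∈ f'.ker := fun x hx => by
      have h7 := orderOf_map_dvd f' x
      have h8 := orderOf_dvd_natCard (f' x)
      rw [alternatingGroup.card_of_card_eq_four (by simp)] at h8
      rw [hx] at h7
      exact orderOf_eq_one_iff.1 (Nat.eq_one_of_dvd_coprimes (by norm_num : Nat.Coprime 5 12) h7 h8)
    have hz : orderOf (φ (.a 2)) = 2 := by
      rw [orderOf_injective φ hφ]; exact orderOf_eq_prime (by decide) (by decide)
    have hz2 : φ (.a 2) * φ (.a 2) = 1 := by rw [← sq]; exact H90.pow_of_orderOf hz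
    have hcz : Commute (φ (.a 2)) y := h.free.mul_comm_of_sq hz2 y
    have hK : Subgroup.zpowers (φ (.a 2) * y) = f'.ker := by
      refine Subgroup.eq_of_le_of_card_ge (Subgroup.zpowers_le.2 (f'.ker.mul_mem ?_ (hyk y hy))) ?_
      · rw [hk, hf]
        exact fun g _ => (h.free.mul_comm_of_sq hz2 g).symm
      · rw [Nat.card_zpowers, hcz.orderOf_mul_eq_mul_orderOf_of_coprime (by
          rw [hz, hy]; norm_num), hz, hy, h10]
    have hKc : IsCyclic f'.ker := hK ▸ inferInstance
    have hcen : Subgroup.centralizer (f'.ker : Set G) = ⊤ := by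
      by_contra h7
      obtain ⟨M, hM⟩ := H88.exists_index_two_of_two_group (MulAut.conjNormal (H := f'.ker))
        ((IsPGroup.of_card (p := 2) (n := 2) (by
          rw [hKc.card_mulAut, h10]; decide)).to_subgroup _) (fun h8 => h7 (by
            rw [MonoidHom.range_eq_bot_iff] at h8
            refine eq_top_iff.2 fun g _ x hx => ?_
            have := congrArg (fun a : G →* MulAut f'.ker => ((a g ⟨x, hx⟩ : f'.ker) : G)) h8
            simp only [MulAut.conjNormal_apply, MonoidHom.one_apply, MulAut.one_apply] at this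
            exact (mul_inv_eq_iff_eq_mul.1 this).symm))
      exact h2' M hM
    have hM5 : Nat.card (Subgroup.zpowers y) = 5 := by rw [Nat.card_zpowers, hy]
    have hψc : Nat.card ψ.range = 24 := by
      rw [← H90.card_SL3]; exact (Nat.card_congr (MonoidHom.ofInjective hψ).toEquiv).symm
    have hdis := Subgroup.disjoint_of_coprime_natCard (H := ψ.range) (K := Subgroup.zpowers y)
      (by rw [hψc, hM5]; norm_num)
    obtain ⟨e⟩ := H90.nonempty_equiv_prod ψ (Subgroup.zpowers y) hψ (by
      refine Subgroup.eq_top_of_le_card _ (Nat.le_of_dvd Nat.card_pos ?_)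
      rw [hG, h6]
      exact Nat.Coprime.mul_dvd_of_dvd_of_dvd (by norm_num : Nat.Coprime 24 5)
        (hψc ▸ Subgroup.card_dvd_of_le le_sup_left) (hM5 ▸ Subgroup.card_dvd_of_le le_sup_right))
      (disjoint_iff.1 hdis) (Subgroup.zpowers_le.2 fun g _ =>
        ((hcen ▸ Subgroup.mem_top g : g ∈ Subgroup.centralizer (f'.ker : Set G)) y
          (hyk y hy)).symm)
    exact ⟨e.trans ((MulEquiv.refl _).prodCongr (mulEquivOfPrimeCardEq hM5 (by simp)))⟩
  · omega

end Cfsg.Agent.S3361
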