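import Cfsg.Agent.Base
import Cfsg.Statements.S3374
import Cfsg.Agent.H90.SL25
import Cfsg.Agent.H90.Free

set_option autoImplicit false
open Cfsg

namespace Cfsg.Agent.S3374

instance : Fact (Nat.Prime 11) := ⟨by norm_num⟩

theorem pow_eleven (A : Matrix.SpecialLinearGroup (Fin 2) (ZMod 11)) (v : Fin 2 → ZMod 11)
    (hv : v ≠ 0) (h : (A : Matrix (Fin 2) (Fin 2) (ZMod 11)).mulVec v = v) : A ^ 11 = 1 := by
  have hd := A.det_coe
  have h1 : ((A : Matrix (Fin 2) (Fin 2) (ZMod 11)) - 1).det = 0 :=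
    Matrix.exists_mulVec_eq_zero_iff.1 ⟨v, hv, by rw [Matrix.sub_mulVec, h, Matrix.one_mulVec, sub_self]⟩
  rw [Matrix.det_fin_two] at hd h1
  simp at h1
  have h2 : ((A : Matrix (Fin 2) (Fin 2) (ZMod 11)) - 1) ^ 2 = 0 := by
    ext i j
    fin_cases i <;> fin_cases j <;> simp [sq, Matrix.mul_apply, Fin.sum_univ_two]
    · linear_combination (-A 0 0) * h1 + (A 0 0 - 1) * hd
    · linear_combination (-A 0 1) * h1 + (A 0 1) * hd
    · linear_combination (-A 1 0) * h1 + (A 1 0) * hd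
    · linear_combination (-A 1 1) * h1 + (A 1 1 - 1) * hd
  apply Subtype.ext
  have h3 := add_pow_char_of_commute 11 (Commute.one_left ((A : Matrix (Fin 2) (Fin 2) (ZMod 11)) - 1))
  rw [add_sub_cancel, one_pow, pow_eq_zero_of_le (by norm_num) h2, add_zero] at h3
  simpa using h3

def x3 : Matrix.SpecialLinearGroup (Fin 2) (ZMod 11) := ⟨!![0, 10; 1, 10], by decide⟩

def y5 : Matrix.SpecialLinearGroup (Fin 2) (ZMod 11) := ⟨!![0, 5; 2, 3], by decide⟩

/-- SL(2,5) occurs as a Frobenius complement: there is a finite group L with a subgroup H isomorphic to SL(2,5) which is a non-trivial proper subgroup meeting each conjugate gHg⁻¹ with g outside H trivially. -/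
theorem result :
    ∃ (L : Type) (_ : Group L) (_ : Finite L) (H : Subgroup L),
      Cfsg.IsFrobeniusComplement H ∧ Nonempty (H ≃* Matrix.SpecialLinearGroup (Fin 2) (ZMod 5)) := by
  obtain ⟨φ, -, -, h3⟩ := H90.exists_hom_SL5 (G := Matrix.SpecialLinearGroup (Fin 2) (ZMod 11))
    (x := x3) (y := y5) (z := -1)
    (by decide) (by decide) (by decide) (by rw [mul_assoc, inv_mul_eq_iff_eq_mul]; decide)
    (by rw [mul_assoc, inv_mul_eq_iff_eq_mul]; decide) (by decide)
  have hφ := H90.injective_of_SL5 φ (by rw [h3]; decide)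
  have : Nontrivial H90.SL5 := ⟨⟨-1, 1, by decide⟩⟩
  have hF : H90.Free H90.SL5 := H90.Free.of_rep (k := ZMod 11) (V := Fin 2 → ZMod 11)
    (LinearEquiv.automorphismGroup.toLinearMapMonoidHom.comp
      (Matrix.SpecialLinearGroup.toLin'.comp φ)) fun g hg v hv => by
    by_contra h0
    have h1 := pow_eleven (φ g) v h0 hv
    rw [← map_pow, ← map_one φ] at h1
    have h2 : g ^ 120 = 1 := H90.card_SL5 ▸ pow_card_eq_one'
    refine hg ?_
    calc g = (g ^ 11) ^ 11 * (g ^ 120)⁻¹ := by group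
      _ = 1 := by rw [hφ h1, h2]; simp
  obtain ⟨L, _, _, H, hH, ⟨e⟩⟩ := hF.toFC
  exact ⟨L, inferInstance, inferInstance, H, hH, ⟨e.symm⟩⟩

end Cfsg.Agent.S3374
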