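import Cfsg.Statements.S3376
import Cfsg.Agent.H56.L3Row

set_option autoImplicit false
open Cfsg

namespace Cfsg.Agent.S3376

/-- Let G be a group of order 162 = 3⁴·2 with Sylow 3-subgroup S and Sylow 2-subgroup T, having an elementary abelian normal subgroup J of order 27, such that Z = Z(S) has order 3, Z centralizes T, and C_S(T) ≠ S. Then G is isomorphic to the centralizer in Sym(9) of a product of three disjoint 3-cycles. -/
theorem result {G : Type*} [Group G] [Finite G] (hG : Nat.card G = 162)
    (S : Sylow 3 G) (T : Sylow 2 G) (J : Subgroup G) [hJn : J.Normal] (hJcomm : IsMulCommutative J)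
    (hJexp : ∀ a ∈ J, a ^ 3 = 1) (hJcard : Nat.card J = 27)
    (Z : Subgroup G) (hZ : Z = (S : Subgroup G) ⊓ Subgroup.centralizer ((S : Subgroup G) : Set G)) (hZcard : Nat.card Z = 3)
    (hZT : Z ≤ Subgroup.centralizer ((T : Subgroup G) : Set G))
    (hST : (S : Subgroup G) ⊓ Subgroup.centralizer ((T : Subgroup G) : Set G) ≠ S) :
    Nonempty (G ≃* Subgroup.centralizer ({Equiv.swap (0 : Fin 9) 1 * Equiv.swap 1 2 * Equiv.swap 3 4 * Equiv.swap 4 5 * Equiv.swap 6 7 * Equiv.swap 7 8} : Set (Equiv.Perm (Fin 9)))) := by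
  subst hZ
  have hT : Nat.card (T : Subgroup G) = 2 := by
    rw [T.card_eq_multiplicity, hG, show 162 = 2 * 81 from rfl,
      Nat.factorization_mul (by decide) (by decide), Nat.prime_two.factorization]
    simp [Nat.factorization_eq_zero_of_not_dvd]
  have : Nontrivial T := Finite.one_lt_card_iff_nontrivial.1 (by omega)
  obtain ⟨t, ht⟩ := exists_ne (1 : T)
  refine H56.L3.row3376 hG (H98.isSyl_sylow S) (t := t) ?_ hJexp hJcard hZcard
    (fun x hx => H42.L3.mem_Ce.2 (hZT hx t t.2).symm) fun h => hST (inf_eq_left.2 fun x hx y hy => ?_)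
  · have := pow_card_eq_one' (x := t)
    erw [hT, sq] at this
    exact congrArg Subtype.val this
  · obtain ⟨k, hk⟩ := mem_powers_of_prime_card hT ht (g' := ⟨y, hy⟩)
    rw [show y = (t : G) ^ k from (congrArg Subtype.val hk).symm]
    exact (Commute.pow_right (H42.L3.mem_Ce.1 (h hx)) k).eq.symm

end Cfsg.Agent.S3376
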