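import Cfsg.Agent.Base
import Cfsg.Statements.S3378
import Cfsg.Agent.H90.SL25
import Cfsg.Agent.S0201
import Cfsg.Agent.S0494
import Cfsg.Agent.H93.S2BA2
import Cfsg.Agent.H98.Sylow

set_option autoImplicit false
open Cfsg

namespace Cfsg.Agent.S3378

/-- Every non-solvable group of order 120 whose Sylow 2-subgroups are quaternion of order 8 is isomorphic to SL(2,5), and SL(2,5) has the presentation ⟨x, y, z | x³ = y⁵ = z² = 1, z⁻¹xz = x, z⁻¹yz = y, (xy)² = z⟩. -/
theorem result :
    (∀ (G : Type*) [Group G] [Finite G], Nat.card G = 120 → ¬ Group.IsSolvable G →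
      (∀ P : Sylow 2 G, Nonempty ((P : Subgroup G) ≃* QuaternionGroup 2)) →
      Nonempty (G ≃* Matrix.SpecialLinearGroup (Fin 2) (ZMod 5))) ∧
    Nonempty (PresentedGroup ({FreeGroup.of (0 : Fin 3) ^ 3, FreeGroup.of (1 : Fin 3) ^ 5, FreeGroup.of (2 : Fin 3) ^ 2,
        (FreeGroup.of (2 : Fin 3))⁻¹ * FreeGroup.of 0 * FreeGroup.of 2 * (FreeGroup.of (0 : Fin 3))⁻¹,
        (FreeGroup.of (2 : Fin 3))⁻¹ * FreeGroup.of 1 * FreeGroup.of 2 * (FreeGroup.of (1 : Fin 3))⁻¹,
        (FreeGroup.of (0 : Fin 3) * FreeGroup.of 1) ^ 2 * (FreeGroup.of (2 : Fin 3))⁻¹} : Set (FreeGroup (Fin 3)))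
      ≃* Matrix.SpecialLinearGroup (Fin 2) (ZMod 5)) := by
  refine ⟨fun G _ _ hG hns hP => ?_, ?_⟩
  · have : Fact (Nat.Prime 2) := ⟨Nat.prime_two⟩
    have sol : ∀ {H : Type _} [Group H] [Finite H] (N : Subgroup H) [N.Normal], Nat.card N < 60 →
        N.index < 60 → Group.IsSolvable H := fun {H} _ _ N _ h1 h2 => by
      have := H93.S2B.solvable_of_card_lt _ N rfl h1
      have := H93.S2B.solvable_of_card_lt _ (H ⧸ N) rfl h2
      exact Group.isSolvable_of_ker_le_range N.subtype (QuotientGroup.mk' N) (by simp)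
    obtain ⟨P⟩ : Nonempty (Sylow 2 G) := inferInstance
    obtain ⟨e⟩ := hP P
    have hZ : Nat.card (Subgroup.center G) = 2 := Cfsg.Agent.S0201.result P 0 e fun N _ hN => by
      by_contra h1
      have h2 := N.card_mul_index
      have h3 : 1 < Nat.card N := (Subgroup.one_lt_card_iff_ne_bot N).2 h1
      obtain ⟨k, hk⟩ := hN
      rw [hG] at h2
      refine hns (sol N ?_ ?_)
      · by_contra h
        have h4 : N.index ≤ 2 := by nlinarith
        have h5 : N.index ≠ 0 := Subgroup.index_ne_zero_of_finite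
        interval_cases N.index <;> omega
      · have h4 : 3 ≤ Nat.card N := by omega
        nlinarith
    have h60 : Nat.card (G ⧸ Subgroup.center G) = 60 := by
      have := (Subgroup.center G).card_mul_index
      rw [hZ, hG] at this
      show (Subgroup.center G).index = 60
      omega
    have hns' : ¬ Group.IsSolvable (G ⧸ Subgroup.center G) := fun h => by
      have := H93.S2B.solvable_of_card_lt _ (Subgroup.center G) rfl (by omega)
      exact hns (Group.isSolvable_of_ker_le_range (Subgroup.center G).subtype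
        (QuotientGroup.mk' (Subgroup.center G)) (by simp))
    have : Nontrivial (G ⧸ Subgroup.center G) := Finite.one_lt_card_iff_nontrivial.1 (by omega)
    have : IsSimpleGroup (G ⧸ Subgroup.center G) := ⟨fun N _ => by
      by_contra h
      push Not at h
      have h2 := N.card_mul_index
      have h3 : 1 < Nat.card N := (Subgroup.one_lt_card_iff_ne_bot N).2 h.1
      have h4 : 1 < N.index := Subgroup.one_lt_index_of_ne_top h.2
      rw [h60] at h2
      exact hns' (sol N (by nlinarith) (by nlinarith))⟩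
    obtain ⟨f⟩ := Cfsg.Agent.S0494.result h60
    obtain ⟨z, hz1, hz⟩ := (Nat.card_eq_two_iff' (1 : Subgroup.center G)).1 hZ
    have hz2 : (z : G) ^ 2 = 1 := by
      have := pow_card_eq_one' (x := z)
      rw [hZ] at this
      exact congrArg Subtype.val this
    have hzc := Subgroup.mem_center_iff.1 z.2
    let π : G →* alternatingGroup (Fin 5) := f.toMonoidHom.comp (QuotientGroup.mk' _)
    have hπ : Function.Surjective π := f.surjective.comp (QuotientGroup.mk'_surjective _)
    have hk : ∀ g, π g = 1 → g = 1 ∨ g = z := fun g hg => by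
      have h1 : g ∈ Subgroup.center G := (QuotientGroup.eq_one_iff g).1 (f.map_eq_one_iff.1 hg)
      exact or_iff_not_imp_left.2 fun h => congrArg Subtype.val (hz ⟨g, h1⟩ fun e => h (congrArg Subtype.val e))
    have lift : ∀ (a : alternatingGroup (Fin 5)) (k : ℕ), a ^ (2 * k + 1) = 1 →
        ∃ x, π x = a ∧ x ^ (2 * k + 1) = 1 := fun a k ha => by
      obtain ⟨x, rfl⟩ := hπ a
      rcases hk _ ((map_pow π x _).trans ha) with h | h
      · exact ⟨x, rfl, h⟩
      · refine ⟨x * z, ?_, ?_⟩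
        · rw [map_mul, show π z = 1 from f.map_eq_one_iff.2 ((QuotientGroup.eq_one_iff _).2 z.2),
            mul_one]
        · rw [Commute.mul_pow (hzc x), h, ← pow_succ', show 2 * k + 1 + 1 = 2 * (k + 1) by ring,
            pow_mul, hz2, one_pow]
    obtain ⟨x, hx, hx3⟩ := lift ⟨Equiv.swap 0 1 * Equiv.swap 1 2,
      Equiv.Perm.mem_alternatingGroup.2 (by decide)⟩ 1 (Subtype.ext (by decide +kernel))
    obtain ⟨y, hy, hy5⟩ := lift ⟨Equiv.swap 0 3 * Equiv.swap 3 2 * Equiv.swap 2 4 * Equiv.swap 4 1,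
      Equiv.Perm.mem_alternatingGroup.2 (by decide)⟩ 2 (Subtype.ext (by decide +kernel))
    have h1 : (x * y) ^ 2 = z := by
      refine (hk _ (by rw [map_pow, map_mul, hx, hy]; exact Subtype.ext (by decide +kernel))).resolve_left fun h => ?_
      have key : ∀ t : G, t ^ 2 = 1 → ∀ g : G, g * t * g⁻¹ ∈ (P : Subgroup G) →
          g * t * g⁻¹ = 1 ∨ g * t * g⁻¹ = e.symm (QuaternionGroup.a 2) := fun t ht g hg => by
        have h2 : (e ⟨_, hg⟩) ^ 2 = 1 := by
          rw [← map_pow, ← map_one e]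
          exact congrArg e (Subtype.ext (by simp [conj_pow, ht]))
        have h3 : ∀ q : QuaternionGroup 2, q ^ 2 = 1 → q = 1 ∨ q = QuaternionGroup.a 2 := by decide
        exact (h3 _ h2).imp (fun h => congrArg Subtype.val (e.map_eq_one_iff.1 h))
          fun h => congrArg Subtype.val (e.eq_symm_apply.2 h)
      have ex : ∀ t : G, t ^ 2 = 1 → ∃ g : G, g * t * g⁻¹ ∈ (P : Subgroup G) := fun t ht => by
        obtain ⟨Q, hQ⟩ := (H98.isPGroup_zpowers (p := 2) (k := 1) (x := t) ht).exists_le_sylow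
        obtain ⟨g, hg⟩ := MulAction.exists_smul_eq G Q P
        exact ⟨g, hg ▸ Subgroup.smul_mem_pointwise_smul _ (MulAut.conj g) _ (hQ (Subgroup.mem_zpowers t))⟩
      obtain ⟨g, hg⟩ := ex _ h
      obtain ⟨g', hg'⟩ := ex _ hz2
      have h2 := key _ hz2 g' hg'
      rw [hzc g', mul_inv_cancel_right] at h2
      have h3 : π (x * y) ≠ 1 := by rw [map_mul, hx, hy, Ne, Subtype.ext_iff]; decide +kernel
      have h4 : π (g * (x * y) * g⁻¹) ≠ 1 := by simpa using h3
      rcases key _ h g hg with h5 | h5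
      · exact h4 (by rw [h5, map_one])
      · rw [h5, ← h2.resolve_left fun e => hz1 (Subtype.ext e)] at h4
        exact h4 (f.map_eq_one_iff.2 ((QuotientGroup.eq_one_iff _).2 z.2))
    obtain ⟨φ, -, -, h3⟩ := H90.exists_hom_SL5 hx3 hy5 hz2 (by rw [mul_assoc, hzc]; simp)
      (by rw [mul_assoc, hzc]; simp) h1
    have hφ := H90.injective_of_SL5 φ (by rw [h3]; exact fun e => hz1 (Subtype.ext e))
    exact ⟨(MulEquiv.ofBijective φ ((Nat.bijective_iff_injective_and_card φ).2
      ⟨hφ, by rw [H90.card_SL5, hG]⟩)).symm⟩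
  · set rels : Set (FreeGroup (Fin 3)) := {FreeGroup.of (0 : Fin 3) ^ 3, FreeGroup.of (1 : Fin 3) ^ 5, FreeGroup.of (2 : Fin 3) ^ 2,
        (FreeGroup.of (2 : Fin 3))⁻¹ * FreeGroup.of 0 * FreeGroup.of 2 * (FreeGroup.of (0 : Fin 3))⁻¹,
        (FreeGroup.of (2 : Fin 3))⁻¹ * FreeGroup.of 1 * FreeGroup.of 2 * (FreeGroup.of (1 : Fin 3))⁻¹,
        (FreeGroup.of (0 : Fin 3) * FreeGroup.of 1) ^ 2 * (FreeGroup.of (2 : Fin 3))⁻¹} with hrels
    have hr : ∀ r ∈ rels, PresentedGroup.mk rels r = 1 := fun r hr => PresentedGroup.one_of_mem hr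
    simp only [hrels, Set.mem_insert_iff, Set.mem_singleton_iff, forall_eq_or_imp, forall_eq,
      map_pow, map_mul, map_inv, mul_inv_eq_one] at hr
    obtain ⟨φ, h1, h2, h3⟩ := H90.exists_hom_SL5 hr.1 hr.2.1 hr.2.2.1 hr.2.2.2.1 hr.2.2.2.2.1
      hr.2.2.2.2.2
    have hφ : Function.Surjective φ := by
      rw [← MonoidHom.range_eq_top, eq_top_iff, ← PresentedGroup.closure_range_of, Subgroup.closure_le]
      rintro _ ⟨i, rfl⟩
      fin_cases i
      exacts [⟨_, h1⟩, ⟨_, h2⟩, ⟨_, h3⟩]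
    let θ : PresentedGroup rels →* H90.SL5 :=
      PresentedGroup.toGroup (f := ![H90.m3, H11.uMat 1, -1]) (by
        simp only [hrels, Set.mem_insert_iff, Set.mem_singleton_iff, forall_eq_or_imp, forall_eq,
          map_pow, map_mul, map_inv, FreeGroup.lift_apply_of]
        decide)
    have hinj := H90.injective_of_SL5 φ fun e => by
      have h4 : θ (φ (-1)) = -1 := by rw [h3]; exact PresentedGroup.toGroup.of _
      rw [e, map_one] at h4
      exact absurd h4 (by decide)
    exact ⟨(MulEquiv.ofBijective φ ⟨hinj, hφ⟩).symm⟩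

end Cfsg.Agent.S3378
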