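import Cfsg.Statements.S3399
import Cfsg.Agent.H42.PnMain
import Cfsg.Agent.H99.PnSq1
import Cfsg.Agent.H4.PnQuo
import Cfsg.Agent.H87.PnFro
import Cfsg.Agent.H15.PNFour
import Cfsg.Agent.H88.PBoch
import Cfsg.Agent.H1.PnOrb
import Cfsg.Agent.H8.PnHalf
import Cfsg.Agent.H78.PnFin2
import Cfsg.Agent.H45.PnFis
import Cfsg.Agent.H98.PnFin1
import Cfsg.Agent.H69.PnElt
import Cfsg.Agent.H83.PNPA
import Cfsg.Agent.H95.PnAlt
import Cfsg.Agent.H94.PNClq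
import Cfsg.Agent.H44.PNa
import Cfsg.Agent.H73.PnNS
import Cfsg.Agent.H14.PnAdj
import Cfsg.Agent.H72.PnEz
import Cfsg.Agent.H57.PNPC
import Cfsg.Agent.H84.PnSq2
import Cfsg.Agent.H21.PnPB

set_option autoImplicit false
open Cfsg

namespace Cfsg.Agent.S3399

/-- Let G be a transitive permutation group of finite degree n and K a nontrivial subgroup of G that is pronormal in G (K and gKg⁻¹ are conjugate inside ⟨K, gKg⁻¹⟩ for every g ∈ G). If K fixes exactly f points, then f ≤ (n − 1)/2, that is, 2f + 1 ≤ n. -/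
theorem result (n : ℕ) (G : Subgroup (Equiv.Perm (Fin n)))
    (htrans : ∀ a b : Fin n, ∃ g ∈ G, g a = b)
    (K : Subgroup (Equiv.Perm (Fin n))) (hKG : K ≤ G) (hK : K ≠ ⊥)
    (hpro : ∀ g ∈ G, ∃ w ∈ K ⊔ K.map (MulAut.conj g).toMonoidHom,
      K.map (MulAut.conj w).toMonoidHom = K.map (MulAut.conj g).toMonoidHom) :
    2 * Nat.card {a : Fin n // ∀ k ∈ K, k a = a} + 1 ≤ n := by
  have all1 := H94.PN.jobAll1 H94.PN.jobClq
  have tw := H44.PN.jobTw all1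
  exact H42.PN.main H1.PnOrb.jobOrb H4.PnQuo.jobQuo (H44.PN.jobThr tw)
    (H15.PN.jobFour tw all1 H99.PnSq1.jobSq1 (H84.PnSq2.jobSq2 H8.PnHalf.jobHalf)
      (H83.PNPA.jobPA H94.PN.jobClq) H21.PnPB.jobPB H57.PNPC.jobPC)
    H88.PB.jobDeg (H1.PnOrb.jobDegN H88.PB.jobDeg) H84.PnSq2.jobNoAlt
    (H14.PnAdj.jobAdj (H45.PN.jobPt H45.PN.jobFis)) (H73.PnNS.jobFai H73.PnNS.jobNS)
    H87.PnFro.jobFro (H72.PnEz.jobEz H73.PnNS.jobNS) H95.PN.jobAlt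
    (H69.PN.jobElt (H8.PnHalf.jobCon H8.PnHalf.jobHalf)) (H98.PnFin1.jobFin1 H69.PN.jobIx2)
    H78.PN.jobFin2 n G htrans K hKG hK hpro

end Cfsg.Agent.S3399
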