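import Cfsg.Statements.S3404
import Cfsg.Agent.H11.FBTop
import Cfsg.Agent.H10.FbN2
import Cfsg.Agent.H11.FBFR
import Cfsg.Agent.H13.FBA1
import Cfsg.Agent.H15.FBB7
import Cfsg.Agent.H22.FbS3
import Cfsg.Agent.H25.FbOD
import Cfsg.Agent.H26.FBAL1
import Cfsg.Agent.H29.FBCH
import Cfsg.Agent.H3.FBB0
import Cfsg.Agent.H30.FBPH1
import Cfsg.Agent.H31.FBONc
import Cfsg.Agent.H32.FBTS1
import Cfsg.Agent.H33.FbST
import Cfsg.Agent.H37.FbSV
import Cfsg.Agent.H38.FBAl2a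
import Cfsg.Agent.H39.FBFI
import Cfsg.Agent.H40.FBSM
import Cfsg.Agent.H41.FbJ6
import Cfsg.Agent.H43.FBRG
import Cfsg.Agent.H44.FBJ4
import Cfsg.Agent.H45.FBA12
import Cfsg.Agent.H49.FbNO
import Cfsg.Agent.H5.FBTH1
import Cfsg.Agent.H51.FbONd
import Cfsg.Agent.H59.FBAL2b
import Cfsg.Agent.H62.FBONa
import Cfsg.Agent.H64.FbQ2
import Cfsg.Agent.H66.FBTS2
import Cfsg.Agent.H67.FbTH2
import Cfsg.Agent.H69.FBB1
import Cfsg.Agent.H7.FbB2a
import Cfsg.Agent.H72.FbEV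
import Cfsg.Agent.H73.FbP4
import Cfsg.Agent.H74.FbBU
import Cfsg.Agent.H76.FBONb
import Cfsg.Agent.H77.FbJ5
import Cfsg.Agent.H79.FbFP
import Cfsg.Agent.H8.FBFA
import Cfsg.Agent.H80.FBB2c
import Cfsg.Agent.H81.FBN3
import Cfsg.Agent.H83.FBA2
import Cfsg.Agent.H87.FbCD
import Cfsg.Agent.H88.FBON3
import Cfsg.Agent.H89.FBTW
import Cfsg.Agent.H9.FBOR
import Cfsg.Agent.H91.FBB2b
import Cfsg.Agent.H92.FbN3a
import Cfsg.Agent.H93.FbAP
import Cfsg.Agent.H94.FBJ11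
import Cfsg.Agent.H95.FbH3
import Cfsg.Agent.H98.FbTQ
import Cfsg.Agent.H99.FBFH
-- import your own Cfsg.Agent.* helpers here

set_option autoImplicit false
open Cfsg

namespace Cfsg.Agent.S3404

/-- Let G be a four-fold transitive permutation group on a finite set in which the stabilizer of four points is a Frobenius group (it has a nontrivial proper subgroup H with H ∩ gHg⁻¹ = 1 for every element g outside H). Then G is isomorphic to the symmetric group of degree 7, the alternating group of degree 8, or the Mathieu group M₂₃. -/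
theorem result {G : Type*} [Group G] [Finite G] {Ω : Type*} [Fintype Ω] [MulAction G Ω] [FaithfulSMul G Ω]
    (h4 : MulAction.IsMultiplyPretransitive G Ω 4) (a b c d : Ω) (hab : a ≠ b) (hac : a ≠ c) (had : a ≠ d)
    (hbc : b ≠ c) (hbd : b ≠ d) (hcd : c ≠ d)
    (hF : ∃ H : Subgroup ↥(MulAction.stabilizer G a ⊓ MulAction.stabilizer G b ⊓ MulAction.stabilizer G c ⊓ MulAction.stabilizer G d),
      Cfsg.IsFrobeniusComplement H) :
    Nonempty (G ≃* Equiv.Perm (Fin 7)) ∨ Nonempty (G ≃* ↥(alternatingGroup (Fin 8))) ∨ Cfsg.Spor.IsoM23 G := by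
  exact H11.FB.main
    { FR := H11.FB.jobFR
      CD := H87.FbCD.jobCD
      FA := H8.FBFA.jobFA
      FH := H99.FBFH.jobFH
      FP := H79.FbFP.jobFP
      OD := H25.FbOD.jobOD
      OR := H9.FBOR.jobOR
      RG := H43.FBRG.jobRG
      Q2 := H64.FbQ2.jobQ2
      SM := H40.FBSM.jobSM
      A12 := H45.FBA.jobA12
      A1 := H13.FBA1.jobA1
      A2 := H83.FB.jobA2
      TW := H89.FBTW.jobTW
      TS1 := H32.FBT.jobTS1
      TS2 := H66.FBTS2.jobTS2
      TH1 := H5.FBTH1.jobTH1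
      TH2 := H67.FbTH2.jobTH2
      PH1 := H30.FB.jobPH1
      ST := H33.FbST.jobST
      P4 := H73.FbP.jobP4
      BU := H74.FbBU.jobBU
      SV := H37.FbSV.jobSV
      EV := H72.FbEV.jobEV
      FI := H39.FBFI.jobFI
      TQ := H98.FbTQ.jobTQ
      NO := H49.FbNO.jobNO
      ONa := H62.FB.jobONa
      ONb := H76.FBONb.jobONb
      ONc := H31.FBONc.jobONc
      ONd := H51.FbONd.jobONd
      ON3 := H88.FBON3.jobON3
      N2 := H10.FbN2.jobN2
      N3a := H92.FbN3a.jobN3a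
      N3 := H81.FBN3.jobN3
      B7 := H15.FBB7.jobB7
      H3 := H95.FbH3.jobH3
      B0 := H3.FBB0.jobB0
      B2a := H7.FbB2a.jobB2a
      B2b := H91.FBB2b.jobB2b
      B2c := H80.FBB2c.jobB2c
      B1 := H69.FBB1.jobB1
      CH := H29.FBCH.jobCH
      AL1 := H26.FB.jobAL1
      AL2a := H38.FBA.jobAL2a
      AL2b := H59.FBAL2b.jobAL2b
      AP := H93.FbAP.jobAP
      S3 := H22.Fb.jobS3
      J4 := H44.FBJ4.jobJ4
      J11 := H94.FB.jobJ11
      J6 := H41.FbJ6.jobJ6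
      J5 := H77.FbJ5.jobJ5 }
    h4 a b c d ⟨hab, hac, had, hbc, hbd, hcd⟩ hF

end Cfsg.Agent.S3404
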