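import Cfsg.Statements.S3421
import Cfsg.Agent.Base
import Cfsg.Agent.H70.L2Rec
import Cfsg.Agent.H61.PSLMax

set_option autoImplicit false
open Cfsg

namespace Cfsg.Agent.S3421

/-- Let F be a finite field with more than 3 elements. A finite group G is isomorphic to PSL(2, F) if and only if G has the same set of element orders and the same order as PSL(2, F). -/
theorem result {G : Type*} [Group G] [Finite G] {F : Type*} [Field F] [Fintype F] (hF : 3 < Fintype.card F) :
    Nonempty (G ≃* Matrix.ProjectiveSpecialLinearGroup (Fin 2) F) ↔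
      (Set.range (orderOf : G → ℕ) = Set.range (orderOf : Matrix.ProjectiveSpecialLinearGroup (Fin 2) F → ℕ) ∧
        Nat.card G = Nat.card (Matrix.ProjectiveSpecialLinearGroup (Fin 2) F)) := by
  refine ⟨fun ⟨e⟩ => ⟨?_, Nat.card_congr e.toEquiv⟩, fun ⟨h, hc⟩ => ?_⟩
  · ext n
    exact ⟨fun ⟨g, hg⟩ => ⟨e g, (e.orderOf_eq g).trans hg⟩,
      fun ⟨g, hg⟩ => ⟨e.symm g, (e.symm.orderOf_eq g).trans hg⟩⟩
  obtain ⟨p, hp, hch⟩ := H61.exists_char F
  obtain ⟨y, m⟩ := H61.main_psl (F := F) p
  generalize (Nat.card F - 1) / Nat.gcd 2 (Nat.card F - 1) = d at m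
  generalize (Nat.card F + 1) / Nat.gcd 2 (Nat.card F - 1) = n at m
  have h1 := H61.psl_params m
  obtain ⟨k, -, hk⟩ := FiniteField.card F p
  have pq : p ∣ Fintype.card F := hk ▸ dvd_pow_self p k.pos.ne'
  rw [Nat.card_eq_fintype_card] at h1
  have h2 : ∀ g : G, orderOf g ∣ p ∨ orderOf g ∣ d ∨ orderOf g ∣ n := fun g => by
    obtain ⟨x, hx⟩ : orderOf g ∈ Set.range (orderOf : Matrix.ProjectiveSpecialLinearGroup (Fin 2) F → ℕ) :=
      h ▸ ⟨g, rfl⟩
    rw [← hx]
    open H61 in exact (m.orderOf_cases x).imp_left orderOf_dvd_of_pow_eq_one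
  generalize hq : Fintype.card F = q at h1 pq
  have cd : d.Coprime q := by
    rcases h1 with ⟨-, e, -⟩ | ⟨-, e, -⟩ <;> rw [← e] <;> simp
  have cn : n.Coprime q := by
    have : (q + 1).Coprime q := by simp
    rcases h1 with ⟨-, -, e⟩ | ⟨-, -, e⟩
    · exact e ▸ this
    · exact this.coprime_dvd_left (Dvd.intro_left _ e)
  refine H70.L2.core hF hc (fun g => ?_) fun h4 g he => ?_
  · rw [hq]
    rcases h2 g with e | e | e
    exacts [Or.inl (e.trans pq), Or.inr (cd.coprime_dvd_left e), Or.inr (cn.coprime_dvd_left e)]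
  · rw [hq] at h4 ⊢
    obtain ⟨-, e1, e2⟩ := h1.resolve_left fun e => by have := Nat.even_iff.1 e.1; omega
    rcases h2 g with e | e | e
    · have := he.two_dvd.trans (e.trans pq); omega
    · have := he.two_dvd.trans e; omega
    · exact e.trans (Dvd.intro_left _ e2)

end Cfsg.Agent.S3421
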