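import Cfsg.Statements.S3995
import Cfsg.Agent.Base
import Cfsg.Agent.H18.OrdCnt
import Cfsg.Agent.H3.NormalRankOne

set_option autoImplicit false
open Cfsg

namespace Cfsg.Agent.S3995

open H18.OC Finset

section
variable {G : Type*} [Group G] [Finite G]

theorem good {n : ℕ} (hs3 : ∀ m, 3 ≤ m → s G m = 0 ∨ s G m = n) {p : ℕ} (hp : p.Prime)
    (hd : p ∣ Nat.card G) (hsp : s G p = n) {k : ℕ} (hk : p ^ k ∣ Nat.card G) : p ^ k ∣ 1 + n := by
  have k1 := key1 hp hd
  rw [hsp] at k1
  have hpn : ¬ p ∣ n := fun h => hp.not_dvd_one ((Nat.dvd_add_left h).1 k1)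
  rcases k with _ | a
  · simp
  have h4 := Cfsg.Agent.S3993.result (G := G) _ hk
  rw [← sum_s (pow_ne_zero _ hp.ne_zero), Nat.sum_divisors_prime_pow hp, sum_range_succ',
    sum_range_succ', pow_zero, s_one, zero_add, pow_one, hsp, sum_eq_zero] at h4
  · simpa [add_comm] using h4
  · intro i _
    have h5 : p ∣ s G (p ^ (i + 1 + 1)) := dvd_of_sq hp ⟨p ^ i, by ring⟩
    have h6 : 3 ≤ p ^ (i + 1 + 1) := by
      have h7 : 2 ^ 2 ≤ p ^ (i + 1 + 1) :=
        (Nat.pow_le_pow_left hp.two_le 2).trans (Nat.pow_le_pow_right hp.pos (by omega))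
      omega
    rcases hs3 _ h6 with h | h
    · exact h
    · exact absurd (h ▸ h5) hpn

theorem dvd_of_s {m : ℕ} (h : s G m ≠ 0) : m ∣ Nat.card G := by
  obtain ⟨g, rfl⟩ := s_ne_zero_iff.1 h
  exact orderOf_dvd_natCard g

theorem sum_le (T : Finset ℕ) (hT : ∀ m ∈ T, s G m ≠ 0) : ∑ m ∈ T, s G m ≤ Nat.card G := by
  have h1 := sum_s (G := G) (n := Nat.card G) Nat.card_pos.ne'
  refine le_trans (sum_le_sum_of_subset (t := (Nat.card G).divisors) fun m hm =>
    Nat.mem_divisors.2 ⟨dvd_of_s (hT m hm), Nat.card_pos.ne'⟩) ?_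
  rw [h1]
  exact Finite.card_subtype_le _

end

/-- Let G be a finite group such that the numbers of elements of each order that occurs in G (the numbers #{g : o(g) = m}, m ranging over the element orders of G) take exactly two values, 1 and some n ≠ 1. Then either G is a p-group of exponent p and order at least 3 for some prime p, or G is the quaternion group of order 8, or G is cyclic of order 4, or G ≅ Z₂ × P for a p-group P of exponent p with p an odd prime. -/
theorem result {G : Type*} [Group G] [Finite G] (n : ℕ) (hn : n ≠ 1) (h : ((fun m : ℕ => Nat.card {g : G // orderOf g = m}) '' Set.range (orderOf : G → ℕ)) = {1, n}) :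
    (∃ p : ℕ, p.Prime ∧ IsPGroup p G ∧ 3 ≤ Nat.card G ∧ Monoid.exponent G = p) ∨
      Nonempty (G ≃* QuaternionGroup 2) ∨ (IsCyclic G ∧ Nat.card G = 4) ∨
      (∃ (p : ℕ) (P : Type) (_ : Group P) (_ : Finite P), p.Prime ∧ p ≠ 2 ∧ IsPGroup p P ∧ Monoid.exponent P = p ∧
        Nonempty (G ≃* Multiplicative (ZMod 2) × P)) := by
  classical
  have hs : ∀ m, s G m = 0 ∨ s G m = 1 ∨ s G m = n := by
    intro m
    by_cases h0 : s G m = 0
    · exact Or.inl h0
    · obtain ⟨g, hg⟩ := s_ne_zero_iff.1 h0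
      have : s G m ∈ ({1, n} : Set ℕ) := by rw [← h]; exact ⟨m, ⟨g, hg⟩, rfl⟩
      exact Or.inr (by simpa using this)
  obtain ⟨m0, hm0, hm0'⟩ : ∃ m0, s G m0 = n ∧ s G m0 ≠ 0 := by
    have : n ∈ ({1, n} : Set ℕ) := by simp
    rw [← h] at this
    obtain ⟨m, ⟨g, hg⟩, hm⟩ := this
    exact ⟨m, hm, s_ne_zero_iff.2 ⟨g, hg⟩⟩
  have hn0 : n ≠ 0 := hm0 ▸ hm0'
  have hm1 : m0 ≠ 1 := by rintro rfl; exact hn (hm0.symm.trans s_one)
  have hs3 : ∀ m, 3 ≤ m → s G m = 0 ∨ s G m = n := by
    intro m hm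
    rcases hs m with h | h | h
    · exact Or.inl h
    · have h1 := totient_dvd (G := G) m
      rw [h, Nat.dvd_one, Nat.totient_eq_one_iff] at h1
      omega
    · exact Or.inr h
  have hs0 : ∀ m, s G m ≠ 0 → m ≠ 0 := fun m hm =>
    ne_zero_of_dvd_ne_zero Nat.card_pos.ne' (dvd_of_s hm)
  have hodd : ∀ p : ℕ, p.Prime → p ≠ 2 → p ∣ Nat.card G → s G p = n := fun p hp h2 hd =>
    (hs3 p (by have := hp.two_le; omega)).resolve_left (s_prime_ne hp hd)
  by_cases h2 : s G 2 = 1
  swap
  · left
    have hall : ∀ m, m ≠ 1 → s G m ≠ 0 → s G m = n := by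
      intro m h1 h0
      by_cases hm2 : m = 2
      · subst hm2
        exact ((hs 2).resolve_left h0).resolve_left h2
      · exact (hs3 m (by have := hs0 m h0; omega)).resolve_left h0
    have hN : Nat.card G ∣ 1 + n := by
      rw [Nat.dvd_iff_prime_pow_dvd_dvd]
      intro p k hp hk
      rcases k with _ | k
      · simp
      have hd : p ∣ Nat.card G := (dvd_pow_self p k.succ_ne_zero).trans hk
      exact good hs3 hp hd (hall p hp.one_lt.ne' (s_prime_ne hp hd)) hk
    have hle := Nat.le_of_dvd (by omega) hN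
    have hord : ∀ m, s G m ≠ 0 → m = 1 ∨ m = m0 := by
      intro m hm
      by_contra hc
      push Not at hc
      have := sum_le (G := G) {1, m0, m} (by
        intro x hx
        simp only [mem_insert, mem_singleton] at hx
        rcases hx with rfl | rfl | rfl
        · rw [s_one]; exact one_ne_zero
        · exact hm0'
        · exact hm)
      rw [sum_insert (by simp [hm1.symm, hc.1.symm]), sum_pair hc.2.symm, s_one, hm0,
        hall m hc.1 hm] at this
      omega
    have hp : m0.Prime := by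
      have hq := Nat.minFac_prime hm1
      rcases hord _ (s_prime_ne hq ((Nat.minFac_dvd m0).trans (dvd_of_s hm0'))) with h | h
      · exact absurd h hq.one_lt.ne'
      · exact h ▸ hq
    have h3 : 3 ≤ Nat.card G := by
      have := sum_le (G := G) {1, m0} (by
        intro x hx
        simp only [mem_insert, mem_singleton] at hx
        rcases hx with rfl | rfl
        · rw [s_one]; exact one_ne_zero
        · exact hm0')
      rw [sum_pair hm1.symm, s_one, hm0] at this
      omega
    have : Nontrivial G := Finite.one_lt_card_iff_nontrivial.1 (by omega)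
    have hg : ∀ g : G, g ≠ 1 → orderOf g = m0 := fun g hg =>
      (hord _ (s_ne_zero_iff.2 ⟨g, rfl⟩)).resolve_left (by rwa [orderOf_eq_one_iff])
    refine ⟨m0, hp, fun g => ⟨1, ?_⟩, h3, (Monoid.exponent_eq_prime_iff hp).2 hg⟩
    by_cases h1 : g = 1
    · rw [h1, one_pow]
    · rw [pow_one, ← hg g h1, pow_orderOf_eq_one]
  right
  obtain ⟨⟨z, hz⟩, hzu⟩ := Nat.card_eq_one_iff_exists.1 h2
  have hzu' : ∀ y : G, orderOf y = 2 → y = z := fun y hy => congrArg Subtype.val (hzu ⟨y, hy⟩)
  have h2N : 2 ∣ Nat.card G := hz ▸ orderOf_dvd_natCard z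
  by_cases h4 : 4 ∣ Nat.card G
  · have e4 := Cfsg.Agent.S3993.result (G := G) _ h4
    rw [← sum_s (by norm_num), show Nat.divisors 4 = {1, 2, 4} by decide,
      sum_insert (by decide), sum_pair (by decide), s_one, h2] at e4
    have hs4 : s G 4 = n := (hs3 4 (by norm_num)).resolve_left (by
      intro h; rw [h] at e4; omega)
    rw [hs4] at e4
    have hz4 : ∀ m, 3 ≤ m → 4 ∣ m.totient → s G m = 0 := fun m hm h4 =>
      (hs3 m hm).resolve_right fun h => by
        have := h4.trans (totient_dvd (G := G) m)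
        rw [h] at this
        omega
    have hP : IsPGroup 2 G := by
      rw [IsPGroup.iff_card]
      refine ⟨_, Nat.eq_prime_pow_of_unique_prime_dvd Nat.card_pos.ne' (fun {p} hp hd => ?_)⟩
      by_contra hp2
      have hpo := hp.eq_two_or_odd'.resolve_left hp2
      have hc : p.Coprime 4 := by
        rw [show 4 = 2 ^ 2 from rfl]
        exact Nat.Coprime.pow_right _ ((Nat.coprime_primes hp Nat.prime_two).2 hp2)
      have k1 := key1 hp hd
      have k2 := key (G := G) hp 4 (hp.coprime_iff_not_dvd.1 hc)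
        (hc.mul_dvd_of_dvd_of_dvd hd h4)
      rw [hodd p hp hp2 hd] at k1
      rw [hs4, hz4 (p * 4) (by have := hp.two_le; omega) (by
        rw [Nat.totient_mul hc, Nat.totient_prime hp, show Nat.totient 4 = 2 by decide]
        obtain ⟨k, hk⟩ := hpo
        exact ⟨k, by rw [hk, Nat.add_sub_cancel]; ring⟩), add_zero] at k2
      exact hp.not_dvd_one ((Nat.dvd_add_left k2).1 k1)
    have h8 : ∀ g : G, ¬ 8 ∣ orderOf g := fun g hg =>
      s_ne_zero_iff.2 ⟨g, rfl⟩ (s_eq_zero_of_dvd (hz4 8 (by norm_num) (by decide)) hg)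
    have hu : ∀ H : Subgroup G, Nat.card H = 2 → H = Subgroup.zpowers z := by
      intro H hH
      obtain ⟨y, hy⟩ := exists_prime_orderOf_dvd_card' (G := H) 2 (by rw [hH])
      have h1 := hzu' y (by rw [Subgroup.orderOf_coe, hy])
      symm
      apply Subgroup.eq_of_le_of_card_ge (Subgroup.zpowers_le.2 (h1 ▸ y.2))
      rw [hH, Nat.card_zpowers, hz]
    rcases H3.isCyclic_or_quaternion_of_unique hP (fun H K hH hK => by rw [hu H hH, hu K hK]) with
      hc | ⟨-, k, ⟨e⟩⟩
    · right; left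
      refine ⟨hc, ?_⟩
      obtain ⟨g, hg⟩ := IsCyclic.exists_ofOrder_eq_natCard (α := G)
      have h9 := h8 g
      rw [hg] at h9
      obtain ⟨a, ha⟩ := IsPGroup.iff_card.1 hP
      rw [ha] at h9 h4 ⊢
      have h5 : 2 ≤ a := (Nat.pow_dvd_pow_iff_le_right one_lt_two).1 (show 2 ^ 2 ∣ _ from h4)
      have h6 : ¬ 3 ≤ a := fun h => h9 (show 2 ^ 3 ∣ _ from pow_dvd_pow 2 h)
      rw [show a = 2 by omega]; rfl
    · left
      rcases k with _ | k
      · exact ⟨e⟩
      · exfalso
        apply h8 (e.symm (QuaternionGroup.a 1))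
        rw [MulEquiv.orderOf_eq, QuaternionGroup.orderOf_a_one]
        exact ⟨2 ^ k, by ring⟩
  right; right
  obtain ⟨m, hm⟩ := h2N
  have hmo : ¬ 2 ∣ m := fun h => h4 (by omega)
  have hN : m ∣ 1 + n := by
    rw [Nat.dvd_iff_prime_pow_dvd_dvd]
    intro p k hp hk
    rcases k with _ | k
    · simp
    have hd' : p ∣ m := (dvd_pow_self p k.succ_ne_zero).trans hk
    have hd : p ∣ Nat.card G := hm ▸ hd'.mul_left 2
    exact good hs3 hp hd (hodd p hp (by rintro rfl; exact hmo hd') hd) (hm ▸ hk.mul_left 2)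
  have hle := Nat.le_of_dvd (by omega) hN
  have hm1' : m ≠ 1 := by
    rintro rfl
    have h5 := dvd_of_s hm0'
    rw [hm, mul_one, Nat.dvd_prime Nat.prime_two] at h5
    rcases h5 with h5 | h5
    · exact hm1 h5
    · rw [h5, h2] at hm0; exact hn hm0.symm
  obtain ⟨p, hp, hpm⟩ := Nat.exists_prime_and_dvd hm1'
  have hp2 : p ≠ 2 := by rintro rfl; exact hmo hpm
  have hp3 : 3 ≤ p := by have := hp.two_le; omega
  have hd : p ∣ Nat.card G := hm ▸ hpm.mul_left 2
  have hsp := hodd p hp hp2 hd
  have hs2p : s G (p * 2) = n := by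
    have k2 := key (G := G) hp 2 (fun h => hp2 ((Nat.prime_dvd_prime_iff_eq hp Nat.prime_two).1 h))
      (by rw [hm, mul_comm]; exact Nat.mul_dvd_mul_left 2 hpm)
    refine (hs3 _ (by omega)).resolve_left fun h => ?_
    rw [h, h2] at k2
    exact hp.not_dvd_one k2
  have hord : ∀ r, s G r ≠ 0 → r = 1 ∨ r = 2 ∨ r = p ∨ r = p * 2 := by
    intro r hr
    by_contra hc
    push Not at hc
    have := sum_le (G := G) {r, 1, 2, p, p * 2} (by
      intro x hx
      simp only [mem_insert, mem_singleton] at hx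
      rcases hx with rfl | rfl | rfl | rfl | rfl
      · exact hr
      · rw [s_one]; exact one_ne_zero
      · rw [h2]; exact one_ne_zero
      · rw [hsp]; exact hn0
      · rw [hs2p]; exact hn0)
    rw [sum_insert (by simp only [mem_insert, mem_singleton]; omega),
      sum_insert (by simp only [mem_insert, mem_singleton]; omega),
      sum_insert (by simp only [mem_insert, mem_singleton]; omega),
      sum_pair (by omega), s_one, h2, hsp, hs2p] at this
    omega
  have : Fact p.Prime := ⟨hp⟩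
  obtain ⟨P⟩ : Nonempty (Sylow p G) := inferInstance
  have hmp : ∃ a, m = p ^ a := by
    refine ⟨_, Nat.eq_prime_pow_of_unique_prime_dvd (by rintro rfl; simp at hmo) (fun {q} hq hd => ?_)⟩
    rcases hord q (s_prime_ne hq (hm ▸ hd.mul_left 2)) with h | h | h | h
    · exact absurd h hq.one_lt.ne'
    · subst h; exact absurd hd hmo
    · exact h
    · exact absurd (h ▸ hq) (Nat.not_prime_mul hp.one_lt.ne' (by norm_num))
  obtain ⟨a, ha⟩ := hmp
  have hcP : Nat.card P = m := by
    rw [P.card_eq_multiplicity, hm, ha, Nat.factorization_mul two_ne_zero (pow_ne_zero _ hp.ne_zero),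
      hp.factorization_pow, Nat.prime_two.factorization]
    simp [hp2]
  have hcen : ∀ g : G, Commute z g := fun g => by
    have := hzu' (g * z * g⁻¹) (by rw [← hz]; exact (MulAut.conj g).orderOf_eq z)
    exact (mul_inv_eq_iff_eq_mul.1 this).symm
  let φ : Subgroup.zpowers z × (P : Subgroup G) →* G :=
    (Subgroup.zpowers z).subtype.noncommCoprod (P : Subgroup G).subtype (fun u v => by
      obtain ⟨_, k, rfl⟩ := u
      exact (hcen v).zpow_left k)
  have hz2 : Nat.card (Subgroup.zpowers z) = 2 := by rw [Nat.card_zpowers, hz]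
  have hdis : Disjoint (Subgroup.zpowers z) (P : Subgroup G) :=
    IsPGroup.disjoint_of_ne 2 p hp2.symm _ _ (IsPGroup.of_card (n := 1) (by rw [hz2, pow_one]))
      P.isPGroup'
  have hinj : Function.Injective φ := by
    rw [injective_iff_map_eq_one]
    rintro ⟨u, v⟩ huv
    have h5 : (u : G) * v = 1 := huv
    have h6 : (u : G) = 1 := Subgroup.disjoint_def.1 hdis u.2
      (by rw [eq_inv_of_mul_eq_one_left h5]; exact inv_mem v.2)
    rw [h6, one_mul] at h5
    exact Prod.ext (Subtype.ext h6) (Subtype.ext h5)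
  have hbij : Function.Bijective φ :=
    hinj.bijective_of_nat_card_le (by rw [Nat.card_prod, hz2, hcP, hm])
  have e1 : Subgroup.zpowers z ≃* Multiplicative (ZMod 2) :=
    mulEquivOfPrimeCardEq (p := 2) hz2 (by simp)
  have e2 : Shrink.{0} (P : Subgroup G) ≃* (P : Subgroup G) := Shrink.mulEquiv
  have hnt : Nontrivial (P : Subgroup G) := Finite.one_lt_card_iff_nontrivial.1 (by
    rw [hcP]; exact hp.one_lt.trans_le (Nat.le_of_dvd (by omega) hpm))
  refine ⟨p, Shrink.{0} (P : Subgroup G), inferInstance, Finite.of_equiv _ e2.symm.toEquiv, hp, hp2, P.isPGroup'.of_equiv e2.symm, ?_,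
    ⟨(MulEquiv.ofBijective φ hbij).symm.trans (e1.prodCongr e2.symm)⟩⟩
  rw [Monoid.exponent_eq_of_mulEquiv e2, Monoid.exponent_eq_prime_iff hp]
  intro g hg
  have h5 : orderOf g ∣ m := hcP ▸ orderOf_dvd_natCard g
  rcases hord _ (s_ne_zero_iff.2 ⟨(g : G), Subgroup.orderOf_coe g⟩) with h | h | h | h
  · exact absurd (orderOf_eq_one_iff.1 h) hg
  · exact absurd (h ▸ h5) hmo
  · exact h
  · exact absurd ((dvd_mul_left 2 p).trans (h ▸ h5)) hmo

end Cfsg.Agent.S3995
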