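import Cfsg.Statements.S3431
import Cfsg.Agent.Base
import Cfsg.Agent.S3995
import Cfsg.Agent.S0228
import Cfsg.Agent.S0497
import Cfsg.Agent.S0494
import Cfsg.Agent.H30.TICount

set_option autoImplicit false
open Cfsg

namespace Cfsg.Agent.S3431

open H18.OC Finset

section General
variable {G : Type*} [Group G] [Finite G]

theorem FF (m : ℕ) (hm : m ∣ Nat.card G) : m ∣ ∑ d ∈ m.divisors, s G d := by
  rw [sum_s (ne_zero_of_dvd_ne_zero Nat.card_pos.ne' hm)]
  exact Cfsg.Agent.S3993.result m hm

theorem two_dvd {m : ℕ} (h : 3 ≤ m) : 2 ∣ s G m :=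
  (even_iff_two_dvd.1 (Nat.totient_even h)).trans (totient_dvd m)

theorem ne0 {m : ℕ} (h : s G m ≠ 0) : m ≠ 0 :=
  ne_zero_of_dvd_ne_zero Nat.card_pos.ne' (S3995.dvd_of_s h)

theorem L3 {p : ℕ} (hp : p.Prime) (h1 : p ∣ Nat.card G) (h2 : ¬ p ^ 2 ∣ Nat.card G) :
    ∃ k, k ∣ Nat.card G ∧ s G p = (p - 1) * k := by
  classical
  have : Fact p.Prime := ⟨hp⟩
  have := Fintype.ofFinite G
  have := Fintype.ofFinite (Sylow p G)
  have hc : ∀ P : Sylow p G, Nat.card P = p := fun P => by
    have h3 := (hp.pow_dvd_iff_le_factorization (n := Nat.card G) Nat.card_pos.ne' (k := 1)).1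
      (by rwa [pow_one])
    have h4 := mt (hp.pow_dvd_iff_le_factorization (n := Nat.card G) Nat.card_pos.ne' (k := 2)).2 h2
    rw [P.card_eq_multiplicity, show (Nat.card G).factorization p = 1 by omega, pow_one]
  have hz : ∀ (P : Sylow p G) (x : G), orderOf x = p → x ∈ (P : Subgroup G) →
      Subgroup.zpowers x = P := fun P x hx h =>
    Subgroup.eq_of_le_of_card_ge (Subgroup.zpowers_le.2 h) (by rw [hc, Nat.card_zpowers, hx])
  obtain ⟨P0⟩ : Nonempty (Sylow p G) := inferInstance
  refine ⟨Nat.card (Sylow p G), P0.card_dvd_index.trans (Subgroup.index_dvd_card _), ?_⟩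
  have e : (univ.filter fun x : G => orderOf x = p) =
      univ.biUnion fun P : Sylow p G => univ.filter fun x : G => x ∈ (P : Subgroup G) ∧ x ≠ 1 := by
    ext x
    simp only [mem_filter, mem_univ, true_and, mem_biUnion]
    constructor
    · intro hx
      obtain ⟨P, hP⟩ := (IsPGroup.of_card (p := p) (G := Subgroup.zpowers x) (n := 1)
        (by rw [Nat.card_zpowers, hx, pow_one])).exists_le_sylow
      exact ⟨P, hP (Subgroup.mem_zpowers x), by
        rintro rfl; rw [orderOf_one] at hx; exact hp.one_lt.ne hx⟩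
    · rintro ⟨P, h, h1⟩
      have h3 := Subgroup.orderOf_dvd_natCard _ h
      rw [hc] at h3
      exact ((Nat.dvd_prime hp).1 h3).resolve_left (by rwa [orderOf_eq_one_iff])
  rw [s_eq, e, card_biUnion, sum_const_nat (m := p - 1), card_univ, Nat.card_eq_fintype_card,
    mul_comm]
  · intro P _
    have h3 : (univ.filter fun x : G => x ∈ (P : Subgroup G) ∧ x ≠ 1) =
        (univ.filter fun x : G => x ∈ (P : Subgroup G)).erase 1 := by
      ext x; simp [and_comm]
    rw [h3, card_erase_of_mem (by simp), ← Fintype.card_subtype, ← Nat.card_eq_fintype_card, hc]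
  · intro P _ Q _ hPQ
    rw [Function.onFun, disjoint_left]
    intro x hx hx'
    simp only [mem_filter, mem_univ, true_and] at hx hx'
    have h3 := Subgroup.orderOf_dvd_natCard _ hx.1
    rw [hc] at h3
    have h4 := ((Nat.dvd_prime hp).1 h3).resolve_left (by rw [orderOf_eq_one_iff]; exact hx.2)
    exact hPQ (Sylow.ext ((hz P x h4 hx.1).symm.trans (hz Q x h4 hx'.1)))

theorem L4 {p : ℕ} (hp : p.Prime) (h3 : ¬ p ^ 3 ∣ Nat.card G) (h : s G (p ^ 2) ≠ 0) :
    p * s G p ≤ s G (p ^ 2) := by
  have : Fact p.Prime := ⟨hp⟩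
  obtain ⟨x, hx⟩ := s_ne_zero_iff.1 h
  have hr : ∀ y : {g : G // orderOf g = p}, ∃ r : G, r ^ p = y := by
    rintro ⟨y, hy⟩
    obtain ⟨g, hg⟩ := H30.exists_conj_mem_of_not_dvd (k := 1) hp (A := Subgroup.zpowers x)
      (fun hd => h3 (by
        rw [← (Subgroup.zpowers x).card_mul_index, Nat.card_zpowers, hx, pow_succ]
        exact Nat.mul_dvd_mul_left _ hd)) (y := y) (by rw [pow_one, ← hy, pow_orderOf_eq_one])
    obtain ⟨k, hk⟩ := (mem_powers_iff_mem_zpowers.2 hg)
    simp only at hk
    have h1 : x ^ (k * p) = 1 := by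
      rw [pow_mul, hk, conj_pow, ← hy, pow_orderOf_eq_one]; group
    rw [← orderOf_dvd_iff_pow_eq_one, hx, pow_two] at h1
    obtain ⟨l, rfl⟩ := Nat.dvd_of_mul_dvd_mul_right hp.pos h1
    refine ⟨g⁻¹ * x ^ l * g⁻¹⁻¹, ?_⟩
    rw [conj_pow, ← pow_mul, mul_comm l p, hk]; group
  choose r hr using hr
  have hc : ∀ (y : {g : G // orderOf g = p}) (j : ℕ), (r y * (y : G) ^ j) ^ p = y := by
    intro y j
    have : Commute (r y) ((y : G) ^ j) := by
      rw [← hr y]; exact ((Commute.refl _).pow_right _).pow_right _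
    rw [this.mul_pow, hr, ← pow_mul, mul_comm, pow_mul]
    have h1 := pow_orderOf_eq_one (y : G)
    rw [y.2] at h1
    rw [h1, one_pow, mul_one]
  let f : Fin p × {g : G // orderOf g = p} → {g : G // orderOf g = p ^ 2} := fun z =>
    ⟨r z.2 * (z.2 : G) ^ (z.1 : ℕ), orderOf_eq_prime_pow (n := 1)
      (by rw [pow_one, hc]; intro h1; have := z.2.2; rw [h1, orderOf_one] at this
          exact hp.one_lt.ne this)
      (by rw [pow_succ, pow_one, pow_mul, hc]; have h1 := pow_orderOf_eq_one (z.2 : G)
          rwa [z.2.2] at h1)⟩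
  have hf : Function.Injective f := by
    rintro ⟨j, y⟩ ⟨j', y'⟩ e
    have e1 : r y * (y : G) ^ (j : ℕ) = r y' * (y' : G) ^ (j' : ℕ) := congrArg Subtype.val e
    have e2 : y = y' := Subtype.ext (by rw [← hc y j, e1, hc])
    subst e2
    have e3 := pow_injOn_Iio_orderOf (x := (y : G)) (by rw [y.2]; exact j.2) (by rw [y.2]; exact j'.2)
      (mul_left_cancel e1)
    rw [Fin.ext e3]
  have := Nat.card_le_card_of_injective f hf
  simpa [s] using this

theorem dvd_bd {N a b c : ℕ} (hp : ∀ p : ℕ, p.Prime → p ∣ N → p = 2 ∨ p = 3 ∨ p = 5)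
    (h2 : ¬ 2 ^ (a + 1) ∣ N) (h3 : ¬ 3 ^ (b + 1) ∣ N) (h5 : ¬ 5 ^ (c + 1) ∣ N) :
    N ∣ 2 ^ a * 3 ^ b * 5 ^ c := by
  rw [Nat.dvd_iff_prime_pow_dvd_dvd]
  intro p k hpp hk
  rcases k with _ | k
  · simp
  have key : ∀ e, ¬ p ^ (e + 1) ∣ N → p ^ (k + 1) ∣ p ^ e := fun e he =>
    pow_dvd_pow p (by by_contra h; exact he ((pow_dvd_pow p (by omega)).trans hk))
  rcases hp p hpp ((dvd_pow_self p k.succ_ne_zero).trans hk) with rfl | rfl | rfl
  · exact ((key a h2).mul_right _).mul_right _
  · exact ((key b h3).mul_left _).mul_right _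
  · exact (key c h5).mul_left _

theorem s_sub {K : Subgroup G} [K.Normal] {p : ℕ} (hp : p.Prime) (h : ¬ p ∣ K.index) :
    s G p ≤ s K p := by
  have hm : ∀ y : {g : G // orderOf g = p}, (y : G) ∈ K := fun y => by
    obtain ⟨m, hm⟩ := exists_pow_eq_self_of_coprime (x := (y : G)) (n := K.index)
      (by rw [y.2]; exact ((Nat.Prime.coprime_iff_not_dvd hp).2 h).symm)
    rw [← hm]; exact K.pow_mem (K.pow_index_mem _) m
  exact Nat.card_le_card_of_injective
    (fun y : {g : G // orderOf g = p} => (⟨⟨y, hm y⟩, by rw [← Subgroup.orderOf_coe]; exact y.2⟩ :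
      {g : K // orderOf g = p})) (fun a b h => Subtype.ext (congrArg (fun z => z.1.1) h))

theorem five_dvd {K : Subgroup G} [hK : K.Normal] {x : G} (hx : orderOf x = 5) {r : ℕ}
    (hc : ∀ y ∈ K, Commute x y → orderOf y ≠ r) : 5 ∣ s K r := by
  have : Fact (Nat.Prime 5) := ⟨Nat.prime_five⟩
  let _ : MulAction (Subgroup.zpowers x) {g : K // orderOf g = r} :=
    { smul := fun u y => ⟨MulAut.conjNormal (u : G) y.1, by rw [MulEquiv.orderOf_eq]; exact y.2⟩
      one_smul := fun y => Subtype.ext (by change MulAut.conjNormal (1 : G) y.1 = _; simp)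
      mul_smul := fun u v y => Subtype.ext (by
        change MulAut.conjNormal ((u : G) * v) y.1 = _; rw [map_mul]; rfl) }
  have h5 : IsPGroup 5 (Subgroup.zpowers x) :=
    IsPGroup.of_card (n := 1) (by rw [Nat.card_zpowers, hx, pow_one])
  by_contra h
  obtain ⟨y, hy⟩ := h5.nonempty_fixed_point_of_prime_not_dvd_card _ h
  have h1 : x * y.1 * x⁻¹ = y.1 :=
    congrArg (fun z => (z.1 : G)) (hy ⟨x, Subgroup.mem_zpowers x⟩)
  exact hc _ y.1.2 (mul_inv_eq_iff_eq_mul.1 h1) (by rw [Subgroup.orderOf_coe]; exact y.2)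

theorem simple_of {N : ℕ} (hN : Nat.card G = N) (hN' : N = 60 ∨ N = 360) (h10 : s G 10 = 0)
    (h15 : s G 15 = 0) (hs : N < 2 * (1 + s G 3 + s G 5)) (hs5 : N < 3 * (1 + s G 5))
    (hs3 : N < 10 * (1 + s G 3)) : IsSimpleGroup G := by
  have : Nontrivial G := Finite.one_lt_card_iff_nontrivial.1 (by omega)
  refine ⟨fun K hK => ?_⟩
  have hi := K.card_mul_index
  have hpos : 0 < Nat.card K := Nat.card_pos
  have hdv : Nat.card K ∣ N := hN ▸ K.card_subgroup_dvd_card
  have l3 : ¬ 3 ∣ K.index → s G 3 ≠ 0 → 1 + s G 3 ≤ Nat.card K := fun h h0 => by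
    have h1 := s_sub Nat.prime_three h
    have h2 := S3995.sum_le (G := K) {1, 3} (by
      simp only [mem_insert, mem_singleton, forall_eq_or_imp, forall_eq, s_one]; omega)
    rw [sum_pair (by norm_num), s_one] at h2
    omega
  by_cases h5 : 5 ∣ Nat.card K
  · right
    have h6 : ¬ 5 ∣ K.index := fun h => by
      have : 5 * 5 ∣ N := by rw [← hN, ← hi]; exact mul_dvd_mul h5 h
      omega
    have h1 := s_sub Nat.prime_five h6
    have h2 := S3995.sum_le (G := K) {1, 5} (by
      simp only [mem_insert, mem_singleton, forall_eq_or_imp, forall_eq, s_one]; omega)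
    rw [sum_pair (by norm_num), s_one] at h2
    have h7 : K.index < 3 := by
      by_contra h
      have : Nat.card K * 3 ≤ Nat.card K * K.index := Nat.mul_le_mul_left _ (by omega)
      omega
    have h8 : K.index ≠ 0 := Subgroup.index_ne_zero_of_finite
    by_contra hne
    have h9 : K.index = 2 := by have := mt Subgroup.index_eq_one.1 hne; omega
    have h3 := s_sub (K := K) Nat.prime_three (by omega)
    have h4 := S3995.sum_le (G := K) {1, 3, 5} (by
      simp only [mem_insert, mem_singleton, forall_eq_or_imp, forall_eq, s_one]; omega)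
    rw [sum_insert (by decide), sum_pair (by norm_num), s_one] at h4
    rw [h9] at hi
    omega
  · left
    obtain ⟨x, hx⟩ := s_ne_zero_iff.1 (show s G 5 ≠ 0 by omega)
    have hd72 : Nat.card K ∣ 72 :=
      Nat.Coprime.dvd_of_dvd_mul_left (k := Nat.card K) (m := 5)
        ((Nat.Prime.coprime_iff_not_dvd Nat.prime_five).2 h5).symm
        (hdv.trans (by rcases hN' with rfl | rfl <;> norm_num))
    have hfix : ∀ y ∈ K, Commute x y → y = 1 := by
      intro y hy hc
      by_contra h1
      obtain ⟨r, k, hr, hry, hk⟩ := H30.exists_prime_pow_elt h1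
      have h2 : r ∣ 2 ^ 3 * 3 ^ 2 := (hry.trans (Subgroup.orderOf_dvd_natCard _ hy)).trans hd72
      have h3 : r = 2 ∨ r = 3 := ((Nat.Prime.dvd_mul hr).1 h2).imp
        (fun h => (Nat.prime_dvd_prime_iff_eq hr Nat.prime_two).1 (hr.dvd_of_dvd_pow h))
        (fun h => (Nat.prime_dvd_prime_iff_eq hr Nat.prime_three).1 (hr.dvd_of_dvd_pow h))
      have h4 := (hc.pow_right k).orderOf_mul_eq_mul_orderOf_of_coprime
        (by rw [hx, hk]; rcases h3 with rfl | rfl <;> norm_num)
      rw [hx, hk] at h4
      have h6 := s_ne_zero_iff.2 ⟨_, h4⟩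
      rcases h3 with rfl | rfl
      · exact h6 h10
      · exact h6 h15
    have h5d : ∀ r, r ≠ 1 → 5 ∣ s K r := fun r hr =>
      five_dvd hx fun y hy hc => by rw [hfix y hy hc, orderOf_one]; exact hr.symm
    have hmod : Nat.card K % 5 = 1 := by
      have h1 := sum_s (G := K) (n := Nat.card K) hpos.ne'
      rw [Nat.card_congr (Equiv.subtypeUnivEquiv fun g : K => pow_card_eq_one'),
        ← add_sum_erase _ _ (Nat.one_mem_divisors.2 hpos.ne'), s_one] at h1
      have h2 : 5 ∣ ∑ m ∈ (Nat.card K).divisors.erase 1, s K m :=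
        dvd_sum fun m hm => h5d m (ne_of_mem_erase hm)
      omega
    have hcases : Nat.card K = 1 ∨ Nat.card K = 6 ∨ Nat.card K = 36 := by
      have h1 := Nat.le_of_dvd (by norm_num) hd72
      generalize Nat.card K = c at hd72 hmod h1
      interval_cases c <;> simp_all
    rcases hcases with h | h | h
    · exact Subgroup.card_eq_one.1 h
    · exfalso
      have h1 := h5d 3 (by norm_num)
      have h2 := two_dvd (G := K) (m := 3) le_rfl
      have h3 := s_prime_ne (G := K) Nat.prime_three (by omega)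
      have h4 := S3995.sum_le (G := K) {3} (by simpa using h3)
      rw [sum_singleton] at h4
      omega
    · exfalso
      rw [h] at hi hdv
      have := l3 (by omega) (by omega)
      omega

theorem vals {T : Set ℕ}
    (h : ((fun m : ℕ => Nat.card {g : G // orderOf g = m}) '' Set.range (orderOf : G → ℕ)) = T) :
    (∀ m, s G m = 0 ∨ s G m ∈ T) ∧ ∀ v ∈ T, ∃ m, s G m = v := by
  refine ⟨fun m => ?_, fun v hv => ?_⟩
  · by_cases h0 : s G m = 0
    · exact Or.inl h0
    · obtain ⟨g, hg⟩ := s_ne_zero_iff.1 h0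
      exact Or.inr (by rw [← h]; exact ⟨m, ⟨g, hg⟩, rfl⟩)
  · rw [← h] at hv
    obtain ⟨m, -, hm⟩ := hv
    exact ⟨m, hm⟩

theorem nse_eq (T : Finset ℕ) (v : ℕ → ℕ) (h0 : ∀ m ∈ T, 0 < v m) (h1 : ∀ m ∈ T, v m ≤ s G m)
    (h2 : ∑ m ∈ T, v m = Nat.card G) :
    ((fun m : ℕ => Nat.card {g : G // orderOf g = m}) '' Set.range (orderOf : G → ℕ)) =
      v '' (T : Set ℕ) := by
  classical
  have hT : ∀ m ∈ T, s G m ≠ 0 := fun m hm => ((h0 m hm).trans_le (h1 m hm)).ne'
  have h3 := S3995.sum_le T hT
  have h4 := (sum_eq_sum_iff_of_le h1).1 (le_antisymm (sum_le_sum h1) (h2 ▸ h3))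
  have h5 : ∀ m, s G m ≠ 0 → m ∈ T := fun m hm => by
    by_contra hc
    have h6 := S3995.sum_le (G := G) (insert m T) (by
      intro a ha
      rcases mem_insert.1 ha with rfl | ha
      exacts [hm, hT a ha])
    rw [sum_insert hc] at h6
    have := sum_le_sum h1
    omega
  ext a
  constructor
  · rintro ⟨m, hm, rfl⟩
    have := h5 m (s_ne_zero_iff.2 hm)
    exact ⟨m, this, h4 m this⟩
  · rintro ⟨m, hm, rfl⟩
    exact ⟨m, s_ne_zero_iff.1 (hT m hm), (h4 m hm).symm⟩

end General

theorem ct_le (n : ℕ) (C : Finset (Multiset ℕ)) (m : ℕ) (h : ∀ c ∈ C, c.lcm = m) :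
    ∑ c ∈ C, #{g : alternatingGroup (Fin n) | (g : Equiv.Perm (Fin n)).cycleType = c} ≤
      s (alternatingGroup (Fin n)) m := by
  classical
  rw [s_eq, ← card_biUnion]
  · refine card_le_card fun g hg => ?_
    simp only [mem_biUnion, mem_filter, mem_univ, true_and] at hg ⊢
    obtain ⟨c, hc, e⟩ := hg
    rw [← Subgroup.orderOf_coe, ← Equiv.Perm.lcm_cycleType, e, h c hc]
  · intro c _ d _ hcd
    rw [Function.onFun, disjoint_left]
    intro g h1 h2
    simp only [mem_filter, mem_univ, true_and] at h1 h2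
    exact hcd (h1.symm.trans h2)

theorem nse4 : ((fun m : ℕ => Nat.card {g : alternatingGroup (Fin 4) // orderOf g = m}) ''
    Set.range (orderOf : alternatingGroup (Fin 4) → ℕ)) = {1, 3, 8} := by
  have h2 := ct_le 4 {{2, 2}} 2 (by decide)
  have h3 := ct_le 4 {{3}} 3 (by decide)
  simp only [sum_singleton, AlternatingGroup.card_of_cycleType] at h2 h3
  rw [nse_eq {1, 2, 3} (fun m => if m = 1 then 1 else if m = 2 then 3 else 8) (by decide) (by
    simp only [mem_insert, mem_singleton, forall_eq_or_imp, forall_eq, s_one]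
    exact ⟨le_rfl, le_trans (by decide) h2, le_trans (by decide) h3⟩)
    (by rw [nat_card_alternatingGroup]; simp; decide)]
  simp [Set.image_insert_eq]

theorem nse5 : ((fun m : ℕ => Nat.card {g : alternatingGroup (Fin 5) // orderOf g = m}) ''
    Set.range (orderOf : alternatingGroup (Fin 5) → ℕ)) = {1, 15, 20, 24} := by
  have h2 := ct_le 5 {{2, 2}} 2 (by decide)
  have h3 := ct_le 5 {{3}} 3 (by decide)
  have h5 := ct_le 5 {{5}} 5 (by decide)
  simp only [sum_singleton, AlternatingGroup.card_of_cycleType] at h2 h3 h5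
  rw [nse_eq {1, 2, 3, 5} (fun m => if m = 1 then 1 else if m = 2 then 15 else
    if m = 3 then 20 else 24) (by decide) (by
    simp only [mem_insert, mem_singleton, forall_eq_or_imp, forall_eq, s_one]
    exact ⟨le_rfl, le_trans (by decide) h2, le_trans (by decide) h3, le_trans (by decide) h5⟩)
    (by rw [nat_card_alternatingGroup]; simp; decide)]
  simp [Set.image_insert_eq]

theorem nse6 : ((fun m : ℕ => Nat.card {g : alternatingGroup (Fin 6) // orderOf g = m}) ''
    Set.range (orderOf : alternatingGroup (Fin 6) → ℕ)) = {1, 45, 80, 90, 144} := by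
  have h2 := ct_le 6 {{2, 2}} 2 (by decide)
  have h3 := ct_le 6 {{3}, {3, 3}} 3 (by decide)
  have h4 := ct_le 6 {{2, 4}} 4 (by decide)
  have h5 := ct_le 6 {{5}} 5 (by decide)
  rw [sum_pair (by decide)] at h3
  simp only [sum_singleton, AlternatingGroup.card_of_cycleType] at h2 h3 h4 h5
  rw [nse_eq {1, 2, 3, 4, 5} (fun m => if m = 1 then 1 else if m = 2 then 45 else
    if m = 3 then 80 else if m = 4 then 90 else 144) (by decide) (by
    simp only [mem_insert, mem_singleton, forall_eq_or_imp, forall_eq, s_one]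
    exact ⟨le_rfl, le_trans (by decide) h2, le_trans (by decide) h3, le_trans (by decide) h4,
      le_trans (by decide) h5⟩)
    (by rw [nat_card_alternatingGroup]; simp; decide)]
  simp [Set.image_insert_eq]

section Cases
variable {G : Type*} [Group G] [Finite G]

theorem tot (m k : ℕ) (h : m.totient = k) : k ∣ s G m := h ▸ totient_dvd m

theorem zero_of {m : ℕ} (h : s G m = 0) (n : ℕ) (hmn : m ∣ n) : s G n = 0 := s_eq_zero_of_dvd h hmn

theorem case4 (h : ((fun m : ℕ => Nat.card {g : G // orderOf g = m}) ''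
    Set.range (orderOf : G → ℕ)) = {1, 3, 8}) : Nonempty (G ≃* alternatingGroup (Fin 4)) := by
  obtain ⟨h1, h2⟩ := vals h
  simp only [Set.mem_insert_iff, Set.mem_singleton_iff, forall_eq_or_imp, forall_eq] at h1 h2
  obtain ⟨-, ⟨a, ha⟩, b, hb⟩ := h2
  have s1 := s_one (G := G)
  have h3 : ∀ m, 3 ≤ m → s G m = 0 ∨ s G m = 8 := fun m hm => by
    have := two_dvd (G := G) hm; have := h1 m; omega
  have s2 : s G 2 = 3 := by
    have := ne0 (G := G) (m := a) (by omega)
    have := h3 a
    obtain rfl | rfl | h : a = 1 ∨ a = 2 ∨ 3 ≤ a := by omega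
    all_goals omega
  have d2 : 2 ∣ Nat.card G := S3995.dvd_of_s (by omega)
  have hp : ∀ p : ℕ, p.Prime → p ∣ Nat.card G → p = 2 ∨ p = 3 := fun p hp hd => by
    by_cases e : p = 2
    · exact Or.inl e
    have k := key1 hp hd
    rw [(h3 p (by have := hp.two_le; omega)).resolve_left (s_prime_ne hp hd)] at k
    exact Or.inr ((Nat.prime_dvd_prime_iff_eq hp Nat.prime_three).1
      (hp.dvd_of_dvd_pow (show p ∣ 3 ^ 2 from k)))
  have n8 : ¬ 2 ^ (2 + 1) ∣ Nat.card G := fun hd => by
    have := FF 8 hd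
    simp [show Nat.divisors 8 = {1, 2, 4, 8} by decide] at this
    have := h3 4; have := h3 8; omega
  have s6 : s G 6 = 0 := by
    by_contra h0
    have hd := S3995.dvd_of_s h0
    have := FF 6 hd
    simp [show Nat.divisors 6 = {1, 2, 3, 6} by decide] at this
    have := s_prime_ne (G := G) Nat.prime_three (dvd_trans (by norm_num) hd)
    have := h3 3; have := h3 6; omega
  have n9 : ¬ 3 ^ (1 + 1) ∣ Nat.card G := fun hd => by
    have := FF 18 (Nat.Coprime.mul_dvd_of_dvd_of_dvd (by norm_num) d2 hd)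
    simp [show Nat.divisors 18 = {1, 2, 3, 6, 9, 18} by decide] at this
    have := zero_of s6 18 (by norm_num)
    have := tot (G := G) 9 6 (by decide)
    have := h3 3; have := h3 9; omega
  have hN := dvd_bd (c := 0) (fun p a b => (hp p a b).imp_right Or.inl) n8 n9
    (fun hd => by have := hp 5 Nat.prime_five hd; omega)
  have hb1 : b ≠ 1 := by rintro rfl; omega
  have hb2 : b ≠ 2 := by rintro rfl; omega
  have hl := S3995.sum_le (G := G) {1, 2, b} (by
    simp only [mem_insert, mem_singleton, forall_eq_or_imp, forall_eq]; omega)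
  rw [sum_insert (by simp; omega), sum_pair (by omega)] at hl
  have := Nat.le_of_dvd (by norm_num) hN
  have hc : Nat.card G = 12 := by omega
  refine S0228.result hc fun z hz hzc => ?_
  obtain ⟨x, hx⟩ := s_ne_zero_iff.1 (s_prime_ne (G := G) Nat.prime_three (by omega))
  have h4 := (show Commute x z from Subgroup.mem_center_iff.1 hzc x
    ).orderOf_mul_eq_mul_orderOf_of_coprime (by rw [hx, hz]; norm_num)
  rw [hx, hz] at h4
  exact s_ne_zero_iff.2 ⟨_, h4⟩ s6

theorem case5 (h : ((fun m : ℕ => Nat.card {g : G // orderOf g = m}) ''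
    Set.range (orderOf : G → ℕ)) = {1, 15, 20, 24}) :
    Nonempty (G ≃* alternatingGroup (Fin 5)) := by
  obtain ⟨h1, h2⟩ := vals h
  simp only [Set.mem_insert_iff, Set.mem_singleton_iff, forall_eq_or_imp, forall_eq] at h1 h2
  obtain ⟨-, ⟨a, ha⟩, ⟨b, hb⟩, c, hc⟩ := h2
  have s1 := s_one (G := G)
  have h3 : ∀ m, 3 ≤ m → s G m = 0 ∨ s G m = 20 ∨ s G m = 24 := fun m hm => by
    have := two_dvd (G := G) hm; have := h1 m; omega
  have s2 : s G 2 = 15 := by
    have := ne0 (G := G) (m := a) (by omega)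
    have := h3 a
    obtain rfl | rfl | h : a = 1 ∨ a = 2 ∨ 3 ≤ a := by omega
    all_goals omega
  have d2 : 2 ∣ Nat.card G := S3995.dvd_of_s (by omega)
  have hp : ∀ p : ℕ, p.Prime → p ∣ Nat.card G →
      p = 2 ∨ (p = 3 ∧ s G 3 = 20) ∨ (p = 5 ∧ s G 5 = 24) := fun p hp hd => by
    by_cases e : p = 2
    · exact Or.inl e
    have k := key1 hp hd
    have k2 := tot (G := G) p _ (Nat.totient_prime hp)
    have h4 := hp.two_le
    rcases (h3 p (by omega)).resolve_left (s_prime_ne hp hd) with h | h
    · rw [h] at k k2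
      have := Nat.le_of_dvd (by norm_num) k
      interval_cases p <;> first | omega | exact absurd hp (by norm_num)
    · rw [h] at k k2
      have := Nat.le_of_dvd (by norm_num) k
      interval_cases p <;> first | omega | exact absurd hp (by norm_num)
  have s3 : 3 ∣ Nat.card G → s G 3 = 20 := fun hd => by have := hp 3 Nat.prime_three hd; omega
  have s5 : 5 ∣ Nat.card G → s G 5 = 24 := fun hd => by have := hp 5 Nat.prime_five hd; omega
  have hp' : ∀ p : ℕ, p.Prime → p ∣ Nat.card G → p = 2 ∨ p = 3 ∨ p = 5 := fun p a b => by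
    have := hp p a b; omega
  have n25 : ¬ 5 ^ 2 ∣ Nat.card G := fun hd => by
    have e1 := FF 25 hd
    have e2 := FF 50 (Nat.Coprime.mul_dvd_of_dvd_of_dvd (by norm_num) d2 hd)
    simp [show Nat.divisors 25 = {1, 5, 25} by decide] at e1
    simp [show Nat.divisors 50 = {1, 2, 5, 10, 25, 50} by decide] at e2
    have := s5 (by omega)
    have := h3 25; have := h3 10
    have := zero_of (G := G) (m := 25) (by omega) 50 (by norm_num)
    omega
  have n9 : ¬ 3 ^ 2 ∣ Nat.card G := fun hd => by
    have e1 := FF 9 hd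
    simp [show Nat.divisors 9 = {1, 3, 9} by decide] at e1
    have := s3 (by omega)
    have := h3 9
    have := L4 (G := G) Nat.prime_three (fun hd => by
      have e2 := FF 27 hd
      simp [show Nat.divisors 27 = {1, 3, 9, 27} by decide] at e2
      have := h3 27; omega) (by norm_num; omega)
    norm_num at this
    omega
  have hb0 := ne0 (G := G) (m := b) (by omega)
  have hc0 := ne0 (G := G) (m := c) (by omega)
  have hb1 : b ≠ 1 := by rintro rfl; omega
  have hb2 : b ≠ 2 := by rintro rfl; omega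
  have hc1 : c ≠ 1 := by rintro rfl; omega
  have hc2 : c ≠ 2 := by rintro rfl; omega
  have hbc : b ≠ c := by rintro rfl; omega
  have d15 : 15 ∣ Nat.card G := by
    by_cases d3 : 3 ∣ Nat.card G
    · obtain ⟨k, hk, e⟩ := L3 Nat.prime_three d3 n9
      have := s3 d3
      obtain rfl : k = 10 := by omega
      omega
    by_cases d5 : 5 ∣ Nat.card G
    · obtain ⟨k, hk, e⟩ := L3 Nat.prime_five d5 n25
      have := s5 d5
      obtain rfl : k = 6 := by omega
      omega
    exfalso
    have s32 : s G 32 = 0 := by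
      have := tot (G := G) 32 16 (by decide); have := h3 32; omega
    have ho : ∀ m, s G m ≠ 0 → m ∣ 16 := fun m hm => by
      have hd := S3995.dvd_of_s hm
      exact dvd_bd (a := 4) (b := 0) (c := 0) (fun p a b => hp' p a (b.trans hd))
        (fun h => hm (zero_of s32 m h)) (fun h => d3 (h.trans hd)) (fun h => d5 (h.trans hd))
    have e := sum_s (G := G) (n := 16) (by norm_num)
    rw [Nat.card_congr (Equiv.subtypeUnivEquiv fun g : G =>
      orderOf_dvd_iff_pow_eq_one.1 (ho _ (s_ne_zero_iff.2 ⟨g, rfl⟩)))] at e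
    simp [show Nat.divisors 16 = {1, 2, 4, 8, 16} by decide] at e
    have e1 := ho b (by omega)
    have e2 := ho c (by omega)
    have := h3 4; have := h3 8; have := h3 16
    have := tot (G := G) 16 8 (by decide)
    have f : ∀ x, x ∣ 16 → x = 1 ∨ x = 2 ∨ x = 4 ∨ x = 8 ∨ x = 16 := fun x hx => by
      have := Nat.le_of_dvd (by norm_num) hx
      interval_cases x <;> omega
    rcases f b e1 with rfl | rfl | rfl | rfl | rfl <;>
      rcases f c e2 with rfl | rfl | rfl | rfl | rfl <;> omega
  have := s3 (by omega)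
  have := s5 (by omega)
  have s15 : s G 15 = 0 := by
    have e := FF 15 d15
    simp [show Nat.divisors 15 = {1, 3, 5, 15} by decide] at e
    have := h3 15; omega
  have s6 : s G 6 = 0 ∧ s G 10 = 0 := by
    have e := FF (G := G) 30 (by omega)
    simp [show Nat.divisors 30 = {1, 2, 3, 5, 6, 10, 15, 30} by decide] at e
    have := zero_of s15 30 (by norm_num)
    have := h3 6; have := h3 10; omega
  have n8 : ¬ 2 ^ 3 ∣ Nat.card G := fun hd => by
    have e1 := FF 8 hd
    have e2 := FF (G := G) 24 (by omega)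
    simp [show Nat.divisors 8 = {1, 2, 4, 8} by decide] at e1
    simp [show Nat.divisors 24 = {1, 2, 3, 4, 6, 8, 12, 24} by decide] at e2
    have := zero_of s6.1 12 (by norm_num)
    have := zero_of s6.1 24 (by norm_num)
    omega
  have hN := dvd_bd hp' n8 n9 n25
  have hl := S3995.sum_le (G := G) {1, 2, 3, 5} (by
    simp only [mem_insert, mem_singleton, forall_eq_or_imp, forall_eq]; omega)
  simp at hl
  have := Nat.le_of_dvd (by norm_num) hN
  have hc : Nat.card G = 60 := by omega
  have := simple_of hc (Or.inl rfl) s6.2 s15 (by omega) (by omega) (by omega)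
  exact S0494.result hc

theorem case6 (h : ((fun m : ℕ => Nat.card {g : G // orderOf g = m}) ''
    Set.range (orderOf : G → ℕ)) = {1, 45, 80, 90, 144}) :
    Nonempty (G ≃* alternatingGroup (Fin 6)) := by
  obtain ⟨h1, h2⟩ := vals h
  simp only [Set.mem_insert_iff, Set.mem_singleton_iff, forall_eq_or_imp, forall_eq] at h1 h2
  obtain ⟨-, ⟨a, ha⟩, ⟨b, hb⟩, ⟨c, hc⟩, d, hd⟩ := h2
  have s1 := s_one (G := G)
  have h3 : ∀ m, 3 ≤ m → s G m = 0 ∨ s G m = 80 ∨ s G m = 90 ∨ s G m = 144 := fun m hm => by
    have := two_dvd (G := G) hm; have := h1 m; omega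
  have s2 : s G 2 = 45 := by
    have := ne0 (G := G) (m := a) (by omega)
    have := h3 a
    obtain rfl | rfl | h : a = 1 ∨ a = 2 ∨ 3 ≤ a := by omega
    all_goals omega
  have d2 : 2 ∣ Nat.card G := S3995.dvd_of_s (by omega)
  have hp : ∀ p : ℕ, p.Prime → p ∣ Nat.card G → p = 2 ∨ (p = 3 ∧ s G 3 = 80) ∨
      (p = 5 ∧ s G 5 = 144) ∨ (p = 7 ∧ s G 7 = 90) := fun p hp hd => by
    by_cases e : p = 2
    · exact Or.inl e
    have k := key1 hp hd
    have k2 := tot (G := G) p _ (Nat.totient_prime hp)
    have pp := fun (q : ℕ) (hq : q.Prime) => (Nat.prime_dvd_prime_iff_eq hp hq).1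
    rcases (h3 p (by have := hp.two_le; omega)).resolve_left (s_prime_ne hp hd) with h | h | h
    · rw [h] at k
      obtain rfl := pp 3 Nat.prime_three (hp.dvd_of_dvd_pow (show p ∣ 3 ^ 4 from k))
      omega
    · rw [h] at k k2
      rcases hp.dvd_mul.1 (show p ∣ 7 * 13 from k) with k | k
      · obtain rfl := pp 7 (by norm_num) k; omega
      · obtain rfl := pp 13 (by norm_num) k; omega
    · rw [h] at k k2
      rcases hp.dvd_mul.1 (show p ∣ 5 * 29 from k) with k | k
      · obtain rfl := pp 5 (by norm_num) k; omega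
      · obtain rfl := pp 29 (by norm_num) k; omega
  have s3 : 3 ∣ Nat.card G → s G 3 = 80 := fun hd => by have := hp 3 Nat.prime_three hd; omega
  have s5 : 5 ∣ Nat.card G → s G 5 = 144 := fun hd => by have := hp 5 Nat.prime_five hd; omega
  have n7 : ¬ 7 ∣ Nat.card G := fun d7 => by
    have s7 : s G 7 = 90 := by have := hp 7 (by norm_num) d7; omega
    obtain ⟨k, hk, e⟩ := L3 (G := G) (p := 7) (by norm_num) d7 (fun hd => by
      have e := FF 49 hd
      simp [show Nat.divisors 49 = {1, 7, 49} by decide] at e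
      have := h3 49; have := tot (G := G) 49 42 (by decide); omega)
    obtain rfl : k = 15 := by omega
    have e := FF (G := G) 35 (by omega)
    simp [show Nat.divisors 35 = {1, 5, 7, 35} by decide] at e
    have := s5 (by omega)
    have := h3 35; have := tot (G := G) 35 24 (by decide); omega
  have hp' : ∀ p : ℕ, p.Prime → p ∣ Nat.card G → p = 2 ∨ p = 3 ∨ p = 5 := fun p a b => by
    have := hp p a b
    have : p ≠ 7 := by rintro rfl; exact n7 b
    omega
  have n25 : ¬ 5 ^ 2 ∣ Nat.card G := fun hd => by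
    have e1 := FF 25 hd
    simp [show Nat.divisors 25 = {1, 5, 25} by decide] at e1
    have := s5 (by omega)
    have := h3 25
    have := L4 (G := G) Nat.prime_five (fun hd => by
      have e2 := FF 125 hd
      simp [show Nat.divisors 125 = {1, 5, 25, 125} by decide +kernel] at e2
      have := h3 125; omega) (by norm_num; omega)
    norm_num at this
    omega
  have s9 : s G 9 = 0 := by
    by_contra h0
    have hd := S3995.dvd_of_s h0
    have := s3 (by omega)
    have := h3 9
    have := L4 (G := G) Nat.prime_three (fun hd => by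
      have e2 := FF 27 hd
      simp [show Nat.divisors 27 = {1, 3, 9, 27} by decide] at e2
      have := tot (G := G) 9 6 (by decide)
      have := tot (G := G) 27 18 (by decide)
      have := h3 27; omega) h0
    norm_num at this
    omega
  have n81 : ¬ 3 ^ 4 ∣ Nat.card G := fun hd => by
    have e := FF 162 (Nat.Coprime.mul_dvd_of_dvd_of_dvd (by norm_num) d2 hd)
    simp [show Nat.divisors 162 = {1, 2, 3, 6, 9, 18, 27, 54, 81, 162} by decide +kernel, s9,
      zero_of s9 18, zero_of s9 27, zero_of s9 54, zero_of s9 81, zero_of s9 162] at e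
    have := s3 (by omega)
    have := h3 6; omega
  have n16 : ¬ 2 ^ 4 ∣ Nat.card G := fun hd => by
    have e := FF 16 hd
    simp [show Nat.divisors 16 = {1, 2, 4, 8, 16} by decide] at e
    have := tot (G := G) 8 4 (by decide)
    have := tot (G := G) 16 8 (by decide)
    have := h3 4; have := h3 8; have := h3 16; omega
  have hN := dvd_bd hp' n16 n81 n25
  have hb1 : b ≠ 1 := by rintro rfl; omega
  have hb2 : b ≠ 2 := by rintro rfl; omega
  have hc1 : c ≠ 1 := by rintro rfl; omega
  have hc2 : c ≠ 2 := by rintro rfl; omega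
  have hd1 : d ≠ 1 := by rintro rfl; omega
  have hd2 : d ≠ 2 := by rintro rfl; omega
  have hbc : b ≠ c := by rintro rfl; omega
  have hbd : b ≠ d := by rintro rfl; omega
  have hcd : c ≠ d := by rintro rfl; omega
  have hl := S3995.sum_le (G := G) {1, 2, b, c, d} (by
    simp only [mem_insert, mem_singleton, forall_eq_or_imp, forall_eq]; omega)
  rw [sum_insert (by simp; omega), sum_insert (by simp; omega), sum_insert (by simp; omega),
    sum_pair hcd] at hl
  have hN' : Nat.card G = 360 ∨ Nat.card G = 540 ∨ Nat.card G = 1080 := by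
    obtain ⟨k, hk⟩ := hN
    have : k ≤ 3 := by
      by_contra hk3
      have : 360 * 4 ≤ Nat.card G * k := Nat.mul_le_mul (by omega) (by omega)
      omega
    interval_cases k <;> omega
  have := s3 (by omega)
  have := s5 (by omega)
  have s15 : s G 15 = 0 := by
    have e := FF (G := G) 15 (by omega)
    simp [show Nat.divisors 15 = {1, 3, 5, 15} by decide] at e
    have := tot (G := G) 15 8 (by decide)
    have := h3 15; omega
  have hc : Nat.card G = 360 := by
    by_contra hne
    have e := FF (G := G) 135 (by omega)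
    simp [show Nat.divisors 135 = {1, 3, 5, 9, 15, 27, 45, 135} by decide +kernel, s9, s15,
      zero_of s9 27, zero_of s9 45, zero_of s9 135] at e
    omega
  have s10 : s G 10 = 0 := by
    by_contra h0
    have := tot (G := G) 10 4 (by decide)
    have := h3 10
    have hc3 : c ≠ 3 := by rintro rfl; omega
    have hc5 : c ≠ 5 := by rintro rfl; omega
    have hc10 : c ≠ 10 := by rintro rfl; omega
    have hl := S3995.sum_le (G := G) {c, 1, 2, 3, 5, 10} (by
      simp only [mem_insert, mem_singleton, forall_eq_or_imp, forall_eq]; omega)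
    rw [sum_insert (by simp; omega)] at hl
    simp at hl
    omega
  have := simple_of hc (Or.inr rfl) s10 s15 (by omega) (by omega) (by omega)
  exact S0497.result hc

end Cases

/-- Let n be 4, 5 or 6 and let G be a finite group whose set of sizes of same-order classes (the set of numbers #{g : o(g) = m} over the element orders m of G) equals that of the alternating group of degree n. Then G is isomorphic to that alternating group. -/
theorem result {G : Type*} [Group G] [Finite G] (n : ℕ) (hn : n = 4 ∨ n = 5 ∨ n = 6)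
    (h : ((fun m : ℕ => Nat.card {g : G // orderOf g = m}) '' Set.range (orderOf : G → ℕ)) = ((fun m : ℕ => Nat.card {g : ↥(alternatingGroup (Fin n)) // orderOf g = m}) '' Set.range (orderOf : ↥(alternatingGroup (Fin n)) → ℕ))) :
    Nonempty (G ≃* ↥(alternatingGroup (Fin n))) := by
  rcases hn with rfl | rfl | rfl
  · exact case4 (h.trans nse4)
  · exact case5 (h.trans nse5)
  · exact case6 (h.trans nse6)

end Cfsg.Agent.S3431
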