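import Cfsg.Agent.Base
import Cfsg.Agent.H89.Prim
import Cfsg.Agent.S3494
import Cfsg.Statements.S3495

set_option autoImplicit false
open Cfsg

namespace Cfsg.Agent.S3495

open MulAction

theorem orbit_eq {G : Type*} [Group G] [Finite G] {Ω : Type*} [Fintype Ω] [MulAction G Ω]
    [FaithfulSMul G Ω] (hprim : IsPreprimitive G Ω) (hH : ∀ α : Ω, stabilizer G α ≠ ⊥)
    (hep : ∀ (α : Ω) (ω : Ω), IsPreprimitive (stabilizer G α) (orbit (stabilizer G α) ω))
    (α : Ω) (M : Subgroup G) (hM : M ≠ ⊥) (hMle : M ≤ stabilizer G α)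
    (hMn : stabilizer G α ≤ Subgroup.normalizer (M : Set G)) (ω : Ω) :
    orbit M ω = orbit (stabilizer G α) ω := by
  refine Set.Subset.antisymm (by rintro _ ⟨m, rfl⟩; exact ⟨⟨m, hMle m.2⟩, rfl⟩) ?_
  by_cases hω : ω = α
  · subst hω
    rintro x ⟨g, hg⟩
    rw [← hg.symm.trans g.2 |>.symm]
    exact mem_orbit_self ω
  have := hep α ω
  have : FaithfulSMul (stabilizer G α) (orbit (stabilizer G α) ω) := ⟨fun {a b} h => by
    have := S3494.result hprim hH hep α ω hω (b⁻¹ * a) fun x hx => by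
      rw [mul_smul, inv_smul_eq_iff]
      exact congrArg Subtype.val (h ⟨x, hx⟩)
    exact (inv_mul_eq_one.1 this).symm⟩
  have := (Subgroup.normal_subgroupOf_iff_le_normalizer hMle).2 hMn
  have := H89.isPretransitive_of_normal_of_primitive (Ω := orbit (stabilizer G α) ω)
    (M.subgroupOf (stabilizer G α)) fun h => hM (by
      rwa [Subgroup.subgroupOf_eq_bot, disjoint_iff, inf_eq_left.2 hMle] at h)
  intro x hx
  obtain ⟨m, hm⟩ := exists_smul_eq (M.subgroupOf (stabilizer G α))
    (⟨ω, mem_orbit_self ω⟩ : orbit (stabilizer G α) ω) ⟨x, hx⟩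
  exact ⟨⟨m.1, m.2⟩, congrArg Subtype.val hm⟩

/-- Let a finite group G act faithfully and primitively on a finite set Ω with non-trivial point stabilizers, each acting primitively on every one of its orbits (an extremely primitive group), and suppose G has an elementary abelian normal p-subgroup N acting regularly on Ω (affine type). Then every non-trivial subgroup M of a point stabilizer G_α that is normal in G_α has the same orbits on Ω as G_α, and normalizes no subgroup of N other than 1 and N. -/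
theorem result {G : Type*} [Group G] [Finite G] {Ω : Type*} [Fintype Ω] [MulAction G Ω] [FaithfulSMul G Ω] (hprim : MulAction.IsPreprimitive G Ω) (hH : ∀ α : Ω, MulAction.stabilizer G α ≠ ⊥) (hep : ∀ (α : Ω) (ω : Ω), MulAction.IsPreprimitive (MulAction.stabilizer G α) (MulAction.orbit (MulAction.stabilizer G α) ω))
    (N : Subgroup G) [N.Normal] (hNc : IsMulCommutative N) (p : ℕ) (hp : p.Prime) (hNp : ∀ n ∈ N, n ^ p = 1)
    (hNtr : MulAction.IsPretransitive N Ω) (hNreg : ∀ ω : Ω, MulAction.stabilizer N ω = ⊥) (α : Ω) (M : Subgroup G) (hM : M ≠ ⊥) (hMle : M ≤ MulAction.stabilizer G α)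
    (hMn : MulAction.stabilizer G α ≤ Subgroup.normalizer (M : Set G)) :
    (∀ ω : Ω, MulAction.orbit M ω = MulAction.orbit (MulAction.stabilizer G α) ω) ∧
    (∀ L : Subgroup G, L ≤ N → M ≤ Subgroup.normalizer (L : Set G) → L = ⊥ ∨ L = N) := by
  have h1 := orbit_eq hprim hH hep α M hM hMle hMn
  refine ⟨h1, fun L hL hML => ?_⟩
  have hreg := (H89.stabilizer_subgroup_eq_bot_iff N α).1 (hNreg α)
  have hLn : L.Normal := by
    refine ⟨fun l hl g => ?_⟩
    obtain ⟨n, hn, s, hs, rfl⟩ := H89.exists_mul_stabilizer_of_transitive N α g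
    obtain ⟨⟨m, hm⟩, h2⟩ : s • l • α ∈ orbit M (l • α) := h1 _ ▸ ⟨⟨s, hs⟩, rfl⟩
    have h3 : m * l * m⁻¹ ∈ L := (Subgroup.mem_normalizer_iff.1 (hML hm) l).1 hl
    have hsN : s * l * s⁻¹ ∈ N := Subgroup.Normal.conj_mem inferInstance _ (hL hl) s
    have h4 := hreg ((m * l * m⁻¹)⁻¹ * (s * l * s⁻¹)) (N.mul_mem (N.inv_mem (hL h3)) hsN) (by
      rw [mul_smul, inv_smul_eq_iff, mul_smul, mul_smul, mul_smul, mul_smul,
        (inv_mem hs : s⁻¹ • α = α), (inv_mem (hMle hm) : m⁻¹ • α = α)]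
      exact h2.symm)
    rw [inv_mul_eq_one] at h4
    have h5 : n * (s * l * s⁻¹) = (s * l * s⁻¹) * n :=
      congrArg Subtype.val (hNc.is_comm.comm ⟨n, hn⟩ ⟨_, hsN⟩)
    have h6 : n * s * l * (n * s)⁻¹ = s * l * s⁻¹ := by
      rw [← mul_inv_cancel_right (s * l * s⁻¹) n, ← h5]
      group
    rw [h6, ← h4]
    exact h3
  rw [or_iff_not_imp_left]
  intro hL1
  have := H89.isPretransitive_of_normal_of_primitive (Ω := Ω) L hL1
  exact H89.eq_of_transitive_le_semiregular hL α hreg

end Cfsg.Agent.S3495
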