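import Cfsg.Agent.Base
import Cfsg.Agent.H89.Prim
import Cfsg.Agent.S3494
import Cfsg.Agent.H2.MinNormal
import Cfsg.Agent.H12.Linearize
import Cfsg.Statements.S3497

set_option autoImplicit false
open Cfsg

namespace Cfsg.Agent.S3497

open MulAction

/-- The Fitting subgroup of a faithful primitive group is regular and elementary abelian. -/
theorem fitting_of_primitive {H Δ : Type*} [Group H] [Finite H] [MulAction H Δ] [FaithfulSMul H Δ]
    [IsPreprimitive H Δ] [Nonempty Δ] (hF : fittingSubgroup H ≠ ⊥) :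
    IsMulCommutative (fittingSubgroup H) ∧
      (∃ p : ℕ, p.Prime ∧ ∀ x ∈ fittingSubgroup H, x ^ p = 1) ∧
      Subgroup.centralizer (fittingSubgroup H : Set H) = fittingSubgroup H ∧
      Nat.card (fittingSubgroup H) = Nat.card Δ := by
  obtain ⟨M, hM, hMF, hM1, hmin⟩ := H2.exists_minimal_normal_le (fittingSubgroup H) hF
  have h1 := H2.fitting_le_centralizer_of_minimal_normal hmin
  have hc : IsMulCommutative M := Subgroup.le_centralizer_iff_isMulCommutative.1 (hMF.trans h1)
  have := H89.isPretransitive_of_normal_of_primitive (Ω := Δ) M hM1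
  have h2 := H89.centralizer_eq_of_comm_transitive (Ω := Δ) M hc
  obtain ⟨a⟩ := ‹Nonempty Δ›
  rw [le_antisymm (h2 ▸ h1) hMF]
  have : Group.IsSolvable M := Group.isSolvable_of_comm hc.is_comm.comm
  obtain ⟨p, hp, -, hel, -⟩ := H2.exists_elementaryAbelian_of_minimal_normal hM1 hmin
  exact ⟨hc, ⟨p, hp, hel.2⟩, h2,
    H89.card_eq_of_regular a (H89.stabilizer_eq_bot_of_comm_transitive M hc a)⟩

theorem faithful {G : Type*} [Group G] [Finite G] {Ω : Type*} [Fintype Ω] [MulAction G Ω]
    [FaithfulSMul G Ω] (hprim : IsPreprimitive G Ω)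
    (hep : ∀ (α : Ω) (ω : Ω), IsPreprimitive (stabilizer G α) (orbit (stabilizer G α) ω))
    {α : Ω} (hH1 : stabilizer G α ≠ ⊥) {ω : Ω} (hω : ω ≠ α) :
    FaithfulSMul (stabilizer G α) (orbit (stabilizer G α) ω) := ⟨fun {a b} h => by
  have hH : ∀ β : Ω, stabilizer G β ≠ ⊥ := fun β hβ => hH1 (by
    rw [← Subgroup.card_eq_one, H89.card_stabilizer_eq α β, hβ, Subgroup.card_bot])
  have := S3494.result hprim hH hep α ω hω (b⁻¹ * a) fun x hx => by
    rw [mul_smul, inv_smul_eq_iff]
    exact congrArg Subtype.val (h ⟨x, hx⟩)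
  exact (inv_mul_eq_one.1 this).symm⟩

theorem exists_ne_point {G Ω : Type*} [Group G] [MulAction G Ω] [FaithfulSMul G Ω] {α : Ω}
    (hH1 : stabilizer G α ≠ ⊥) : ∃ ω, ω ≠ α := by
  by_contra! h
  exact hH1 ((Subgroup.eq_bot_iff_forall _).2 fun g _ =>
    eq_of_smul_eq_smul (α := Ω) fun x => by rw [h (g • x), h (_ • x)])

/-- Restrictions on the point stabilizer of an extremely primitive group. Let a finite group G act faithfully and primitively on a finite set Ω with point stabilizers H = G_α whose order is neither 1 nor a prime, each acting primitively on every one of its orbits. Then H has trivial center, the Fitting subgroup F(H) is an elementary abelian p-group for some prime p, and if F(H) ≠ 1 has order p ^ e then p ^ e divides the number of points minus one and H / F(H) embeds in GL_e(p) (there is a homomorphism from H to GL_e(p) with kernel exactly F(H)). -/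
theorem result {G : Type*} [Group G] [Finite G] {Ω : Type*} [Fintype Ω] [MulAction G Ω] [FaithfulSMul G Ω] (hprim : MulAction.IsPreprimitive G Ω) (hep : ∀ (α : Ω) (ω : Ω), MulAction.IsPreprimitive (MulAction.stabilizer G α) (MulAction.orbit (MulAction.stabilizer G α) ω)) (α : Ω)
    (hH1 : MulAction.stabilizer G α ≠ ⊥) (hHp : ¬ (Nat.card (MulAction.stabilizer G α)).Prime) :
    Subgroup.center (MulAction.stabilizer G α) = ⊥ ∧
    IsMulCommutative (Cfsg.fittingSubgroup (MulAction.stabilizer G α)) ∧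
    ∃ p e : ℕ, p.Prime ∧ Nat.card (Cfsg.fittingSubgroup (MulAction.stabilizer G α)) = p ^ e ∧
      (∀ x ∈ Cfsg.fittingSubgroup (MulAction.stabilizer G α), x ^ p = 1) ∧
      (Cfsg.fittingSubgroup (MulAction.stabilizer G α) ≠ ⊥ →
        p ^ e ∣ Fintype.card Ω - 1 ∧
        ∃ φ : MulAction.stabilizer G α →* GL (Fin e) (ZMod p), φ.ker = Cfsg.fittingSubgroup (MulAction.stabilizer G α)) := by
  obtain ⟨ω, hω⟩ := exists_ne_point hH1
  have := faithful hprim hep hH1 hω
  have := hep α ω
  have : Nonempty (orbit (stabilizer G α) ω) := ⟨⟨ω, mem_orbit_self ω⟩⟩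
  refine ⟨?_, ?_⟩
  · by_contra hZ
    have := H89.isPretransitive_of_normal_of_primitive (Ω := orbit (stabilizer G α) ω) _ hZ
    have : Nontrivial (orbit (stabilizer G α) ω) := by
      obtain ⟨g, h1, h2⟩ := H89.exists_stabilizer_smul_ne hω.symm hH1
      exact ⟨⟨_, mem_orbit ω (⟨g, h1⟩ : stabilizer G α)⟩, ⟨ω, mem_orbit_self ω⟩,
        fun h => h2 (congrArg Subtype.val h)⟩
    refine hHp (H89.prime_card_of_regular_primitive
      (a := (⟨ω, mem_orbit_self ω⟩ : orbit (stabilizer G α) ω))
      ((Subgroup.eq_bot_iff_forall _).2 fun g hg => ?_)).2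
    exact H89.eq_one_of_commute_transitive (Subgroup.center (stabilizer G α))
      (fun n hn => (Subgroup.mem_center_iff.1 hn g).symm) hg
  by_cases hF : fittingSubgroup (stabilizer G α) = ⊥
  · rw [hF]
    exact ⟨inferInstance, 2, 0, Nat.prime_two, by simp, by simp, fun h => absurd rfl h⟩
  obtain ⟨hc, ⟨p, hp, hpow⟩, hcent, -⟩ := fitting_of_primitive (Δ := orbit (stabilizer G α) ω) hF
  have : Fact p.Prime := ⟨hp⟩
  have hpow' : ∀ x : fittingSubgroup (stabilizer G α), x ^ p = 1 := fun x =>
    Subtype.ext (hpow x x.2)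
  obtain ⟨e, he⟩ := IsPGroup.iff_card.1
    (show IsPGroup p (fittingSubgroup (stabilizer G α)) from fun x => ⟨1, by simpa using hpow' x⟩)
  refine ⟨hc, p, e, hp, he, hpow, fun _ => ⟨?_, ?_⟩⟩
  · rw [← Nat.card_eq_fintype_card, ← Set.ncard_univ,
      ← Set.ncard_sdiff_singleton_of_mem (Set.mem_univ α)]
    refine H89.dvd_ncard_of_forall_dvd_orbit (H := stabilizer G α) _ _ (Set.toFinite _)
      (fun g x hx => ⟨Set.mem_univ _, fun h => hx.2 (smul_left_cancel g (h.trans g.2.symm))⟩)
      fun x hx => ?_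
    have := faithful hprim hep hH1 hx.2
    have := hep α x
    have : Nonempty (orbit (stabilizer G α) x) := ⟨⟨x, mem_orbit_self x⟩⟩
    rw [← he, (fitting_of_primitive (Δ := orbit (stabilizer G α) x) hF).2.2.2, Nat.card_coe_set_eq]
  · obtain ⟨ψ⟩ := H12.nonempty_mulAut_equiv_GL hc.is_comm.comm hpow' he
    refine ⟨ψ.toMonoidHom.comp MulAut.conjNormal, ?_⟩
    rw [MonoidHom.ker_comp_of_injective _ _ ψ.injective]
    refine Eq.trans ?_ hcent
    ext g
    rw [MonoidHom.mem_ker, Subgroup.mem_centralizer_iff, MulEquiv.ext_iff]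
    refine ⟨fun h x hx => ?_, fun h x => Subtype.ext ?_⟩
    · have := congrArg Subtype.val (h ⟨x, hx⟩)
      rw [MulAut.conjNormal_apply, mul_inv_eq_iff_eq_mul] at this
      exact this.symm
    · rw [MulAut.conjNormal_apply, mul_inv_eq_iff_eq_mul]
      exact (h x x.2).symm

end Cfsg.Agent.S3497
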