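import Cfsg.Agent.Base
import Cfsg.Agent.H89.Prim
import Cfsg.Agent.S3495
import Cfsg.Agent.S3497
import Cfsg.Agent.H26.IrredField
import Cfsg.Statements.S3496

set_option autoImplicit false
open Cfsg

namespace Cfsg.Agent.S3496

open MulAction

theorem exists_pow_of_ringHom {K : Type*} [Field K] [Finite K] (p : ℕ) [Fact p.Prime] [CharP K p]
    (σ : K →+* K) : ∃ i : ℕ, ∀ x, σ x = x ^ p ^ i := by
  let _ := ZMod.algebra K p
  let τ : K →ₐ[ZMod p] K :=
    { σ with
      commutes' := fun r => DFunLike.congr_fun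
        (Subsingleton.elim (σ.comp (algebraMap (ZMod p) K)) (algebraMap (ZMod p) K)) r }
  obtain ⟨i, hi⟩ := FiniteField.exists_forall_apply_eq_pow (ZMod p) p K
    (AlgEquiv.ofBijective τ (Finite.injective_iff_bijective.1 σ.injective))
  exact ⟨i, fun x => (hi x).trans (by rw [Nat.card_zmod])⟩

/-- An additive automorphism of a finite field normalizing a generating group of scalars induces
a power of the Frobenius map on it. -/
theorem semilinear {K : Type*} [Field K] [Finite K] (p : ℕ) [Fact p.Prime] [CharP K p]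
    {T : Type*} (χ : T → K) (hχ : Subring.closure (Set.range χ) = ⊤) (ψ : K ≃+ K) (c : T → T)
    (h : ∀ t x, ψ (χ t * x) = χ (c t) * ψ x) : ∃ i : ℕ, ∀ t, χ (c t) = χ t ^ p ^ i := by
  have h1 : ψ 1 ≠ 0 := by simp
  have key : ∀ a : K, ∀ x, ψ (a * x) * ψ 1 = ψ a * ψ x := fun a => by
    have ha : a ∈ Subring.closure (Set.range χ) := hχ ▸ Subring.mem_top a
    induction ha using Subring.closure_induction with
    | mem a ha =>
      obtain ⟨t, rfl⟩ := ha
      intro x
      rw [h, ← mul_one (χ t), h]
      ring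
    | zero => simp
    | one => intro x; rw [one_mul, mul_comm]
    | add a b _ _ ha hb => intro x; rw [add_mul, map_add, map_add, add_mul, ha, hb, add_mul]
    | neg a _ ha => intro x; rw [neg_mul, map_neg, map_neg, neg_mul, ha, neg_mul]
    | mul a b _ _ ha hb =>
      intro x
      apply mul_right_cancel₀ h1
      rw [mul_assoc a, ha, mul_assoc, hb, mul_right_comm, ha, mul_assoc]
  let σ : K →+* K :=
    { toFun := fun x => ψ x / ψ 1
      map_one' := div_self h1
      map_mul' := fun a x => by
        rw [div_mul_div_comm, ← key, mul_div_mul_right _ _ h1]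
      map_zero' := by simp
      map_add' := fun a b => by rw [map_add, add_div] }
  obtain ⟨i, hi⟩ := exists_pow_of_ringHom p σ
  refine ⟨i, fun t => ?_⟩
  rw [← hi]
  change _ = ψ (χ t) / ψ 1
  rw [← mul_one (χ t), h, mul_div_cancel_right₀ _ h1]

/-- The soluble extremely primitive groups. Let a finite solvable group G act faithfully and primitively on a finite set Ω with p ^ d points (p prime), with non-trivial point stabilizers each acting primitively on every one of its orbits. Then there is a prime q such that every orbit of a point stabilizer G_α other than {α} has exactly q points, q divides p ^ d − 1 but no p ^ i − 1 with 0 < i < d, and G_α has a normal subgroup T of order q with G_α generated by T and one further element and the order of G_α dividing q·d (so G_α is cyclic of order q, or an extension of T by a cyclic group of order dividing d). -/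
theorem result {G : Type*} [Group G] [Finite G] {Ω : Type*} [Fintype Ω] [MulAction G Ω] [FaithfulSMul G Ω] [Group.IsSolvable G] (p d : ℕ) (hp : p.Prime) (hcard : Fintype.card Ω = p ^ d)
    (hprim : MulAction.IsPreprimitive G Ω) (hH : ∀ α : Ω, MulAction.stabilizer G α ≠ ⊥) (hep : ∀ (α : Ω) (ω : Ω), MulAction.IsPreprimitive (MulAction.stabilizer G α) (MulAction.orbit (MulAction.stabilizer G α) ω)) (α : Ω) :
    ∃ q : ℕ, q.Prime ∧ (∀ ω : Ω, ω ≠ α → Nat.card (MulAction.orbit (MulAction.stabilizer G α) ω) = q) ∧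
      q ∣ p ^ d - 1 ∧ (∀ i : ℕ, 0 < i → i < d → ¬ q ∣ p ^ i - 1) ∧
      ∃ T : Subgroup G, T ≤ MulAction.stabilizer G α ∧ MulAction.stabilizer G α ≤ Subgroup.normalizer (T : Set G) ∧ Nat.card T = q ∧
        (∃ h : G, MulAction.stabilizer G α = T ⊔ Subgroup.zpowers h) ∧ Nat.card (MulAction.stabilizer G α) ∣ q * d := by
  classical
  have : Fact p.Prime := ⟨hp⟩
  obtain ⟨ω₀, hω₀⟩ := S3497.exists_ne_point (hH α)
  have : Nontrivial G := by
    obtain ⟨g, hg⟩ := Subgroup.ne_bot_iff_exists_ne_one.1 (hH α)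
    exact ⟨g, 1, fun h => hg (Subtype.ext h)⟩
  obtain ⟨N, hN, hN1, hNmin⟩ := H2.exists_minimal_normal G
  obtain ⟨r, hr, -, ⟨hNc, hNr⟩, -⟩ := H2.exists_elementaryAbelian_of_minimal_normal hN1 hNmin
  have hNt := H89.isPretransitive_of_normal_of_primitive (Ω := Ω) N hN1
  have hNreg := H89.stabilizer_eq_bot_of_comm_transitive (Ω := Ω) N hNc
  have hNcard : Nat.card N = p ^ d := by
    rw [H89.card_eq_of_regular α (hNreg α), Nat.card_eq_fintype_card, hcard]
  have : Nontrivial (stabilizer G α) := (Subgroup.nontrivial_iff_ne_bot _).2 (hH α)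
  have hF := H2.fitting_ne_bot (stabilizer G α)
  set T := fittingSubgroup (stabilizer G α) with hT
  have hall : ∀ ω, ω ≠ α → IsMulCommutative T ∧ (∃ q : ℕ, q.Prime ∧ ∀ x ∈ T, x ^ q = 1) ∧
      Subgroup.centralizer (T : Set (stabilizer G α)) = T ∧
      Nat.card T = Nat.card (orbit (stabilizer G α) ω) := fun ω hω => by
    have := S3497.faithful hprim hep (hH α) hω
    have := hep α ω
    have : Nonempty (orbit (stabilizer G α) ω) := ⟨⟨ω, mem_orbit_self ω⟩⟩
    exact S3497.fitting_of_primitive hF
  obtain ⟨hTc, ⟨q, hq, hTq⟩, hcent, -⟩ := hall ω₀ hω₀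
  have : Fact q.Prime := ⟨hq⟩
  have hTn : stabilizer G α ≤ Subgroup.normalizer (T.map (stabilizer G α).subtype : Set G) := by
    intro s hs
    refine Subgroup.mem_normalizer_fintype ?_
    rintro _ ⟨t, ht, rfl⟩
    exact ⟨_, Subgroup.Normal.conj_mem inferInstance t ht ⟨s, hs⟩, rfl⟩
  have hirr := (S3495.result hprim hH hep N hNc r hr hNr hNt hNreg α
    (T.map (stabilizer G α).subtype) (fun h => hF ((Subgroup.map_eq_bot_iff_of_injective _
      (stabilizer G α).subtype_injective).1 h)) (Subgroup.map_subtype_le _) hTn).2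
  let φ : stabilizer G α →* MulAut N := MulAut.conjNormal.comp (stabilizer G α).subtype
  have hφ : ∀ s, φ s = 1 → s = 1 := fun s hs =>
    Subtype.ext (H89.eq_one_of_commute_transitive N (fun n hn => by
      have := congrArg Subtype.val (DFunLike.congr_fun hs ⟨n, hn⟩)
      exact (mul_inv_eq_iff_eq_mul.1 this).symm) s.2)
  let _ : CommGroup N := { (inferInstance : Group N) with mul_comm := hNc.is_comm.comm }
  have : Nontrivial N := (Subgroup.nontrivial_iff_ne_bot _).2 hN1
  obtain ⟨K, _, _, e, χ, h1, h2⟩ := H26.exists_field_of_irreducible (φ.comp T.subtype)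
    fun W hW => by
      rcases hirr (W.map N.subtype) (Subgroup.map_subtype_le _) (by
        rintro _ ⟨t, ht, rfl⟩
        refine Subgroup.mem_normalizer_fintype ?_
        rintro _ ⟨w, hw, rfl⟩
        exact ⟨_, hW ⟨t, ht⟩ w hw, rfl⟩) with h | h
      · exact Or.inl ((Subgroup.map_eq_bot_iff_of_injective _ N.subtype_injective).1 h)
      · right
        apply Subgroup.map_injective N.subtype_injective
        rw [h, ← MonoidHom.range_eq_map, Subgroup.range_subtype]
  have hχ : Function.Injective χ := (injective_iff_map_eq_one χ).2 fun t ht =>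
    Subtype.ext (hφ _ (MulEquiv.ext fun x => by
      have := h1 t x
      rw [ht, one_mul] at this
      exact Additive.ofMul.injective (e.injective this)))
  have hKcard : Nat.card K = p ^ d := by rw [← hNcard, ← Nat.card_congr e.toEquiv]; rfl
  have hTq' : ∀ t : T, t ^ q = 1 := fun t => Subtype.ext (hTq t t.2)
  have : Nontrivial T := (Subgroup.nontrivial_iff_ne_bot _).2 hF
  obtain ⟨t₀, ht₀⟩ := exists_ne (1 : T)
  have hTcard : Nat.card T = q := by
    have : IsCyclic T := isCyclic_of_injective_ringHom χ hχ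
    obtain ⟨g, hg⟩ := IsCyclic.exists_generator (α := T)
    rw [← orderOf_eq_card_of_forall_mem_zpowers hg]
    refine orderOf_eq_prime (hTq' g) ?_
    rintro rfl
    obtain ⟨k, hk⟩ := hg t₀
    exact ht₀ (by simpa using hk.symm)
  have hd : d = orderOf (p : ZMod q) := H26.card_field_eq_pow_orderOf hq hp hKcard h2
    (by rintro _ ⟨t, rfl⟩; rw [← map_pow, hTq', map_one])
    ⟨_, ⟨t₀, rfl⟩, fun h => ht₀ (hχ (h.trans (map_one χ).symm))⟩
  have hdvd : ∀ i, q ∣ p ^ i - 1 ↔ d ∣ i := fun i => by
    rw [hd, orderOf_dvd_iff_pow_eq_one, ← Nat.modEq_iff_dvd' (Nat.one_le_pow _ _ hp.pos),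
      ← ZMod.natCast_eq_natCast_iff, Nat.cast_pow, Nat.cast_one, eq_comm]
  have hd0 : d ≠ 0 := by
    rintro rfl
    exact Finite.one_lt_card.ne' hNcard
  have : CharP K p := by
    have := Fintype.ofFinite K
    have h0 : ((p : ℕ) : K) ^ d = 0 := by
      rw [← Nat.cast_pow, ← hKcard, Nat.card_eq_fintype_card, FiniteField.cast_card_eq_zero]
    exact (CharP.charP_iff_prime_eq_zero hp).2 (pow_eq_zero_iff hd0 |>.1 h0)
  have hpd : ∀ t : T, t ^ p ^ d = t := fun t => by
    obtain ⟨k, hk⟩ := (hdvd d).2 dvd_rfl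
    rw [show p ^ d = q * k + 1 by have := Nat.one_le_pow d p hp.pos; omega, pow_succ, pow_mul,
      hTq', one_pow, one_mul]
  let _ : CommGroup T := { (inferInstance : Group T) with mul_comm := hTc.is_comm.comm }
  let π : MulAut T := MulEquiv.ofBijective (powMonoidHom p) (Finite.injective_iff_bijective.1
    ((injective_iff_map_eq_one _).2 fun t ht => by
      rw [← hpd t, ← Nat.succ_pred_eq_of_ne_zero hd0, pow_succ', pow_mul,
        show t ^ p = 1 from ht, one_pow]))
  have hπ : ∀ (i : ℕ) (t : T), (π ^ i) t = t ^ p ^ i := fun i => by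
    induction i with
    | zero => simp
    | succ i ih => intro t; rw [pow_succ', MulAut.mul_apply, ih, pow_succ, pow_mul]; rfl
  let θ : stabilizer G α →* MulAut T := MulAut.conjNormal
  have hker : θ.ker = T := by
    refine Eq.trans ?_ hcent
    ext g
    rw [MonoidHom.mem_ker, Subgroup.mem_centralizer_iff, MulEquiv.ext_iff]
    refine ⟨fun h x hx => ?_, fun h x => Subtype.ext ?_⟩
    · have := congrArg Subtype.val (h ⟨x, hx⟩)
      exact (mul_inv_eq_iff_eq_mul.1 this).symm
    · exact mul_inv_eq_iff_eq_mul.2 (h x x.2).symm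
  have hrange : θ.range ≤ Subgroup.zpowers π := by
    rintro _ ⟨s, rfl⟩
    obtain ⟨i, hi⟩ := semilinear p χ h2 (e.symm.trans ((MulEquiv.toAdditive (φ s)).trans e)) (θ s)
      fun t x => by
        obtain ⟨x, rfl⟩ := (Additive.ofMul.trans e.toEquiv).surjective x
        change e (Additive.ofMul (φ s (e.symm (χ t * e (Additive.ofMul x))).toMul)) =
          χ (θ s t) * e (Additive.ofMul (φ s (e.symm (e (Additive.ofMul x))).toMul))
        rw [← h1, e.symm_apply_apply, e.symm_apply_apply, ← h1]
        congr 2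
        change (φ s * φ t) x = (φ (s * t * s⁻¹) * φ s) x
        rw [← map_mul, ← map_mul, inv_mul_cancel_right]
    exact ⟨i, MulEquiv.ext fun t => hχ (by
      simp only [zpow_natCast, hπ, hi, map_pow])⟩
  have hcyc : IsCyclic θ.range := Subgroup.isCyclic_of_le hrange
  refine ⟨q, hq, fun ω hω => by rw [← (hall ω hω).2.2.2, hTcard], (hdvd d).2 dvd_rfl,
    fun i hi hid h => absurd (Nat.le_of_dvd hi ((hdvd i).1 h)) (by omega),
    T.map (stabilizer G α).subtype, Subgroup.map_subtype_le _, hTn,
    by rw [Subgroup.card_map_of_injective (stabilizer G α).subtype_injective, hTcard], ?_, ?_⟩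
  · obtain ⟨⟨_, s, rfl⟩, hs⟩ := hcyc.exists_generator
    refine ⟨s, le_antisymm (fun g hg => ?_)
      (sup_le (Subgroup.map_subtype_le _) (Subgroup.zpowers_le.2 s.2))⟩
    obtain ⟨k, hk⟩ := hs ⟨_, ⟨g, hg⟩, rfl⟩
    have h3 : (⟨g, hg⟩ : stabilizer G α) * (s ^ k)⁻¹ ∈ T := by
      rw [← hker, MonoidHom.mem_ker, map_mul, map_inv, map_zpow, mul_inv_eq_one]
      exact (congrArg Subtype.val hk).symm
    rw [← inv_mul_cancel_right g ((s : G) ^ k)]
    exact Subgroup.mul_mem_sup ⟨_, h3, rfl⟩ ⟨k, rfl⟩
  · rw [← θ.ker.card_mul_index, Subgroup.index_ker, hker, hTcard]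
    refine Nat.mul_dvd_mul_left _ ((Subgroup.card_dvd_of_le hrange).trans ?_)
    rw [Nat.card_zpowers, orderOf_dvd_iff_pow_eq_one]
    exact MulEquiv.ext fun t => by rw [hπ, hpd]; rfl

end Cfsg.Agent.S3496
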