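import Cfsg.Agent.Base
import Cfsg.Agent.H89.Prim
import Cfsg.Agent.H5.ThompsonFpf
import Cfsg.Statements.S3498

set_option autoImplicit false
open Cfsg

namespace Cfsg.Agent.S3498

open scoped Pointwise

/-- A maximal subgroup of a finite almost simple group does not have prime order. Here G is almost simple in the sense that it has a non-abelian simple normal subgroup T with trivial centralizer. -/
theorem result {G : Type*} [Group G] [Finite G] (T : Subgroup G) [T.Normal] (hT : IsSimpleGroup T) (hTc : ¬ IsMulCommutative T)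
    (hC : Subgroup.centralizer (T : Set G) = ⊥) (H : Subgroup G) (hmax : IsCoatom H) : ¬ (Nat.card H).Prime := by
  intro hp
  have : Fact (Nat.card H).Prime := ⟨hp⟩
  have key : ∀ N : Subgroup G, N.Normal → N ≠ ⊥ → T ≤ N := fun N hN hN1 => by
    rcases hT.eq_bot_or_eq_top_of_normal (N.subgroupOf T) inferInstance with h | h
    · refine absurd (le_bot_iff.1 (hC ▸ fun x hx y hy => ?_)) hN1
      exact (Subgroup.commute_of_normal_of_disjoint T N inferInstance hN
        (Subgroup.subgroupOf_eq_bot.1 h).symm y x hy hx).eq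
    · exact Subgroup.subgroupOf_eq_top.1 h
  have hH1 : H ≠ ⊥ := fun h => hp.one_lt.ne' (by rw [h, Subgroup.card_bot])
  have hnn : ¬ H.Normal := fun hn => by
    have := isCyclic_of_prime_card (α := H) rfl
    have h1 : IsMulCommutative H := inferInstance
    exact hTc ⟨⟨fun x y => Subtype.ext (congrArg Subtype.val
      (h1.is_comm.comm ⟨x, key H hn hH1 x.2⟩ ⟨y, key H hn hH1 y.2⟩) :)⟩⟩
  have hF : IsFrobeniusComplement H := by
    refine ⟨hH1, hmax.1, fun g hg => ?_⟩
    rcases (H ⊓ MulAut.conj g • H).subgroupOf H |>.eq_bot_or_eq_top_of_prime_card with h | h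
    · rw [Subgroup.subgroupOf_eq_bot, disjoint_iff, inf_right_comm, inf_idem] at h
      exact h
    · exfalso
      rw [Subgroup.subgroupOf_eq_top, le_inf_iff] at h
      refine hnn (Subgroup.normalizer_eq_top_iff.1 (hmax.2 _
        (lt_of_le_of_ne Subgroup.le_normalizer fun h' => hg ?_)))
      rw [h', ← inv_mem_iff]
      refine Subgroup.mem_normalizer_fintype fun x hx => ?_
      have := h.2 hx
      rwa [Subgroup.mem_pointwise_smul_iff_inv_smul_mem, ← map_inv] at this
  have h1 := H5.frobKer_isNilpotent hF
  have h2 := key _ (H5.frobKer_normal hF) (H5.frobKer_ne_bot hF)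
  have h3 : Group.IsSolvable T :=
    Group.isSolvable_of_isSolvable_injective (Subgroup.inclusion_injective h2)
  exact hTc ⟨⟨IsSimpleGroup.comm_iff_isSolvable.2 h3⟩⟩

end Cfsg.Agent.S3498
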