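import Cfsg.Agent.Base
import Cfsg.Agent.H89.Derange
import Cfsg.Agent.H89.Burnside2
import Cfsg.Statements.S3501

set_option autoImplicit false
open Cfsg

namespace Cfsg.Agent.S3501

open MulAction

theorem comm_of_orderOf_eq {T : Type*} [Group T] [Finite T] [IsSimpleGroup T]
    (h : ∀ x y : T, x ≠ 1 → y ≠ 1 → orderOf x = orderOf y) : IsMulCommutative T := by
  obtain ⟨p, hp, hpow⟩ := H89.exists_prime_of_orderOf_eq h
  have : Fact p.Prime := ⟨hp⟩
  have := (show IsPGroup p T from fun x => ⟨1, by simpa using hpow x⟩).isNilpotent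
  exact ⟨⟨IsSimpleGroup.comm_iff_isSolvable.2 inferInstance⟩⟩

/-- A transitive characteristically simple nonabelian group whose derangements are all conjugate
under automorphisms is simple. -/
theorem simple_of_one_class {N Ω : Type*} [Group N] [Finite N] [Nontrivial N] [MulAction N Ω]
    [FaithfulSMul N Ω] [IsPretransitive N Ω] (a : Ω)
    (hc : ∀ H : Subgroup N, H.Characteristic → H = ⊥ ∨ H = ⊤) (hna : ¬ IsMulCommutative N)
    (h : ∀ x y : N, (∀ ω : Ω, x • ω ≠ ω) → (∀ ω : Ω, y • ω ≠ ω) → ∃ φ : N ≃* N, φ x = y) :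
    IsSimpleGroup N := by
  obtain ⟨n, -, V, hn, -, hV, -, hind, htop⟩ := H89.exists_family_of_char_simple hc
  set T := V ⟨0, hn⟩ with hT
  have hTs : IsSimpleGroup T := H89.isSimpleGroup_of_iSupIndep_of_top V hV hind htop _
  have hTm : H89.IsMinNormal T := hV _
  have hTn := hTm.normal
  set C := Subgroup.centralizer (T : Set N) with hC
  have hsup : T ⊔ C = ⊤ := by
    rw [eq_top_iff, ← htop]
    refine iSup_le fun i => ?_
    by_cases hi : V i = T
    · exact hi ▸ le_sup_left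
    · exact le_sup_of_le_right fun x hx y hy => ((hV i).commute hTm hi hx hy).symm.eq
  have hdec : ∀ x : N, ∃ t ∈ T, ∃ c ∈ C, t * c = x := fun x =>
    Subgroup.mem_sup_of_normal_left.1 (hsup ▸ Subgroup.mem_top x)
  have hTna : ¬ IsMulCommutative T := fun hcomm => by
    have h1 : T ≤ Subgroup.center N := fun x hx => by
      rw [Subgroup.mem_center_iff]
      intro y
      obtain ⟨t, ht, c, hc, rfl⟩ := hdec y
      have h2 : t * x = x * t := congrArg Subtype.val (hcomm.is_comm.comm ⟨t, ht⟩ ⟨x, hx⟩)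
      rw [mul_assoc, ← hc x hx, ← mul_assoc, h2, mul_assoc]
    rcases hc (Subgroup.center N) inferInstance with h2 | h2
    · exact hTm.ne_bot (le_bot_iff.1 (h2 ▸ h1))
    · exact hna ⟨⟨fun x y =>
        Subgroup.mem_center_iff.1 (h2 ▸ Subgroup.mem_top y : y ∈ Subgroup.center N) x⟩⟩
  have hTC : ∀ x ∈ T, x ∈ C → x = 1 := fun x hx hxC => by
    rcases hTm.le_or_disjoint C inferInstance with h1 | h1
    · exact absurd ⟨⟨fun x y => Subtype.ext (h1 y.2 x x.2)⟩⟩ hTna
    · exact Subgroup.disjoint_def.1 h1 hx hxC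
  by_cases hC1 : C = ⊥
  · rw [hC1, sup_bot_eq] at hsup
    rw [hsup] at hTs
    exact Subgroup.topEquiv.symm.isSimpleGroup
  exfalso
  obtain ⟨⟨s, hs⟩, hs1⟩ := Subgroup.ne_bot_iff_exists_ne_one.1 hC1
  let R : Subgroup T :=
    { carrier := {t | ∃ c ∈ C, ((t : N) * c) • a = a}
      one_mem' := ⟨1, C.one_mem, by simp⟩
      mul_mem' := by
        rintro t t' ⟨c, hc, h1⟩ ⟨c', hc', h2⟩
        refine ⟨c * c', C.mul_mem hc hc', ?_⟩
        rw [Subgroup.coe_mul, mul_assoc, ← mul_assoc (t' : N), hc _ t'.2, mul_assoc, ← mul_assoc,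
          mul_smul, h2, h1]
      inv_mem' := by
        rintro t ⟨c, hc, h1⟩
        refine ⟨c⁻¹, C.inv_mem hc, ?_⟩
        rw [Subgroup.coe_inv, ← mul_inv_rev, ← hc _ t.2, inv_smul_eq_iff, h1] }
  by_cases hR : R = ⊤
  · have hn' : ((stabilizer N a).subgroupOf T).Normal := ⟨fun x hx t => by
      obtain ⟨c, hc, h1⟩ : t ∈ R := hR ▸ Subgroup.mem_top t
      have h2 : (t : N) * c * x * ((t : N) * c)⁻¹ ∈ stabilizer N a :=
        Subgroup.mul_mem _ (Subgroup.mul_mem _ h1 hx) (Subgroup.inv_mem _ h1)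
      rw [mul_assoc (t : N), ← hc _ x.2, mul_inv_rev, mul_assoc, mul_assoc, mul_inv_cancel_left,
        ← mul_assoc] at h2
      exact h2⟩
    rcases hTs.eq_bot_or_eq_top_of_normal _ hn' with h1 | h1
    · have hd : ∀ x : T, x ≠ 1 → ∀ ω : Ω, (x : N) • ω ≠ ω := fun x hx ω hω => by
        obtain ⟨g, rfl⟩ := exists_smul_eq N a ω
        have h2 : (⟨g⁻¹ * x * g⁻¹⁻¹, hTn.conj_mem _ x.2 _⟩ : T) ∈ (stabilizer N a).subgroupOf T := by
          change (g⁻¹ * x * g⁻¹⁻¹) • a = a
          rw [inv_inv, mul_smul, mul_smul, hω, inv_smul_smul]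
        rw [h1, Subgroup.mem_bot, Subtype.ext_iff] at h2
        exact hx (Subtype.ext (conj_eq_one_iff.1 h2))
      refine hTna (comm_of_orderOf_eq fun x y hx hy => ?_)
      obtain ⟨φ, hφ⟩ := h x y (hd x hx) (hd y hy)
      rw [← Subgroup.orderOf_coe, ← Subgroup.orderOf_coe, ← hφ, φ.orderOf_eq]
    · exact hTm.ne_bot (H89.eq_bot_of_normal_of_le_stabilizer (Subgroup.subgroupOf_eq_top.1 h1))
  obtain ⟨t, ht⟩ := H89.exists_forall_conj_notMem hR
  have hd : ∀ c ∈ C, ∀ ω : Ω, ((t : N) * c) • ω ≠ ω := fun c hc ω hω => by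
    obtain ⟨g, rfl⟩ := exists_smul_eq N a ω
    obtain ⟨t', ht', c', hc', rfl⟩ := hdec g
    refine ht ⟨t', ht'⟩ ⟨c'⁻¹ * c * c', C.mul_mem (C.mul_mem (C.inv_mem hc') hc) hc', ?_⟩
    have h1 : t'⁻¹ * t * t' * (c'⁻¹ * c * c') = (t' * c')⁻¹ * (t * c) * (t' * c') := by
      have h2 := C.inv_mem hc' _ (T.mul_mem (T.mul_mem (T.inv_mem ht') t.2) ht')
      have h3 := hc _ ht'
      calc t'⁻¹ * t * t' * (c'⁻¹ * c * c') = (t'⁻¹ * t * t' * c'⁻¹) * c * c' := by group
        _ = c'⁻¹ * t'⁻¹ * t * (t' * c) * c' := by rw [h2]; group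
        _ = _ := by rw [h3]; group
    change (t'⁻¹ * t * t' * (c'⁻¹ * c * c')) • a = a
    rw [h1, mul_smul, mul_smul, hω, inv_smul_smul]
  obtain ⟨φ, hφ⟩ := h t (t * s) (by simpa using hd 1 C.one_mem) (hd s hs)
  have h1 : (t : N) * s ∈ T.map φ.toMonoidHom := ⟨t, t.2, hφ⟩
  by_cases h2 : T.map φ.toMonoidHom = T
  · rw [h2, T.mul_mem_cancel_left t.2] at h1
    exact hs1 (Subtype.ext (hTC s h1 hs))
  · have h3 : (t : N) * s ∈ C := fun y hy => ((hTm.map_equiv φ).commute hTm h2 h1 hy).symm.eq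
    rw [C.mul_mem_cancel_right hs] at h3
    have h4 : t = 1 := Subtype.ext (hTC t t.2 h3)
    exact ht 1 (by simp [h4])

/-- Let a finite group G act faithfully and primitively on a finite set Ω with at least two points, and suppose G is not almost simple (it has no non-abelian simple normal subgroup with trivial centralizer). Then the derangements of G form a single conjugacy class if and only if G is sharply 2-transitive (2-transitive, and no non-identity element fixes two points). -/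
theorem result {G : Type*} [Group G] [Finite G] {Ω : Type*} [Fintype Ω] [MulAction G Ω] [FaithfulSMul G Ω] (hΩ : 2 ≤ Fintype.card Ω) (hprim : MulAction.IsPreprimitive G Ω) (hnas : ¬ ∃ T : Subgroup G, T.Normal ∧ IsSimpleGroup T ∧ ¬ IsMulCommutative T ∧ Subgroup.centralizer (T : Set G) = ⊥) :
    Nat.card {c : ConjClasses G // ∃ g : G, ConjClasses.mk g = c ∧ ∀ ω : Ω, g • ω ≠ ω} = 1 ↔ (MulAction.IsMultiplyPretransitive G Ω 2 ∧ ∀ g : G, g ≠ 1 → ∀ a b : Ω, a ≠ b → g • a = a → g • b ≠ b) := by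
  have : Nontrivial Ω := Fintype.one_lt_card_iff_nontrivial.1 hΩ
  obtain ⟨a, b, hab⟩ := exists_pair_ne Ω
  constructor
  · intro h
    have hconj : ∀ x y : G, (∀ ω : Ω, x • ω ≠ ω) → (∀ ω : Ω, y • ω ≠ ω) →
        ∃ g : G, g * x * g⁻¹ = y := fun x y hx hy =>
      isConj_iff.1 (ConjClasses.mk_eq_mk_iff_isConj.1 (congrArg Subtype.val
        ((Nat.card_eq_one_iff_unique.1 h).1.elim ⟨_, x, rfl, hx⟩ ⟨_, y, rfl, hy⟩)))
    obtain ⟨N, -, hN⟩ := H89.exists_isMinNormal_le (⊤ : Subgroup G) inferInstance fun h => by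
      obtain ⟨g, rfl⟩ := exists_smul_eq G a b
      have h1 : g = 1 := Subgroup.mem_bot.1 (h ▸ Subgroup.mem_top g)
      exact hab (by rw [h1, one_smul])
    have hNn := hN.normal
    have hNt := H89.isPretransitive_of_normal_of_primitive (Ω := Ω) N hN.ne_bot
    obtain ⟨d, hd⟩ := H89.exists_derangement (G := N) (Ω := Ω)
    obtain ⟨-, h1⟩ := H89.transitive_of_derangements_mem (Ω := Ω) N fun g hg => by
      obtain ⟨x, rfl⟩ := hconj d g hd hg
      exact hNn.conj_mem _ d.2 x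
    have : Nontrivial N := (Subgroup.nontrivial_iff_ne_bot N).2 hN.ne_bot
    have hcomm : IsMulCommutative N := by
      by_contra hna
      have hs := simple_of_one_class a hN.char_simple hna fun x y hx hy => by
        obtain ⟨g, hg⟩ := hconj x y hx hy
        exact ⟨MulAut.conjNormal g, Subtype.ext hg⟩
      have hC := H89.isPretransitive_of_normal_of_primitive (Ω := Ω)
        (Subgroup.centralizer (N : Set G)) fun h => hnas ⟨N, hNn, hs, hna, h⟩
      have hd : ∀ x : N, x ≠ 1 → ∀ ω : Ω, (x : G) • ω ≠ ω := fun x hx ω hω =>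
        hx (Subtype.ext (H89.eq_one_of_commute_transitive (Subgroup.centralizer (N : Set G))
          (fun n hn => (hn x x.2).symm) hω))
      refine hna (comm_of_orderOf_eq fun x y hx hy => ?_)
      obtain ⟨g, hg⟩ := hconj x y (hd x hx) (hd y hy)
      rw [← Subgroup.orderOf_coe, ← Subgroup.orderOf_coe, ← hg]
      exact ((MulAut.conj g).orderOf_eq x).symm
    have hreg : ∀ x ∈ N, x ≠ 1 → ∀ ω : Ω, x • ω ≠ ω := fun x hx hx1 ω hω =>
      hx1 ((H89.stabilizer_subgroup_eq_bot_iff N ω).1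
        (H89.stabilizer_eq_bot_of_comm_transitive N hcomm ω) x hx hω)
    refine ⟨?_, fun g hg x y hxy hx hy => ?_⟩
    · rw [SubMulAction.ofStabilizer.isMultiplyPretransitive (a := a), is_one_pretransitive_iff]
      refine ⟨fun x y => ?_⟩
      obtain ⟨⟨n, hn⟩, hx⟩ := exists_smul_eq N a x
      obtain ⟨⟨m, hm⟩, hy⟩ := exists_smul_eq N a y
      change n • a = x at hx
      change m • a = y at hy
      obtain ⟨g, hg⟩ := hconj n m (hreg n hn fun h => x.2 (by rw [← hx, h, one_smul]; rfl))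
        (hreg m hm fun h => y.2 (by rw [← hy, h, one_smul]; rfl))
      obtain ⟨k, hk, s, hs, rfl⟩ := H89.exists_mul_stabilizer_of_transitive N a g
      have h2 : k * (s * n * s⁻¹) = (s * n * s⁻¹) * k :=
        congrArg Subtype.val (hcomm.is_comm.comm ⟨k, hk⟩ ⟨_, hNn.conj_mem _ hn s⟩)
      have h3 : s * n * s⁻¹ = m := by
        rw [← hg, ← mul_inv_cancel_right (s * n * s⁻¹) k, ← h2]
        group
      refine ⟨⟨s, hs⟩, Subtype.ext ?_⟩
      change s • (x : Ω) = y
      rw [← hx, ← hy, ← h3, mul_smul, mul_smul, (inv_mem hs : s⁻¹ • a = a)]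
    · by_cases hgN : g ∈ N
      · exact hreg g hgN hg x hx
      · exact hxy (H89.eq_of_card_fixedBy_eq_one (h1 g hgN) hx hy)
  · rintro ⟨h2, hsh⟩
    obtain ⟨K, hKn, hK, -⟩ := H89.exists_frobenius_kernel (G := G) (α := Ω)
      fun g x y hxy hx hy => by_contra fun hg => hsh g hg x y hxy hx hy
    obtain ⟨d, hd⟩ := H89.exists_derangement (G := G) (Ω := Ω)
    refine Nat.card_eq_one_iff_unique.2 ⟨⟨?_⟩, ⟨⟨_, d, rfl, hd⟩⟩⟩
    rintro ⟨_, x, rfl, hx⟩ ⟨_, y, rfl, hy⟩
    obtain ⟨g, -, hg⟩ := H89.conj_of_regular_normal h2 K a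
      ((H89.stabilizer_subgroup_eq_bot_iff K a).2 fun n hn hna =>
        ((hK n).1 hn).resolve_right fun h => h a hna)
      ((hK x).2 (Or.inr hx)) ((hK y).2 (Or.inr hy)) (fun h => hx a (by rw [h, one_smul]))
      (fun h => hy a (by rw [h, one_smul]))
    exact Subtype.ext (ConjClasses.mk_eq_mk_iff_isConj.2 (isConj_iff.2 ⟨g, hg⟩))

end Cfsg.Agent.S3501
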