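import Cfsg.Agent.Base
import Cfsg.Agent.H89.OScott
import Cfsg.Statements.S3520

set_option autoImplicit false
open Cfsg

namespace Cfsg.Agent.S3520

open H89 MulAction in

/-- Let a finite group G act faithfully and primitively on a finite set Ω with at least two points, suppose G is not almost simple (no non-abelian simple normal subgroup with trivial centralizer), and suppose the derangements of G form exactly two conjugacy classes. Then either Ω has 3 points and G has order 3; or G has a non-trivial abelian normal subgroup N acting regularly, every non-identity element of G fixes at most one point (so, when n > 3, G is a Frobenius group with kernel N), the number n of points is odd and a point stabilizer has order (n − 1)/2; or G is 2-transitive with a non-trivial abelian regular normal subgroup and some non-identity element fixes at least two points (a non-Frobenius 2-transitive affine group). -/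
theorem result {G : Type*} [Group G] [Finite G] {Ω : Type*} [Fintype Ω] [MulAction G Ω] [FaithfulSMul G Ω] (hΩ : 2 ≤ Fintype.card Ω) (hprim : MulAction.IsPreprimitive G Ω) (hnas : ¬ ∃ T : Subgroup G, T.Normal ∧ IsSimpleGroup T ∧ ¬ IsMulCommutative T ∧ Subgroup.centralizer (T : Set G) = ⊥)
    (hκ : Nat.card {c : ConjClasses G // ∃ g : G, ConjClasses.mk g = c ∧ ∀ ω : Ω, g • ω ≠ ω} = 2) (α : Ω) :
    (Fintype.card Ω = 3 ∧ Nat.card G = 3) ∨
    ((∃ N : Subgroup G, N.Normal ∧ N ≠ ⊥ ∧ IsMulCommutative N ∧ ∀ ω : Ω, MulAction.stabilizer N ω = ⊥) ∧ (∀ g : G, g ≠ 1 → Nat.card (MulAction.fixedBy Ω g) ≤ 1) ∧ ¬ 2 ∣ Fintype.card Ω ∧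
        2 * Nat.card (MulAction.stabilizer G α) = Fintype.card Ω - 1) ∨
    ((∃ N : Subgroup G, N.Normal ∧ N ≠ ⊥ ∧ IsMulCommutative N ∧ ∀ ω : Ω, MulAction.stabilizer N ω = ⊥) ∧ MulAction.IsMultiplyPretransitive G Ω 2 ∧ ∃ g : G, g ≠ 1 ∧ 2 ≤ Nat.card (MulAction.fixedBy Ω g)) := by
  haveI : Nontrivial Ω := Fintype.one_lt_card_iff_nontrivial.1 hΩ
  haveI := nontrivial_of_primitive (G := G) Ω
  have three : ∀ a b c : G, (∀ ω : Ω, a • ω ≠ ω) → (∀ ω : Ω, b • ω ≠ ω) → (∀ ω : Ω, c • ω ≠ ω) →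
      IsConj a b ∨ IsConj a c ∨ IsConj b c := fun a b c ha hb hc => by
    obtain ⟨y, -, hy⟩ := (Nat.card_eq_two_iff' ⟨ConjClasses.mk a, a, rfl, ha⟩).1 hκ
    by_contra h
    push Not at h
    exact h.2.2 (ConjClasses.mk_eq_mk_iff_isConj.1 (congrArg Subtype.val
      ((hy ⟨_, b, rfl, hb⟩ fun e => h.1 (ConjClasses.mk_eq_mk_iff_isConj.1
        (congrArg Subtype.val e).symm)).trans (hy ⟨_, c, rfl, hc⟩ fun e => h.2.1
          (ConjClasses.mk_eq_mk_iff_isConj.1 (congrArg Subtype.val e).symm)).symm)))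
  by_cases hab : ∀ N : Subgroup G, N.Normal → IsMulCommutative N → N = ⊥
  · have hF := fitting_eq_bot_of hab
    obtain ⟨T, T', hT, hT', hne⟩ := exists_two_comp hF hnas
    obtain ⟨a, b, c, ha, hb, hc, h1, h2, h3⟩ := exists_three_derangements (Ω := Ω) hF hT hT' hne
    exact absurd (three a b c ha hb hc) (by tauto)
  push Not at hab
  obtain ⟨N, hN, hc, h1⟩ := hab
  obtain ⟨h2, h3, -⟩ := affine_of_abelian_normal (Ω := Ω) h1 hc
  have reg : ∀ n ∈ N, n ≠ 1 → ∀ ω : Ω, n • ω ≠ ω := fun n hn n1 ω e =>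
    n1 ((stabilizer_subgroup_eq_bot_iff N ω).1 (h3 ω) n hn e)
  have inj : ∀ n ∈ N, ∀ m ∈ N, ∀ ω : Ω, n • ω = m • ω → n = m := fun n hn m hm ω e =>
    (inv_mul_eq_one.1 (by_contra fun h => reg _ (mul_mem (inv_mem hm) hn) h ω
      (by rw [mul_smul, e, inv_smul_smul]))).symm
  have cj : ∀ n ∈ N, ∀ m ∈ N, IsConj n m ↔ m • α ∈ orbit (stabilizer G α) (n • α) :=
    fun n hn m hm => by
      have cs : ∀ h : G, h • α = α → (h * n * h⁻¹) • α = h • n • α := fun h e => by
        rw [mul_smul, mul_smul, inv_smul_eq_iff.2 e.symm]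
      constructor
      · intro e
        obtain ⟨g, rfl⟩ := isConj_iff.1 e
        obtain ⟨k, hk, h, hh, rfl⟩ := exists_mul_stabilizer_of_transitive N α g
        refine ⟨⟨h, hh⟩, (cs h hh).symm.trans ?_⟩
        have : k * (h * n * h⁻¹) = h * n * h⁻¹ * k :=
          congrArg Subtype.val (hc.is_comm.comm ⟨k, hk⟩ ⟨_, hN.conj_mem n hn h⟩)
        rw [show k * h * n * (k * h)⁻¹ = k * (h * n * h⁻¹) * k⁻¹ by group, this,
          mul_inv_cancel_right]
      · rintro ⟨h, e⟩
        exact isConj_iff.2 ⟨h, inj _ (hN.conj_mem n hn h) m hm α ((cs h h.2).trans e)⟩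
  have pt : ∀ ω : Ω, ω ≠ α → ∃ n ∈ N, n ≠ 1 ∧ n • α = ω := fun ω hω => by
    obtain ⟨n, e⟩ := exists_smul_eq N α ω
    exact ⟨n, n.2, fun h => hω (by rw [← e, Subgroup.smul_def, h, one_smul]), e⟩
  by_cases hall : ∀ n ∈ N, ∀ m ∈ N, n ≠ 1 → m ≠ 1 → IsConj n m
  · refine Or.inr (Or.inr ⟨⟨N, hN, h1, hc, h3⟩, ?_, ?_⟩)
    · have key : ∀ ω ω' : Ω, ω ≠ α → ω' ≠ α → ∃ g : G, g • α = α ∧ g • ω = ω' := by
        intro ω ω' hω hω'
        obtain ⟨n, hn, n1, rfl⟩ := pt ω hω
        obtain ⟨m, hm, m1, rfl⟩ := pt ω' hω'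
        obtain ⟨h, e⟩ := (cj n hn m hm).1 (hall n hn m hm n1 m1)
        exact ⟨h, h.2, e⟩
      refine is_two_pretransitive_iff.2 fun {a b c d} ab cd => ?_
      obtain ⟨g, rfl⟩ := exists_smul_eq G α c
      obtain ⟨k, rfl⟩ := exists_smul_eq G α a
      obtain ⟨h, e1, e2⟩ := key (k⁻¹ • b) (g⁻¹ • d) (fun e => ab (inv_smul_eq_iff.1 e).symm)
        fun e => cd (inv_smul_eq_iff.1 e).symm
      exact ⟨g * h * k⁻¹, by simp [mul_smul, e1], by simp [mul_smul, e2]⟩
    by_contra hle
    push Not at hle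
    obtain ⟨⟨n, hn⟩, n1⟩ := (Subgroup.ne_bot_iff_exists_ne_one).1 h1
    replace n1 : n ≠ 1 := fun e => n1 (Subtype.ext e)
    obtain ⟨⟨_, g, rfl, hg⟩, hy, -⟩ :=
      (Nat.card_eq_two_iff' ⟨ConjClasses.mk n, n, rfl, reg n hn n1⟩).1 hκ
    have gN : g ∉ N := fun e => hy (Subtype.ext (ConjClasses.mk_eq_mk_iff_isConj.2
      (hall g e n hn (fun e => hg α (by rw [e, one_smul])) n1)))
    choose f hf using fun ω : Ω => exists_smul_eq N ω (g⁻¹ • ω)
    have finj : Function.Injective f := fun a b e => by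
      by_contra ab
      have hfix : ∀ ω, (g * f ω) • ω = ω := fun ω => by
        rw [mul_smul, show (f ω : G) • ω = _ from hf ω, smul_inv_smul]
      have hh := hle (g * f a) fun e => gN (eq_inv_of_mul_eq_one_left e ▸ inv_mem (f a).2)
      haveI : Nontrivial (fixedBy Ω (g * f a)) :=
        ⟨⟨a, hfix a⟩, ⟨b, e ▸ hfix b⟩, fun e => ab (congrArg Subtype.val e)⟩
      exact hh.not_ge Finite.one_lt_card
    obtain ⟨ω, e⟩ := ((Nat.bijective_iff_injective_and_card f).2
      ⟨finj, (card_eq_of_regular α (h3 α)).symm⟩).2 1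
    have := hf ω
    rw [e, one_smul, eq_inv_smul_iff] at this
    exact hg ω this
  push Not at hall
  obtain ⟨n, hn, m, hm, n1, m1, nm⟩ := hall
  have hD : ∀ g : G, (∀ ω : Ω, g • ω ≠ ω) → g ∈ N := fun g hg => by
    rcases three n m g (reg n hn n1) (reg m hm m1) hg with e | e | e
    · exact absurd e nm
    · obtain ⟨k, rfl⟩ := isConj_iff.1 e
      exact hN.conj_mem n hn k
    · obtain ⟨k, rfl⟩ := isConj_iff.1 e
      exact hN.conj_mem m hm k
  have h4 := (transitive_of_derangements_mem N hD).2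
  have orb : ∀ k ∈ N, k ≠ 1 → (orbit (stabilizer G α) (k • α)).ncard =
      Nat.card (stabilizer G α) := fun k hk k1 => by
    rw [← index_stabilizer, (Subgroup.eq_bot_iff_forall (stabilizer _ (k • α))).2 fun g hg => ?_,
      Subgroup.index_bot]
    by_cases e : (g : G) ∈ N
    · exact Subtype.ext (by_contra fun h => reg _ e h α g.2)
    · exact absurd (eq_of_card_fixedBy_eq_one (h4 g e) hg g.2) (reg k hk k1 α)
  have hcount : 2 * Nat.card (stabilizer G α) + 1 = Fintype.card Ω := by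
    have e : ({α} : Set Ω)ᶜ = orbit (stabilizer G α) (n • α) ∪ orbit (stabilizer G α) (m • α) := by
      ext ω
      constructor
      · intro hω
        obtain ⟨k, hk, k1, rfl⟩ := pt ω hω
        rcases three n m k (reg n hn n1) (reg m hm m1) (reg k hk k1) with e | e | e
        · exact absurd e nm
        · exact Or.inl ((cj n hn k hk).1 e)
        · exact Or.inr ((cj m hm k hk).1 e)
      · rintro (⟨h, rfl⟩ | ⟨h, rfl⟩) e
        · exact reg n hn n1 α (smul_left_cancel (h : G) (e.trans h.2.symm))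
        · exact reg m hm m1 α (smul_left_cancel (h : G) (e.trans h.2.symm))
    have := Set.ncard_add_ncard_compl ({α} : Set Ω)
    have dj : Disjoint (orbit (stabilizer G α) (n • α)) (orbit (stabilizer G α) (m • α)) :=
      (orbit.eq_or_disjoint _ _).resolve_left fun e =>
        nm ((cj n hn m hm).2 (e ▸ mem_orbit_self _))
    rw [e, Set.ncard_union_eq dj, orb n hn n1, orb m hm m1,
      Set.ncard_singleton, Nat.card_eq_fintype_card (α := Ω)] at this
    omega
  refine Or.inr (Or.inl ⟨⟨N, hN, h1, hc, h3⟩, fun g g1 => ?_, by omega, by omega⟩)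
  by_cases e : g ∈ N
  · haveI : IsEmpty (fixedBy Ω g) := ⟨fun x => reg g e g1 x x.2⟩
    simp
  · exact (h4 g e).le

end Cfsg.Agent.S3520
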