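import Cfsg.Agent.Base
import Cfsg.Agent.H89.OScott
import Cfsg.Agent.H42.OddOrder
import Cfsg.Agent.S3494
import Cfsg.Statements.S3521

set_option autoImplicit false
open Cfsg

namespace Cfsg.Agent.S3521

open H89 MulAction in

/-- Let a finite group G that is not solvable act faithfully and primitively on a finite set with p ^ d points (p prime), with a non-trivial abelian normal subgroup acting regularly (affine type) and with non-trivial point stabilizers each acting primitively on every one of its orbits (an insoluble extremely primitive group of affine type). Then p = 2; and if moreover G is not 2-transitive, then a point stabilizer is almost simple (it has a non-abelian simple normal subgroup with trivial centralizer). -/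
theorem result {G : Type*} [Group G] [Finite G] {Ω : Type*} [Fintype Ω] [MulAction G Ω] [FaithfulSMul G Ω] (p d : ℕ) (hp : p.Prime) (hcard : Fintype.card Ω = p ^ d) (hsol : ¬ Group.IsSolvable G)
    (N : Subgroup G) [N.Normal] (hN : N ≠ ⊥) (hNc : IsMulCommutative N) (hNreg : ∀ ω : Ω, MulAction.stabilizer N ω = ⊥)
    (hprim : MulAction.IsPreprimitive G Ω) (hH : ∀ α : Ω, MulAction.stabilizer G α ≠ ⊥) (hep : ∀ (α : Ω) (ω : Ω), MulAction.IsPreprimitive (MulAction.stabilizer G α) (MulAction.orbit (MulAction.stabilizer G α) ω)) (α : Ω) :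
    p = 2 ∧ (¬ MulAction.IsMultiplyPretransitive G Ω 2 → ∃ T : Subgroup (MulAction.stabilizer G α), T.Normal ∧ IsSimpleGroup T ∧ ¬ IsMulCommutative T ∧ Subgroup.centralizer (T : Set (MulAction.stabilizer G α)) = ⊥) := by
  obtain ⟨⟨n₀, hn₀⟩, n1⟩ := (Subgroup.ne_bot_iff_exists_ne_one).1 hN
  have reg : ∀ n : N, (n : G) • α = α → n = 1 := fun n e =>
    (Subgroup.eq_bot_iff_forall _).1 (hNreg α) n e
  haveI : Nontrivial Ω := ⟨_, _, fun e => n1 (reg _ e)⟩
  obtain ⟨h2, -, r, hr, h4⟩ := affine_of_abelian_normal (Ω := Ω) hN hNc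
  letI : MulDistribMulAction (stabilizer G α) N :=
    MulDistribMulAction.compHom N ((MulAut.conjNormal (H := N)).comp (stabilizer G α).subtype)
  have key : ∀ (h : stabilizer G α) (n : N), h • n = n ↔ (h : G) • (n : G) • α = (n : G) • α := by
    intro h n
    have e : ((h • n : N) : G) • α = (h : G) • (n : G) • α := by
      change ((h : G) * n * (h : G)⁻¹) • α = _
      rw [mul_smul, mul_smul, show (h : G)⁻¹ • α = α from (h⁻¹).2]
    rw [← e]
    refine ⟨fun e => by rw [e], fun e => (inv_mul_eq_one.1 (reg _ ?_)).symm⟩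
    rw [Subgroup.coe_mul, mul_smul, e, Subgroup.coe_inv, inv_smul_smul]
  have hmax : ∀ v : N, v ≠ 1 → ∀ K, stabilizer (stabilizer G α) v ≤ K →
      K = ⊤ ∨ K ≤ stabilizer (stabilizer G α) v := fun v _ K hK => by
    refine (ep_max (hep α ((v : G) • α)) (K.map (stabilizer G α).subtype)
      fun g h1 h2 => ⟨⟨g, h1⟩, hK ((key _ _).2 h2), rfl⟩).imp (fun e => eq_top_iff.2 fun g _ => ?_)
      fun e g hg => (key _ _).2 (e g ⟨g, hg, rfl⟩ g.2)
    obtain ⟨k, hk, e'⟩ := e g.2
    exact (Subtype.ext e' : k = g) ▸ hk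
  have hcf : ∀ v : N, v ≠ 1 → ∀ A : Subgroup (stabilizer G α), A.Normal →
      A ≤ stabilizer (stabilizer G α) v → A = ⊥ := fun v hv A hA h =>
    (Subgroup.eq_bot_iff_forall _).2 fun a ha =>
      Cfsg.Agent.S3494.result hprim hH hep α ((v : G) • α) (fun e => hv (reg v e)) a (by
        rintro _ ⟨g, rfl⟩
        have := (key _ _).1 (h (hA.conj_mem' a ha g))
        rw [Subgroup.coe_mul, Subgroup.coe_mul, mul_smul, mul_smul, Subgroup.coe_inv,
          inv_smul_eq_iff] at this
        exact this)
  have hs : ¬ Group.IsSolvable (stabilizer G α) := fun _ => hsol (by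
    haveI : Group.IsSolvable N := Group.isSolvable_of_comm hNc.is_comm.comm
    haveI : Group.IsSolvable (G ⧸ N) := Group.isSolvable_of_surjective
      (f := (QuotientGroup.mk' N).comp (stabilizer G α).subtype) fun x => by
        obtain ⟨g, rfl⟩ := QuotientGroup.mk_surjective x
        obtain ⟨n, hn, s, hs, rfl⟩ := exists_mul_stabilizer_of_transitive N α g
        refine ⟨⟨s, hs⟩, ?_⟩
        change (s : G ⧸ N) = _
        rw [QuotientGroup.mk_mul, (QuotientGroup.eq_one_iff n).2 hn, one_mul]
    exact Group.isSolvable_of_ker_le_range N.subtype (QuotientGroup.mk' N) (by simp))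
  have comm := hNc.is_comm.comm
  obtain ⟨v, v1, vv⟩ : ∃ v : N, v ≠ 1 ∧ v * v = 1 := by
    obtain ⟨t, ht⟩ := exists_prime_orderOf_dvd_card' (G := stabilizer G α) 2
      (even_iff_two_dvd.1 (Nat.not_odd_iff_even.1 fun h => hs (H42.odd_order h)))
    have tt : t * t = 1 := by rw [← pow_two, ← ht, pow_orderOf_eq_one]
    obtain ⟨n, hn⟩ : ∃ n : N, t • n ≠ n := by
      by_contra hc
      push Not at hc
      have : t ∈ (MulAction.toPermHom (stabilizer G α) N).ker := Equiv.ext hc
      rw [hcf _ n1 (MulAction.toPermHom (stabilizer G α) N).ker inferInstance fun a ha =>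
        Equiv.congr_fun (MonoidHom.mem_ker.1 ha) _, Subgroup.mem_bot] at this
      simp [this] at ht
    have tv : t • (n⁻¹ * t • n) = (n⁻¹ * t • n)⁻¹ := by
      rw [smul_mul', ← mul_smul, tt, one_smul, smul_inv', mul_inv_rev, inv_inv]
    have v1 : n⁻¹ * t • n ≠ 1 := fun e => hn (inv_mul_eq_one.1 e).symm
    generalize n⁻¹ * t • n = v at tv v1
    refine ⟨v, v1, ?_⟩
    let K : Subgroup (stabilizer G α) :=
      { carrier := {h | h • v = v ∨ h • v = v⁻¹}
        one_mem' := Or.inl (one_smul _ _)
        mul_mem' := by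
          rintro a b (ha | ha) (hb | hb) <;> simp [mul_smul, smul_inv', ha, hb]
        inv_mem' := by
          rintro a (ha | ha)
          · exact Or.inl (inv_smul_eq_iff.2 ha.symm)
          · exact Or.inr (inv_smul_eq_iff.2 (by rw [smul_inv', ha, inv_inv])) }
    rcases hmax v v1 K fun a ha => Or.inl ha with e | e
    · have hK : ∀ h : stabilizer G α, h • v = v ∨ h • v = v⁻¹ := fun h => e.ge (Subgroup.mem_top h)
      have cm : ∀ a b : stabilizer G α, a • b • v = b • a • v := fun a b => by
        rcases hK a with ha | ha <;> rcases hK b with hb | hb <;> simp [smul_inv', ha, hb]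
      have := hcf v v1 (stabilizer _ v) ⟨fun a ha g => by
        rw [mem_stabilizer_iff, mul_smul, mul_smul, cm a, mem_stabilizer_iff.1 ha,
          smul_inv_smul]⟩ le_rfl
      refine absurd (Group.isSolvable_of_comm fun a b => (inv_mul_eq_one.1
        ((Subgroup.eq_bot_iff_forall _).1 this _ ?_))) hs
      rw [mem_stabilizer_iff, mul_smul, inv_smul_eq_iff, mul_smul, mul_smul, cm]
    · exact eq_inv_iff_mul_eq_one.1 ((mem_stabilizer_iff.1 (e (Or.inr tv))).symm.trans tv)
  have o2 : orderOf v = 2 := orderOf_eq_prime (by rw [pow_two, vv]) v1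
  refine ⟨?_, fun _ => ?_⟩
  · have := orderOf_dvd_natCard v
    rw [o2, card_eq_of_regular α (hNreg α), Nat.card_eq_fintype_card, hcard] at this
    exact ((Nat.prime_dvd_prime_iff_eq Nat.prime_two hp).1 (Nat.prime_two.dvd_of_dvd_pow this)).symm
  · haveI : Nontrivial N := ⟨_, _, v1⟩
    have : 2 ∣ r := o2 ▸ orderOf_dvd_of_pow_eq_one (Subtype.ext (h4 v v.2))
    obtain rfl := (Nat.prime_dvd_prime_iff_eq Nat.prime_two hr).1 this
    exact almost_simple_of_affine (V := N) (fun A h => H42.odd_order h) comm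
      (fun w => Subtype.ext ((pow_two (w : G)).symm.trans (h4 w w.2))) hmax hcf hs

end Cfsg.Agent.S3521
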