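import Cfsg.Statements.S3530
import Cfsg.Agent.H70.RROut
import Cfsg.Agent.H1.RRW
import Cfsg.Agent.H60.RrK2
import Cfsg.Agent.H8.RRMono
import Cfsg.Agent.H35.RRAF
import Cfsg.Agent.H30.RrN
import Cfsg.Agent.H87.RRH2
import Cfsg.Agent.H87.RRK1R
import Cfsg.Agent.H61.RRL2
import Cfsg.Agent.H49.RrAut
import Cfsg.Agent.H54.RRK1C
import Cfsg.Agent.H33.RRRed
import Cfsg.Agent.H33.RRK1L
import Cfsg.Agent.H33.RRFix
import Cfsg.Agent.H41.RRK2L
import Cfsg.Agent.H44.RRa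
import Cfsg.Agent.H38.RRN2

set_option autoImplicit false
open Cfsg

namespace Cfsg.Agent.S3530

/-- Let R be the small Ree group over the field with q = 3^(2m+1) ≥ 27 elements. A finite group with the same set of element orders as R × R is isomorphic to R × R. -/
theorem result {K : Type*} [Field K] [Fintype K] {m : ℕ} (hm : 1 ≤ m) (hK : Fintype.card K = 3 ^ (2 * m + 1))
    {G : Type*} [Group G] [Finite G]
    (h : Set.range (orderOf : G → ℕ) = Set.range (orderOf : ↥(Cfsg.Lie.twistedG2 K (3 ^ m)) × ↥(Cfsg.Lie.twistedG2 K (3 ^ m)) → ℕ)) :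
    Nonempty (G ≃* ↥(Cfsg.Lie.twistedG2 K (3 ^ m)) × ↥(Cfsg.Lie.twistedG2 K (3 ^ m))) := by
  have kA := H35.RR.kitA
  have kB := H35.RR.kitB
  have hF := H33.RR.jobFix
  have hA := H35.RR.jobAF
  have hT := H35.RR.jobT
  have hN := H35.RR.jobNS
  have hB := H44.RR.jobK1B kA kB hF
  exact H70.RR.s3530 ⟨kB, H30.Rr.jobN, H38.RRN2.jobN2, H61.RRL.jobL2, hN, H33.RR.jobRed kA kB,
    H44.RR.jobKill kA kB hA hN, H87.RRK.jobK1R kA kB hT, H33.RR.jobK1L kA kB hB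
      (H54.RR.jobK1C kA kB hF hB (H87.RRK.jobH2 kA kB) (H1.RR.jobW kA kB hA)), H8.RRM.jobMono,
    H41.RRK2L.jobK2L kA kB hF hN hT, H60.RR.jobK2R kB hA hT,
    H70.RR.jobOut H49.RrAut.jobAut hF, H60.RR.jobFin kB hA⟩ kA hm hK h

end Cfsg.Agent.S3530
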