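import Cfsg.Agent.Base
import Cfsg.Agent.H70.SqJ1
import Cfsg.Agent.H76.FourA3
import Cfsg.Agent.H90.OrdJC
import Cfsg.Statements.S3531

set_option autoImplicit false
open Cfsg

namespace Cfsg.Agent.S3531

/-- Let J be the first Janko group. A finite group with the same set of element orders as J × J is isomorphic to J × J. -/
theorem result {G : Type*} [Group G] [Finite G]
    (h : Set.range (orderOf : G → ℕ) = Set.range (orderOf : ↥Cfsg.Spor.J1 × ↥Cfsg.Spor.J1 → ℕ)) :
    Nonempty (G ≃* ↥Cfsg.Spor.J1 × ↥Cfsg.Spor.J1) := by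
  exact H70.Sq.s3531 (H90.OrdR.jobJC H76.Four.st3814) h
end Cfsg.Agent.S3531
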