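import Cfsg.Agent.Base
import Cfsg.Agent.H89.Prim
import Cfsg.Statements.S3554

set_option autoImplicit false
open Cfsg

namespace Cfsg.Agent.S3554

open MulAction

/-- Let G act faithfully and transitively on a finite set and suppose G has a non-trivial cyclic normal subgroup. Then some element of G of prime order fixes no point. -/
theorem result {G Ω : Type*} [Group G] [Finite G] [MulAction G Ω] [FaithfulSMul G Ω] [Finite Ω]
    (htrans : MulAction.IsPretransitive G Ω) (C : Subgroup G) (hC : C.Normal) (hC1 : C ≠ ⊥) (hcyc : IsCyclic ↥C) :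
    ∃ g : G, (orderOf g).Prime ∧ ∀ ω : Ω, g • ω ≠ ω := by
  have := (Subgroup.nontrivial_iff_ne_bot C).2 hC1
  obtain ⟨p, hp, hd⟩ := Nat.exists_prime_and_dvd (n := Nat.card C) Finite.one_lt_card.ne'
  have : Fact p.Prime := ⟨hp⟩
  obtain ⟨x, hx⟩ := exists_prime_orderOf_dvd_card' p hd
  have hx' : orderOf (x : G) = p := by rw [Subgroup.orderOf_coe, hx]
  refine ⟨x, hx' ▸ hp, fun ω hω => ?_⟩
  obtain ⟨⟨c, hc⟩, hgen⟩ := hcyc.exists_generator
  have hN : (Subgroup.zpowers (x : G)).Normal := by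
    refine ⟨?_⟩
    rintro _ ⟨k, rfl⟩ g
    obtain ⟨i, hi⟩ := hgen x
    obtain ⟨j, hj⟩ := hgen ⟨_, hC.conj_mem c hc g⟩
    have hi' : c ^ i = x := by simpa using congrArg Subtype.val hi
    have hj' : c ^ j = g * c * g⁻¹ := by simpa using congrArg Subtype.val hj
    refine ⟨j * k, ?_⟩
    simp only [← hi', ← conj_zpow, ← hj', ← zpow_mul]
    congr 1
    ring
  have h := H89.eq_bot_of_normal_of_le_stabilizer (N := Subgroup.zpowers (x : G)) (a := ω)
    ((Subgroup.zpowers_le).2 hω)
  rw [Subgroup.zpowers_eq_bot] at h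
  rw [h, orderOf_one] at hx'
  exact hp.one_lt.ne hx'

end Cfsg.Agent.S3554
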