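import Cfsg.Agent.Base
import Cfsg.Statements.S3555
import Cfsg.Agent.H89.Frobenius

set_option autoImplicit false
open Cfsg

namespace Cfsg.Agent.S3555

open Finset in
theorem key {G Ω : Type*} [Group G] [Fintype G] [MulAction G Ω] [Fintype Ω] [DecidableEq Ω] :
    ∑ g : G, #{a : Ω | g ^ 2 • a = a} ≤ ∑ g : G, #{a : Ω | g • a = a} ^ 2 := by
  classical
  have h1 : ∀ g : G, #{a : Ω | g ^ 2 • a = a} =
      ∑ p : Ω × Ω, if g • p.1 = p.2 ∧ g • p.2 = p.1 then 1 else 0 := fun g => by
    rw [← card_filter]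
    refine card_bij (fun a _ => (a, g • a)) (fun a ha => ?_) (fun a _ b _ h => (Prod.ext_iff.mp h).1)
      fun p hp => ⟨p.1, ?_, ?_⟩
    · simpa [pow_two, mul_smul] using ha
    · simp only [mem_filter, mem_univ, true_and] at hp ⊢
      rw [pow_two, mul_smul, hp.1, hp.2]
    · simp only [mem_filter, mem_univ, true_and] at hp
      rw [hp.1]
  have h2 : ∀ g : G, #{a : Ω | g • a = a} ^ 2 =
      ∑ p : Ω × Ω, if g • p.1 = p.1 ∧ g • p.2 = p.2 then 1 else 0 := fun g => by
    rw [← card_filter, pow_two, ← card_product]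
    congr 1
    ext p
    simp
  simp only [h1, h2]
  rw [sum_comm, sum_comm (s := (univ : Finset G))]
  refine sum_le_sum fun p _ => ?_
  rw [← card_filter, ← card_filter]
  rcases (filter (fun g : G => g • p.1 = p.2 ∧ g • p.2 = p.1) univ).eq_empty_or_nonempty with
    h | ⟨x, hx⟩
  · simp [h]
  simp only [mem_filter, mem_univ, true_and] at hx
  refine card_le_card_of_injOn (fun g => x⁻¹ * g) (fun g hg => ?_) fun g _ g' _ h => by
    simpa using h
  simp only [coe_filter, mem_univ, true_and, Set.mem_ofPred_eq] at hg ⊢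
  simp only [mul_smul, hg, inv_smul_eq_iff, hx, and_self]

/-- Let G act faithfully and transitively on a finite set and suppose every element of G fixing no point is an involution. Then either G is an elementary abelian 2-group, or G is a Frobenius group whose Frobenius kernel is an elementary abelian 2-group: G has a Frobenius complement H, and the elements lying in no conjugate of H, together with the identity, pairwise commute and square to the identity. -/
theorem result {G Ω : Type*} [Group G] [Finite G] [MulAction G Ω] [FaithfulSMul G Ω] [Finite Ω]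
    (htrans : MulAction.IsPretransitive G Ω) (hinv : ∀ g : G, (∀ ω : Ω, g • ω ≠ ω) → orderOf g = 2) :
    (IsMulCommutative G ∧ ∀ g : G, g ^ 2 = 1) ∨
    (∃ H : Subgroup G, Cfsg.IsFrobeniusComplement H ∧
      (∀ x ∈ Cfsg.frobeniusKernel H, x ^ 2 = 1) ∧
      ∀ x ∈ Cfsg.frobeniusKernel H, ∀ y ∈ Cfsg.frobeniusKernel H, x * y = y * x) := by
  classical
  have := Fintype.ofFinite G
  have := Fintype.ofFinite Ω
  rcases isEmpty_or_nonempty Ω with h0 | ⟨⟨o⟩⟩
  · simpa using hinv 1 fun ω => h0.elim ω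
  set n := Fintype.card Ω with hn
  let π : G → ℕ := fun g => (Finset.univ.filter fun a : Ω => g • a = a).card
  have h1 : ∑ g, π g = Fintype.card G := by
    have := MulAction.sum_card_fixedBy_eq_card_orbits_mul_card_group G Ω
    have h : Fintype.card (Quotient (MulAction.orbitRel G Ω)) = 1 := by
      have : Nonempty Ω := ⟨o⟩
      rw [Fintype.card_eq_one_iff_nonempty_unique]
      exact (MulAction.pretransitive_iff_unique_quotient_of_nonempty G Ω).mp htrans
    rw [h, one_mul] at this
    rw [← this]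
    exact Finset.sum_congr rfl fun g _ => by
      rw [Fintype.card_subtype]; rfl
  have h2 : ∑ g, π (g ^ 2) ≤ ∑ g, π g ^ 2 := key
  have hle : ∀ g, π g ≤ n := fun g => Finset.card_le_univ _
  have hsq : ∀ g, π g ≤ π (g ^ 2) := fun g => Finset.card_le_card fun a ha => by
    simp only [Finset.mem_filter, Finset.mem_univ, true_and] at ha ⊢
    rw [pow_two, mul_smul, ha, ha]
  have hD : ∀ g, π g = 0 → g ^ 2 = 1 := fun g hg => by
    rw [← hinv g fun ω h => ?_, pow_orderOf_eq_one]
    exact (Finset.card_pos.mpr ⟨ω, by simpa using h⟩).ne' hg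
  have π1 : π 1 = n := by simp [π, hn]
  let t : G → ℤ := fun g => π (g ^ 2) - π g ^ 2 + n * π g - n
  have ht : ∀ g, π g ≠ 0 → ((π g : ℤ) - 1) * (n - π g) ≤ t g := fun g _ => by
    have : (π g : ℤ) ≤ π (g ^ 2) := by exact_mod_cast hsq g
    simp only [t]; nlinarith
  have ht' : ∀ g, π g ≠ 0 → 0 ≤ ((π g : ℤ) - 1) * (n - π g) := fun g hg =>
    mul_nonneg (by omega) (by have := hle g; omega)
  have h3 : ∀ g ∈ Finset.univ, 0 ≤ t g := fun g _ => by
    by_cases hg : π g = 0
    · simp [t, hD g hg, hg, π1]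
    · exact (ht' g hg).trans (ht g hg)
  have h4 : ∑ g, t g = 0 := by
    refine le_antisymm ?_ (Finset.sum_nonneg h3)
    simp only [t, Finset.sum_sub_distrib, Finset.sum_add_distrib, ← Finset.mul_sum,
      Finset.sum_const, Finset.card_univ, nsmul_eq_mul]
    have a1 : ∑ g, (π g : ℤ) = Fintype.card G := by exact_mod_cast h1
    have a2 : ∑ g, (π (g ^ 2) : ℤ) ≤ ∑ g, (π g : ℤ) ^ 2 := by exact_mod_cast h2
    rw [a1]; linarith
  have hs : ∀ (g : G) (a b : Ω), a ≠ b → g • a = a → g • b = b → g = 1 := fun g a b ab ha hb => by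
    have e1 : 1 < π g := Finset.one_lt_card.mpr ⟨a, by simpa, b, by simpa, ab⟩
    have e2 := (Finset.sum_eq_zero_iff_of_nonneg h3).mp h4 g (Finset.mem_univ g)
    have e3 := le_antisymm (e2 ▸ ht g (by omega)) (ht' g (by omega))
    have e4 : π g = n := by
      rcases mul_eq_zero.mp e3 with h | h <;> omega
    refine eq_of_smul_eq_smul (α := Ω) fun c => ?_
    have := (Finset.card_eq_iff_eq_univ _).mp e4 ▸ Finset.mem_univ c
    simpa using this
  have comm : ∀ x y : G, x ^ 2 = 1 → y ^ 2 = 1 → (x * y) ^ 2 = 1 → x * y = y * x :=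
    fun x y hx hy h => by
    rw [pow_two] at hx hy h
    rw [← inv_eq_of_mul_eq_one_right h, mul_inv_rev, inv_eq_of_mul_eq_one_right hx,
      inv_eq_of_mul_eq_one_right hy]
  have hK : ∀ g : G, (g = 1 ∨ ∀ a : Ω, g • a ≠ a) → g ^ 2 = 1 := fun g hg =>
    hg.elim (fun h => by simp [h]) fun h => hinv g h ▸ pow_orderOf_eq_one g
  by_cases hb : MulAction.stabilizer G o = ⊥
  · have h5 : ∀ g : G, g ^ 2 = 1 := fun g => hK g (or_iff_not_imp_left.mpr fun g1 a ha => by
      obtain ⟨x, rfl⟩ := MulAction.exists_smul_eq G o a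
      have : x⁻¹ * g * x ∈ MulAction.stabilizer G o := by
        simp [mul_smul, ha]
      rw [hb, Subgroup.mem_bot] at this
      exact g1 (by simpa [mul_eq_one_iff_eq_inv] using this))
    exact Or.inl ⟨⟨⟨fun x y => comm x y (h5 _) (h5 _) (h5 _)⟩⟩, h5⟩
  · have : Nontrivial Ω := by
      by_contra h
      rw [not_nontrivial_iff_subsingleton] at h
      exact hb (eq_bot_iff.mpr fun g _ => Subgroup.mem_bot.mpr
        (eq_of_smul_eq_smul (α := Ω) fun c => Subsingleton.elim _ _))
    obtain ⟨K, -, hK', -⟩ := H89.exists_frobenius_kernel hs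
    refine Or.inr ⟨_, H89.isFrobeniusComplement_stabilizer hs o hb, ?_⟩
    simp only [H89.mem_frobeniusKernel_stabilizer, ← hK'] at hK ⊢
    exact ⟨hK, fun x hx y hy => comm x y (hK _ hx) (hK _ hy) (hK _ (mul_mem hx hy))⟩

end Cfsg.Agent.S3555
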