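import Cfsg.Agent.Base
import Cfsg.Agent.H89.OScott
import Cfsg.Statements.S3556

set_option autoImplicit false
open Cfsg

namespace Cfsg.Agent.S3556

open H89 in

/-- Let G act faithfully and primitively on a finite set with at least two points, and suppose that for some fixed prime p every element of G fixing no point has order a power of p. Then G is of affine type (it has a regular normal subgroup that is an elementary abelian r-group for some prime r) or almost simple (it has a non-abelian simple normal subgroup with trivial centralizer). -/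
theorem result {G Ω : Type*} [Group G] [Finite G] [MulAction G Ω] [FaithfulSMul G Ω] [Finite Ω]
    (hprim : MulAction.IsPreprimitive G Ω) (hΩ : 2 ≤ Nat.card Ω) (p : ℕ) (hp : p.Prime)
    (hder : ∀ g : G, (∀ ω : Ω, g • ω ≠ ω) → ∃ k : ℕ, orderOf g = p ^ k) :
    (∃ (N : Subgroup G) (r : ℕ), r.Prime ∧ N.Normal ∧ Cfsg.IsElementaryAbelian r N ∧
      MulAction.IsPretransitive N Ω ∧ ∀ a : Ω, MulAction.stabilizer N a = ⊥) ∨
    (∃ T : Subgroup G, T.Normal ∧ IsSimpleGroup ↥T ∧ ¬ IsMulCommutative ↥T ∧
      Subgroup.centralizer (T : Set G) = ⊥) := by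
  haveI : Nontrivial Ω := Finite.one_lt_card_iff_nontrivial.1 hΩ
  haveI := nontrivial_of_primitive (G := G) Ω
  by_cases hab : ∀ N : Subgroup G, N.Normal → IsMulCommutative N → N = ⊥
  · refine Or.inr (by_contra fun hc => ?_)
    have hF := fitting_eq_bot_of hab
    obtain ⟨T, T', hT, hT', hne⟩ := exists_two_comp hF hc
    obtain ⟨g, h1, h2⟩ := exists_derangement_not_pow (Ω := Ω) hF hT hT' hne hp
    obtain ⟨k, hk⟩ := hder g h1
    exact h2 k (hk ▸ pow_orderOf_eq_one g)
  · push Not at hab
    obtain ⟨N, hN, hc, h1⟩ := hab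
    obtain ⟨h2, h3, r, hr, h4⟩ := affine_of_abelian_normal (Ω := Ω) h1 hc
    exact Or.inl ⟨N, r, hr, hN, ⟨hc, h4⟩, h2, h3⟩

end Cfsg.Agent.S3556
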