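import Cfsg.Agent.Base
import Cfsg.Statements.S5726

set_option autoImplicit false
open Cfsg

namespace Cfsg.Agent.S5726

open MulAction

theorem dvd_index_sylow {G Ω : Type*} [Group G] [Finite G] [MulAction G Ω] [IsPretransitive G Ω]
    {p k : ℕ} [Fact p.Prime] (h : p ^ k ∣ Nat.card Ω) (P : Sylow p G) (ω : Ω) :
    p ^ k ∣ (stabilizer P ω).index := by
  have h1 := Subgroup.index_dvd_of_le (inf_le_left : stabilizer G ω ⊓ P ≤ _)
  rw [← Subgroup.relIndex_mul_index inf_le_right, Subgroup.inf_relIndex_right,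
    index_stabilizer_of_transitive] at h1
  exact (Nat.Coprime.pow_left k ((Nat.Prime.coprime_iff_not_dvd Fact.out).2
    P.not_dvd_index)).dvd_of_dvd_mul_right (h.trans h1)

/-- If a finite group acts faithfully and transitively on a set with p^k elements, p a prime and k ≥ 1, then some element of order p fixes no point. -/
theorem result {G Ω : Type*} [Group G] [Finite G] [MulAction G Ω] [FaithfulSMul G Ω] [Fintype Ω] (htr : MulAction.IsPretransitive G Ω)
    (p k : ℕ) (hp : p.Prime) (hk : 1 ≤ k) (hΩ : Fintype.card Ω = p ^ k) :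
    ∃ g : G, orderOf g = p ∧ ∀ ω : Ω, g • ω ≠ ω := by
  haveI : Fact p.Prime := ⟨hp⟩
  obtain ⟨P⟩ : Nonempty (Sylow p G) := inferInstance
  have h1 : 1 < p ^ k := Nat.one_lt_pow (by omega) hp.one_lt
  have h2 := fun ω => dvd_index_sylow (k := k) (by rw [Nat.card_eq_fintype_card, hΩ]) P (ω : Ω)
  obtain ⟨α⟩ : Nonempty Ω := Fintype.card_pos_iff.1 (by omega)
  haveI : Nontrivial P := Finite.one_lt_card_iff_nontrivial.1
    (h1.trans_le (Nat.le_of_dvd Nat.card_pos ((h2 α).trans (Subgroup.index_dvd_card _))))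
  haveI := P.isPGroup'.center_nontrivial
  obtain ⟨n, n0, hn⟩ := (P.isPGroup'.to_subgroup (Subgroup.center P)).nontrivial_iff_card.1 this
  obtain ⟨z, hz⟩ := exists_prime_orderOf_dvd_card' (G := Subgroup.center P) p
    (hn ▸ dvd_pow_self p n0.ne')
  refine ⟨(z : P), by rw [Subgroup.orderOf_coe, Subgroup.orderOf_coe, hz], fun ω e => ?_⟩
  have h3 : orbit P ω = Set.univ := Set.eq_of_subset_of_ncard_le (Set.subset_univ _) (by
    rw [Set.ncard_univ, Nat.card_eq_fintype_card, hΩ, ← index_stabilizer]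
    exact Nat.le_of_dvd (Nat.pos_of_ne_zero Subgroup.index_ne_zero_of_finite) (h2 ω))
  have : ((z : P) : G) = 1 := eq_of_smul_eq_smul (α := Ω) fun x => by
    obtain ⟨g, rfl⟩ := h3.ge (Set.mem_univ x)
    change _ • (g : G) • ω = _ • (g : G) • ω
    rw [one_smul, ← mul_smul, ← Subgroup.coe_mul, ← Subgroup.mem_center_iff.1 z.2 g,
      Subgroup.coe_mul, mul_smul, e]
  rw [show z = 1 from Subtype.ext (Subtype.ext this), orderOf_one] at hz
  exact hp.one_lt.ne hz

end Cfsg.Agent.S5726
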