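import Cfsg.Statements.S3557
import Cfsg.Agent.S5726
import Cfsg.Agent.H9.PBasic
import Cfsg.Agent.H98.Basic

set_option autoImplicit false
open Cfsg

namespace Cfsg.Agent.S3557

open MulAction Subgroup

theorem fix_orbit {Q Ω : Type*} [Group Q] [MulAction Q Ω] {z : Q} (zc : z ∈ center Q) {b : Ω} (zb : z • b = b) :
    ∀ y ∈ orbit Q b, z • y = y := by
  rintro _ ⟨h, rfl⟩
  show z • h • b = h • b
  rw [← mul_smul, ← mem_center_iff.1 zc h, mul_smul, zb]

theorem core {Q Ω : Type*} [Group Q] [Finite Q] [MulAction Q Ω] {p : ℕ} [hp : Fact p.Prime] (hQ : IsPGroup p Q)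
    (hi : ∀ ω : Ω, (stabilizer Q ω).index = p ^ 2) {a b : Ω} {z : Q} (zc : z ∈ center Q) (za : z • a ≠ a)
    (zb : z • b = b) : ∃ w : Q, (∀ y ∈ orbit Q b, w ^ p • y = y ∧ w • y ≠ y) ∧
      ∀ x ∈ orbit Q a, ∀ y ∈ orbit Q b, ∃ g : Q, g • x = z • x ∧ g • y = w • y := by
  set M := zpowers z ⊔ stabilizer Q a with hM
  have h1 : M.index ∣ p := by
    obtain ⟨i, hi2, e⟩ := (Nat.dvd_prime_pow hp.out).1 (hi a ▸ index_dvd_of_le (le_sup_right : _ ≤ M))
    rw [e]
    by_cases h2 : i = 2
    · have := relIndex_mul_index (le_sup_right : stabilizer Q a ≤ M)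
      rw [e, hi, h2, Nat.mul_eq_right (pow_ne_zero 2 hp.out.ne_zero), relIndex_eq_one] at this
      exact (za (this (mem_sup_left (mem_zpowers z)))).elim
    · calc p ^ i ∣ p ^ 1 := pow_dvd_pow p (by omega)
        _ = p := pow_one p
  haveI : M.Normal := by
    rcases (Nat.dvd_prime hp.out).1 h1 with e | e
    · rw [index_eq_one.1 e]; infer_instance
    · obtain ⟨n, hn⟩ := IsPGroup.iff_card.1 hQ
      have n0 : n ≠ 0 := by
        rintro rfl
        have := e ▸ M.index_dvd_card
        rw [hn, pow_zero, Nat.dvd_one] at this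
        exact hp.out.one_lt.ne' this
      exact normal_of_index_eq_minFac_card (by rw [e, hn, hp.out.pow_minFac n0])
  let φ := (toPermHom Q (orbit Q b)).rangeRestrict
  have sφ : Function.Surjective φ := MonoidHom.rangeRestrict_surjective _
  have ev : ∀ {g h : Q}, φ g = φ h → ∀ y ∈ orbit Q b, g • y = h • y := fun {g h} e y hy =>
    congrArg (fun σ : (toPermHom Q (orbit Q b)).range => ((σ.1 ⟨y, hy⟩ : orbit Q b) : Ω)) e
  haveI : Finite (toPermHom Q (orbit Q b)).range := Finite.of_surjective φ sφ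
  haveI : (M.map φ).Normal := Normal.map inferInstance φ sφ
  obtain ⟨_, ⟨w, wM, rfl⟩, wc, ow⟩ := H9.exists_mem_center_orderOf_eq (hQ.of_surjective φ sφ) (K := M.map φ)
    fun e => by
      have : M ≤ stabilizer Q b := fun m hm => by
        have : φ m ∈ M.map φ := mem_map_of_mem φ hm
        rw [e, mem_bot, ← map_one φ] at this
        exact (ev this b (mem_orbit_self b)).trans (one_smul Q b)
      have := (hi b ▸ index_dvd_of_le this).trans h1
      have := Nat.le_of_dvd hp.out.pos this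
      have := hp.out.two_le
      nlinarith
  refine ⟨w, fun y hy => ⟨?_, fun e => ?_⟩, ?_⟩
  · exact (ev (by rw [map_pow, ← ow, pow_orderOf_eq_one, map_one]) y hy).trans (one_smul Q y)
  · have : φ w = 1 := Subtype.ext (Equiv.ext fun t => Subtype.ext (by
      obtain ⟨h, hh⟩ : t.1 ∈ orbit Q y := (orbit_eq_iff.2 hy).symm ▸ t.2
      show w • t.1 = t.1
      rw [← hh]
      show w • h • y = h • y
      rw [← mul_smul, ← ev (g := h * w) (by rw [map_mul, map_mul, mem_center_iff.1 wc]) y hy, mul_smul, e]))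
    rw [this, orderOf_one] at ow
    exact hp.out.one_lt.ne ow
  · rintro _ ⟨h, rfl⟩ y hy
    obtain ⟨u, hu, s, hs, e⟩ := (H98.mem_sup_left_norm (zpowers_le.2 (center_le_normalizer _ zc))).1
      (Normal.conj_mem' inferInstance w wM h : h⁻¹ * w * h ∈ M)
    have uc : u ∈ center Q := zpowers_le.2 zc hu
    have ub : u⁻¹ • b = b := zpowers_le.2 (show z ∈ stabilizer Q b from zb) (inv_mem hu)
    refine ⟨z * u⁻¹ * w, ?_, ?_⟩
    · show (z * u⁻¹ * w) • h • a = z • h • a
      have e2 : z * u⁻¹ * w * h = z * h * s := by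
        calc _ = z * (u⁻¹ * h) * (h⁻¹ * w * h) := by group
          _ = _ := by rw [e, ← mem_center_iff.1 (inv_mem uc) h]; group
      rw [← mul_smul, e2, mul_smul, mul_smul, hs]
    · have hw : w • y ∈ orbit Q b := mem_orbit_of_mem_orbit w hy
      rw [mul_smul, mul_smul, fix_orbit (inv_mem uc) ub _ hw, fix_orbit zc zb _ hw]

/-- Let G act faithfully and transitively on a finite set with 2p² points, p a prime, and suppose G is 2-closed: every permutation of the set which, on each ordered pair of points, agrees with some element of G, is itself induced by an element of G. Then some element of G of prime order fixes no point. -/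
theorem result {G Ω : Type*} [Group G] [Finite G] [MulAction G Ω] [FaithfulSMul G Ω] [Finite Ω]
    (htrans : MulAction.IsPretransitive G Ω) (p : ℕ) (hp : p.Prime) (hcard : Nat.card Ω = 2 * p ^ 2)
    (hcl : ∀ σ : Equiv.Perm Ω, (∀ a b : Ω, ∃ g : G, σ a = g • a ∧ σ b = g • b) → ∃ g : G, ∀ a : Ω, σ a = g • a) :
    ∃ g : G, (orderOf g).Prime ∧ ∀ ω : Ω, g • ω ≠ ω := by
  haveI : Fact p.Prime := ⟨hp⟩
  by_cases p2 : p = 2
  · haveI := Fintype.ofFinite Ω
    obtain ⟨g, hg, h⟩ := Cfsg.Agent.S5726.result htrans p 3 hp (by norm_num) (by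
      rw [← Nat.card_eq_fintype_card, hcard, p2]; norm_num)
    exact ⟨g, hg ▸ hp, h⟩
  have p3 : 3 ≤ p := by have := hp.two_le; omega
  obtain ⟨P⟩ : Nonempty (Sylow p G) := inferInstance
  have hQ : IsPGroup p (P : Subgroup G) := P.isPGroup'
  have hi : ∀ ω : Ω, (stabilizer (P : Subgroup G) ω).index = p ^ 2 := fun ω => by
    have h1 : p ^ 2 ∣ (stabilizer (P : Subgroup G) ω).index :=
      Cfsg.Agent.S5726.dvd_index_sylow (hcard ▸ Dvd.intro_left 2 rfl) P ω
    obtain ⟨k, hk⟩ := hQ.index (stabilizer (P : Subgroup G) ω)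
    have h2 : (stabilizer (P : Subgroup G) ω).index ≤ 2 * p ^ 2 := by
      rw [index_stabilizer, ← hcard]
      exact Set.ncard_le_card _
    rw [hk] at h1 h2 ⊢
    have h3 := (Nat.pow_dvd_pow_iff_le_right hp.one_lt).1 h1
    by_contra hc
    have : p ^ 3 ≤ p ^ k := Nat.pow_le_pow_right hp.pos (by
      by_contra h
      exact hc (by rw [show k = 2 by omega]))
    have : 0 < p ^ 2 := by positivity
    nlinarith [pow_succ p 2]
  obtain ⟨α⟩ : Nonempty Ω := (Nat.card_pos_iff.1 (by rw [hcard]; positivity)).1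
  obtain ⟨z, -, zc, oz⟩ := H9.exists_mem_center_orderOf_eq hQ (K := ⊤) fun e => by
    have := hi α
    rw [eq_top_iff.2 (e.le.trans bot_le : ⊤ ≤ stabilizer (P : Subgroup G) α), index_top] at this
    nlinarith
  by_cases hz : ∀ ω : Ω, z • ω ≠ ω
  · exact ⟨z, by rwa [orderOf_coe, oz], hz⟩
  push Not at hz
  obtain ⟨b, zb⟩ := hz
  obtain ⟨a, za⟩ : ∃ a : Ω, z • a ≠ a := by
    by_contra! h
    have : (z : G) = 1 := eq_of_smul_eq_smul (α := Ω) fun x => (h x).trans (one_smul G x).symm
    rw [show z = 1 from Subtype.ext this, orderOf_one] at oz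
    exact hp.one_lt.ne oz
  obtain ⟨w, hw, hg⟩ := core hQ hi zc za zb
  set A := orbit (P : Subgroup G) a with hA
  set B := orbit (P : Subgroup G) b with hB
  have zA : ∀ x ∈ A, z • x ≠ x := fun x hx e =>
    za (fix_orbit zc e a ((orbit_eq_iff.2 hx).symm ▸ mem_orbit_self a))
  have dj : Disjoint A B := Set.disjoint_left.2 fun x hx hx' => zA x hx (fix_orbit zc zb x hx')
  have un : ∀ x ∉ A, x ∈ B := fun x hx => by
    have : A ∪ B = Set.univ := (Set.eq_univ_iff_ncard _).2 (by
      rw [Set.ncard_union_eq dj, hA, hB, ← index_stabilizer, ← index_stabilizer, hi, hi, hcard, two_mul])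
    exact (this.ge (Set.mem_univ x)).resolve_left hx
  classical
  let f : Ω → Ω := fun x => if x ∈ A then z • x else w • x
  have pair : ∀ x y : Ω, ∃ g : G, f x = g • x ∧ f y = g • y := fun x y => by
    by_cases hx : x ∈ A <;> by_cases hy : y ∈ A <;> simp only [f, hx, hy, if_true, if_false]
    · exact ⟨z, rfl, rfl⟩
    · obtain ⟨g, h1, h2⟩ := hg x hx y (un y hy)
      exact ⟨g, h1.symm, h2.symm⟩
    · obtain ⟨g, h1, h2⟩ := hg y hy x (un x hx)
      exact ⟨g, h2.symm, h1.symm⟩
    · exact ⟨w, rfl, rfl⟩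
  have inj : Function.Injective f := fun x y e => by
    obtain ⟨g, h1, h2⟩ := pair x y
    rw [h1, h2] at e
    exact smul_left_cancel g e
  obtain ⟨g, hσ⟩ := hcl (Equiv.ofBijective f inj.bijective_of_finite) pair
  have gA : ∀ x ∈ A, g • x = z • x := fun x hx => (hσ x).symm.trans (if_pos hx)
  have gB : ∀ x ∈ B, g • x = w • x := fun x hx => (hσ x).symm.trans (if_neg (Set.disjoint_right.1 dj hx))
  have pw : ∀ (c : Ω) (u : (P : Subgroup G)), (∀ x ∈ orbit (P : Subgroup G) c, g • x = u • x) → ∀ n : ℕ,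
      ∀ x ∈ orbit (P : Subgroup G) c, g ^ n • x = u ^ n • x := fun c u h n x hx => by
    induction n with
    | zero => rw [pow_zero, pow_zero, one_smul, one_smul]
    | succ n ih => rw [pow_succ', pow_succ', mul_smul, mul_smul, ih, h _ (mem_orbit_of_mem_orbit _ hx)]
  have fp : ∀ x : Ω, g • x ≠ x := fun x => by
    by_cases hx : x ∈ A
    · rw [gA x hx]; exact zA x hx
    · rw [gB x (un x hx)]; exact (hw x (un x hx)).2
  refine ⟨g, ?_, fp⟩
  rw [orderOf_eq_prime (p := p) (eq_of_smul_eq_smul (α := Ω) fun x => ?_) fun e => fp a (by rw [e, one_smul])]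
  · exact hp
  · rw [one_smul]
    by_cases hx : x ∈ A
    · rw [pw a z gA p x hx, orderOf_dvd_iff_pow_eq_one.1 oz.dvd, one_smul]
    · rw [pw b w gB p x (un x hx), (hw x (un x hx)).1]

end Cfsg.Agent.S3557
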