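import Cfsg.Statements.S3579
import Cfsg.Agent.H20.DGTop
import Cfsg.Agent.H12.DGNA3
import Cfsg.Agent.H15.DGT3
import Cfsg.Agent.H18.DGNN
import Cfsg.Agent.H2.DgT5
import Cfsg.Agent.H21.DgF1
import Cfsg.Agent.H3.DGF3
import Cfsg.Agent.H32.DGT4
import Cfsg.Agent.H33.DgF4
import Cfsg.Agent.H35.DgCA
import Cfsg.Agent.H35.DgT0
import Cfsg.Agent.H37.DgFX
import Cfsg.Agent.H37.DgJ3
import Cfsg.Agent.H39.DgCY1
import Cfsg.Agent.H40.DGNA2
import Cfsg.Agent.H58.DGF0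
import Cfsg.Agent.H59.DGF2
import Cfsg.Agent.H61.DGT2
import Cfsg.Agent.H66.DGT1
import Cfsg.Agent.H67.DgW0
import Cfsg.Agent.H68.DgNA1
import Cfsg.Agent.H7.DgD1
import Cfsg.Agent.H75.DgJO
import Cfsg.Agent.H76.DGNF
import Cfsg.Agent.H78.DGAL
import Cfsg.Agent.H81.DGJ2
import Cfsg.Agent.H84.DgNS
import Cfsg.Agent.H88.DGB1
import Cfsg.Agent.H91.DGCy2

set_option autoImplicit false
open Cfsg

namespace Cfsg.Agent.S3579

/-- Let G act faithfully and transitively on a finite set with 2pq points, where p and q are distinct odd primes. Then G contains an element of prime order fixing no point (G is not elusive). -/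
theorem result {G Ω : Type*} [Group G] [Finite G] [MulAction G Ω] [FaithfulSMul G Ω] [Finite Ω]
    (htrans : MulAction.IsPretransitive G Ω) (p q : ℕ) (hp : p.Prime) (hq : q.Prime) (hp2 : p ≠ 2) (hq2 : q ≠ 2)
    (hpq : p ≠ q) (hcard : Nat.card Ω = 2 * p * q) :
    ∃ g : G, (orderOf g).Prime ∧ ∀ ω : Ω, g • ω ≠ ω := by
  by_contra hnd
  exact H20.DG.main
    H68.DgNA1.job
    H40.DGNA2.jobNA2
    H12.DGN.jobNA3
    H84.DgNS.jobNS
    H18.DG.jobNN
    H88.DGB1.jobB1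
    H7.DgD1.jobD1
    H67.DgW0.jobW0
    H76.DGNF.jobNF
    H35.DgCA.jobCA
    H37.DgFX.jobFX
    H81.DGJ2.jobJ2
    H37.DgJ3.jobJ3
    H75.DgJO.job
    H78.DGAL.jobAL
    H39.DgCY1.jobCY1
    H91.DGCy2.jobCY2
    H35.DgT0.jobT0
    H66.DGT1.jobT1
    H61.DGT2.jobT2
    H15.DGT3.jobT3
    H32.DGT4.job
    H2.DgT5.jobT5
    H58.DGF0.jobF0
    H21.DgF1.jobF1
    H59.DGF2.jobF2
    H3.DGF3.jobF3
    H33.DgF4.jobF4
    (G := G) (Ω := Ω) (p := p) (q := q)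
    ⟨fun g h => eq_of_smul_eq_smul (α := Ω) fun ω => by rw [h ω, one_smul], htrans.exists_smul_eq, hp, hq,
      hp2, hq2, hpq, hcard, hnd⟩

end Cfsg.Agent.S3579
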