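import Cfsg.Statements.S3625
import Cfsg.Agent.Base
import Cfsg.Agent.H70.ReeAsm
import Cfsg.Agent.H66.O3N2
import Cfsg.Agent.H66.O3R27
import Cfsg.Agent.H86.OrdG
import Cfsg.Agent.H86.OrdR2
import Cfsg.Agent.H1.Ord3R1
import Cfsg.Agent.H1.Ord3R4

set_option autoImplicit false
open Cfsg

namespace Cfsg.Agent.S3625

/-- There is a strictly increasing sequence of odd primes p₀ < p₁ < … such that, for every k, the direct product of the small Ree groups ²G₂(3^{p₀}), …, ²G₂(3^{p_{k−1}}) is determined by its set of element orders: a finite group with exactly the same set of element orders is isomorphic to it. -/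
theorem result : ∃ p : ℕ → ℕ, StrictMono p ∧ (∀ i, (p i).Prime ∧ Odd (p i)) ∧
      ∀ (k : ℕ) (K : Fin k → Type) [∀ i, Field (K i)] [∀ i, Fintype (K i)],
        (∀ i, Fintype.card (K i) = 3 ^ (p i)) →
        ∀ (G : Type) [Group G] [Finite G],
          Set.range (orderOf : G → ℕ) = Set.range (orderOf : ((i : Fin k) → ↥(Cfsg.Lie.twistedG2 (K i) (3 ^ ((p i - 1) / 2)))) → ℕ) →
          Nonempty (G ≃* ((i : Fin k) → ↥(Cfsg.Lie.twistedG2 (K i) (3 ^ ((p i - 1) / 2))))) := by
  exact H70.Sq.s3625 H66.O3.jobRN0 H66.O3.jobRN H86.Ord.jobRG H1.Ord3.jobR1 H86.Ord.jobR2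
    (H1.Ord3.jobR4 H86.Ord.jobRG H66.O3.jobR27)

end Cfsg.Agent.S3625
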