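import Cfsg.Statements.S3648
import Cfsg.Agent.H44.OrdA

set_option autoImplicit false
open Cfsg

namespace Cfsg.Agent.S3648

open H44.OrdA Subgroup MulAction in
theorem le_two_of_odd {G : Type*} [Group G] [Finite G] {k : ℕ} (h : Odd (m G k)) : k = 1 ∨ k = 2 := by
  classical
  have := Fintype.ofFinite G
  by_contra hk
  let f : Function.End {g : G // orderOf g = k} := fun g => ⟨g.1⁻¹, by rw [orderOf_inv, g.2]⟩
  have h1 := Equiv.Perm.card_fixedPoints_modEq (f := f) (p := 2) (n := 1)
    (funext fun g => Subtype.ext (inv_inv g.1))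
  have : IsEmpty f.fixedPoints := ⟨fun g => hk (by
    have e : g.1.1⁻¹ = g.1.1 := congrArg Subtype.val g.2
    have := orderOf_dvd_of_pow_eq_one (show g.1.1 ^ 2 = 1 by rw [pow_two, mul_eq_one_iff_inv_eq, e])
    rw [g.1.2] at this
    exact (Nat.dvd_prime Nat.prime_two).mp this)⟩
  rw [Fintype.card_eq_zero (α := f.fixedPoints), ← Nat.card_eq_fintype_card] at h1
  exact Nat.not_even_iff_odd.mpr h (even_iff_two_dvd.mpr (Nat.modEq_zero_iff_dvd.mp h1))

open H44.OrdA in
theorem sum_m {G : Type*} [Group G] [Finite G] {n : ℕ} (hn : n ≠ 0) :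
    Nat.card {x : G // x ^ n = 1} = ∑ k ∈ n.divisors, m G k := by
  classical
  have := Fintype.ofFinite G
  rw [Nat.card_eq_fintype_card, Fintype.card_subtype, Finset.card_eq_sum_card_fiberwise
    (f := fun g => orderOf g) (t := n.divisors) fun g hg => by
      simpa [hn, orderOf_dvd_iff_pow_eq_one] using hg]
  refine Finset.sum_congr rfl fun k hk => ?_
  rw [m, Nat.card_eq_fintype_card, Fintype.card_subtype]
  congr 1
  ext g
  simp only [Finset.mem_filter, Finset.mem_univ, true_and, and_iff_right_iff_imp]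
  rintro rfl
  exact orderOf_dvd_iff_pow_eq_one.mp (Nat.dvd_of_mem_divisors hk)

open H44.OrdA in
theorem counts {G : Type*} [Group G] [Finite G] {p f q : ℕ} (hp : p.Prime) (hf : f ≠ 0)
    (hq : q = p ^ f) (hodd : Odd q) (h3 : 3 < q) (hG : Nat.card G = q * (q ^ 2 - 1))
    (hv : ∀ k, m G k = 1 ∨ m G k = q ^ 2 - 1 ∨ q ∣ m G k) (h2 : ∃ k, m G k = q ^ 2) :
    m G 2 = q ^ 2 ∧ m G p = q ^ 2 - 1 ∧ ∀ g : G, p ∣ orderOf g → orderOf g = p := by
  classical
  have := Fact.mk hp
  have pq : p ∣ q := hq ▸ dvd_pow_self p hf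
  obtain ⟨r, hr⟩ : ∃ r, q ^ 2 = r + 1 := 
    ⟨q ^ 2 - 1, by have := pow_pos (by omega : 0 < q) 2; omega⟩
  have r0 : 0 < r := by nlinarith
  rw [hr, Nat.add_sub_cancel] at hG
  simp only [hr, Nat.add_sub_cancel] at hv h2 ⊢
  have m1 : m G 1 = 1 := by rw [m_eq]; simp
  have m2 : m G 2 = r + 1 := by
    obtain ⟨k, hk⟩ := h2
    rcases le_two_of_odd (hk ▸ hr ▸ hodd.pow) with rfl | rfl
    · omega
    · exact hk
  have hv' : ∀ k, k ≠ 1 → m G k = r ∨ q ∣ m G k := fun k hk => (hv k).resolve_left fun e => by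
    rcases le_two_of_odd (e ▸ odd_one) with rfl | rfl
    · exact hk rfl
    · omega
  have mp : m G p = r := (hv' p hp.one_lt.ne').resolve_right fun e => by
    have := H23.dvd_card_pow_eq_one (G := G) (n := p) (hG ▸ pq.mul_right r)
    rw [sum_m hp.ne_zero, hp.divisors, Finset.sum_pair hp.one_lt.ne, m1] at this
    exact hp.one_lt.ne' (Nat.dvd_one.mp ((Nat.dvd_add_left (pq.trans e)).mp this))
  have N0 : Nat.card G ≠ 0 := Nat.card_pos.ne'
  have qr : (q : ℤ) ∣ r + 1 := by exact_mod_cast (hr ▸ dvd_pow_self q two_ne_zero : q ∣ r + 1)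
  have hq' : ∀ k, k ≠ 1 → k ≠ p → q ∣ m G k := fun k k1 kp => by
    by_contra hk
    have e := (hv' k k1).resolve_right hk
    have tot := sum_m (G := G) N0
    rw [Nat.card_congr (Equiv.subtypeUnivEquiv fun x => pow_card_eq_one'),
      ← Finset.add_sum_erase _ _ (Nat.one_mem_divisors.mpr N0), m1,
      ← Finset.sum_filter_add_sum_filter_not _ (fun k => m G k = r),
      Finset.sum_congr rfl (g := fun _ => r) (fun k hk => (Finset.mem_filter.mp hk).2),
      Finset.sum_const, smul_eq_mul] at tot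
    obtain ⟨c, hc⟩ : q ∣ ∑ k ∈ ((Nat.card G).divisors.erase 1).filter (fun k => ¬ m G k = r),
        m G k := Finset.dvd_sum fun k hk => by
      simp only [Finset.mem_filter, Finset.mem_erase] at hk
      exact (hv' k hk.1.1).resolve_left hk.2
    have mem : ∀ k, k ≠ 1 → m G k = r →
        k ∈ ((Nat.card G).divisors.erase 1).filter (fun k => m G k = r) := fun k k1 e => by
      have : Nonempty {g : G // orderOf g = k} := (Nat.card_pos_iff.mp (by rw [← m, e]; exact r0)).1
      obtain ⟨g, hg⟩ := this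
      simp only [Finset.mem_filter, Finset.mem_erase, Nat.mem_divisors]
      exact ⟨⟨k1, hg ▸ orderOf_dvd_natCard g, N0⟩, e⟩
    have a2 := Finset.one_lt_card.mpr ⟨_, mem k k1 e, _, mem p hp.one_lt.ne' mp, kp⟩
    rw [hc] at tot
    generalize (((Nat.card G).divisors.erase 1).filter (fun k => m G k = r)).card = a at a2 tot
    rw [hG] at tot
    have a3 : a < q := by
      by_contra h
      have := Nat.mul_le_mul_right r (not_lt.mp h)
      omega
    have a4 : (q : ℤ) ∣ (a : ℤ) - 1 := by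
      have t : (q : ℤ) * r = 1 + (a * r + q * c) := by exact_mod_cast tot
      rw [show (a : ℤ) - 1 = a * (r + 1) - q * (r - c) by linear_combination t]
      exact (qr.mul_left _).sub (Dvd.intro _ rfl)
    have := Int.eq_zero_of_abs_lt_dvd a4 (abs_lt.2 ⟨by omega, by omega⟩)
    omega
  have pr : ¬ p ∣ r := fun h => hp.one_lt.ne' (Nat.dvd_one.mp ((Nat.dvd_add_right h).mp
    (hr ▸ pq.trans (dvd_pow_self q two_ne_zero))))
  have L : Nat.card {x : G // x ^ r = 1} + r = Nat.card G := by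
    obtain ⟨c, hc⟩ := H23.dvd_card_pow_eq_one (G := G) (n := r) (hG ▸ Dvd.intro_left q rfl)
    have le : Nat.card {x : G // x ^ r = 1} ≤ Nat.card G := Finite.card_subtype_le _
    have tot := sum_m (G := G) r0.ne'
    rw [← Finset.add_sum_erase _ _ (Nat.one_mem_divisors.mpr r0.ne'), m1] at tot
    obtain ⟨d, hd⟩ : q ∣ ∑ k ∈ r.divisors.erase 1, m G k := Finset.dvd_sum fun k hk => by
      simp only [Finset.mem_erase, Nat.mem_divisors] at hk
      exact hq' k hk.1 (by rintro rfl; exact pr hk.2.1)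
    rw [hc, hd] at tot
    rw [hc, hG] at le ⊢
    have c1 : c ≤ q := Nat.le_of_mul_le_mul_left (le.trans_eq (mul_comm _ _)) r0
    have c2 : (q : ℤ) ∣ (c : ℤ) + 1 - q := by
      have t : (r : ℤ) * c = 1 + q * d := by exact_mod_cast tot
      rw [show (c : ℤ) + 1 - q = c * (r + 1) - q * (d + 1) by linear_combination -t]
      exact (qr.mul_left _).sub (Dvd.intro _ rfl)
    have := Int.eq_zero_of_abs_lt_dvd c2 (abs_lt.2 ⟨by omega, by omega⟩)
    rw [show q = c + 1 by omega]; ring
  refine ⟨m2, mp, fun g hg => ?_⟩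
  have sub : {g : G | orderOf g = p} ⊆ {x : G | x ^ r = 1}ᶜ := fun g hg h =>
    pr (hg ▸ orderOf_dvd_of_pow_eq_one h)
  have c := Set.ncard_add_ncard_compl {x : G | x ^ r = 1}
  have e := Set.eq_of_subset_of_ncard_le sub (by
    have L' : {x : G | x ^ r = 1}.ncard + r = Nat.card G := L
    rw [← m_eq, mp]; omega)
  exact e.ge fun h => pr (hg.trans (orderOf_dvd_of_pow_eq_one h))

open H44.OrdA H70.L2 MulAction in
/-- For a finite group X let nse(X) be the set of values of the function 'number of elements of order k' over the element orders k that occur. Let F be a finite field of odd order q > 3 and P = PGL(2, F) = GL(2, F) modulo its centre. If G is a finite group with the same order as P and nse(G) = nse(P), then G is isomorphic to P. -/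
theorem result {F : Type*} [Field F] [Fintype F] (hodd : Odd (Fintype.card F)) (h3 : 3 < Fintype.card F)
    {G : Type*} [Group G] [Finite G] (hcard : Nat.card G = Nat.card (GL (Fin 2) F ⧸ Subgroup.center (GL (Fin 2) F)))
    (hnse : {c : ℕ | 0 < c ∧ ∃ n : ℕ, c = Nat.card {g : G // orderOf g = n}} = {c : ℕ | 0 < c ∧ ∃ n : ℕ, c = Nat.card {g : (GL (Fin 2) F ⧸ Subgroup.center (GL (Fin 2) F)) // orderOf g = n}}) :
    Nonempty (G ≃* (GL (Fin 2) F ⧸ Subgroup.center (GL (Fin 2) F))) := by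
  obtain ⟨p, _, ⟨f, f0⟩, hp, hf⟩ := FiniteField.card' F
  have := Fact.mk hp
  simp only [PNat.mk_coe] at hf
  have SP := s3_pgl F
  have : Finite (Matrix.ProjGenLinGroup (Fin 2) F) :=
    inferInstanceAs (Finite (GL (Fin 2) F ⧸ Subgroup.center (GL (Fin 2) F)))
  have hG : Nat.card G = Fintype.card F * (Fintype.card F ^ 2 - 1) := hcard.trans SP.card_eq
  have q0 : 0 < Fintype.card F ^ 2 := by positivity
  obtain ⟨m2, mp, ho⟩ := counts hp f0.ne' hf hodd h3 hG (fun k => by
      rcases Nat.eq_zero_or_pos (m G k) with e | e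
      · rw [e]; simp
      · obtain ⟨-, n, hn⟩ := hnse.le (show m G k ∈ _ from ⟨e, k, rfl⟩)
        rw [hn]
        exact SP.vals hp f0.ne' hf n) (by
      obtain ⟨a, -⟩ := SP.Z.big
      obtain ⟨-, n, hn⟩ := hnse.ge (show Fintype.card F ^ 2 ∈ _ from ⟨q0, 2,
        ((SP.invol_iff hodd a).mpr fun b hb g => pgl_swap hb g).symm⟩)
      exact ⟨n, hn.symm⟩)
  have hC : ∀ x y : G, x ≠ 1 → x ^ p = 1 → x * y = y * x → y ^ p = 1 := fun x y x1 hx hc => by
    by_cases h : p ∣ orderOf y
    · rw [← ho y h, pow_orderOf_eq_one]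
    · have ox := orderOf_eq_prime hx x1
      have e := (show Commute x y from hc).orderOf_mul_eq_mul_orderOf_of_coprime
        (ox ▸ (Nat.Prime.coprime_iff_not_dvd hp).mpr h)
      rw [ho _ (by rw [e, ox]; exact Dvd.intro _ rfl), ox] at e
      rw [orderOf_eq_one_iff.mp (Nat.eq_of_mul_eq_mul_left hp.pos (e.symm.trans (mul_one p).symm)),
        one_pow]
  have p2 : p ≠ 2 := by
    rintro rfl
    exact Nat.not_even_iff_odd.mpr hodd (hf ▸ (Nat.even_pow.mpr ⟨even_two, f0.ne'⟩))
  have cop : ¬ p ∣ Fintype.card F ^ 2 - 1 := fun h => hp.one_lt.ne' (Nat.dvd_one.1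
    ((Nat.dvd_add_right h).1 (by
      rw [Nat.sub_add_cancel q0, hf]
      exact (dvd_pow_self p f0.ne').trans (dvd_pow_self _ two_ne_zero))))
  have hP : ∀ P : Sylow p G, Nat.card (P : Subgroup G) = Fintype.card F := fun P => by
    have k0 : Fintype.card F ^ 2 - 1 ≠ 0 := by intro e; rw [e] at cop; simp at cop
    rw [P.card_eq_multiplicity, hG, Nat.factorization_mul (by omega) k0, Finsupp.add_apply,
      Nat.factorization_eq_zero_of_not_dvd cop, hf, hp.factorization_pow]
    simp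
  have hT := ti p2 hC
  obtain ⟨r, hr⟩ : ∃ r, Fintype.card F = r + 1 := ⟨Fintype.card F - 1, by omega⟩
  have hn : Nat.card (Sylow p G) = Fintype.card F + 1 := by
    have h4 := card_sylow_mul hC hT (q := r) fun P => (hP P).trans hr
    have h5 : {x : G | x ^ p = 1 ∧ x ≠ 1} = {g : G | orderOf g = p} := by
      ext x
      exact ⟨fun h => orderOf_eq_prime h.1 h.2, fun h => ⟨h ▸ pow_orderOf_eq_one x, by
        rintro rfl; exact hp.one_lt.ne (by simpa using h)⟩⟩
    rw [h5, ← m_eq, mp, hr, show (r + 1) ^ 2 - 1 = (r + 1 + 1) * r from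
      Nat.sub_eq_of_eq_add (by ring)] at h4
    rw [hr]
    exact Nat.eq_of_mul_eq_mul_right (by omega) h4
  have Z := preZ hC hT (fun a => by rw [hn, hP]) (by omega)
  have SG : S3 G (Sylow p G) (Fintype.card F) := ⟨Z, hn, fun {a b} hab => by
    have h4 := Z.card_group hab
    have h5 : Nat.card (Z.ker a) = Fintype.card F := by have := Z.card_ker a; omega
    rw [h5, hG, hr, show (r + 1) ^ 2 - 1 = (r + 1 + 1) * r from
      Nat.sub_eq_of_eq_add (by ring)] at h4
    rw [hr, Nat.eq_of_mul_eq_mul_left (show 0 < (r + 1 + 1) * (r + 1) by positivity)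
      (show _ * Nat.card ↥(stabilizer G a ⊓ stabilizer G b) = _ * r by linarith)]⟩
  obtain ⟨a, b, -, hab, -⟩ := Z.big
  have sw := (SG.invol_iff hodd a).mp m2 b hab.symm
  obtain ⟨s, sa, sb⟩ := Z.exists_swap hab
  have inv : ∀ h ∈ stabilizer G a ⊓ stabilizer G b, s * h * s = h⁻¹ := fun h hh => by
    have := sw (s * h) (by rw [mul_smul, hh.1, sa]) (by rw [mul_smul, hh.2, sb])
    rw [eq_inv_iff_mul_eq_one, ← this]; group
  refine H88.preZ_nonempty_equiv_pgl_of_comm Z hab (by rw [hn, ← SG.st hab]) (fun g hg k hk => ?_)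
    F hn.symm
  have e : s * (g * k) * s = (s * g * s) * (s * s)⁻¹ * (s * k * s) := by group
  rw [inv _ (Subgroup.mul_mem _ hg hk), inv g hg, inv k hk, sw s sa sb, inv_one, mul_one,
    ← mul_inv_rev, inv_inj] at e
  exact e

end Cfsg.Agent.S3648
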