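import Cfsg.Statements.S4811
import Cfsg.Agent.H44.CD2

set_option autoImplicit false
open Cfsg

namespace Cfsg.Agent.S4811

open H44

theorem reach {G : Type*} [Group G] {p q d : ℕ} (hp : p.Prime) (hq : q.Prime)
    (hd : d ∈ charDegrees G) (h1 : p ∣ d) (h2 : q ∣ d) :
    ((degreeGraph G).induce (degreePrimes G)).connectedComponentMk ⟨p, hp, d, hd, h1⟩ =
      ((degreeGraph G).induce (degreePrimes G)).connectedComponentMk ⟨q, hq, d, hd, h2⟩ := by
  by_cases e : p = q
  · subst e; rfl
  · exact SimpleGraph.ConnectedComponent.connectedComponentMk_eq_of_adj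
      (show (degreeGraph G).Adj p q from ⟨e, hp, hq, d, hd,
        ((Nat.coprime_primes hp hq).2 e).mul_dvd_of_dvd_of_dvd h1 h2⟩)

theorem card_le_two {α : Type*} (a b : α) (h : ∀ c, c = a ∨ c = b) : Nat.card α ≤ 2 := by
  have : Function.Surjective fun t : Bool => if t then a else b := fun c => by
    rcases h c with rfl | rfl
    exacts [⟨true, rfl⟩, ⟨false, rfl⟩]
  simpa using Nat.card_le_card_of_surjective _ this

/-- For every finite solvable group G the character degree graph of G (vertices: the primes dividing some irreducible complex character degree; edges: distinct primes whose product divides some degree) has at most two connected components. -/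
theorem result {G : Type*} [Group G] [Finite G] [Group.IsSolvable G] : Nat.card ((Cfsg.degreeGraph G).induce (Cfsg.degreePrimes G)).ConnectedComponent ≤ 2 := by
  by_cases hc : commutator G ≤ ⁅commutator G, commutator G⁆
  · have h1 : commutator G = ⊥ := by
      by_contra h
      exact (Group.IsSolvable.commutator_lt_of_ne_bot h).not_ge hc
    have : IsEmpty (degreePrimes G) := ⟨fun ⟨p, hp, d, hd, h2⟩ => by
      rw [eq_one_of_mem_cd_of_comm (fun a b => commutatorElement_eq_one_iff_mul_comm.1
        (Subgroup.mem_bot.1 (h1 ▸ Subgroup.commutator_mem_commutator trivial trivial))) hd] at h2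
      exact hp.one_lt.ne' (Nat.dvd_one.1 h2)⟩
    have : IsEmpty ((degreeGraph G).induce (degreePrimes G)).ConnectedComponent :=
      ⟨fun c => c.ind fun v => this.elim v⟩
    simp
  obtain ⟨p, K, N, _, _, hp, -, -, -, -, -, -, ⟨a, hA⟩ | hB⟩ := top_cases _ le_rfl hc
  · refine card_le_two (((degreeGraph G).induce (degreePrimes G)).connectedComponentMk
      ⟨p, hp, _, hA.mem_cd, hA.dvd⟩) (((degreeGraph G).induce (degreePrimes G)).connectedComponentMk
      ⟨p, hp, _, hA.mem_cd, hA.dvd⟩) fun c => c.ind fun ⟨q, hq, d, hd, h1⟩ => Or.inl ?_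
    by_cases h2 : p ∣ d
    · exact reach hq hp hd h1 h2
    · obtain ⟨y, hy, h3⟩ := hA.of_not_dvd hp hd h2
      exact reach hq hp hy (h1.trans ((dvd_mul_left _ _).trans h3))
        (hA.dvd.trans ((dvd_mul_right _ _).trans h3))
  have hr := Nat.minFac_prime hB.one_lt.ne'
  have key : ∀ (q : ℕ) (hq : q ∈ degreePrimes G),
      ((degreeGraph G).induce (degreePrimes G)).connectedComponentMk ⟨q, hq⟩ =
        ((degreeGraph G).induce (degreePrimes G)).connectedComponentMk
          ⟨_, hr, _, hB.mem_cd hp, Nat.minFac_dvd _⟩ ∨ ∃ h : p ∈ degreePrimes G,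
      ((degreeGraph G).induce (degreePrimes G)).connectedComponentMk ⟨q, hq⟩ =
        ((degreeGraph G).induce (degreePrimes G)).connectedComponentMk ⟨p, h⟩ := by
    rintro q ⟨hq, d, hd, h1⟩
    obtain ⟨k, e, hk, he, rfl⟩ := cd_under N hd
    rcases (Nat.Prime.dvd_mul hq).1 h1 with h2 | h2
    · exact Or.inl (reach hq hr (hB.mem_cd hp) (h2.trans hk) (Nat.minFac_dvd _))
    rcases hB.cd hp he with h3 | ⟨h3, -⟩
    · exact Or.inl (reach hq hr h3 (h2.mul_left _) ((Nat.minFac_dvd _).mul_right _))
    · exact Or.inr ⟨⟨hp, _, hd, h3.mul_left _⟩, reach hq hp hd h1 (h3.mul_left _)⟩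
  by_cases h : p ∈ degreePrimes G
  · exact card_le_two _ (((degreeGraph G).induce (degreePrimes G)).connectedComponentMk ⟨p, h⟩)
      fun c => c.ind fun ⟨q, hq⟩ => (key q hq).imp_right fun ⟨_, e⟩ => e
  · exact card_le_two _ (((degreeGraph G).induce (degreePrimes G)).connectedComponentMk
      ⟨_, hr, _, hB.mem_cd hp, Nat.minFac_dvd _⟩)
      fun c => c.ind fun ⟨q, hq⟩ => Or.inl ((key q hq).resolve_right fun ⟨e, _⟩ => h e)

end Cfsg.Agent.S4811
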