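import Cfsg.Statements.S3669
import Cfsg.Agent.S4812
import Cfsg.Agent.S4811
import Cfsg.Agent.S0494
import Cfsg.Agent.S0252
import Cfsg.Agent.H93.S2BA2

set_option autoImplicit false
open Cfsg

namespace Cfsg.Agent.S3669

/-- The character degree graph of a finite group has as vertices the primes dividing some irreducible complex character degree, two distinct primes being joined when their product divides some irreducible character degree; two groups have the same character degree graph when they have the same vertices and the same joined pairs. A finite group of order 60 with the same character degree graph as the alternating group A₅ (whose character degrees are 1, 3, 4, 5, so the graph has vertices 2, 3, 5 and no edges) is isomorphic to A₅. -/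
theorem result {G : Type*} [Group G] [Finite G] (hcard : Nat.card G = 60)
    (hΓ : Cfsg.degreePrimes G = Cfsg.degreePrimes (alternatingGroup (Fin 5)) ∧ Cfsg.degreeGraph G = Cfsg.degreeGraph (alternatingGroup (Fin 5))) : Nonempty (G ≃* alternatingGroup (Fin 5)) := by
  let F := GaloisField 2 2
  have := Fintype.ofFinite F
  have hF : Fintype.card F = 4 := by
    rw [← Nat.card_eq_fintype_card, GaloisField.card 2 2 two_ne_zero]; rfl
  obtain ⟨e⟩ := Cfsg.Agent.S0252.result hF
  obtain ⟨h1, h2⟩ := Cfsg.Agent.S4812.result F 4 hF le_rfl (S := alternatingGroup (Fin 5)) (.inl ⟨e.symm⟩)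
  rw [← hΓ.1] at h1
  rw [← hΓ.2] at h2
  have ns : ¬ Group.IsSolvable G := fun hs => by
    have h3 := Cfsg.Agent.S4811.result (G := G)
    have h4 : (Cfsg.degreeGraph G).induce (Cfsg.degreePrimes G) = ⊥ := by
      ext r s
      simp only [SimpleGraph.comap_adj, Function.Embedding.subtype_apply, h2, SimpleGraph.bot_adj, iff_false]
      rintro ⟨a, hr, hs, b | b⟩
      · exact a (((Nat.prime_dvd_prime_iff_eq hr (by norm_num)).1 b.1).trans
          ((Nat.prime_dvd_prime_iff_eq hs (by norm_num)).1 b.2).symm)
      · exact a (((Nat.prime_dvd_prime_iff_eq hr (by norm_num)).1 b.1).trans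
          ((Nat.prime_dvd_prime_iff_eq hs (by norm_num)).1 b.2).symm)
    have hf : Finite (Cfsg.degreePrimes G) := by
      rw [h1]
      exact (Set.finite_Iic 60).subset fun r hr => Nat.le_of_dvd (by norm_num) hr.2
    rw [h4] at h3
    let f : Fin 3 → Cfsg.degreePrimes G := fun i => ⟨![2, 3, 5] i, by
      rw [h1]; fin_cases i <;> exact ⟨by norm_num, by norm_num⟩⟩
    have := Nat.card_le_card_of_injective (fun i => (⊥ : SimpleGraph _).connectedComponentMk (f i))
      fun i j a => by
        exact (by decide : ∀ i j : Fin 3, ![2, 3, 5] i = ![2, 3, 5] j → i = j) i j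
          (congrArg Subtype.val (SimpleGraph.reachable_bot.1 (SimpleGraph.ConnectedComponent.exact a)))
    rw [Nat.card_eq_fintype_card, Fintype.card_fin] at this
    omega
  have : Nontrivial G := Finite.one_lt_card_iff_nontrivial.1 (by omega)
  have : IsSimpleGroup G := ⟨fun N hN => by
    by_contra! k
    have a := N.card_mul_index
    have b := (Subgroup.one_lt_card_iff_ne_bot N).2 k.1
    have c := Subgroup.one_lt_index_of_ne_top k.2
    rw [hcard] at a
    have := H93.S2B.solvable_of_card_lt _ N rfl (by nlinarith)
    have := H93.S2B.solvable_of_card_lt _ (G ⧸ N) rfl (by rw [← Subgroup.index_eq_card]; nlinarith)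
    exact ns (solvable_of_ker_le_range N.subtype (QuotientGroup.mk' N) (by simp))⟩
  exact Cfsg.Agent.S0494.result hcard

end Cfsg.Agent.S3669
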