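import Cfsg.Agent.Base
import Cfsg.Statements.S3699
import Cfsg.Agent.H5.PrimeGraph
import Cfsg.Agent.H66.SzSubfield

set_option autoImplicit false
open Cfsg

namespace Cfsg.Agent.S3699

open H5

theorem orders {F : Type*} [Field F] [Fintype F] {m : ℕ} (hm : 1 ≤ m)
    (hF : Fintype.card F = 2 ^ (2 * m + 1)) (g : Cfsg.Lie.Sz F (2 ^ (m + 1))) :
    orderOf g ∣ 4 ∨ orderOf g ∣ 2 ^ (2 * m + 1) - 1 ∨ orderOf g ∣ 2 ^ (2 * (2 * m + 1)) + 1 := by
  have hT := H66.titsOf_isFin F hm hF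
  have e : Nat.card F ^ 2 + 1 = 2 ^ (2 * (2 * m + 1)) + 1 := by
    rw [hT.card, ← pow_mul, mul_comm]
  rcases (H66.modelB hT).pow_cases hT g with h | h | h | h
  · exact Or.inl (orderOf_dvd_of_pow_eq_one h)
  · exact Or.inr (Or.inl (hT.card ▸ orderOf_dvd_of_pow_eq_one h))
  · exact Or.inr (Or.inr (e ▸ (orderOf_dvd_of_pow_eq_one h).trans (hT.dvd_of_torus (Or.inl rfl))))
  · exact Or.inr (Or.inr (e ▸ (orderOf_dvd_of_pow_eq_one h).trans (hT.dvd_of_torus (Or.inr rfl))))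

theorem le_of_primes {m n : ℕ} (hm : 1 ≤ m) (h : ∀ r : ℕ, r.Prime → r ≠ 2 →
    r ∣ (2 ^ (2 * m + 1) - 1) * (2 ^ (2 * (2 * m + 1)) + 1) →
    r ∣ (2 ^ (2 * n + 1) - 1) * (2 ^ (2 * (2 * n + 1)) + 1)) : m ≤ n := by
  have hsq : ∀ j, 2 ^ (2 * j) - 1 = (2 ^ j + 1) * (2 ^ j - 1) := fun j => by
    rw [mul_comm 2 j, pow_mul, Nat.sq_sub_sq _ 1]
  obtain ⟨r, hr, hr2, hro, -⟩ :=
    exists_prime_orderOf_two (a := 2 * (2 * (2 * m + 1))) (by omega) (by omega)
  have h1 : r ∣ 2 ^ (2 * (2 * m + 1)) + 1 := by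
    have := dvd_two_pow_sub_one_iff.2 hro.dvd
    rw [hsq, hr.dvd_mul] at this
    refine this.resolve_right fun h => ?_
    have := Nat.le_of_dvd (by omega) (hro ▸ dvd_two_pow_sub_one_iff.1 h)
    omega
  rcases hr.dvd_mul.1 (h r hr hr2 (h1.mul_left _)) with h2 | h2
  · have := Nat.le_of_dvd (by omega) (hro ▸ dvd_two_pow_sub_one_iff.1 h2)
    omega
  · have h3 : r ∣ 2 ^ (2 * (2 * (2 * n + 1))) - 1 := hsq _ ▸ h2.mul_right _
    have := Nat.le_of_dvd (by omega) (hro ▸ dvd_two_pow_sub_one_iff.1 h3)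
    omega

/-- Let `q = 2^(2m+1) ≥ 8` and `S = Sz(q)` the Suzuki group. If a finite group `G` has the same prime graph as `S` (same prime divisors of the order; for distinct primes `r, s` an element of order `rs` in one iff in the other), then `G/O₂(G)` is isomorphic to `S`. The known proof uses the classification of finite simple groups. -/
theorem result {F : Type*} [Field F] [Fintype F] (m : ℕ) (hm : 1 ≤ m)
    (hF : Fintype.card F = 2 ^ (2 * m + 1)) {G : Type*} [Group G] [Finite G]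
    (h : ((∀ r : ℕ, r.Prime → (r ∣ Nat.card ↥(Cfsg.Lie.Sz F (2 ^ (m + 1))) ↔ r ∣ Nat.card G)) ∧
      (∀ r s : ℕ, r.Prime → s.Prime → r ≠ s → ((∃ x : ↥(Cfsg.Lie.Sz F (2 ^ (m + 1))), orderOf x = r * s) ↔ (∃ y : G, orderOf y = r * s))))) :
    Nonempty (G ⧸ Cfsg.pCore 2 G ≃* ↥(Cfsg.Lie.Sz F (2 ^ (m + 1)))) := by
  have : Fact (Nat.Prime 2) := ⟨Nat.prime_two⟩
  have hc := sz_card hm hF
  have ho := orders hm hF
  obtain ⟨h1, h2⟩ := h
  have h8 : 8 ≤ 2 ^ (2 * m + 1) := (Nat.pow_le_pow_right two_pos (by omega) : 2 ^ 3 ≤ _)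
  have hev : 2 ^ (2 * m + 1) % 2 = 0 := Nat.even_iff.1 ((Nat.even_pow' (by omega)).2 even_two)
  have hev' : 2 ^ (2 * (2 * m + 1)) % 2 = 0 :=
    Nat.even_iff.1 ((Nat.even_pow' (by omega)).2 even_two)
  have hn4 : ∀ r : ℕ, r.Prime → r ∣ 4 → r = 2 := fun r hr h =>
    (Nat.prime_dvd_prime_iff_eq hr Nat.prime_two).1 (hr.dvd_of_dvd_pow (n := 2) h)
  have hn2 : ∀ r, r.Prime → r ≠ 2 → ¬ Adj G 2 r := by
    intro r hr hr2 ha
    obtain ⟨x, hx⟩ := (h2 2 r Nat.prime_two hr hr2.symm).2 ha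
    rcases ho x with h | h | h <;> rw [hx] at h
    · exact hr2 (hn4 r hr ((dvd_mul_left r 2).trans h))
    · have := (dvd_mul_right 2 r).trans h; omega
    · have := (dvd_mul_right 2 r).trans h; omega
  have hcit := cit_of_not_adj hn2
  have hns : ¬ Group.IsSolvable G := by
    intro hs
    obtain ⟨r, hr, hrd⟩ := Nat.exists_prime_and_dvd (n := 2 ^ (2 * m + 1) - 1) (by omega)
    obtain ⟨s, hs, hsd⟩ := Nat.exists_prime_and_dvd (n := 2 ^ (2 * (2 * m + 1)) + 1)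
      (by have : 0 < 2 ^ (2 * (2 * m + 1)) := by positivity
          omega)
    have hr2 : r ≠ 2 := by rintro rfl; omega
    have hs2 : s ≠ 2 := by rintro rfl; omega
    have key : ∀ t, t.Prime → t ∣ 2 ^ (2 * m + 1) - 1 → t ∣ 2 ^ (2 * (2 * m + 1)) + 1 → t = 2 := by
      intro t ht a b
      have a' : t ∣ 2 ^ (2 * (2 * m + 1)) - 1 :=
        dvd_two_pow_sub_one_iff.2 ((dvd_two_pow_sub_one_iff.1 a).mul_left 2)
      have := Nat.dvd_sub b a'
      have h0 : 0 < 2 ^ (2 * (2 * m + 1)) := by positivity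
      rw [show 2 ^ (2 * (2 * m + 1)) + 1 - (2 ^ (2 * (2 * m + 1)) - 1) = 2 by omega] at this
      exact (Nat.prime_dvd_prime_iff_eq ht Nat.prime_two).1 this
    have hrs : r ≠ s := by rintro rfl; exact hr2 (key r hr hrd hsd)
    rcases three_primes (G := G) Nat.prime_two hr hs hr2.symm hs2.symm hrs
      ((h1 2 Nat.prime_two).1 (hc ▸ (dvd_pow_self 2 (by omega)).mul_right _))
      ((h1 r hr).1 (hc ▸ (hrd.mul_right _).mul_left _))
      ((h1 s hs).1 (hc ▸ (hsd.mul_left _).mul_left _)) with h | h | h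
    · exact hn2 r hr hr2 h
    · exact hn2 s hs hs2 h
    · obtain ⟨x, hx⟩ := (h2 r s hr hs hrs).2 h
      rcases ho x with h | h | h <;> rw [hx] at h
      · exact hr2 (hn4 r hr ((dvd_mul_right r s).trans h))
      · exact hs2 (key s hs ((dvd_mul_left s r).trans h) hsd)
      · exact hr2 (key r hr hrd ((dvd_mul_right r s).trans h))
  have hP : IsPGroup 2 (Cfsg.pCore 2 G) := H2.pCore_isPGroup 2 G
  have h3 : ¬ 3 ∣ Nat.card G := by
    rw [← h1 3 Nat.prime_three, hc]; exact sz_not_three_dvd m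
  have hl2 : ∀ q, H24.L2 q G → q % 2 = 1 → False := by
    intro q hL hq
    apply h3
    rw [hL.facts.1, H61.gcd_two_of_odd (Nat.odd_iff.2 hq)]
    have : q % 3 = 0 ∨ q % 3 = 1 ∨ q % 3 = 2 := by omega
    rcases this with h | h | h
    · exact (Dvd.dvd.mul_right (by omega) _).mul_left _
    · exact (Dvd.dvd.mul_left (by omega) _).mul_left _
    · exact Dvd.dvd.mul_right (by omega) _
  rcases cit_quot hns hcit with ⟨n, hn, hL⟩ | ⟨K, _, _, n, hn, hK, ⟨e⟩⟩ |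
    ⟨q, hq, hq7, -, hL, -⟩ | ⟨-, hL | hL | hL⟩
  · exfalso
    apply h3
    rw [← dvd_card_quot_iff Nat.prime_two Nat.prime_three (by decide) _ hP,
      l2_two_card (by omega) hL, pow_mul]
    exact (Nat.sub_dvd_pow_sub_pow 4 1 n |>.trans (by simp)).mul_left _
  · have hcn := (Nat.card_congr e.toEquiv).trans (sz_card hn hK)
    have hiff : ∀ r : ℕ, r.Prime → r ≠ 2 →
        (r ∣ (2 ^ (2 * m + 1) - 1) * (2 ^ (2 * (2 * m + 1)) + 1) ↔
        r ∣ (2 ^ (2 * n + 1) - 1) * (2 ^ (2 * (2 * n + 1)) + 1)) := by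
      intro r hr hr2
      rw [← odd_dvd_two_pow_mul (n := 2 * (2 * m + 1)) hr hr2, ← hc, h1 r hr,
        ← dvd_card_quot_iff Nat.prime_two hr hr2 _ hP, hcn, odd_dvd_two_pow_mul hr hr2]
    obtain rfl : m = n := le_antisymm (le_of_primes hm fun r hr h2 => (hiff r hr h2).1)
      (le_of_primes hn fun r hr h2 => (hiff r hr h2).2)
    have hT := H66.titsOf_isFin F hm hF
    have hT' := H66.titsOf_isFin K hn hK
    obtain ⟨i⟩ := hT.nonempty_ringHom hT' dvd_rfl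
    have hi := hT.θ_map hT' dvd_rfl i
    refine ⟨e.trans (MulEquiv.ofBijective ((H66.modelB hT').emb (H66.modelB hT) hi) ?_)⟩
    have : Finite (Cfsg.Lie.Sz F (2 ^ (m + 1))) := Nat.finite_of_card_ne_zero (by
      rw [hc]; exact mul_ne_zero (by positivity) (mul_ne_zero (by omega) (by positivity)))
    exact ((H66.modelB hT').emb_inj _ hi).bijective_of_nat_card_le
      (hc.trans (sz_card hn hK).symm).le
  · exact (hl2 q hL (Nat.odd_iff.1 (hq.odd_of_ne_two (by omega)))).elim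
  · exact (hl2 9 hL rfl).elim
  · exact absurd (by rw [H24.card_of_l34 hL]; decide) h3
  · exact absurd (by rw [H24.card_of_m10 hL]; decide) h3

end Cfsg.Agent.S3699
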