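import Cfsg.Statements.S3703
import Cfsg.Agent.H1.Coprime2
import Cfsg.Agent.H1.InvSylow
import Cfsg.Agent.H98.Sylow
import Cfsg.Agent.S0042
import Cfsg.Agent.H5.FrobBasic

set_option autoImplicit false
open Cfsg

namespace Cfsg.Agent.S3703

open scoped Pointwise commutatorElement

section core
variable {G : Type*} [Group G]

open Classical in
/-- the abelianisation map of `Q`, extended by `1` -/
noncomputable def ab (Q : Subgroup G) (y : G) : Abelianization Q :=
  if h : y ∈ Q then Abelianization.of ⟨y, h⟩ else 1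

theorem ab_mul {Q : Subgroup G} {y z : G} (hy : y ∈ Q) (hz : z ∈ Q) :
    ab Q (y * z) = ab Q y * ab Q z := by
  simp only [ab, dif_pos hy, dif_pos hz, dif_pos (Q.mul_mem hy hz), ← map_mul]
  rfl

theorem ab_one (Q : Subgroup G) : ab Q 1 = 1 := by
  simp only [ab, dif_pos Q.one_mem]
  exact map_one _

theorem mem_of_ab_eq {Q : Subgroup G} {y z : G} (hy : y ∈ Q) (hz : z ∈ Q) (h : ab Q y = ab Q z) :
    y * z⁻¹ ∈ ⁅Q, Q⁆ := by
  simp only [ab, dif_pos hy, dif_pos hz] at h
  have h1 : (⟨y, hy⟩ * ⟨z, hz⟩⁻¹ : Q) ∈ commutator Q := by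
    rw [← Abelianization.ker_of, MonoidHom.mem_ker, map_mul, map_inv, h, mul_inv_cancel]
  rw [← Subgroup.map_subtype_commutator]
  exact ⟨_, h1, rfl⟩

theorem norm_prod {Q : Subgroup G} {h x : G} (hh : h ∈ Subgroup.normalizer (Q : Set G))
    (hx : x ∈ Q) (n : ℕ) : (x * h) ^ n * (h ^ n)⁻¹ ∈ Q ∧
      ab Q ((x * h) ^ n * (h ^ n)⁻¹) = ∏ i ∈ Finset.range n, ab Q (h ^ i * x * (h ^ i)⁻¹) := by
  induction n with
  | zero => simp [ab_one]
  | succ n ih =>
    have e : (x * h) ^ (n + 1) * (h ^ (n + 1))⁻¹ =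
        ((x * h) ^ n * (h ^ n)⁻¹) * (h ^ n * x * (h ^ n)⁻¹) := by
      rw [pow_succ, pow_succ]; group
    have hm : h ^ n * x * (h ^ n)⁻¹ ∈ Q :=
      (Subgroup.mem_normalizer_iff.1 (Subgroup.pow_mem _ hh n) x).1 hx
    rw [e, Finset.prod_range_succ, ab_mul ih.1 hm, ih.2]
    exact ⟨Q.mul_mem ih.1 hm, rfl⟩

theorem core [Finite G] {A Q : Subgroup G} {h : G} {c : ℕ} (hc : 0 < c)
    (hA : h ∈ Subgroup.normalizer (A : Set G)) (hQ : h ∈ Subgroup.normalizer (Q : Set G))
    (hAQ : A ≤ Subgroup.normalizer (Q : Set G)) (hcop : (Nat.card A).Coprime (Nat.card Q))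
    (hf : ∀ i, 0 < i → i < c → ∀ a ∈ A, a * h ^ i = h ^ i * a → a = 1)
    (hs : ∀ x ∈ Q, (x * h) ^ c = 1) : ⁅Q, A⁆ ≤ ⁅Q, Q⁆ := by
  classical
  have := Fintype.ofFinite A
  have h1 : h ^ c = 1 := by simpa using hs 1 Q.one_mem
  have cj : ∀ a ∈ A, ∀ x ∈ Q, a * x * a⁻¹ ∈ Q := fun a ha x hx =>
    H1.conj_mem_of_le_normalizer hAQ ha hx
  have N : ∀ a ∈ A, ∀ x ∈ Q, ∏ i ∈ Finset.range c,
      ab Q (a * h ^ i * a⁻¹ * x * (a * h ^ i * a⁻¹)⁻¹) = 1 := fun a ha x hx => by
    have h2 := (norm_prod (h := a * h * a⁻¹) (mul_mem (mul_mem (hAQ ha) hQ) (inv_mem (hAQ ha)))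
      hx c).2
    have h3 : (x * (a * h * a⁻¹)) ^ c = 1 := by
      have := hs _ (cj a⁻¹ (inv_mem ha) x hx)
      rw [show x * (a * h * a⁻¹) = a * (a⁻¹ * x * a⁻¹⁻¹ * h) * a⁻¹ by group, conj_pow, this]
      simp
    simp only [conj_pow] at h2
    rw [← h2, h3, h1]
    simp [ab_one]
  have key : ∀ x ∈ Q, ab Q x ^ Nat.card A = ∏ a : A, ab Q (a * x * (a : G)⁻¹) := fun x hx => by
    let W : ℕ → Abelianization Q := fun i => ∏ a : A, ab Q (a * h ^ i * x * (a * h ^ i)⁻¹)
    have e1 : ∏ i ∈ Finset.range c, W i = 1 := by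
      rw [Finset.prod_comm]
      refine Finset.prod_eq_one fun a _ => ?_
      rw [← N a a.2 _ (cj a a.2 x hx)]
      exact Finset.prod_congr rfl fun i _ => congrArg _ (by group)
    have e2 : ∏ i ∈ Finset.range c, ∏ a : A,
        ab Q (a * h ^ i * (a : G)⁻¹ * x * (a * h ^ i * (a : G)⁻¹)⁻¹) = 1 := by
      rw [Finset.prod_comm]
      exact Finset.prod_eq_one fun a _ => N a a.2 x hx
    obtain ⟨c, rfl⟩ := Nat.exists_eq_succ_of_ne_zero hc.ne'
    rw [Finset.prod_range_succ'] at e1 e2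
    have e3 : ∀ i ∈ Finset.range c, ∏ a : A,
        ab Q (a * h ^ (i + 1) * (a : G)⁻¹ * x * (a * h ^ (i + 1) * (a : G)⁻¹)⁻¹) = W (i + 1) := by
      intro i hi
      let f : A → A := fun a => a * ⟨h ^ (i + 1) * (a : G)⁻¹ * (h ^ (i + 1))⁻¹,
        (Subgroup.mem_normalizer_iff.1 (Subgroup.pow_mem _ hA _) _).1 (inv_mem a.2)⟩
      have hi' : Function.Injective f := fun a b hab => by
        have h2 : (a : G) * (h ^ (i + 1) * (a : G)⁻¹ * (h ^ (i + 1))⁻¹) =
          b * (h ^ (i + 1) * (b : G)⁻¹ * (h ^ (i + 1))⁻¹) := congrArg Subtype.val hab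
        have h3 := hf (i + 1) (by omega) (by have := Finset.mem_range.1 hi; omega)
          ((b : G)⁻¹ * a) (mul_mem (inv_mem b.2) a.2) (by
            calc (b : G)⁻¹ * a * h ^ (i + 1)
                = (b : G)⁻¹ * (a * (h ^ (i + 1) * (a : G)⁻¹ * (h ^ (i + 1))⁻¹)) * h ^ (i + 1) * a := by
                  group
              _ = _ := by rw [h2]; group)
        exact Subtype.ext (inv_mul_eq_one.1 h3).symm
      refine Fintype.prod_bijective f (Finite.injective_iff_bijective.1 hi') _ _ fun a => ?_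
      refine congrArg _ ?_
      simp only [f, Subgroup.coe_mul]
      group
    rw [Finset.prod_congr rfl e3, ← e1, mul_right_inj] at e2
    simpa [W] using e2
  rw [Subgroup.commutator_comm, Subgroup.commutator_le]
  intro b hb x hx
  rw [commutatorElement_def]
  refine mem_of_ab_eq (cj b hb x hx) hx ?_
  have hc2 : (Nat.card (Abelianization Q)).Coprime (Nat.card A) :=
    (hcop.coprime_dvd_right (Subgroup.card_quotient_dvd_card (commutator Q))).symm
  apply (powCoprime hc2).injective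
  show ab Q (b * x * b⁻¹) ^ Nat.card A = ab Q x ^ Nat.card A
  rw [key _ (cj b hb x hx), key x hx]
  refine Fintype.prod_equiv (Equiv.mulRight (⟨b, hb⟩ : A)) _ _ fun a => congrArg _ ?_
  simp only [Equiv.coe_mulRight, Subgroup.coe_mul]
  group

end core

/-- Let N be a normal subgroup of the finite group G such that G/N is a Frobenius group with kernel F and cyclic complement H, where the order of F is coprime to that of N and F is not contained in the image of C_G(N) in G/N. Then G has an element of order p·#H for some prime p dividing the order of N. (A standard tool in recognising groups by their element orders.) -/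
theorem result {G : Type*} [Group G] [Finite G] (N : Subgroup G) [N.Normal]
    (Fb Hb : Subgroup (G ⧸ N)) [Fb.Normal] (hHb : Cfsg.IsFrobeniusComplement Hb) (hker : Cfsg.frobeniusKernel Hb = (Fb : Set (G ⧸ N)))
    (hcyc : IsCyclic Hb) (hcop : (Nat.card Fb).Coprime (Nat.card N))
    (hnot : ¬ Fb ≤ (Subgroup.centralizer (N : Set G)).map (QuotientGroup.mk' N)) :
    ∃ p : ℕ, p.Prime ∧ p ∣ Nat.card N ∧ ∃ g : G, orderOf g = p * Nat.card Hb := by
  by_contra hne
  push Not at hne
  obtain ⟨⟨t, ht⟩, hgen⟩ := IsCyclic.exists_generator (α := Hb)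
  have hto : orderOf t = Nat.card Hb := by
    rw [← orderOf_eq_card_of_forall_mem_zpowers hgen, Subgroup.orderOf_mk]
  have hs : ∀ g : G, (g : G ⧸ N) = t → g ^ Nat.card Hb = 1 := fun g hg => by
    obtain ⟨m, hm⟩ : Nat.card Hb ∣ orderOf g := by
      rw [← hto, ← hg]; exact orderOf_map_dvd (QuotientGroup.mk' N) g
    have hpos := orderOf_pos g
    have hcpos : 0 < Nat.card Hb := Nat.card_pos
    by_cases h1 : m = 1
    · rw [← mul_one (Nat.card Hb), ← h1, ← hm, pow_orderOf_eq_one]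
    obtain ⟨p, hp, m', rfl⟩ := Nat.exists_prime_and_dvd h1
    have hm' : m' ≠ 0 := by rintro rfl; rw [mul_zero, mul_zero] at hm; omega
    have h2 : g ^ Nat.card Hb ∈ N := by
      rw [← QuotientGroup.eq_one_iff, QuotientGroup.mk_pow, hg, ← hto, pow_orderOf_eq_one]
    have h3 := Subgroup.orderOf_dvd_natCard N h2
    rw [orderOf_pow_of_dvd hcpos.ne' ⟨_, hm⟩, hm, Nat.mul_div_cancel_left _ hcpos] at h3
    refine absurd ?_ (hne p hp ((Dvd.intro _ rfl).trans h3) (g ^ m'))
    rw [orderOf_pow_of_dvd hm' ⟨Nat.card Hb * p, by rw [hm]; ring⟩, hm, ← mul_assoc,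
      Nat.mul_div_cancel _ (Nat.pos_of_ne_zero hm'), mul_comm]
  let S := Fb.comap (QuotientGroup.mk' N)
  let π : S →* Fb := ((QuotientGroup.mk' N).comp S.subtype).codRestrict Fb fun x => x.2
  have hπ : Function.Surjective π := by
    rintro ⟨y, hy⟩
    obtain ⟨g, rfl⟩ := QuotientGroup.mk'_surjective N y
    exact ⟨⟨g, hy⟩, rfl⟩
  have hk : π.ker = N.subgroupOf S := by
    ext x
    rw [MonoidHom.mem_ker, Subgroup.mem_subgroupOf, ← QuotientGroup.eq_one_iff, Subtype.ext_iff]
    rfl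
  obtain ⟨σ, hσ⟩ := H1.exists_section_of_coprime π hπ (by
    rw [hk]
    exact (hcop.coprime_dvd_right (Subgroup.card_comap_dvd_of_injective N _
      S.subtype_injective)).symm)
  let τ : Fb →* G := S.subtype.comp σ
  have hτ : ∀ f, (τ f : G ⧸ N) = f := fun f => congrArg Subtype.val (hσ f)
  have hinj : Function.Injective τ := fun a b h => Subtype.ext (by rw [← hτ, ← hτ, h])
  have hcA : Nat.card τ.range = Nat.card Fb :=
    (Nat.card_congr (MonoidHom.ofInjective hinj).toEquiv).symm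
  have hsol : Group.IsSolvable τ.range := by
    obtain ⟨K, hK, -, hn⟩ := S0042.result Hb hHb
    obtain rfl : K = Fb := SetLike.coe_injective (hK.trans hker)
    exact Group.isSolvable_of_surjective τ.rangeRestrict_surjective
  have hAN : τ.range ≤ Subgroup.normalizer (N : Set G) := by
    rw [Subgroup.normalizer_eq_top]; exact le_top
  have hcop' : (Nat.card τ.range).Coprime (Nat.card N) := hcA ▸ hcop
  apply hnot
  suffices hC : τ.range ≤ Subgroup.centralizer (N : Set G) from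
    fun f hf => ⟨τ ⟨f, hf⟩, hC ⟨_, rfl⟩, hτ _⟩
  generalize hA : τ.range = A at *
  suffices hC : (N ⊓ Subgroup.centralizer (A : Set G)).relIndex N = 1 from
    Subgroup.le_centralizer_iff.1 ((Subgroup.relIndex_eq_one.1 hC).trans inf_le_right)
  by_contra h1
  obtain ⟨p, hp, hd⟩ := Nat.exists_prime_and_dvd h1
  have : Fact p.Prime := ⟨hp⟩
  obtain ⟨P, -, hPN, hP, hi, hAP⟩ := H1.exists_invariant_pgroup_relIndex A N hAN hcop'
    (Or.inl hsol) p ⊥ bot_le IsPGroup.of_bot (by rw [Subgroup.normalizer_eq_top]; exact le_top)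
  apply hi
  refine hd.trans (Subgroup.relIndex_dvd_of_le_left N (le_inf hPN ?_))
  obtain ⟨h₀, rfl⟩ := QuotientGroup.mk'_surjective N t
  obtain ⟨a, ha, n, hn, rfl⟩ := (H98.isSyl_of_not_dvd_relIndex hPN hP hi).frattini_mem
    (g := h₀) (by rw [Subgroup.normalizer_eq_top]; trivial)
  have hle : MulAut.conj a • A ≤ Subgroup.normalizer (P : Set G) := by
    rintro _ ⟨y, hy, rfl⟩
    exact mul_mem (mul_mem ha (hAP hy)) (inv_mem ha)
  obtain ⟨m, hm, hmA⟩ := H1.exists_conj_le_of_le_mul (MulAut.conj a • A)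
    (N ⊓ Subgroup.normalizer (P : Set G)) A
    (H1.le_normalizer_inf (by rw [Subgroup.normalizer_eq_top]; exact le_top)
      (hle.trans Subgroup.le_normalizer))
    (by
      rw [← Nat.card_congr (Subgroup.equivSMul (MulAut.conj a) A).toEquiv]
      exact hcop'.coprime_dvd_right (Subgroup.card_dvd_of_le inf_le_left))
    (Or.inl (Group.isSolvable_of_surjective (Subgroup.equivSMul (MulAut.conj a) A).surjective
      (f := (Subgroup.equivSMul (MulAut.conj a) A).toMonoidHom))) (by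
      intro y hy
      have h2 : (y : G ⧸ N) ∈ Fb := by
        obtain ⟨z, hz, rfl⟩ := hy
        rw [← hA] at hz
        obtain ⟨f, rfl⟩ := hz
        show ((a * τ f * a⁻¹ : G) : G ⧸ N) ∈ Fb
        rw [QuotientGroup.mk_mul, QuotientGroup.mk_mul, hτ, QuotientGroup.mk_inv]
        exact Subgroup.Normal.conj_mem inferInstance _ f.2 _
      have h3 : τ ⟨_, h2⟩ ∈ A := hA ▸ ⟨_, rfl⟩
      refine ⟨y * (τ ⟨_, h2⟩)⁻¹, ⟨?_, Subgroup.mul_mem _ (hle hy) (Subgroup.inv_mem _ (hAP h3))⟩, _, h3, by group⟩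
      show _ ∈ N
      rw [← QuotientGroup.eq_one_iff, QuotientGroup.mk_mul, QuotientGroup.mk_inv, hτ,
        mul_inv_cancel])
  have hhA : m * a ∈ Subgroup.normalizer (A : Set G) :=
    Subgroup.mem_normalizer_fintype fun y hy => by
      have : MulAut.conj m • MulAut.conj a • y ∈ A := hmA
        (Subgroup.smul_mem_pointwise_smul _ _ _ (Subgroup.smul_mem_pointwise_smul _ _ _ hy))
      simpa [mul_assoc] using this
  have hhP : m * a ∈ Subgroup.normalizer (P : Set G) := mul_mem hm.2 ha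
  have hmk : ∀ x ∈ N, ((x * (m * a) : G) : G ⧸ N) = QuotientGroup.mk' N (a * n) := fun x hx => by
    rw [QuotientGroup.mk'_apply, QuotientGroup.mk_mul, QuotientGroup.mk_mul, QuotientGroup.mk_mul,
      (QuotientGroup.eq_one_iff x).2 hx, (QuotientGroup.eq_one_iff m).2 hm.1,
      (QuotientGroup.eq_one_iff n).2 hn]
    simp
  have hQP : ⁅P, A⁆ ≤ P := H1.commutator_le_of_le_normalizer hAP
  have hcP : (Nat.card A).Coprime (Nat.card P) :=
    hcop'.coprime_dvd_right (Subgroup.card_dvd_of_le hPN)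
  have h5 := core (A := A) (Q := ⁅P, A⁆) (h := m * a) (c := Nat.card Hb) Nat.card_pos hhA
    (H1.le_normalizer_commutator (A := Subgroup.zpowers (m * a))
      (Subgroup.zpowers_le.2 hhP) (Subgroup.zpowers_le.2 hhA) (Subgroup.mem_zpowers _))
    (H1.le_normalizer_commutator_right P A)
    (hcP.coprime_dvd_right (Subgroup.card_dvd_of_le hQP)) (fun i h1 h2 y hy hc => by
      rw [← hA] at hy
      obtain ⟨f, rfl⟩ := hy
      have h6 := hmk 1 N.one_mem
      rw [one_mul] at h6
      have h7 := congrArg (fun z : G => (z : G ⧸ N)) hc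
      simp only [QuotientGroup.mk_mul _ (τ f), QuotientGroup.mk_mul _ _ (τ f), hτ,
        QuotientGroup.mk_pow, h6] at h7
      have h8 := H5.frob_eq_one_of_commute hHb (Hb.pow_mem ht i)
        (pow_ne_one_of_lt_orderOf h1.ne' (hto ▸ h2)) (hker ▸ f.2) h7.symm
      rw [show f = 1 from Subtype.ext h8, map_one])
    (fun x hx => hs _ (hmk x (hPN (hQP hx))))
  rw [H1.commutator_commutator_eq hAP hcP (Or.inl hsol)] at h5
  exact Subgroup.le_centralizer_iff.1 (H1.commutator_eq_bot_iff_le_centralizer'.1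
    (H1.eq_bot_of_le_commutator hP.isNilpotent hQP hQP h5))

end Cfsg.Agent.S3703
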