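import Cfsg.Statements.S3711
import Cfsg.Agent.H65.PhanTwo

set_option autoImplicit false
open Cfsg

namespace Cfsg.Agent.S3711

/-- Recognition of unitary groups over the field with 4 elements from a weak Phan system. Let F be a field with 4 elements and n ≥ 4. Let G be a group with subgroups U_0, …, U_{n−1}, each isomorphic to SU(2, 4), and, for consecutive indices, subgroups V_{i,i+1} in which U_i and U_{i+1} form a standard pair (via an isomorphism from SU(3, 4) or PSU(3, 4) carrying the block-diagonal subgroups, or their images, onto U_i and U_{i+1}); suppose U_i and U_j commute elementwise whenever the indices differ by at least 2, that G is generated by the U_i and the V_{i,i+1}, that for each i the subgroup generated by V_{i,i+1} and V_{i+1,i+2} is a homomorphic image of SU(4, 4), that U_i and V_{j,j+1} commute elementwise whenever i ≤ j − 2 or i ≥ j + 3, and that V_{i,i+1} and V_{k,k+1} commute elementwise whenever k ≥ i + 3. Then G is a homomorphic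 image of SU(n+1, 4). (G is not assumed finite.) -/
theorem result {G : Type*} [Group G] (n : ℕ) (hn : 4 ≤ n)
    (F : Type*) [Field F] [Fintype F] (hF : Fintype.card F = 4)
    (U : Fin n → Subgroup G) (e : ∀ i, ↥(Cfsg.SU 2 F 2) ≃* ↥(U i))
    (V : Fin n → Fin n → Subgroup G)
    (h1 : ∀ i j : Fin n, (i : ℕ) + 2 ≤ j → ∀ x ∈ U i, ∀ y ∈ U j, x * y = y * x)
    (h2 : ∀ i j : Fin n, (i : ℕ) + 1 = j → Cfsg.IsStandardUnitaryPair (V i j) (U i) (U j) F 2)
    (hgen : (⨆ i, U i) ⊔ (⨆ (i : Fin n) (j : Fin n) (_ : (i : ℕ) + 1 = j), V i j) = ⊤)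
    (h4 : ∀ i j k : Fin n, (i : ℕ) + 1 = j → (j : ℕ) + 1 = k →
      ∃ g : ↥(Cfsg.SU 4 F 2) →* ↥(V i j ⊔ V j k), Function.Surjective g)
    (h5 : ∀ i j k : Fin n, (j : ℕ) + 1 = k → ((i : ℕ) + 2 ≤ j ∨ (k : ℕ) + 2 ≤ i) →
      ∀ x ∈ U i, ∀ y ∈ V j k, x * y = y * x)
    (h6 : ∀ i j k l : Fin n, (i : ℕ) + 1 = j → (k : ℕ) + 1 = l → (j : ℕ) + 2 ≤ k →
      ∀ x ∈ V i j, ∀ y ∈ V k l, x * y = y * x) :
    ∃ f : ↥(Cfsg.SU (n + 1) F 2) →* G, Function.Surjective f := by
  open H65.Phan in
  replace hF : Fintype.card F = 2 ^ 2 := hF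
  obtain ⟨f, hf⟩ := weak4 hF (n := n) (by omega) (by omega) (nU U) (nV V) (fun i hi => by
      obtain ⟨ψ, k, v, u0, u1⟩ := std_nat hF h2 i (by omega)
      obtain ⟨ψ', k', v', u0', u1'⟩ := std_nat hF h2 (i + 1) (by omega)
      obtain ⟨g, hg⟩ := h4 ⟨i, by omega⟩ ⟨i + 1, by omega⟩ ⟨i + 2, hi⟩ rfl rfl
      have := std2 hF k k' (u1.trans u0'.symm) (by rw [u0, u1']; exact comm_nat h1 i _ le_rfl hi)
        ((Subgroup.subtype _).comp g) (by
          rw [MonoidHom.range_comp, MonoidHom.range_eq_top.2 hg, ← MonoidHom.range_eq_map,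
            Subgroup.range_subtype, v, v', nV_eq V (by omega), nV_eq V hi])
      rwa [v, v', u0, u1, u1'] at this) (comm_nat h1)
    (fun i k h h' => by
      rw [nU_eq U (by omega), nV_eq V h']
      exact h5 _ _ _ rfl (Or.inl h))
    (fun i k h h' x hx y hy => by
      rw [nU_eq U h'] at hy
      rw [nV_eq V (by omega)] at hx
      exact (h5 _ _ _ rfl (Or.inr h) y hy x hx).symm)
    (fun i k h h' => by
      rw [nV_eq V (by omega), nV_eq V h']
      exact h6 _ _ _ _ rfl rfl h)
  exact ⟨f, MonoidHom.range_eq_top.1 (eq_top_nat hF (by omega) h2 hgen hf)⟩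

end Cfsg.Agent.S3711
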