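import Cfsg.Agent.Base
import Cfsg.Agent.H89.KZass
import Cfsg.Agent.S2202
import Cfsg.Agent.H61.SL2Lift
import Cfsg.Agent.H61.SmallId
import Cfsg.Statements.S3726

set_option autoImplicit false
open Cfsg

namespace Cfsg.Agent.S3726

open MulAction Subgroup H89.K

universe u v

variable {G : Type u} {Ω : Type v} [Group G] [Finite G] [MulAction G Ω]

/-- The conclusion. -/
def Concl (G : Type u) (Ω : Type v) [Group G] [MulAction G Ω] : Prop :=
  (∃ (F : Type) (_ : Field F) (_ : Fintype F),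
    Nonempty (G ≃* Matrix.ProjectiveSpecialLinearGroup (Fin 2) F)) ∨ Cfsg.Lie.IsoSuzuki G ∨ Aff G Ω

structure Hyp (Ω : Type v) [MulAction G Ω] (i : ℕ) (t : G) : Prop extends T2 G Ω where
  ord : orderOf t = 2
  fix : ∀ g : G, Commute g t → g ≠ 1 → Nat.card {x : Ω // g • x = x} = i

namespace Hyp

variable {i : ℕ} {t : G} (h : Hyp Ω i t)
include h

omit [Finite G] in
theorem ne_one : t ≠ 1 := fun e => by simpa [e] using h.ord

omit [Finite G] in
theorem sq : t * t = 1 := by rw [← pow_two, ← h.ord, pow_orderOf_eq_one]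

omit [Finite G] in
theorem conj {w : G} (hw : IsConj t w) : Hyp Ω i w := by
  obtain ⟨k, rfl⟩ := isConj_iff.1 hw
  refine ⟨h.toT2, by rw [← h.ord]; exact (MulAut.conj k).orderOf_eq t, fun g hg h1 => ?_⟩
  rw [← card_fix_conj k⁻¹ g]
  refine h.fix _ ?_ (conj_eq_one_iff.not.2 h1)
  have := hg.map (MulAut.conj k⁻¹)
  simpa [mul_assoc] using this

theorem main : Nat.card (centralizer ({t} : Set G)) + i = Nat.card Ω ∧
    ∀ (a b : Ω) (g : G), a ≠ b → g • a = b → g • b = a → IsConj t g := by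
  classical
  have := h.finite
  have := Fintype.ofFinite Ω
  set C := centralizer ({t} : Set G) with hC
  have := Fintype.ofFinite C
  have := Fintype.ofFinite (Quotient (orbitRel C Ω))
  have hi := h.fix t rfl h.ne_one
  have hlt := hi ▸ h.card_fix_lt h.ne_one
  have h1 := sum_card_fixedBy_eq_card_orbits_mul_card_group C Ω
  have h2 : ∑ g : C, Fintype.card (fixedBy Ω g) = Nat.card Ω - i + Fintype.card C * i := by
    have : ∀ g : C, Fintype.card (fixedBy Ω g) = (if g = 1 then Nat.card Ω - i else 0) + i := by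
      intro g
      rw [← Nat.card_eq_fintype_card]
      split_ifs with e
      · rw [e, fixedBy_one_eq_univ, Nat.card_univ]; omega
      · rw [zero_add]
        exact h.fix g (mem_centralizer_singleton_iff.1 g.2) fun e' => e (Subtype.ext e')
    simp only [this, Finset.sum_add_distrib, Finset.sum_ite_eq', Finset.mem_univ, if_true,
      Finset.sum_const, Finset.card_univ, smul_eq_mul]
  obtain ⟨m, hm⟩ : Nat.card C ∣ Nat.card Ω - i := by
    rw [Nat.card_eq_fintype_card (α := C), ← Nat.dvd_add_left (Dvd.intro i rfl), ← h2, h1]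
    exact Dvd.intro_left _ rfl
  set K : Set G := {w | IsConj t w} with hK
  have hKc : ∀ x ∈ K, ∀ g : G, g * x * g⁻¹ ∈ K := fun x hx g => hx.trans (isConj_iff.2 ⟨g, rfl⟩)
  have hK1 : K.ncard * Nat.card C = Nat.card G := H61.ncard_isConj_mul_card t
  have key : ∀ a b : Ω, a ≠ b → m = 1 ∧ ∀ g : G, g • a = b → g • b = a → IsConj t g := by
    intro a b hab
    have c1 := h.count_move K hKc (fun x hx => (card_fix_of_isConj hx).trans hi) hab
    obtain ⟨s, hs⟩ := h.exists_swap hab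
    have c2 := T2.ncard_swap hs.1 hs.2
    have c3 : {x | x ∈ K ∧ x • a = b} ⊆ {g : G | g • a = b ∧ g • b = a} := fun x hx =>
      ⟨hx.2, by rw [← hx.2, ← mul_smul, (h.conj hx.1).sq, one_smul]⟩
    have c4 := Set.ncard_le_ncard c3
    have c5 := h.two_lt
    rw [hm, ← mul_assoc, hK1, h.card_group hab, mul_assoc] at c1
    have c6 := Nat.eq_of_mul_eq_mul_left (Nat.mul_pos (by omega) (by omega)) c1
    have c7 : 0 < Nat.card (St G a b) := Nat.card_pos
    have c8 : m = 1 := by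
      have : m ≠ 0 := by rintro rfl; omega
      have : m ≤ 1 := Nat.le_of_mul_le_mul_left (c := Nat.card (St G a b)) (by omega) c7
      omega
    subst c8
    have c9 := Set.eq_of_subset_of_ncard_le c3 (by omega)
    exact ⟨rfl, fun g h1 h2 => (c9.ge ⟨h1, h2⟩).1⟩
  obtain ⟨a, b, -, hab, -⟩ := h.big
  have := (key a b hab).1
  subst this
  exact ⟨by omega, fun a b g hab => (key a b hab).2 g⟩

theorem swap_sq {a b : Ω} {s : G} (hab : a ≠ b) (ha : s • a = b) (hb : s • b = a) : s * s = 1 :=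
  (h.conj (h.main.2 a b s hab ha hb)).sq

theorem inv {a b : Ω} {s x : G} (hab : a ≠ b) (ha : s • a = b) (hb : s • b = a)
    (hx : x ∈ St G a b) : s * x = x⁻¹ * s := by
  have h1 := h.swap_sq hab ha hb
  have h2 := h.swap_sq hab (s := s * x) (by rw [mul_smul, hx.1, ha]) (by rw [mul_smul, hx.2, hb])
  calc s * x = (s * x)⁻¹ := eq_inv_of_mul_eq_one_left h2
    _ = _ := by rw [mul_inv_rev, inv_eq_of_mul_eq_one_left h1]

theorem comm {a b : Ω} {x y : G} (hab : a ≠ b) (hx : x ∈ St G a b) (hy : y ∈ St G a b) :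
    x * y = y * x := by
  obtain ⟨s, ha, hb⟩ := h.exists_swap hab
  have h1 := h.inv hab ha hb (mul_mem hx hy)
  rw [← mul_assoc, h.inv hab ha hb hx, mul_assoc, h.inv hab ha hb hy, ← mul_assoc,
    mul_left_inj, ← mul_inv_rev] at h1
  exact (inv_injective h1).symm

theorem comm2 {a b c d : Ω} {s s' x : G} (hab : a ≠ b) (ha : s • a = b) (hb : s • b = a)
    (hcd : c ≠ d) (hc : s' • c = d) (hd : s' • d = c) (hx : x ∈ St G a b) (hx' : x ∈ St G c d) :
    s * s' * x = x * (s * s') := by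
  rw [mul_assoc, h.inv hcd hc hd hx', ← mul_assoc, h.inv hab ha hb (inv_mem hx), inv_inv, mul_assoc]

theorem isConj {w : G} (h1 : w ≠ 1) (h2 : w * w = 1) : IsConj t w := by
  obtain ⟨c, hc⟩ := h.exists_move h1
  exact h.main.2 c _ w hc.symm rfl (by rw [← mul_smul, h2, one_smul])

theorem star
    (h3 : ∀ (g : G) (a b c : Ω), a ≠ b → b ≠ c → a ≠ c → g • a = a → g • b = b → g • c = c → g = 1) :
    Concl G Ω := by
  rcases h.aff_or_zass h3 with hA | hZ
  · exact Or.inr (Or.inr hA)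
  have : Nontrivial G := ⟨t, 1, h.ne_one⟩
  have : IsSimpleGroup G := ⟨fun N hN => or_iff_not_imp_left.2 fun hN1 => by
    have h2 := t2_of_zass (H30.zass_normal hZ N hN1)
    obtain ⟨a, b, -, hab, -⟩ := h.big
    obtain ⟨s, ha, hb⟩ := h2.exists_swap hab
    have hs : ∀ g : G, g • a = b → g • b = a → g ∈ N := fun g h4 h5 => by
      obtain ⟨k, rfl⟩ := isConj_iff.1 ((h.main.2 a b s hab ha hb).symm.trans
        (h.main.2 a b g hab h4 h5))
      exact hN.conj_mem _ s.2 k
    refine eq_top_of_card_St h.toT2 N h2 hab ?_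
    rw [card_St_subgroup, inf_eq_right.2 fun x hx => by
      simpa using mul_mem (inv_mem s.2) (hs (s * x) (by rw [mul_smul, hx.1]; exact ha)
        (by rw [mul_smul, hx.2]; exact hb))]⟩
  exact (H30.zass_class hZ).imp_right Or.inl

theorem small (hi : i ≤ 1) : Concl G Ω := by
  have := h.finite
  by_contra hn
  obtain ⟨x, a, b, d, hab, hbd, had, ha, hb, hd, hx⟩ : ∃ (g : G) (a b c : Ω), a ≠ b ∧ b ≠ c ∧
      a ≠ c ∧ g • a = a ∧ g • b = b ∧ g • c = c ∧ g ≠ 1 := by
    by_contra! hc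
    exact hn (h.star hc)
  have h1 : ∀ w : G, w ≠ 1 → w * w = 1 → w * x ≠ x * w := fun w h1 h2 e => by
    have h3 := (h.conj (h.isConj h1 h2)).fix x e.symm hx
    have : Nontrivial {c : Ω // x • c = c} := ⟨⟨a, ha⟩, ⟨b, hb⟩, fun e => hab (congrArg Subtype.val e)⟩
    have := Finite.one_lt_card (α := {c : Ω // x • c = c})
    omega
  set D := centralizer ({x} : Set G) with hD
  have h2 : orbit D a = {c | x • c = c} := by
    ext c
    refine ⟨?_, fun hc => ?_⟩
    · rintro ⟨g, rfl⟩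
      exact fix_of_comm (mem_centralizer_singleton_iff.1 g.2) ha
    · by_cases e : c = a
      · exact e ▸ mem_orbit_self c
      obtain ⟨z, hz, hza, hzc⟩ : ∃ z, x • z = z ∧ z ≠ a ∧ z ≠ c := by
        by_cases e' : b = c
        · exact ⟨d, hd, had.symm, e' ▸ hbd.symm⟩
        · exact ⟨b, hb, hab.symm, e'⟩
      obtain ⟨s, hs, hs'⟩ := h.exists_swap hzc
      obtain ⟨s', hs1, hs2⟩ := h.exists_swap hza
      exact ⟨⟨s * s', mem_centralizer_singleton_iff.2
        (h.comm2 hzc hs hs' hza hs1 hs2 (mem_St.2 ⟨hz, hc⟩) (mem_St.2 ⟨hz, ha⟩))⟩,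
        (mul_smul s s' a).trans (by rw [hs2, hs])⟩
  have h3 : Odd (Nat.card {c : Ω | x • c = c}) := by
    rw [← h2, Nat.card_coe_set_eq, ← index_stabilizer]
    refine Odd.of_dvd_nat ?_ (index_dvd_card _)
    rw [← Nat.not_even_iff_odd]
    intro he
    obtain ⟨w, hw, h3, h4⟩ := H69.exists_invol_of_even he
    exact h1 w h3 h4 (mem_centralizer_singleton_iff.1 hw)
  obtain ⟨s, hsa, hsb⟩ := h.exists_swap hab
  have hs := h.conj (h.main.2 a b s hab hsa hsb)
  have hsx := h.inv hab hsa hsb ⟨ha, hb⟩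
  obtain ⟨c, hc, hsc⟩ : ∃ c : Ω, x • c = c ∧ s • c = c := by
    have h4 : ∀ c : Ω, x • c = c → x • s • c = s • c := fun c hc => by
      rw [← mul_smul, ← inv_inv x, ← h.inv hab hsa hsb (inv_mem ⟨ha, hb⟩), mul_smul,
        inv_smul_eq_iff.2 hc.symm]
    let σ : Equiv.Perm {c : Ω | x • c = c} :=
      Function.Involutive.toPerm (fun c => ⟨s • c.1, h4 c.1 c.2⟩) fun c =>
        Subtype.ext (by simp only [← mul_smul, hs.sq, one_smul])
    obtain ⟨c, hc⟩ := exists_fix_of_odd h3 (s := σ) (Equiv.ext fun c =>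
      Subtype.ext (by show s • s • c.1 = c.1; rw [← mul_smul, hs.sq, one_smul]))
    exact ⟨c.1, c.2, congrArg Subtype.val hc⟩
  have h5 : ∀ g : G, g * s = s * g → g ≠ 1 → ∀ y : Ω, g • y = y → ∀ z : Ω, g • z = z → y = z :=
    fun g hg hg1 y hy z hz => by
      have := Finite.card_le_one_iff_subsingleton.1 ((hs.fix g hg hg1).trans_le hi)
      exact congrArg Subtype.val (Subsingleton.elim (⟨y, hy⟩ : {c : Ω // g • c = c}) ⟨z, hz⟩)
  have h6 : ∀ g : G, g * s = s * g → g • c = c := fun g hg =>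
    h5 s rfl hs.ne_one _ (fix_of_comm hg hsc) _ hsc
  have hca : a ≠ c := by rintro rfl; exact hab (hsc.symm.trans hsa)
  have h7 : ∀ y, y ≠ c → ∃ g : G, g * s = s * g ∧ g • a = y := by
    let f : centralizer ({s} : Set G) → {y : Ω // ¬ y = c} := fun g => ⟨(g : G) • a, fun e =>
      hca (smul_left_cancel (g : G) (e.trans (h6 g (mem_centralizer_singleton_iff.1 g.2)).symm))⟩
    have hf : Function.Injective f := fun k l e => by
      have e1 : (k : G) • a = (l : G) • a := congrArg Subtype.val e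
      have e2 := mem_centralizer_singleton_iff.1 (l⁻¹ * k).2
      by_contra e3
      refine hca (h5 _ e2 (fun e4 => e3 (inv_mul_eq_one.1 (Subtype.ext e4 : l⁻¹ * k = 1)).symm) _
        ?_ _ (h6 _ e2))
      rw [coe_mul, mul_smul, e1, coe_inv, inv_smul_smul]
    have e4 : 0 < i := by
      rw [← hs.fix s rfl hs.ne_one]
      exact Nat.card_pos_iff.2 ⟨⟨⟨c, hsc⟩⟩, inferInstance⟩
    have hb := (Nat.bijective_iff_injective_and_card f).2 ⟨hf, by
      classical
      have := Fintype.ofFinite Ω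
      have e5 := hs.main.1
      rw [Nat.card_eq_fintype_card (α := {y : Ω // ¬ y = c}), Fintype.card_subtype_compl,
        Fintype.card_subtype_eq, ← Nat.card_eq_fintype_card]
      omega⟩
    intro y hy
    obtain ⟨k, hk⟩ := hb.2 ⟨y, hy⟩
    exact ⟨k, mem_centralizer_singleton_iff.1 k.2, congrArg Subtype.val hk⟩
  refine hn (Or.inr (Or.inr (h.aff_of_isolated (z := s) ⟨hs.ord, fun g hg => ?_⟩)))
  have hw := hs.conj (isConj_iff.2 ⟨g, rfl⟩)
  have h8 : g • c = c := by
    have := h5 s rfl hs.ne_one (g⁻¹ • c) (by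
      rw [← conj_smul_eq (g := g), smul_inv_smul]; exact h6 _ hg.symm) _ hsc
    exact (inv_smul_eq_iff.1 this).symm
  obtain ⟨k, hk, hka⟩ := h7 (g⁻¹ • a) fun e => hca (by rw [inv_smul_eq_iff.1 e, h8])
  have h9 : g * k * x = x * (g * k) := h.comm hca
    (mem_St.2 ⟨by rw [mul_smul, hka, smul_inv_smul], by rw [mul_smul, h6 k hk, h8]⟩) ⟨ha, hc⟩
  have h10 : g * s * g⁻¹ = g * k * s * (g * k)⁻¹ := by
    rw [mul_assoc g k, hk]; simp [mul_assoc]
  by_contra hne
  refine h1 (s * (g * s * g⁻¹)) (fun e => hne ?_) ?_ ?_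
  · rw [← eq_inv_of_mul_eq_one_right e |>.symm, inv_eq_of_mul_eq_one_left hs.sq]
  · rw [mul_assoc, ← mul_assoc _ s, ← hg.eq, mul_assoc, hw.sq, mul_one, hs.sq]
  · have h11 : Commute (g * k) x := h9
    have h12 := h.inv hab hsa hsb (inv_mem (mem_St.2 ⟨ha, hb⟩))
    rw [h10]
    generalize g * k = m at h11
    calc s * (m * s * m⁻¹) * x = s * m * s * (m⁻¹ * x) := by simp only [mul_assoc]
      _ = s * m * (s * x) * m⁻¹ := by rw [h11.inv_left.eq]; simp only [mul_assoc]
      _ = s * (m * x⁻¹) * s * m⁻¹ := by rw [hsx]; simp only [mul_assoc]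
      _ = (s * x⁻¹) * m * s * m⁻¹ := by rw [h11.inv_right.eq]; simp only [mul_assoc]
      _ = _ := by rw [h12, inv_inv]; simp only [mul_assoc]

theorem large (hi : 2 ≤ i) : Concl G Ω := by
  have := h.finite
  have hti := h.fix t rfl h.ne_one
  set C := centralizer ({t} : Set G) with hC
  set F : Set Ω := {x | t • x = x} with hF
  have hCi : ∀ {g : G}, g ∈ C ↔ g * t = t * g := mem_centralizer_singleton_iff
  have h1 : ∀ x ∈ F, ∀ y ∈ F, x ≠ y → St G x y ≤ C := fun x hx y hy hxy g hg =>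
    hCi.2 (h.comm hxy hg ⟨hx, hy⟩)
  have h2 : ∀ x ∈ F, ∀ y ∈ F, x ≠ y → ∀ s : G, s • x = y → s • y = x → s ∈ C :=
    fun x hx y hy hxy s h3 h4 => hCi.2 (by
      rw [h.inv hxy h3 h4 ⟨hx, hy⟩, inv_eq_of_mul_eq_one_left h.sq])
  obtain ⟨⟨a, ha⟩, ⟨b, hb⟩, hab⟩ := Finite.one_lt_card_iff_nontrivial.1 (hti ▸ hi)
  replace hab : a ≠ b := fun e => hab (Subtype.ext e)
  rcases hi.eq_or_lt with rfl | hi
  · refine h.star fun g x y z hxy hyz hxz hx hy hz => by_contra fun hg => ?_
    obtain ⟨k, rfl, rfl⟩ := h.two hxy hab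
    have h3 := h.fix _ (hCi.1 (h1 _ ha _ hb hab (conj_mem_St k ⟨hx, hy⟩))) (by simpa using hg)
    rw [card_fix_conj] at h3
    classical
    have := Fintype.ofFinite {c : Ω // g • c = c}
    rw [Nat.card_eq_fintype_card] at h3
    exact h3.not_gt (Fintype.two_lt_card_iff.2 ⟨⟨x, hx⟩, ⟨y, hy⟩, ⟨z, hz⟩, by simpa, by simpa, by simpa⟩)
  have h3 : ∀ g ∈ C, Odd (orderOf g) → ∀ x ∈ F, g • x = x := fun g hg ho x hx => by
    have hgt : Commute g t := hCi.1 hg
    have e1 : (g * t) ^ orderOf g = t := by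
      obtain ⟨m, hm⟩ := ho
      rw [hgt.mul_pow, pow_orderOf_eq_one, one_mul, hm, pow_succ, pow_mul, pow_two, h.sq, one_pow,
        one_mul]
    have e2 : {x | (g * t) • x = x} = F := Set.eq_of_subset_of_ncard_le
      (fun y hy => by
        have : (g * t) ^ orderOf g ∈ stabilizer G y := pow_mem hy _
        rwa [e1] at this)
      (by
        rw [← Nat.card_coe_set_eq, ← Nat.card_coe_set_eq]
        exact (hti.trans (h.fix _ (hgt.mul_left rfl) fun e => h.ne_one
          (by rw [← e1, e, one_pow])).symm).le)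
    have e3 : (g * t) • x = x := e2.ge hx
    rwa [mul_smul, hx] at e3
  obtain ⟨Y, _, _, _, π, hπ⟩ := exists_res C F fun g hg x hx => fix_of_comm (hCi.1 hg) hx
  have h4 : ∀ x y : F, ∃ g : Y, g • x = y := fun x y => by
    by_cases e : x = y
    · exact ⟨1, by rw [one_smul, e]⟩
    replace e : (x : Ω) ≠ y := fun e' => e (Subtype.ext e')
    obtain ⟨s, h5, h6⟩ := h.exists_swap e
    exact ⟨π ⟨s, h2 _ x.2 _ y.2 e s h5 h6⟩, hπ.smul_eq_iff.2 h5⟩
  have h5 : IsPGroup 2 Y := fun y => by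
    obtain ⟨g, rfl⟩ := hπ.surj y
    obtain ⟨k, m, hm, e⟩ := Nat.exists_eq_two_pow_mul_odd (orderOf_pos (g : G)).ne'
    refine ⟨k, by
      rw [← map_pow]
      refine hπ.eq_one_iff.2 (h3 _ (g ^ 2 ^ k).2 (hm.of_dvd_nat (orderOf_dvd_of_pow_eq_one ?_)))
      rw [coe_pow, ← pow_mul, ← e, pow_orderOf_eq_one]⟩
  have : Nontrivial Y := by
    obtain ⟨g, hg⟩ := h4 ⟨a, ha⟩ ⟨b, hb⟩
    exact ⟨g, 1, fun e => hab (by simpa [e] using hg)⟩
  have : Fact (Nat.Prime 2) := ⟨Nat.prime_two⟩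
  have := h5.center_nontrivial
  obtain ⟨⟨z, hz⟩, hz1⟩ := exists_ne (1 : center Y)
  have h6 : ∀ x : F, z • x ≠ x := fun x e => hz1 (Subtype.ext (hπ.faith z fun y => by
    obtain ⟨g, rfl⟩ := h4 x y
    exact fix_of_comm (mem_center_iff.1 hz g) e))
  have h7 : ∀ g ∈ C, ∀ x ∈ F, g • x = x → ∀ y ∈ F, g • y = y := fun g hg x hx hgx y hy => by
    by_cases e : x = y
    · exact e ▸ hgx
    have e1 : x ≠ (z • (⟨x, hx⟩ : F) : F) := fun e' => h6 ⟨x, hx⟩ (Subtype.ext e'.symm)
    have e2 : ∀ k ∈ C, k • x = x → k ∈ St G x (z • (⟨x, hx⟩ : F) : F) := fun k hk hkx =>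
      ⟨hkx, (hπ.smul_eq_iff (g := ⟨k, hk⟩)).1 (fix_of_comm (mem_center_iff.1 hz _).symm
        (hπ.smul_eq_iff.2 hkx))⟩
    have e3 := eq_of_le_of_card_ge (fun k hk => e2 k (h1 x hx y hy e hk) hk.1)
      (h.card_St_eq e1 e).le
    exact (e3.ge (e2 g hg hgx)).2
  have h8 : ∀ g ∈ C, g • a ≠ a → g • g • a = a := fun g hg hga => by
    have e1 : g • a ∈ F := fix_of_comm (hCi.1 hg) ha
    obtain ⟨s, h9, h10⟩ := h.exists_swap hga.symm
    have e2 := h7 (s⁻¹ * g) (mul_mem (inv_mem (h2 _ ha _ e1 hga.symm s h9 h10)) hg) a ha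
      (by rw [mul_smul, inv_smul_eq_iff, h9]) _ e1
    rw [mul_smul, inv_smul_eq_iff] at e2
    rw [e2, h10]
  obtain ⟨c, hc, hca, hcb⟩ : ∃ c ∈ F, c ≠ a ∧ c ≠ b := by
    by_contra! hc
    have e1 : F ⊆ {a, b} := fun c h9 => or_iff_not_imp_left.2 (hc c h9)
    have e2 := (Set.ncard_le_ncard e1).trans (Set.ncard_pair hab).le
    rw [← Nat.card_coe_set_eq] at e2
    exact absurd (hti ▸ e2) (by omega)
  obtain ⟨s, hsa, hsb⟩ := h.exists_swap hab
  obtain ⟨s', hsa', hsc'⟩ := h.exists_swap hca.symm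
  have hs := h2 a ha b hb hab s hsa hsb
  have hs' := h2 a ha c hc hca.symm s' hsa' hsc'
  have h9 : ∀ g ∈ C, g * g = 1 := fun g hg => by
    by_cases hga : g • a = a
    · have e1 : (s * s') • a ≠ a := by
        rw [mul_smul, hsa', ← hsb]
        exact fun e => hcb (smul_left_cancel s e)
      have e2 := h.inv e1.symm rfl (h8 _ (mul_mem hs hs') e1)
        ⟨hga, h7 g hg a ha hga _ (fix_of_comm (hCi.1 (mul_mem hs hs')) ha)⟩
      rw [h.comm2 hab hsa hsb hca.symm hsa' hsc' ⟨hga, h7 g hg a ha hga b hb⟩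
        ⟨hga, h7 g hg a ha hga c hc⟩, mul_left_inj] at e2
      exact mul_eq_one_iff_eq_inv.2 e2
    · exact h.swap_sq (Ne.symm hga) rfl (h8 g hg hga)
  have h10 : ∀ w : G, orderOf w = 2 → IsMulCommutative (centralizer ({w} : Set G)) := by
    intro w hw
    obtain ⟨k, rfl⟩ := isConj_iff.1 (h.isConj (w := w) (fun e => by simp [e] at hw)
      (by rw [← pow_two, ← hw, pow_orderOf_eq_one]))
    have e1 : ∀ x ∈ centralizer ({k * t * k⁻¹} : Set G), x * x = 1 := fun x hx => by
      have e2 : Commute x (k * t * k⁻¹) := mem_centralizer_singleton_iff.1 hx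
      have e3 := h9 (k⁻¹ * x * k⁻¹⁻¹) (hCi.2 (by simpa [mul_assoc] using (e2.map (MulAut.conj k⁻¹)).eq))
      rwa [conj_mul, conj_eq_one_iff] at e3
    refine ⟨⟨fun x y => Subtype.ext ?_⟩⟩
    calc (x : G) * y = (x * y : G)⁻¹ := eq_inv_of_mul_eq_one_left (e1 _ (x * y).2)
      _ = _ := by rw [mul_inv_rev, inv_eq_of_mul_eq_one_left (e1 _ x.2),
        inv_eq_of_mul_eq_one_left (e1 _ y.2), coe_mul]
  obtain ⟨P, hP⟩ := IsPGroup.exists_le_sylow (P := C) (p := 2) fun g =>
    ⟨1, Subtype.ext (by rw [pow_one, pow_two]; exact h9 g g.2)⟩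
  have ht : t ∈ C := hCi.2 rfl
  rcases Cfsg.Agent.S2202.result (even_iff_two_dvd.2 (h.ord ▸ orderOf_dvd_natCard t)) h10 with
    e | e | ⟨K, _, _, A, _, _, _, -, ⟨e⟩⟩
  · exfalso
    classical
    have := e P
    have := Fintype.ofFinite P
    have e1 := IsCyclic.card_pow_eq_one_le (α := P) (n := 2) two_pos
    refine e1.not_gt (Finset.two_lt_card_iff.2 ⟨1, ⟨t, hP ht⟩, ⟨s, hP hs⟩, by simp, ?_, ?_, ?_, ?_, ?_⟩)
    · simpa [Subtype.ext_iff, pow_two] using h.sq
    · simpa [Subtype.ext_iff, pow_two] using h9 s hs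
    · exact fun e => h.ne_one (congrArg Subtype.val e).symm
    · exact fun e => hab (by rw [← hsa, ← show (1 : G) = s from congrArg Subtype.val e, one_smul])
    · exact fun e => hab (by rw [← hsa, ← show t = s from congrArg Subtype.val e]; exact ha.symm)
  · have := e P
    have := P.2.isNilpotent
    exact Or.inr (Or.inr (h.aff_of_solvable (P : Subgroup G) fun e' =>
      h.ne_one (mem_bot.1 (e' ▸ hP ht))))
  · rcases subsingleton_or_nontrivial A with e' | e'
    · have : Unique A := uniqueOfSubsingleton 1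
      exact Or.inl ⟨K, inferInstance, inferInstance, ⟨(e.trans MulEquiv.prodUnique).trans
        (H61.slEquivPslOfTwo (CharP.cast_eq_zero K 2))⟩⟩
    · obtain ⟨x, hx⟩ := exists_ne (1 : A)
      refine Or.inr (Or.inr (h.aff_of_center (z := e.symm (1, x)) (by simpa using hx) fun g => ?_))
      apply e.injective
      simp [Prod.ext_iff, mul_comm]

end Hyp

/-- Let a finite group G act faithfully and 2-transitively on a finite set Ω, and suppose there is an involution t of G, fixing exactly i points, such that every non-identity element of the centralizer of t also fixes exactly i points. Then G is isomorphic to PSL₂(q) for some finite field of order q, or to a Suzuki group Sz(q) (q = 2^(2m+1) ≥ 8), or G has a normal subgroup acting regularly on Ω. -/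
theorem result {G Ω : Type*} [Group G] [Finite G] [Fintype Ω] [MulAction G Ω] [FaithfulSMul G Ω]
    (h2 : MulAction.IsMultiplyPretransitive G Ω 2) (i : ℕ) (t : G) (ht : orderOf t = 2)
    (hti : Nat.card {x : Ω // t • x = x} = i)
    (hC : ∀ g : G, Commute g t → g ≠ 1 → Nat.card {x : Ω // g • x = x} = i) :
    (∃ (F : Type) (_ : Field F) (_ : Fintype F), Nonempty (G ≃* Matrix.ProjectiveSpecialLinearGroup (Fin 2) F)) ∨
    Cfsg.Lie.IsoSuzuki G ∨
    (∃ R : Subgroup G, R.Normal ∧ (∀ x y : Ω, ∃ r ∈ R, r • x = y) ∧ ∀ x : Ω, ∀ r ∈ R, r • x = x → r = 1) := by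
  by_cases h3 : 2 < Nat.card Ω
  · have h : Hyp Ω i t := ⟨T2.of_mult h2 h3, ht, hC⟩
    rcases le_or_gt i 1 with hi | hi
    exacts [h.small hi, h.large hi]
  · have : IsPretransitive G Ω := isPretransitive_of_is_two_pretransitive
    refine Or.inr (Or.inr ⟨⊤, inferInstance, fun x y => ?_, fun x r _ hr => ?_⟩)
    · obtain ⟨g, hg⟩ := exists_smul_eq G x y
      exact ⟨g, trivial, hg⟩
    · refine eq_of_smul_eq_smul (α := Ω) fun y => ?_
      rw [one_smul]
      by_contra hy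
      rw [Nat.card_eq_fintype_card, Fintype.two_lt_card_iff] at h3
      have hxy : x ≠ y := by rintro rfl; exact hy hr
      exact h3 ⟨x, y, r • y, hxy, fun e => hxy (smul_left_cancel r (hr.trans e)), Ne.symm hy⟩

end Cfsg.Agent.S3726
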