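import Cfsg.Statements.S3727
import Cfsg.Agent.H82.HPMain
import Cfsg.Agent.H82.HPCase
import Cfsg.Agent.H82.HPTr
import Cfsg.Agent.H82.HPP1
import Cfsg.Agent.H34.HpMA
import Cfsg.Agent.H77.HPMB
import Cfsg.Agent.H98.HpB2
import Cfsg.Agent.H23.HPB3
import Cfsg.Agent.H23.HPPG
import Cfsg.Agent.H73.HPPS
import Cfsg.Agent.H95.HPAf

set_option autoImplicit false
open Cfsg

namespace Cfsg.Agent.S3727

/-- Let a finite group G act faithfully and 2-transitively on a finite set Ω of even size, and suppose the stabilizer of a point a has a normal subgroup N isomorphic to PSL₃(q) with q = 2ⁿ, n ≥ 1. Then N is transitive on the remaining points, and either G has a normal subgroup of order q³ acting regularly on Ω and n is odd, or Ω has 22 points, q = 4, and G is isomorphic to the Mathieu group M₂₂ or has a subgroup of index 2 isomorphic to M₂₂. -/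
theorem result {G Ω : Type*} [Group G] [Finite G] [Fintype Ω] [MulAction G Ω] [FaithfulSMul G Ω]
    (h2 : MulAction.IsMultiplyPretransitive G Ω 2) (hev : Even (Fintype.card Ω)) (a : Ω) (N : Subgroup G)
    (hNle : N ≤ MulAction.stabilizer G a) (hNnormal : ∀ g ∈ MulAction.stabilizer G a, ∀ x ∈ N, g * x * g⁻¹ ∈ N)
    (n : ℕ) (hn : 1 ≤ n)
    (hN : ∃ (F : Type) (_ : Field F) (_ : Fintype F), Fintype.card F = 2 ^ n ∧
      Nonempty (↥N ≃* Matrix.ProjectiveSpecialLinearGroup (Fin 3) F)) :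
    (∀ x y : Ω, x ≠ a → y ≠ a → ∃ g ∈ N, g • x = y) ∧
    ((Odd n ∧ ∃ E : Subgroup G, E.Normal ∧ Nat.card E = (2 ^ n) ^ 3 ∧ (∀ x y : Ω, ∃ r ∈ E, r • x = y) ∧
        ∀ x : Ω, ∀ r ∈ E, r • x = x → r = 1) ∨
     (Fintype.card Ω = 22 ∧ n = 2 ∧ (Cfsg.Spor.IsoM22 G ∨ ∃ H : Subgroup G, H.index = 2 ∧ Cfsg.Spor.IsoM22 ↥H))) := by
  obtain ⟨F, _, _, hF, ⟨e⟩⟩ := hN
  obtain ⟨P, L, h⟩ := (H82.HP.model H34.Hp.jobMA H77.HP.jobMB H34.Hp.jobMD F hn hF).of_equiv e
  have hT : H89.K.T2 G Ω := H89.K.T2.of_mult h2 (by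
    obtain ⟨p, hp, l, -, i⟩ := h.exists_flag
    obtain ⟨y, hy, -, h1⟩ := i.exists
    have ya : y • a = a := hNle (h.a.le p hp hy)
    obtain ⟨c, h5⟩ : ∃ c : Ω, y • c ≠ c := by
      by_contra! r
      exact h1 (eq_of_smul_eq_smul (α := Ω) fun c => by rw [r, one_smul])
    have h6 : a ≠ c := fun e => h5 (e ▸ ya)
    rw [Nat.card_eq_fintype_card]
    exact Fintype.two_lt_card_iff.2 ⟨a, c, y • c, h6, fun e => h6 (MulAction.injective y
      (ya.trans e)), h5.symm⟩)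
  rw [← Nat.card_eq_fintype_card] at hev ⊢
  obtain ⟨M, rfl, H⟩ := H82.HP.exists_hp hT hev hNle
    (fun g hg => Subgroup.mem_normalizer_fintype (hNnormal g hg)) ⟨P, L, h⟩
  exact H82.HP.main H82.HP.jobCase H82.HP.jobB1 H98.Hp.jobB2 H23.HP.jobB3 H82.HP.jobP1 H23.HP.jobPG
    H73.HP.jobPS H95.HP.jobAf H82.HP.jobTr H73.HP.jobM22 H a

end Cfsg.Agent.S3727
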