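import Cfsg.Agent.Base
import Cfsg.Agent.H89.OstromWagner
import Cfsg.Statements.S3732

set_option autoImplicit false
open Cfsg

namespace Cfsg.Agent.S3732

open H89 in

/-- The Ostrom–Wagner Theorem. Let Π be a finite projective plane (points P, lines L) whose collineation group is 2-transitive on points: for any two ordered pairs of distinct points there is a permutation of the points, together with a compatible permutation of the lines preserving incidence, carrying the first pair to the second. Then Π is Desarguesian: there is a finite field F and a bijection from P onto the points of the projective plane over F (the 1-dimensional subspaces of F³) under which the lines of Π correspond exactly to the 2-dimensional subspaces of F³. -/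
theorem result
    {P L : Type*} [Membership P L] [Fintype P] [Fintype L] [Configuration.ProjectivePlane P L]
    (h2t : ∀ p₁ p₂ q₁ q₂ : P, p₁ ≠ p₂ → q₁ ≠ q₂ →
      ∃ (σ : Equiv.Perm P) (τ : Equiv.Perm L), (∀ (p : P) (l : L), σ p ∈ τ l ↔ p ∈ l) ∧ σ p₁ = q₁ ∧ σ p₂ = q₂) :
    ∃ (F : Type) (_ : Field F) (_ : Fintype F) (φ : P ≃ Projectivization F (Fin 3 → F)),
      (∀ l : L, ∃ W : Submodule F (Fin 3 → F), Module.finrank F W = 2 ∧
          ∀ p : P, p ∈ l ↔ (φ p).submodule ≤ W) ∧
      (∀ W : Submodule F (Fin 3 → F), Module.finrank F W = 2 →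
          ∃ l : L, ∀ p : P, p ∈ l ↔ (φ p).submodule ≤ W) := by
  have h := (pl_of_projectivePlane P L).act
  have h2 : MulAction.IsMultiplyPretransitive (Coll fun (x : P) (l : L) => x ∈ l) P 2 :=
    MulAction.is_two_pretransitive_iff.2 fun {a b c d} ab cd =>
      let ⟨σ, τ, e, e1, e2⟩ := h2t a b c d ab cd
      ⟨⟨(σ, τ), e⟩, e1, e2⟩
  obtain ⟨F, _, _, ρ, m⟩ := h.ostrom_wagner h2
  have key : ∀ {x y : P} {l : L}, x ≠ y → x ∈ l → y ∈ l → ∀ p : P,
      p ∈ l ↔ (m.equiv p).submodule ≤ Submodule.span F {ρ x, ρ y} := fun xy hx hy p => by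
    rw [← h.mem_L_iff h2 xy hx hy, m.line xy, m.equiv_apply, Projectivization.submodule_mk,
      Submodule.span_singleton_le_iff_mem, Submodule.mem_span_pair]
  have fr : ∀ {x y : P}, x ≠ y → Module.finrank F (Submodule.span F {ρ x, ρ y}) = 2 :=
    fun {x y} xy => by
      have : LinearIndependent F ![ρ x, ρ y] := LinearIndependent.pair_iff.2 fun s t => m.indep xy
      have e := finrank_span_eq_card this
      rwa [Matrix.range_cons, Matrix.range_cons, Matrix.range_empty, Set.union_empty] at e
  refine ⟨F, inferInstance, inferInstance, m.equiv, fun l => ?_, fun W hW => ?_⟩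
  · obtain ⟨x, y, xy, hx, hy⟩ := h.exists_two l
    exact ⟨_, fr xy, key xy hx hy⟩
  · haveI : Module.Finite F W := Module.finite_of_finrank_eq_succ hW
    let b := Module.finBasisOfFinrankEq F W hW
    obtain ⟨x, c, hx⟩ := m.surj (b 0) (by simpa using b.ne_zero 0)
    obtain ⟨y, d, hy⟩ := m.surj (b 1) (by simpa using b.ne_zero 1)
    have hle : W ≤ Submodule.span F {ρ x, ρ y} := fun v hv => by
      have := congrArg Subtype.val (b.sum_repr ⟨v, hv⟩)
      simp only [Fin.sum_univ_two, Submodule.coe_add, Submodule.coe_smul, ← hx, ← hy,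
        smul_smul] at this
      exact Submodule.mem_span_pair.2 ⟨_, _, this⟩
    have xy : x ≠ y := by
      rintro rfl
      have := Submodule.finrank_mono hle
      rw [hW, Set.pair_eq_singleton, finrank_span_singleton (m.ne_zero x)] at this
      omega
    obtain ⟨l, h1, h2⟩ := h.join xy
    exact ⟨l, Submodule.eq_of_le_of_finrank_eq hle (hW.trans (fr xy).symm) ▸ key xy h1 h2⟩

end Cfsg.Agent.S3732
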