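import Cfsg.Statements.S3739
import Cfsg.Agent.H9.Nine2
import Cfsg.Agent.H14.Std
import Cfsg.Agent.H2.CoreFree
import Cfsg.Agent.H12.Thompson
import Cfsg.Agent.H3.NonCyclic
import Cfsg.Agent.H98.Coprime
import Cfsg.Agent.H98.Core

set_option autoImplicit false
open Cfsg

namespace Cfsg.Agent.S3739

open Subgroup H98

section
variable {G : Type*} [Group G] [Finite G] {W K : Subgroup G} {x : G}

theorem pg {A : Subgroup G} (hA : IsElementaryAbelian 2 A) : IsPGroup 2 A :=
  isPGroup_iff_forall.2 fun a ha => ⟨1, by rw [pow_one]; exact hA.2 a ha⟩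

theorem cz (x : G) : centralizer (zpowers x : Set G) = centralizer {x} := by
  rw [zpowers_eq_closure, centralizer_closure]

theorem md (hx : IsPGroup 3 (zpowers x)) (hn : x ∈ normalizer (K : Set G)) :
    Nat.card K ≡ Nat.card ↥(K ⊓ centralizer {x}) [MOD 3] := by
  haveI : Fact (Nat.Prime 3) := ⟨Nat.prime_three⟩
  have := H2.card_modEq_card_inf_centralizer hx (zpowers_le.2 hn)
  rwa [cz] at this

theorem four (hx : IsPGroup 3 (zpowers x)) (hn : x ∈ normalizer (K : Set G)) (h1 : K ≠ ⊥)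
    (hf : K ⊓ centralizer {x} = ⊥) (h2 : IsPGroup 2 K) (h4 : Nat.card K ≤ 4) : Nat.card K = 4 := by
  haveI : Fact (Nat.Prime 2) := ⟨Nat.prime_two⟩
  have h := md hx hn
  rw [hf, card_bot] at h
  obtain ⟨n, e⟩ := IsPGroup.iff_card.1 h2
  have h1' : Nat.card K ≠ 1 := fun e => h1 (card_eq_one.1 e)
  rw [e] at h h4 h1' ⊢
  have : n < 3 := by
    by_contra hc
    have : 2 ^ 3 ≤ 2 ^ n := Nat.pow_le_pow_right (by norm_num) (by omega)
    omega
  interval_cases n <;> simp_all [Nat.ModEq]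

theorem cen_of (hx : IsPGroup 3 (zpowers x)) (hn : x ∈ normalizer (W : Set G)) (h4 : Nat.card W = 4)
    (hf : W ⊓ centralizer {x} ≠ ⊥) : x ∈ centralizer (W : Set G) := by
  have h := md hx hn
  have hd : Nat.card ↥(W ⊓ centralizer {x}) ∣ 4 := h4 ▸ card_dvd_of_le inf_le_left
  have h1' : Nat.card ↥(W ⊓ centralizer {x}) ≠ 1 := fun e => hf (card_eq_one.1 e)
  have hle := Nat.le_of_dvd (by norm_num) hd
  have e : Nat.card ↥(W ⊓ centralizer {x}) = 4 := by
    rw [h4] at h
    generalize Nat.card ↥(W ⊓ centralizer {x}) = m at *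
    interval_cases m <;> simp_all [Nat.ModEq]
  have e2 : W ⊓ centralizer {x} = W := eq_of_le_of_card_ge inf_le_left (by rw [e, h4])
  intro w hw
  rw [← e2] at hw
  exact (mem_centralizer_singleton_iff.1 hw.2)

theorem mem_of (h4 : ∀ A : Subgroup G, IsElementaryAbelian 2 A → Nat.card A ≤ 4) (hW : IsElementaryAbelian 2 W)
    (hc : Nat.card W = 4) (xx : x ^ 2 = 1) (hx : x ∈ centralizer (W : Set G)) : x ∈ W := by
  have h := h4 _ (H12.ea_sup (H12.ea_zpowers xx) hW (zpowers_le.2 hx))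
  have e : W = zpowers x ⊔ W := eq_of_le_of_card_ge le_sup_right (by rw [hc]; exact h)
  rw [e]
  exact mem_sup_left (mem_zpowers x)

end

/-- Let G be a finite group with C_G(O₂(G)) ≤ O₂(G) containing an element of order 6, and let d be a non-identity 3-element of G normalizing a nontrivial elementary abelian 2-subgroup W with C_W(d) = 1. Then G has an elementary abelian subgroup of order 8. -/
theorem result {G : Type*} [Group G] [Finite G] (hchar : Subgroup.centralizer (Cfsg.pCore 2 G : Set G) ≤ Cfsg.pCore 2 G) (hsix : ∃ g : G, orderOf g = 6) (d : G) (hd1 : d ≠ 1) (hd : IsPGroup 3 ↥(Subgroup.zpowers d)) (W : Subgroup G) (hW : Cfsg.IsElementaryAbelian 2 W) (hW1 : W ≠ ⊥) (hdW : d ∈ Subgroup.normalizer (W : Set G)) (hfpf : W ⊓ Subgroup.centralizer {d} = ⊥) : ∃ E : Subgroup G, Cfsg.IsElementaryAbelian 2 E ∧ Nat.card E = 8 := by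
  haveI : Fact (Nat.Prime 2) := ⟨Nat.prime_two⟩
  haveI : Fact (Nat.Prime 3) := ⟨Nat.prime_three⟩
  by_contra hE
  have h4 : ∀ A : Subgroup G, IsElementaryAbelian 2 A → Nat.card A ≤ 4 := fun A hA => by
    by_contra hc
    obtain ⟨n, e⟩ := IsPGroup.iff_card.1 (pg hA)
    have h3 : 3 ≤ n := by
      by_contra h
      have : 2 ^ n ≤ 2 ^ 2 := Nat.pow_le_pow_right (by norm_num) (by omega)
      omega
    obtain ⟨K, hK⟩ := Sylow.exists_subgroup_card_pow_prime (G := A) 2 (n := 3) (e ▸ pow_dvd_pow 2 h3)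
    refine hE ⟨K.map A.subtype, ⟨?_, fun a ha => hA.2 a (map_subtype_le K ha)⟩, ?_⟩
    · haveI := hA.1
      infer_instance
    · rw [card_map_of_injective A.subtype_injective, hK]
      norm_num
  set Q := pCore 2 G with hQ
  have hQ2 : IsPGroup 2 Q := isPGroup_pCore 2 G
  haveI hQn : Q.Normal := inferInstance
  have nQ : ∀ H : Subgroup G, H ≤ normalizer (Q : Set G) := fun H => le_normalizer_of_normal
  have hW4 : Nat.card W = 4 := four hd hdW hW1 hfpf (pg hW) (h4 W hW)
  have odd1 : ∀ y : G, IsPGroup 3 (zpowers y) → y ∈ centralizer (Q : Set G) → y = 1 := fun y hy hc => by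
    have := IsPGroup.disjoint_of_ne 3 2 (by norm_num) _ _ hy hQ2
    exact (disjoint_def.1 this) (mem_zpowers y) (hchar hc)
  have hZ2 : IsPGroup 2 (centralizer (Q : Set G)) := hQ2.to_le hchar
  have hQ1 : Q ≠ ⊥ := fun e => hd1 (odd1 d hd (by rw [e, centralizer_bot']; trivial))
  have hZ1 : centralizer (Q : Set G) ≠ ⊥ := fun e =>
    inf_centralizer_ne_bot hQ2 hQ2 (nQ Q) hQ1 (by rw [e, inf_bot_eq])
  have hWZ : W ≤ centralizer (Q : Set G) := by
    have h1 := inf_centralizer_ne_bot hZ2 (pg hW) (le_normalizer_centralizer (nQ W)) hZ1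
    obtain ⟨z, hz, hz2, -⟩ := H14.exists_central_involution (hZ2.to_le inf_le_left) h1
    have hzW : z ∈ W := mem_of h4 hW hW4 (hz2 ▸ pow_orderOf_eq_one z) hz.2
    have hU : Nat.card ↥(W ⊓ centralizer (Q : Set G)) = 4 := four hd
      (zpowers_le.1 (le_normalizer_inf (zpowers_le.2 hdW) (le_normalizer_centralizer (nQ _))))
      (fun e => H14.ne_one_of_two hz2 (by
        have : z ∈ W ⊓ centralizer (Q : Set G) := ⟨hzW, hz.1⟩
        rwa [e, mem_bot] at this))
      (eq_bot_iff.2 (hfpf ▸ inf_le_inf_right _ inf_le_left)) ((pg hW).to_le inf_le_left)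
      (hW4 ▸ card_le_of_le inf_le_left)
    have e : W ⊓ centralizer (Q : Set G) = W := eq_of_le_of_card_ge inf_le_left (by rw [hU, hW4])
    rw [← e]
    exact inf_le_right
  have hQW : Q ≤ centralizer (W : Set G) := le_centralizer_iff.1 hWZ
  haveI hWn : W.Normal := ⟨fun w hw g => mem_of h4 hW hW4 (by rw [conj_pow, hW.2 w hw]; group)
    (hQW (hQn.conj_mem w (hchar (hWZ hw)) g))⟩
  have nW : ∀ g : G, g ∈ normalizer (W : Set G) := fun g => le_normalizer_of_normal (mem_top g)
  set C := centralizer (W : Set G) with hC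
  have h3C : 3 ∣ Nat.card C := by
    obtain ⟨g, hg⟩ := hsix
    have g6 : g ^ 6 = 1 := hg ▸ pow_orderOf_eq_one g
    have o3 : orderOf (g ^ 2) = 3 := by rw [orderOf_pow, hg]; norm_num
    have o2 : orderOf (g ^ 3) = 2 := by rw [orderOf_pow, hg]; norm_num
    have p3 : IsPGroup 3 (zpowers (g ^ 2)) := isPGroup_zpowers (k := 1) (by rw [← pow_mul]; exact g6)
    have p2 : IsPGroup 2 (zpowers (g ^ 3)) := isPGroup_zpowers (k := 1) (by rw [← pow_mul]; exact g6)
    have cm : g ^ 2 ∈ centralizer (zpowers (g ^ 3) : Set G) := by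
      rw [cz, mem_centralizer_singleton_iff, ← pow_add, ← pow_add]
    have hx : g ^ 2 ∈ C := cen_of p3 (nW _) hW4 fun hf => by
      have h1 := inf_centralizer_ne_bot (pg hW) p2 (zpowers_le.2 (nW _)) hW1
      have hU : Nat.card ↥(W ⊓ centralizer (zpowers (g ^ 3) : Set G)) = 4 := four p3
        (zpowers_le.1 (le_normalizer_inf (zpowers_le.2 (nW _)) (le_normalizer_centralizer
          (le_normalizer_of_le_centralizer (zpowers_le.2 cm))))) h1
        (eq_bot_iff.2 (hf ▸ inf_le_inf_right _ inf_le_left)) ((pg hW).to_le inf_le_left)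
        (hW4 ▸ card_le_of_le inf_le_left)
      have e : W ⊓ centralizer (zpowers (g ^ 3) : Set G) = W :=
        eq_of_le_of_card_ge inf_le_left (by rw [hU, hW4])
      have ht : g ^ 3 ∈ W := mem_of h4 hW hW4 (by rw [← pow_mul]; exact g6)
        (zpowers_le.1 (le_centralizer_iff.1 (e ▸ inf_le_right)))
      have : g ^ 3 ∈ W ⊓ centralizer {g ^ 2} :=
        ⟨ht, mem_centralizer_singleton_iff.2 (by rw [← pow_add, ← pow_add])⟩
      rw [hf, mem_bot] at this
      exact H14.ne_one_of_two o2 this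
    exact o3 ▸ Subgroup.orderOf_dvd_natCard C hx
  obtain ⟨S, hS, hdS⟩ := exists_isSyl_le hd (le_top (a := zpowers d))
  have hSC := hS.inf_of_le_normalizer (le_top (a := C)) le_normalizer_of_normal
  have h1 := inf_centralizer_ne_bot hSC.isPGroup hS.isPGroup
    (le_normalizer_inf le_normalizer le_normalizer_of_normal) fun e => (hSC.eq_bot_iff.1 e) h3C
  have h3d : 3 ∣ Nat.card ↥(S ⊓ C ⊓ centralizer (S : Set G)) :=
    ((hSC.isPGroup.to_le inf_le_left).card_eq_or_dvd).resolve_left fun e => h1 (card_eq_one.1 e)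
  obtain ⟨⟨x, hx⟩, ox⟩ := exists_prime_orderOf_dvd_card' 3 h3d
  rw [orderOf_mk] at ox
  have d3 : d ^ 3 = 1 := by
    obtain ⟨n, hn⟩ := isPGroup_iff_forall.1 hd d (mem_zpowers d)
    exact odd1 _ (hd.to_le (zpowers_le.2 (pow_mem (mem_zpowers d) 3)))
      (H9.Nine.cube_cen hQ2 (fun A _ => h4 A) (nQ ⊤ (mem_top d)) hn)
  have od : orderOf d = 3 := orderOf_eq_prime d3 hd1
  have dC : d ∉ C := fun h => hW1 (by
    rw [← hfpf]
    exact (inf_eq_left.2 fun w hw => mem_centralizer_singleton_iff.2 (h w hw)).symm)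
  have cm : Commute x d := (hx.2 d (hdS (mem_zpowers d))).symm
  have x3 : x ^ 3 = 1 := ox ▸ pow_orderOf_eq_one x
  have hA := H3.isElementaryAbelian_sup_zpowers cm x3 d3
  have cA := H3.card_sup_zpowers_of_commute Nat.prime_three cm ox od fun h => dC (zpowers_le.2 hx.1.2 h)
  set A := zpowers x ⊔ zpowers d with hAd
  have x1 : x ≠ 1 := fun e => by rw [e, orderOf_one] at ox; omega
  have hxA : x ∈ A ⊓ C := ⟨mem_sup_left (mem_zpowers x), hx.1.2⟩
  have cAC : Nat.card ↥(A ⊓ C) = 3 := by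
    obtain ⟨i, hi, e⟩ := (Nat.dvd_prime_pow Nat.prime_three).1 (cA ▸ card_dvd_of_le (inf_le_left (a := A) (b := C)))
    interval_cases i
    · rw [pow_zero, card_eq_one] at e
      rw [e, mem_bot] at hxA
      exact (x1 hxA).elim
    · exact e
    · have e2 : A ⊓ C = A := eq_of_le_of_card_ge inf_le_left (by rw [e, cA])
      have : d ∈ A ⊓ C := e2.symm ▸ mem_sup_right (mem_zpowers d)
      exact (dC this.2).elim
  have key : Q ≤ centralizer {x} := H14.le_of_forall_inf_centralizer hA cA.ge (nQ A) (by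
      obtain ⟨n, e⟩ := IsPGroup.iff_card.1 hQ2
      rw [e]
      exact Nat.Coprime.pow_left n (by norm_num)) fun a ha a1 => by
    by_cases haC : a ∈ C
    · have e := H3.eq_zpowers_of_card_eq_prime Nat.prime_three cAC (x := a) ⟨ha, haC⟩ a1
      rw [e] at hxA
      rw [← cz, ← cz]
      exact inf_le_right.trans (centralizer_anti (zpowers_le.2 hxA))
    · by_cases hb : Q ⊓ centralizer {a} = ⊥
      · rw [hb]; exact bot_le
      obtain ⟨z, hz, hz2, -⟩ := H14.exists_central_involution (hQ2.to_le inf_le_left) hb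
      have hzW : z ∈ W := mem_of h4 hW hW4 (hz2 ▸ pow_orderOf_eq_one z) (hQW hz.1)
      refine (haC (cen_of (isPGroup_zpowers (k := 1) (hA.2 a ha)) (nW a) hW4 fun e => ?_)).elim
      have : z ∈ W ⊓ centralizer {a} := ⟨hzW, hz.2⟩
      rw [e, mem_bot] at this
      exact H14.ne_one_of_two hz2 this
  exact x1 (odd1 x (isPGroup_zpowers (k := 1) x3) fun q hq => mem_centralizer_singleton_iff.1 (key hq))

end Cfsg.Agent.S3739
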