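import Cfsg.Statements.S3740
import Cfsg.Agent.H7.GWCons
import Cfsg.Agent.H61.SL2Lift
import Cfsg.Agent.H98.Core
import Cfsg.Agent.H12.Basic

set_option autoImplicit false
open Cfsg

namespace Cfsg.Agent.S3740

open Subgroup H98 H61
open scoped MatrixGroups

section
variable {F : Type} [Field F] {p : ℕ} [hp : Fact p.Prime] [CharP F p]

theorem tr_of_pow {g : SL(2, F)} {k : ℕ} (h : g ^ p ^ k = 1) : tr g = 2 := by
  have h1 : ((g : Matrix (Fin 2) (Fin 2) F) - 1) ^ p ^ k = 0 := by
    rw [sub_pow_char_pow_of_commute p k (Commute.one_right _), one_pow, ← Matrix.SpecialLinearGroup.coe_pow, h,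
      Matrix.SpecialLinearGroup.coe_one, sub_self]
  have h2 := (Matrix.isNilpotent_trace_of_isNilpotent ⟨_, h1⟩).eq_zero
  rw [Matrix.trace_sub, Matrix.trace_one, ← tr_eq_trace, sub_eq_zero] at h2
  simpa using h2

omit hp [CharP F p] in
theorem pow_of_tr {g : SL(2, F)} (h : tr g = 2) (n : ℕ) : ((g ^ n : SL(2, F)) : Matrix (Fin 2) (Fin 2) F) =
    1 + (n : F) • ((g : Matrix (Fin 2) (Fin 2) F) - 1) := by
  induction n with
  | zero => simp
  | succ n ih =>
    have e := sl_mul_self g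
    rw [h, Matrix.SpecialLinearGroup.coe_mul] at e
    rw [pow_succ, Matrix.SpecialLinearGroup.coe_mul, ih, add_mul, smul_mul_assoc, sub_mul, e, one_mul]
    push_cast
    module

omit hp in
theorem pow_p {g : SL(2, F)} (h : tr g = 2) : g ^ p = 1 := by
  apply Subtype.ext
  show ((g ^ p : SL(2, F)) : Matrix (Fin 2) (Fin 2) F) = 1
  rw [pow_of_tr h, CharP.cast_eq_zero, zero_smul, add_zero]

omit hp [CharP F p] in
theorem tr_pow_mul {g : SL(2, F)} (h : tr g = 2) (n : ℕ) (r : SL(2, F)) :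
    tr (g ^ n * r) = tr r + n * (tr (g * r) - tr r) := by
  simp only [tr_eq_trace, Matrix.SpecialLinearGroup.coe_mul]
  rw [pow_of_tr h, add_mul, smul_mul_assoc, sub_mul, one_mul, Matrix.trace_add, Matrix.trace_smul,
    Matrix.trace_sub, smul_eq_mul]

theorem tr_of_dvd [Finite F] (h2 : p ≠ 2) {g : SL(2, F)} (h : p ∣ orderOf g) : tr g = 2 ∨ tr g = -2 := by
  haveI := Fintype.ofFinite F
  obtain ⟨n, -, hn⟩ := FiniteField.card F p
  have hq : p ∣ Nat.card F := by
    rw [Nat.card_eq_fintype_card, hn]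
    exact dvd_pow_self p n.ne_zero
  have h0 : 0 < Nat.card F := Nat.card_pos
  rcases sl_orderOf_cases p g with e | e | e
  · rw [← map_pow, proj_eq_one_iff] at e
    rcases e with e | e
    · exact Or.inl (tr_of_pow (p := p) (k := 1) (by rwa [pow_one]))
    · right
      have : tr (-g) = 2 := tr_of_pow (p := p) (k := 1) (by
        rw [pow_one, (hp.out.odd_of_ne_two h2).neg_pow, e, neg_neg])
      rw [tr_neg] at this
      rw [← this, neg_neg]
  · have := (Nat.dvd_sub hq (h.trans e))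
    rw [Nat.sub_sub_self h0] at this
    exact (hp.out.one_lt.ne' (Nat.dvd_one.1 this)).elim
  · exact (hp.out.one_lt.ne' (Nat.dvd_one.1 ((Nat.dvd_add_right hq).1 (h.trans e)))).elim

end

theorem pow_mul_mem {G : Type*} [Group G] {R : Subgroup G} {g r : G} (hg : g ∈ normalizer (R : Set G))
    (hr : r ∈ R) (m : ℕ) : (g ^ m)⁻¹ * (g * r) ^ m ∈ R := by
  induction m with
  | zero => simp
  | succ m ih =>
    have e : (g ^ (m + 1))⁻¹ * (g * r) ^ (m + 1) = g⁻¹ * ((g ^ m)⁻¹ * (g * r) ^ m) * g * r := by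
      rw [pow_succ, pow_succ]; group
    rw [e]
    exact mul_mem (conj_mem_of_mem_normalizer' hg ih) hr

/-- Let F be a finite field of odd characteristic p and let a be a p-element of SL₂(F) normalizing a subgroup R of order prime to p with [R, a] ≠ 1. Then p = 3, R is a quaternion group of order 8, and R⟨a⟩ is isomorphic to SL₂(3). -/
theorem result (F : Type) [Field F] [Fintype F] {p : ℕ} [Fact p.Prime] [CharP F p] (hp : p ≠ 2) (a : Matrix.SpecialLinearGroup (Fin 2) F) (ha : IsPGroup p ↥(Subgroup.zpowers a)) (R : Subgroup (Matrix.SpecialLinearGroup (Fin 2) F)) (hR : (Nat.card R).Coprime p) (haR : a ∈ Subgroup.normalizer (R : Set (Matrix.SpecialLinearGroup (Fin 2) F))) (hnt : ⁅R, Subgroup.zpowers a⁆ ≠ ⊥) : p = 3 ∧ Nonempty (↥R ≃* QuaternionGroup 2) ∧ Nonempty (↥(R ⊔ Subgroup.zpowers a) ≃* Matrix.SpecialLinearGroup (Fin 2) (ZMod 3)) := by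
  have pp : p.Prime := Fact.out
  have h2 : (2 : F) ≠ 0 := char_ne_two_iff.1 hp
  obtain ⟨k, hk⟩ := isPGroup_iff_forall.1 ha a (mem_zpowers a)
  have ta : tr a = 2 := tr_of_pow hk
  have ap : a ^ p = 1 := pow_p ta
  have nc : ¬ R ≤ centralizer {a} := fun h => hnt (by
    rw [commutator_eq_bot_iff_le_centralizer, zpowers_eq_closure, centralizer_closure]
    exact h)
  have a1 : a ≠ 1 := fun e => nc fun r _ => mem_centralizer_singleton_iff.2 (by rw [e, mul_one, one_mul])
  have oa : orderOf a = p := orderOf_eq_prime ap a1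
  have cop : ∀ r ∈ R, (orderOf r).Coprime p := fun r hr =>
    Nat.Coprime.coprime_dvd_left (Subgroup.orderOf_dvd_natCard R hr) hR
  have one : ∀ r ∈ R, r ^ p = 1 → r = 1 := fun r hr e =>
    orderOf_eq_one_iff.1 (Nat.Coprime.eq_one_of_dvd (cop r hr) (orderOf_dvd_of_pow_eq_one e))
  have key : ∀ r ∈ R, ∀ i : ℕ, ¬ p ∣ i →
      tr r + i * (tr (a * r) - tr r) = 2 ∨ tr r + i * (tr (a * r) - tr r) = -2 := fun r hr i hi => by
    rw [← tr_pow_mul ta]
    refine tr_of_dvd hp ?_
    have h := pow_mul_mem (pow_mem haR i) hr (orderOf (a ^ i * r))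
    rw [pow_orderOf_eq_one, mul_one, inv_mem_iff, ← pow_mul] at h
    have h' := one _ h (by rw [← pow_mul, mul_comm, pow_mul, ap, one_pow])
    have := orderOf_dvd_of_pow_eq_one h'
    rw [oa] at this
    exact ((Nat.Prime.dvd_mul pp).1 this).resolve_left hi
  have cen : ∀ r ∈ R, tr r = 2 ∨ tr r = -2 → r = 1 ∨ r = -1 := fun r hr h => by
    rcases h with h | h
    · exact Or.inl (one r hr (pow_p h))
    · refine sl_eq_of_mul_self_eq_one h2 (one _ (mul_mem hr hr) ?_)
      have : (-r) ^ p = 1 := pow_p (by rw [tr_neg, h, neg_neg])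
      rw [← neg_mul_neg, ← pow_two, ← pow_mul, mul_comm, pow_mul, this, one_pow]
  have nd : ∀ i : ℕ, 0 < i → i < p → ¬ p ∣ i := fun i h0 h1 h => absurd (Nat.le_of_dvd h0 h) (by omega)
  have p3 : 3 ≤ p := by have := pp.two_le; omega
  obtain ⟨r, hr, hra⟩ : ∃ r ∈ R, r ∉ centralizer {a} := by
    by_contra! h
    exact nc h
  have rc : ¬ (r = 1 ∨ r = -1) := fun h => hra (mem_centralizer_singleton_iff.2 (by
    rcases h with h | h <;> simp [h]))
  have hp3 : p = 3 := by
    by_contra h3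
    have h4 : p ≠ 4 := fun e => by rw [e] at pp; norm_num at pp
    have k1 := key r hr 1 (nd 1 (by omega) (by omega))
    have k2 := key r hr 2 (nd 2 (by omega) (by omega))
    have k3 := key r hr 3 (nd 3 (by omega) (by omega))
    push_cast at k1 k2 k3
    have s0 : tr (a * r) - tr r = 0 := by
      generalize tr (a * r) - tr r = s at *
      have e2 : 2 * s = 0 → s = 0 := fun e => (mul_eq_zero.1 e).resolve_left h2
      rcases k1 with k1 | k1 <;> rcases k2 with k2 | k2 <;> rcases k3 with k3 | k3 <;>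
        first | linear_combination k2 - k1 | linear_combination k3 - k2 | exact e2 (by linear_combination k3 - k1)
    rw [s0, mul_zero, add_zero] at k1
    exact rc (cen r hr k1)
  subst hp3
  have h3 : (3 : F) = 0 := by exact_mod_cast CharP.cast_eq_zero F 3
  have tz : ∀ x ∈ R, (x = 1 ∨ x = -1) ∨ (tr x = 0 ∧ (tr (a ^ 1 * x) = 2 ∨ tr (a ^ 2 * x) = 2)) := fun x hx => by
    have k1 := key x hx 1 (by norm_num)
    have k2 := key x hx 2 (by norm_num)
    rw [tr_pow_mul ta, tr_pow_mul ta]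
    push_cast at k1 k2 ⊢
    generalize tr (a * x) - tr x = s at *
    rcases k1 with k1 | k1 <;> rcases k2 with k2 | k2
    · exact Or.inl (cen x hx (Or.inl (by linear_combination 2 * k1 - k2)))
    · exact Or.inr ⟨by linear_combination 2 * k1 - k2 + 2 * h3, Or.inl k1⟩
    · exact Or.inr ⟨by linear_combination 2 * k1 - k2 - 2 * h3, Or.inr k2⟩
    · exact Or.inl (cen x hx (Or.inr (by linear_combination 2 * k1 - k2)))
  have p4 : ∀ x ∈ R, x ^ 4 = 1 := fun x hx => by
    have e : x ^ 4 = x * x * (x * x) := by simp only [pow_succ, pow_zero, one_mul, mul_assoc]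
    rcases tz x hx with (h | h) | ⟨h, -⟩
    · rw [h, one_pow]
    · rw [e, h, sl_neg_one_mul_self, mul_one]
    · rw [e, sl_mul_self_of_tr_zero h, sl_neg_one_mul_self]
  have R2 : IsPGroup 2 R := isPGroup_iff_forall.2 fun x hx => ⟨2, p4 x hx⟩
  have ncyc : ¬ IsCyclic R := fun hc => by
    have hd : Nat.card R ∣ 4 := by
      rw [← IsCyclic.exponent_eq_card]
      exact Monoid.exponent_dvd_of_forall_pow_eq_one fun x => Subtype.ext (p4 x x.2)
    have o1 : orderOf (R.normalizerMonoidHom ⟨a, haR⟩) ∣ 3 := orderOf_dvd_of_pow_eq_one (by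
      rw [← map_pow]
      have : (⟨a, haR⟩ : normalizer (R : Set SL(2, F))) ^ 3 = 1 := Subtype.ext ap
      rw [this, map_one])
    have o2 := orderOf_dvd_natCard (R.normalizerMonoidHom ⟨a, haR⟩)
    rw [IsCyclic.card_mulAut] at o2
    have o3 : orderOf (R.normalizerMonoidHom ⟨a, haR⟩) ∣ 2 := o2.trans (by
      have := Nat.le_of_dvd (by norm_num) hd
      generalize Nat.card R = m at *
      interval_cases m <;> revert hd <;> decide)
    have o4 := orderOf_eq_one_iff.1 (Nat.eq_one_of_dvd_coprimes (by norm_num) o1 o3)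
    rw [← MonoidHom.mem_ker, normalizerMonoidHom_ker, mem_subgroupOf] at o4
    exact hra (mem_centralizer_singleton_iff.2 (o4 r hr))
  obtain ⟨j, hj, ⟨e⟩⟩ := (two_subgroup_sl h2 R2).resolve_left ncyc
  have j1 : j = 1 := by
    haveI : NeZero (2 ^ j) := ⟨by positivity⟩
    have h4 : (QuaternionGroup.a 1 : QuaternionGroup (2 ^ j)) ^ 4 = 1 := by
      rw [← e.apply_symm_apply (QuaternionGroup.a 1), ← map_pow]
      have : e.symm (QuaternionGroup.a 1) ^ 4 = 1 := Subtype.ext (p4 _ (e.symm _).2)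
      rw [this, map_one]
    have := Nat.le_of_dvd (by norm_num) (orderOf_dvd_of_pow_eq_one h4)
    rw [QuaternionGroup.orderOf_a_one] at this
    by_contra hc
    have : 2 ^ 2 ≤ 2 ^ j := Nat.pow_le_pow_right (by norm_num) (by omega)
    omega
  subst j1
  have cR : Nat.card R = 8 := by
    rw [Nat.card_congr e.toEquiv, Nat.card_eq_fintype_card, QuaternionGroup.card]
    norm_num
  refine ⟨rfl, ⟨e⟩, ?_⟩
  set H := R ⊔ zpowers a with hH
  have haH : a ∈ H := mem_sup_right (mem_zpowers a)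
  refine H7.GW.equiv_sl23 (P := R.subgroupOf H) ?_ ?_ ?_ (isPGroup_subgroupOf R2 H) fun hc => ncyc ?_
  · rw [hH, sup_comm, H12.card_sup_of_disjoint (zpowers_le.2 haR) (inf_eq_bot_of_coprime (by
      rw [Nat.card_zpowers, oa]; exact hR.symm)), Nat.card_zpowers, oa, cR]
  · rw [← res_subgroupOf, subgroupOf_eq_top]
    have o3 : ∀ x ∈ H, x ^ 3 = 1 → x ∈ res 2 H := fun x hx h => mem_res_of_coprime hx
      (Nat.Coprime.coprime_dvd_left (orderOf_dvd_of_pow_eq_one h) (by norm_num))
    have ar := o3 a haH ap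
    have t0 : ∀ x ∈ R, tr (a ^ 1 * x) = 2 ∨ tr (a ^ 2 * x) = 2 → x ∈ res 2 H := fun x hx h => by
      rcases h with h | h <;>
        exact (mul_mem_cancel_left (pow_mem ar _)).1
          (o3 _ (mul_mem (pow_mem haH _) (mem_sup_left hx)) (pow_p h))
    obtain ⟨r0, r1⟩ := (tz r hr).resolve_left rc
    refine sup_le (fun x hx => ?_) (zpowers_le.2 ar)
    rcases tz x hx with (h | h) | ⟨-, h⟩
    · rw [h]; exact one_mem _
    · rw [h, ← sl_mul_self_of_tr_zero r0]
      exact mul_mem (t0 r hr r1) (t0 r hr r1)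
    · exact t0 x hx h
  · have u : ∀ x : H, orderOf x = 2 → (x : SL(2, F)) = -1 := fun x hx => by
      have e : x * x = 1 := by rw [← pow_two]; exact orderOf_dvd_iff_pow_eq_one.1 hx.dvd
      refine (sl_eq_of_mul_self_eq_one h2 (congrArg Subtype.val e)).resolve_left fun e1 => ?_
      rw [show x = 1 from Subtype.ext e1, orderOf_one] at hx
      omega
    exact fun x y hx hy => Subtype.ext ((u x hx).trans (u y hy).symm)
  · exact isCyclic_of_surjective (subgroupOfEquivOfLe (le_sup_left : R ≤ H)).toMonoidHom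
      (subgroupOfEquivOfLe _).surjective

end Cfsg.Agent.S3740
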