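import Cfsg.Statements.S3745
import Cfsg.Agent.Base
import Cfsg.Agent.H46.Coprime
import Cfsg.Agent.H18.PiHall
import Cfsg.Agent.H4.Hall

set_option autoImplicit false
open Cfsg

namespace Cfsg.Agent.S3745

/-- Coprime action on a solvable group and Hall subgroups. Let A and G be subgroups of a finite group with A normalizing G, the orders of A and G coprime, and G solvable, and let π be a set of primes. Then (a) G has an A-invariant Hall π-subgroup; (b) any two A-invariant Hall π-subgroups of G are conjugate by an element of C_G(A); (c) every A-invariant π-subgroup of G lies in an A-invariant Hall π-subgroup of G. -/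
theorem result {X : Type*} [Group X] [Finite X] (A G : Subgroup X) (hAG : A ≤ Subgroup.normalizer (G : Set X)) (hcop : (Nat.card A).Coprime (Nat.card G)) (hsolv : Group.IsSolvable G) (π : Set ℕ) : (∃ H : Subgroup X, Cfsg.IsPiHallOf π H G ∧ A ≤ Subgroup.normalizer (H : Set X)) ∧ (∀ H₁ H₂ : Subgroup X, Cfsg.IsPiHallOf π H₁ G → A ≤ Subgroup.normalizer (H₁ : Set X) → Cfsg.IsPiHallOf π H₂ G → A ≤ Subgroup.normalizer (H₂ : Set X) → ∃ c ∈ G ⊓ Subgroup.centralizer (A : Set X), H₂ = H₁.map (MulAut.conj c).toMonoidHom) ∧ (∀ U : Subgroup X, U ≤ G → A ≤ Subgroup.normalizer (U : Set X) → (∀ p : ℕ, p.Prime → p ∣ Nat.card U → p ∈ π) → ∃ H : Subgroup X, Cfsg.IsPiHallOf π H G ∧ A ≤ Subgroup.normalizer (H : Set X) ∧ U ≤ H) := by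
  refine ⟨H46.coprime_Hall_exists π hAG hcop hsolv, fun H₁ H₂ h1 h1' h2 h2' =>
    H46.coprime_Hall_trans hAG hcop hsolv h1 h1' h2 h2', fun U hUG hAU hπ => ?_⟩
  set σ : Set ℕ := π ∪ H46.piOf (Nat.card A) with hσ
  have hn : H46.NormalIn G (G ⊔ A) := H46.normalIn_sup_left hAG
  have : (G.subgroupOf (G ⊔ A)).Normal := (Subgroup.normal_subgroupOf_iff_le_normalizer hn.1).2 hn.2
  have hs : Group.IsSolvable (G.subgroupOf (G ⊔ A)) :=
    Group.isSolvable_of_isSolvable_injective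
      (f := (Subgroup.subgroupOfEquivOfLe hn.1).toMonoidHom) (MulEquiv.injective _)
  have hY : H18.IsPiSolv σᶜ ↥(G ⊔ A) := by
    refine H18.hasSeries_of_normal_of_quotient (G.subgroupOf (G ⊔ A))
      (H18.hasSeries_of_isSolvable fun p hp => ?_) (H18.hasSeries_of_card ⟨σᶜᶜ, Or.inl rfl, ?_⟩)
    · by_cases h : p ∈ σᶜ
      · exact ⟨{p}, Or.inr ⟨p, h, hp, rfl⟩, rfl⟩
      · exact ⟨σᶜᶜ, Or.inl rfl, h⟩
    · intro p hp hd
      rw [compl_compl]
      refine Or.inr ⟨hp, hd.trans ?_⟩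
      change G.relIndex (G ⊔ A) ∣ _
      have h1 : (G ⊔ A) = (G.subgroupOf (G ⊔ A) ⊔ A.subgroupOf (G ⊔ A)).map (G ⊔ A).subtype := by
        rw [Subgroup.map_sup, Subgroup.map_subgroupOf_eq_of_le le_sup_left,
          Subgroup.map_subgroupOf_eq_of_le le_sup_right]
      have h2 : G.subgroupOf (G ⊔ A) ⊔ A.subgroupOf (G ⊔ A) = ⊤ := by
        apply Subgroup.map_injective (G ⊔ A).subtype_injective
        rw [← h1, ← MonoidHom.range_eq_map, Subgroup.range_subtype]
      have h3 := Subgroup.relIndex_sup_left (A.subgroupOf (G ⊔ A)) (G.subgroupOf (G ⊔ A))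
      rw [h2, Subgroup.relIndex_top_right, Subgroup.relIndex_subgroupOf le_sup_right] at h3
      rw [Subgroup.relIndex, h3]
      exact Subgroup.relIndex_dvd_card _ _
  obtain ⟨R₀, hR₀, hall⟩ := hY.hall_compl
  rw [compl_compl] at hR₀ hall
  have hUA : H46.IsPi σ (U ⊔ A) :=
    (H46.IsPi.mono hπ Set.subset_union_left).sup
      ((H46.isPi_piOf A).mono Set.subset_union_right) hAU
  obtain ⟨g, hg⟩ := hall ((U ⊔ A).subgroupOf (G ⊔ A)) (H4.isPiSubgroup_subgroupOf hUA _)
  have hR := H4.isPiHallOf_map_subtype (H4.isPiHall_smul hR₀ (MulAut.conj g))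
  have hle := Subgroup.map_mono (f := (G ⊔ A).subtype) hg
  rw [Subgroup.map_subgroupOf_eq_of_le (sup_le_sup_right hUG A)] at hle
  refine ⟨_ ⊓ G, H46.isPiHallOf_congr (fun r hr hd => ?_) (H46.Cfsg.IsPiHallOf.inf_normal hR hn),
    H46.nrm_inf (H46.nrm_of_le (le_sup_right.trans hle)) hAG, le_inf (le_sup_left.trans hle) hUG⟩
  exact ⟨fun h => h.resolve_right fun h' => hr.ne_one (Nat.eq_one_of_dvd_coprimes hcop h'.2 hd),
    Or.inl⟩

end Cfsg.Agent.S3745
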