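import Cfsg.Statements.S3754
import Cfsg.Agent.H47.CycNormal
import Cfsg.Agent.H98.Core
import Cfsg.Agent.H47.Orbit

set_option autoImplicit false
open Cfsg hiding pRank
open H46

namespace Cfsg.Agent.S3754

/-- Let M be a finite p-soluble group and A a p-subgroup of M with Φ(A) ≤ O_p(M) but A ≰ O_p(M). Then there is x ∈ O_{p,p'}(M) such that L = ⟨A, xAx⁻¹⟩ satisfies: x ∈ O^p(L) and O^p(L) ≤ O_{p,p'}(M); [O^p(L), A] = O^p(L); A ∩ O_p(L) has index p in A; and [A ∩ O_p(L), L] ≤ O_p(M). Here O^p(L) is the subgroup generated by the p'-elements of L and O_{p,p'}(M) the preimage of O_{p'}(M/O_p(M)). -/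
theorem result {M : Type*} [Group M] [Finite M] {p : ℕ} [Fact p.Prime] (hM : Cfsg.IsPSolvable p M) (A : Subgroup M) (hA : IsPGroup p A) (hΦ : (frattini ↥A).map A.subtype ≤ Cfsg.pCore p M) (hnot : ¬ A ≤ Cfsg.pCore p M) : ∃ x ∈ (Cfsg.pPrimeCore p (M ⧸ Cfsg.pCore p M)).comap (QuotientGroup.mk' (Cfsg.pCore p M)), x ∈ (Cfsg.pResidual p ↥(A ⊔ A.map (MulAut.conj x).toMonoidHom)).map (A ⊔ A.map (MulAut.conj x).toMonoidHom).subtype ∧ (Cfsg.pResidual p ↥(A ⊔ A.map (MulAut.conj x).toMonoidHom)).map (A ⊔ A.map (MulAut.conj x).toMonoidHom).subtype ≤ (Cfsg.pPrimeCore p (M ⧸ Cfsg.pCore p M)).comap (QuotientGroup.mk' (Cfsg.pCore p M)) ∧ ⁅(Cfsg.pResidual p ↥(A ⊔ A.map (MulAut.conj x).toMonoidHom)).map (A ⊔ A.map (MulAut.conj x).toMonoidHom).subtype, A⁆ = (Cfsg.pResidual p ↥(A ⊔ A.map (MulAut.conj x).toMonoidHom)).map (A ⊔ A.map (MulAut.conj x).toMonoidHom).subtype ∧ (A ⊓ (Cfsg.pCore p ↥(A ⊔ A.map (MulAut.conj x).toMonoidHom)).map (A ⊔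 A.map (MulAut.conj x).toMonoidHom).subtype).relIndex A = p ∧ ⁅A ⊓ (Cfsg.pCore p ↥(A ⊔ A.map (MulAut.conj x).toMonoidHom)).map (A ⊔ A.map (MulAut.conj x).toMonoidHom).subtype, A ⊔ A.map (MulAut.conj x).toMonoidHom⁆ ≤ Cfsg.pCore p M := by
  have hp : p.Prime := Fact.out
  set Q := Cfsg.pCore p M with hQ
  let f := QuotientGroup.mk' Q
  have hf : Function.Surjective f := QuotientGroup.mk'_surjective _
  have hker : f.ker = Q := QuotientGroup.ker_mk' Q
  set N := Cfsg.pPrimeCore p (M ⧸ Q) with hN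
  have hNp : IsPi {p}ᶜ N := (isPi_compl_singleton_iff_coprime hp).2 (H2.coprime_card_pPrimeCore p _)
  have hnrm : ∀ L : Subgroup (M ⧸ Q), L ≤ Nrm N := fun L =>
    le_top.trans (Subgroup.normalizer_eq_top N).ge
  set Ab := A.map f with hAb
  have hAp : IsPi {p} Ab := isPi_of_isPGroup hp (hA.map f)
  have hAc : IsMulCommutative Ab := by
    rw [← der_eq_bot_iff, hAb, ← Subgroup.map_commutator, Subgroup.map_eq_bot_iff, hker]
    exact (der_le_frattiniOf_of_nil (nil_of_isPGroup hp hA)).trans hΦ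
  have hAe : IsElementaryAbelian p Ab := ⟨hAc, by
    rintro _ ⟨a, ha, rfl⟩
    rw [← map_pow]
    exact (QuotientGroup.eq_one_iff _).2 (hΦ (pow_mem_frattiniOf hp hA ha))⟩
  have hNA : ¬ N ≤ Cent Ab := by
    intro h
    have h1 := (le_cent_symm h).trans (H18.centralizer_pPrimeCore_le (H18.isPSolvable_quotient hM Q)
      (H2.pCore_quotient_pCore p M))
    have h2 : Ab = ⊥ := hAp.eq_bot (hNp.of_le h1)
    rw [hAb, Subgroup.map_eq_bot_iff, hker] at h2
    exact hnot h2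
  obtain ⟨Y, hY, hYc, hYA⟩ : ∃ Y, Y ≤ Ab ∧ IsCyclic (Ab ⧸ₙ Y) ∧ ¬ N ⊓ Cent Y ≤ Cent Ab := by
    by_contra hcon
    push Not at hcon
    exact hNA (coprime_abelian_gen_cent hAc (hnrm _) (hAp.coprime hNp) hcon)
  have hAY : Ab ≤ Nrm Y := nrm_of_comm hAc hY
  have hidx : Y.relIndex Ab = p := by
    rw [← H46.card_quo hAY]
    refine H47.card_eq_of_cyclic_of_pow hp hYc (H47.elemAb_mim _ hAe).2 fun e => hYA ?_
    exact inf_le_right.trans (cent_anti ((H46.quo_eq_bot_iff hAY).1 e))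
  have hmapn : ∀ {K : Subgroup M}, A ≤ Nrm K → Ab ≤ Nrm (K.map f) := fun h =>
    (Subgroup.map_mono h).trans (Subgroup.le_normalizer_map f)
  obtain ⟨K, ⟨hK1, hK2, hK3⟩, hmin⟩ := H2.exists_minimal_subgroup
    (fun K : Subgroup M => K.map f ≤ N ⊓ Cent Y ∧ A ≤ Nrm K ∧ ¬ K.map f ≤ Cent Ab)
    ⟨(N ⊓ Cent Y).comap f, Subgroup.map_comap_le _ _, by
      refine le_trans ?_ (Subgroup.le_normalizer_comap f)
      exact Subgroup.map_le_iff_le_comap.1 (nrm_inf (hnrm _) (nrm_cent hAY)), by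
      rwa [Subgroup.map_comap_eq_self_of_surjective hf]⟩
  have hKp : IsPi {p}ᶜ (K.map f) := hNp.of_le (hK1.trans inf_le_left)
  have hres : H98.res p K = K := by
    have e : (H98.res p K).map f = K.map f := by
      rw [H98.map_res, H98.res_eq_self_of_coprime ((isPi_compl_singleton_iff_coprime hp).1 hKp)]
    exact hmin _ ⟨e ▸ hK1, H98.le_normalizer_res hK2, e ▸ hK3⟩ (H98.res_le K)
  have hcomm : ⁅K, A⁆ = K := by
    refine hmin _ ⟨(Subgroup.map_mono (commutator_le_left' hK2)).trans hK1, nrm_commutator_right K A,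
      fun h => hK3 ?_⟩ (commutator_le_left' hK2)
    rw [Subgroup.map_commutator] at h
    exact le_cent_symm (coprime_commGG1P (hmapn hK2) (hAp.coprime hKp) (Or.inl hAp.sol)
      (le_cent_symm h))
  obtain ⟨_, ⟨x, hx, rfl⟩, hxA⟩ := SetLike.not_le_iff_exists.1 hK3
  set L := A ⊔ A.map (MulAut.conj x).toMonoidHom with hL
  have hLK : L ≤ K ⊔ A := sup_le le_sup_right
    ((cj_mono x le_sup_right).trans (cj_of_mem (Subgroup.mem_sup_left hx)).le)
  have hAL : A ≤ L := le_sup_left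
  have hKL : K ⊓ L = K := by
    refine hmin _ ⟨(Subgroup.map_mono inf_le_left).trans hK1, nrm_inf hK2 (nrm_of_le hAL),
      fun h => hxA ?_⟩ inf_le_left
    have e1 : L = (K ⊓ L) ⊔ A := by rw [← modr hK2 hAL, inf_eq_right.2 hLK]
    have e2 : L.map f ≤ Cent Ab := by
      rw [e1, Subgroup.map_sup]
      exact sup_le h (comm_iff_le_cent.1 hAc)
    have e3 : cj (f x) Ab ≤ Cent Ab := by
      refine le_trans ?_ e2
      rintro _ ⟨_, ⟨a, ha, rfl⟩, rfl⟩
      exact ⟨x * a * x⁻¹, Subgroup.mem_sup_right ⟨a, ha, rfl⟩, by simp⟩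
    refine mem_cent.2 fun a ha => ?_
    have h1 : a⁻¹ * (f x * a * (f x)⁻¹) ∈ (Ab ⊔ cj (f x) Ab) ⊓ N := by
      refine ⟨mul_mem (Subgroup.mem_sup_left (inv_mem ha))
        (Subgroup.mem_sup_right (conj_mem_cj.2 ha)), ?_⟩
      have hxN : f x ∈ N := (hK1 ⟨x, hx, rfl⟩).1
      have := mul_mem (conj_mem_of_mem_nrm' (hnrm ⊤ (Subgroup.mem_top a)) hxN) (inv_mem hxN)
      simpa [mul_assoc] using this
    rw [(hAp.sup (hAp.cj _) (nrm_of_le_cent e3)).inf_eq_bot hNp, Subgroup.mem_bot, inv_mul_eq_one,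
      eq_mul_inv_iff_mul_eq] at h1
    exact h1
  have hLeq : L = A ⊔ K := le_antisymm (hLK.trans (sup_comm K A).le)
    (sup_le hAL (hKL.ge.trans inf_le_right))
  have hresL : (Cfsg.pResidual p L).map L.subtype = K := by
    change H98.res p L = K
    rw [hLeq, H98.res_sup_eq_right hA hK2, hres]
  set B := A ⊓ Y.comap f with hB
  have hBY : B.map f ≤ Y := Subgroup.map_le_iff_le_comap.2 inf_le_right
  have hBL : ⁅B, L⁆ ≤ Q := by
    rw [← hker, ← Subgroup.map_eq_bot_iff, Subgroup.map_commutator, commutator_eq_bot_iff', hLeq,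
      Subgroup.map_sup]
    exact (sup_le (le_cent_symm (hY.trans (comm_iff_le_cent.1 hAc))) (hK1.trans inf_le_right)).trans
      (cent_anti hBY)
  have hBidx : B.relIndex A = p := by
    rw [hB, Subgroup.inf_relIndex_left, Subgroup.relIndex_comap, hidx]
  have hO : (Cfsg.pCore p L).map L.subtype = Op p L := (Op_eq_pCore hp L).symm
  have hQp : IsPi {p} Q := isPi_of_isPGroup hp (H2.pCore_isPGroup p M)
  have hQn : ∀ L : Subgroup M, L ≤ Nrm Q := fun L => le_top.trans (Subgroup.normalizer_eq_top Q).ge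
  have hBO : B ≤ Op p L := by
    have hBL' : B ≤ L := inf_le_left.trans hAL
    have n1 : L ≤ Nrm (Q ⊓ L) := nrm_inf (hQn L) le_nrm_self
    refine le_sup_right.trans (le_piCoreOf (N := (Q ⊓ L) ⊔ B) (hQp.inf_left.sup
      ((isPi_of_isPGroup hp hA).inf_left) (hBL'.trans n1)) ⟨sup_le inf_le_right hBL', ?_⟩)
    rw [← commutator_le_left_iff]
    refine commutator_sup_le ((commutator_le_left' n1).trans le_sup_left)
      ((le_inf hBL (commutator_le_right' (nrm_of_le hBL'))).trans le_sup_left) le_nrm_self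
  have hAO : ¬ A ≤ Op p L := by
    intro h
    refine hK3 (commutator_eq_bot_iff.1 ?_)
    rw [hAb, ← Subgroup.map_commutator, hcomm]
    have h1 : K ≤ Op p L := hcomm.ge.trans ((Subgroup.commutator_mono le_rfl h).trans
      (commutator_le_right' ((hKL.ge.trans inf_le_right).trans (le_nrm_piCoreOf _ L))))
    exact (((isPi_piCoreOf {p} L).of_le h1).map f).eq_bot hKp
  have hAB : A ⊓ Op p L = B := by
    rcases H47.eq_or_eq_of_prime_relIndex (N := B) (K := A) (by rw [hBidx]; exact hp) (le_inf inf_le_left hBO)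
      (inf_le_left : A ⊓ Op p L ≤ A) with h | h
    · exact h
    · exact absurd (h.ge.trans inf_le_right) hAO
  refine ⟨x, (hK1 ⟨x, hx, rfl⟩).1, ?_⟩
  rw [hresL, hO, hAB]
  exact ⟨hx, Subgroup.map_le_iff_le_comap.1 (hK1.trans inf_le_left), hcomm, hBidx, hBL⟩

end Cfsg.Agent.S3754
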