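import Cfsg.Statements.S3770
import Cfsg.Agent.Base
import Cfsg.Agent.H22.FrobWt
import Cfsg.Agent.H22.HHSub
import Cfsg.Agent.H5.ThompsonFpf

set_option autoImplicit false
open Cfsg

namespace Cfsg.Agent.S3770

/-- Let G and V be subgroups of a finite group with G a Frobenius group with complement R of prime order and kernel K, G normalizing V, and V an elementary abelian ℓ-group for a prime ℓ not dividing the order of G. If C_V(R) has order ℓ, then the derived subgroup of K centralizes V. -/
theorem result {X : Type*} [Group X] [Finite X] (G : Subgroup X) (V : Subgroup X) {ℓ : ℕ} (hℓ : ℓ.Prime) (hV : Cfsg.IsElementaryAbelian ℓ V) (hℓG : ¬ ℓ ∣ Nat.card G) (hGV : G ≤ Subgroup.normalizer (V : Set X)) (R : Subgroup ↥G) (hR : Cfsg.IsFrobeniusComplement R) (hRp : (Nat.card R).Prime) (hCV : Nat.card ↥(V ⊓ Subgroup.centralizer ((R.map G.subtype : Subgroup X) : Set X)) = ℓ) : ⁅Subgroup.closure (Subtype.val '' Cfsg.frobeniusKernel R), Subgroup.closure (Subtype.val '' Cfsg.frobeniusKernel R)⁆ ≤ Subgroup.centralizer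 (V : Set X) := by
  have := Fact.mk hℓ
  obtain ⟨W, _, _, _, ρ, ι, h1, h2, -⟩ := H22.exists_rep_elemAb V hV G hGV
  have hcl : Subgroup.closure (Subtype.val '' Cfsg.frobeniusKernel R) =
      (H5.frobKer hR).map G.subtype := by
    rw [← Subgroup.closure_eq ((H5.frobKer hR).map G.subtype)]
    rfl
  have hnil := H5.frobKer_isNilpotent hR
  have hfix : Module.finrank (AlgebraicClosure (ZMod ℓ)) (H22.fixSp ρ (R : Set G)) = 1 := by
    have h3 := h2 (R : Set G)
    have h4 : Subtype.val '' (R : Set G) = ((R.map G.subtype : Subgroup X) : Set X) := rfl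
    rw [h4, hCV] at h3
    exact (Nat.pow_eq_self_iff hℓ.one_lt).1 h3.symm
  have key := H22.frob_commute_of_finrank_fixSp_eq_one ρ (H5.frobKer hR) R
    (H22.natCast_ne_zero_algClosure fun h => hℓG (h.trans (Subgroup.card_subgroup_dvd_card _)))
    (H5.frobKer_isComplement' hR)
    (by
      rw [H5.card_frobKer]
      exact (H5.frob_coprime ((H5.isFrobeniusComplement_iff R).1 hR).2.2).symm)
    (H5.frobKer_inf_centralizer hR) hfix
  rw [hcl, Subgroup.commutator_le]
  rintro _ ⟨a, ha, rfl⟩ _ ⟨b, hb, rfl⟩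
  exact (h1 _).1 ((H22.rep_comm_iff ρ a b).1 (key a ha b hb))

end Cfsg.Agent.S3770
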