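import Cfsg.Statements.S3786
import Cfsg.Agent.H18.HH3

set_option autoImplicit false
open Cfsg

namespace Cfsg.Agent.S3786

/-- The Hall–Higman bound on p-length. Let p be an odd prime and G a finite p-soluble group whose Sylow p-subgroups have exponent dividing p^e. (a) If p is not of the form 2^k + 1, or if the Sylow 2-subgroups of G are abelian, then G has p-length at most e. (b) In every case G has p-length at most 2e. -/
theorem result {G : Type*} [Group G] [Finite G] {p : ℕ} [Fact p.Prime] (hp : p ≠ 2) (hG : Cfsg.IsPSolvable p G) (e : ℕ) (hexp : ∀ (P : Sylow p G), ∀ x ∈ (P : Subgroup G), x ^ p ^ e = 1) : (((¬ ∃ k : ℕ, p = 2 ^ k + 1) ∨ ∀ S : Sylow 2 G, IsMulCommutative (S : Subgroup G)) → Cfsg.PLengthLE p e G) ∧ Cfsg.PLengthLE p (2 * e) G := by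
  have hpp : p.Prime := Fact.out
  have he : ∀ P : Subgroup G, IsPGroup p P → ∀ x ∈ P, x ^ p ^ e = 1 := fun P hP x hx => by
    obtain ⟨S, hS⟩ := hP.exists_le_sylow
    exact hexp S x (hS hx)
  refine ⟨fun h => H18.pLengthLE_of_exponent hG ?_ e ?_, H18.HH2.two_e hp hG _ ?_⟩
  · intro q l m hq _ hm e1 Q hQ
    have h2 : q = 2 := by
      have : Odd (q ^ m + 1) := e1 ▸ (hpp.odd_of_ne_two hp).pow
      have : Even (q ^ m) := by simpa [Nat.odd_add_one] using this
      exact hq.even_iff.1 (Nat.even_pow.1 this).1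
    subst h2
    rcases h with h | h
    · have h1 : p - 1 ∣ 2 ^ m := by
        have := Nat.sub_dvd_pow_sub_pow p 1 (l + 1)
        rwa [one_pow, e1, Nat.add_sub_cancel] at this
      obtain ⟨k, -, hk⟩ := (Nat.dvd_prime_pow Nat.prime_two).1 h1
      exact absurd ⟨k, by have := hpp.pos; omega⟩ h
    · obtain ⟨S, hS⟩ := hQ.exists_le_sylow
      exact H46.comm_of_le (h S) hS
  · rintro x ⟨j, hj⟩
    exact he _ (H98.isPGroup_zpowers hj) x (Subgroup.mem_zpowers x)
  · intro P hP g hg _ _
    rw [show (2 * e + 1) / 2 = e by omega]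
    exact ⟨he P hP g hg, fun h => by omega⟩

end Cfsg.Agent.S3786
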