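import Cfsg.Statements.S3788
import Cfsg.Agent.H47.CycNormal

set_option autoImplicit false
open Cfsg
open H46

namespace Cfsg.Agent.S3788

/-- Let G be a finite p-soluble group, P a Sylow p-subgroup of G and A a cyclic normal subgroup of P. If p is odd, or if no section of G is isomorphic to the symmetric group of degree 4, then A ≤ O_{p',p}(G). -/
theorem result {G : Type*} [Group G] [Finite G] {p : ℕ} [Fact p.Prime] (hG : Cfsg.IsPSolvable p G) (P : Sylow p G) (A : Subgroup G) (hAP : A ≤ (P : Subgroup G)) (hAn : (P : Subgroup G) ≤ Subgroup.normalizer (A : Set G)) (hA : IsCyclic A) (h : p ≠ 2 ∨ ¬ Cfsg.Involves (Equiv.Perm (Fin 4)) G) : A ≤ Cfsg.pPrimePCore p G := by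
  obtain ⟨a, rfl⟩ := cyclic_iff_exists_zpowers.1 hA
  let f := QuotientGroup.mk' (Cfsg.pPrimeCore p G)
  have hf : Function.Surjective f := QuotientGroup.mk'_surjective _
  obtain ⟨k, hk⟩ := P.isPGroup' ⟨a, hAP (Subgroup.mem_zpowers a)⟩
  have hk' : a ^ p ^ k = 1 := congrArg Subtype.val hk
  refine Subgroup.zpowers_le.2 (H47.mem_pCore_of_cyclic_normal (H18.isPSolvable_quotient hG _)
    (H2.pPrimeCore_quotient_pPrimeCore p G) (a := f a) (k := k) (by rw [← map_pow, hk', map_one]) ?_
    (h.imp_right (mt fun h' => H94.involves_trans h' (H94.involves_quotient _))))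
  refine (H2.pCore_le_sylow (P.mapSurjective hf)).trans ?_
  rw [Sylow.coe_mapSurjective, ← MonoidHom.map_zpowers]
  exact (Subgroup.map_mono hAn).trans (Subgroup.le_normalizer_map f)

end Cfsg.Agent.S3788
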