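import Cfsg.Statements.S3797
import Cfsg.Agent.H18.GY4

set_option autoImplicit false
open Cfsg

namespace Cfsg.Agent.S3797

open Cfsg hiding pRank
open H46 Subgroup H18.GY

/-- Let G be a finite solvable group of even order whose Sylow 2-subgroups contain more than one involution, and suppose all involutions of G are conjugate. Then G has 2-length at most 1, and a Sylow 2-subgroup S of G is either homocyclic (a direct product of cyclic groups of one common order) or a non-abelian 2-group with more than one involution admitting a solvable group of automorphisms transitive on its involutions. -/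
theorem result {G : Type*} [Group G] [Finite G] (hG : Group.IsSolvable G) (heven : Even (Nat.card G)) (S : Sylow 2 G) (htwo : ∃ x y : G, x ∈ (S : Subgroup G) ∧ y ∈ (S : Subgroup G) ∧ x ≠ y ∧ x ≠ 1 ∧ x ^ 2 = 1 ∧ y ≠ 1 ∧ y ^ 2 = 1) (hconj : ∀ x y : G, x ≠ 1 → x ^ 2 = 1 → y ≠ 1 → y ^ 2 = 1 → IsConj x y) : Cfsg.PLengthLE 2 1 G ∧ ((∃ m r : ℕ, Nonempty (↥(S : Subgroup G) ≃* (Fin r → Multiplicative (ZMod (2 ^ m))))) ∨ (¬ IsMulCommutative (S : Subgroup G) ∧ ∃ Y : Subgroup (MulAut ↥(S : Subgroup G)), Group.IsSolvable Y ∧ ∀ x y : ↥(S : Subgroup G), x ≠ 1 → x ^ 2 = 1 → y ≠ 1 → y ^ 2 = 1 → ∃ a ∈ Y, a x = y)) := by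
  have ord : ∀ z : G, z ≠ 1 → z ^ 2 = 1 → orderOf z = 2 := fun z h1 h2 => orderOf_eq_prime h2 h1
  have hI : InvConj G := fun x y hx hy => by
    have key : ∀ z : G, orderOf z = 2 → z ≠ 1 ∧ z ^ 2 = 1 := fun z hz =>
      ⟨fun e => by rw [e, orderOf_one] at hz; exact absurd hz (by norm_num),
        by rw [← hz, pow_orderOf_eq_one]⟩
    obtain ⟨g, hg⟩ := isConj_iff.1 (hconj x y (key x hx).1 (key x hx).2 (key y hy).1 (key y hy).2)
    exact ⟨g, hg.symm⟩
  have hS : IsSylowOf 2 (S : Subgroup G) ⊤ := isSylowOf_top S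
  have hT : TwoInv G := by
    obtain ⟨x, y, hx, hy, hne, hx1, hx2, hy1, hy2⟩ := htwo
    have hZ := zc_ne_bot_of_isPGroup Nat.prime_two S.isPGroup' (ne_bot_of_mem hx hx1)
    have hZp : IsPi {2} (Zc (S : Subgroup G)) := hS.isPi.of_le inf_le_left
    obtain ⟨z, hz, hz2⟩ := cauchy Nat.prime_two (hZp.prime_and_dvd hZ).2
    by_cases e : x = z
    · exact ⟨y, z, ord y hy1 hy2, hz2, fun h => hne (e.trans h.symm), mem_cent.1 hz.2 y hy⟩
    · exact ⟨x, z, ord x hx1 hx2, hz2, e, mem_cent.1 hz.2 x hx⟩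
  have hpl := pLengthLE_two G hG hI hT
  refine ⟨hpl, ?_⟩
  have hpl' : PLengthLE 2 1 (⊤ : Subgroup G) := H18.pLengthLE_subgroup hpl ⊤
  obtain ⟨T, hT⟩ := exists_sylow Nat.prime_two (Op'p 2 (⊤ : Subgroup G))
  obtain ⟨hTN, hfr⟩ := sylow_of_pLength hpl' hT
  obtain ⟨c, -, hc⟩ := sylow_trans Nat.prime_two hTN hS
  have hO : (⊤ : Subgroup G) ≤ Nrm (Op' 2 ⊤) := le_nrm_piCoreOf _ _
  have hfr' : Op' 2 (⊤ : Subgroup G) ⊔ Nrm (S : Subgroup G) = ⊤ := by
    have := congrArg (cj c) hfr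
    rwa [top_inf_eq, cj_sup, cj_top, cj_of_mem_nrm (hO (mem_top c)), cj_nrm, ← hc] at this
  have htr : ∀ x y : (S : Subgroup G), x ≠ 1 → x ^ 2 = 1 → y ≠ 1 → y ^ 2 = 1 →
      ∃ a ∈ (S : Subgroup G).normalizerMonoidHom.range, a x = y := by
    intro x y hx1 hx2 hy1 hy2
    obtain ⟨g, hg⟩ := hI x y (ord _ (fun e => hx1 (Subtype.ext e)) (congrArg Subtype.val hx2))
      (ord _ (fun e => hy1 (Subtype.ext e)) (congrArg Subtype.val hy2))
    have hg' : g ∈ Op' 2 (⊤ : Subgroup G) ⊔ Nrm (S : Subgroup G) := hfr'.ge (mem_top g)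
    obtain ⟨o, ho, n, hn, rfl⟩ := (mem_sup_of_nrm (le_top.trans hO)).1 hg'
    refine ⟨_, ⟨⟨n, hn⟩, rfl⟩, Subtype.ext ?_⟩
    change n * x * n⁻¹ = y
    have h1 : n * x * n⁻¹ ∈ (S : Subgroup G) := conj_mem_of_mem_nrm hn x.2
    set w := n * x * n⁻¹ with hw
    have h2 : (y : G) * w⁻¹ ∈ Op' 2 (⊤ : Subgroup G) ⊓ (S : Subgroup G) := by
      refine mem_inf.2 ⟨?_, mul_mem y.2 (inv_mem h1)⟩
      have : (y : G) * w⁻¹ = o * (w * o⁻¹ * w⁻¹) := by rw [hg, hw]; group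
      rw [this]
      exact mul_mem ho (conj_mem_of_mem_nrm (hO (mem_top w)) ((Op' 2 (⊤ : Subgroup G)).inv_mem ho))
    rw [(isPi_piCoreOf _ _).inf_eq_bot' hS.isPi, mem_bot, mul_inv_eq_one] at h2
    exact h2.symm
  by_cases hc : IsMulCommutative (S : Subgroup G)
  · left
    exact homocyclic S.isPGroup' fun x y a b c d => (htr x y a b c d).imp fun _ h => h.2
  · right
    exact ⟨hc, _, Group.isSolvable_of_surjective (MonoidHom.rangeRestrict_surjective _), htr⟩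

end Cfsg.Agent.S3797
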