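import Cfsg.Statements.S3806
import Cfsg.Agent.H11.MaxCl2
import Cfsg.Agent.H3.SecRank

set_option autoImplicit false
open Cfsg

namespace Cfsg.Agent.S3806

/-- Let p be a prime and S a finite p-group of order pⁿ (n ≥ 2) of maximal nilpotency class n − 1 whose sectional p-rank is exactly k (every section has p-rank at most k, and some section has p-rank k). If p ≥ k + 2 then the order of S is at most p^(2k). -/
theorem result {S : Type*} [Group S] [Finite S] (p : ℕ) [Fact p.Prime] (hS : IsPGroup p S) [Group.IsNilpotent S]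
    (n : ℕ) (hn : 2 ≤ n) (hcard : Nat.card S = p ^ n) (hmax : Group.nilpotencyClass S = n - 1)
    (k : ℕ) (hk : 1 ≤ k) (hsr : Cfsg.SectionalPRankLE p k S ∧ ¬ Cfsg.SectionalPRankLE p (k - 1) S)
    (hpk : k + 2 ≤ p) : Nat.card S ≤ p ^ (2 * k) := by
  rw [hcard]
  refine Nat.pow_le_pow_right (Fact.out : p.Prime).pos (not_lt.1 fun hlt => ?_)
  have hp1 := (Fact.out : p.Prime).one_lt
  have H := H3.sectionalPRankLE_iff.1 hsr.1
  rcases hk.eq_or_lt with rfl | hk2
  · have h1 := H3.index_frattini_le_of_sectionalPRankLE hS hsr.1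
    obtain ⟨x, -, hx⟩ := SetLike.not_le_iff_exists.1 (show ¬ ⊤ ≤ frattini S from fun e => by
      have h2 : (⊥ : Subgroup S) = ⊤ := frattini_nongenerating (by rw [top_le_iff.1 e, sup_top_eq])
      have := congrArg (fun K : Subgroup S => Nat.card K) h2
      simp only [Subgroup.card_bot, Subgroup.card_top, hcard] at this
      exact absurd this.symm (Nat.one_lt_pow (by omega) hp1).ne')
    have h2 := frattini_nongenerating (K := Subgroup.zpowers x) (by
      rw [sup_comm]
      refine H11.sup_zpowers_eq_of_card hS le_top ?_ (Subgroup.mem_top x) hx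
      rw [Subgroup.card_top, ← (frattini S).index_mul_card]
      exact Nat.mul_le_mul_right _ (by simpa using h1))
    have := (Group.IsNilpotent.nilpotencyClass_le_one_iff (G := S)).2 ⟨⟨fun a b => by
      obtain ⟨i, rfl⟩ := h2.ge (Subgroup.mem_top a)
      obtain ⟨j, rfl⟩ := h2.ge (Subgroup.mem_top b)
      exact zpow_mul_comm x i j⟩⟩
    omega
  have h := H11.maxCl_mcs hcard hmax (by omega)
  obtain ⟨s, -, hs⟩ := h.exists_unif_top (by omega)
  have h1 := H (H11.mcs S k) (H11.mcs S (2 * k + 1)) (fun x hx y hy => h.comm_self_le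
    ((h.comm_le hk (by omega)).trans (h.anti (by omega))) (Subgroup.commutator_mem_commutator hx hy))
    fun x hx => h.anti (by omega) (hs.pow_two h hk2 hx).1
  have h2 := ((H11.mcs S (2 * k + 1)).subgroupOf (H11.mcs S k)).card_mul_index
  rw [Nat.card_congr (Subgroup.subgroupOfEquivOfLe (h.anti (by omega))).toEquiv, h.card, h.card] at h2
  have h3 := h2.ge.trans (Nat.mul_le_mul_left _ h1)
  rw [← pow_add, Nat.pow_le_pow_iff_right hp1] at h3
  omega

end Cfsg.Agent.S3806
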