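import Cfsg.Statements.S3808
import Cfsg.Agent.H9.ExtraAut

set_option autoImplicit false
open Cfsg

namespace Cfsg.Agent.S3808

/-- Let S be a finite p-group with an extraspecial subgroup Q of index p. Then either Z(S) = Z(Q), or S = Q·Z(S) and Z(S) has order p². -/
theorem result {S : Type*} [Group S] [Finite S] (p : ℕ) [Fact p.Prime] (hS : IsPGroup p S) (Q : Subgroup S) (hQ : Cfsg.IsExtraspecial p ↥Q) (hQi : Q.index = p) :
    Subgroup.center S = (Subgroup.center ↥Q).map Q.subtype ∨
      (Q ⊔ Subgroup.center S = ⊤ ∧ Nat.card (Subgroup.center S) = p ^ 2) := by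
  have hp : p.Prime := Fact.out
  have hn := H9.normal_of_index_eq hS hQi
  have hc : Nat.card ((Subgroup.center Q).map Q.subtype) = p := by
    rw [Subgroup.card_map_of_injective Q.subtype_injective, hQ.2]
  have h1 : (Subgroup.center Q).map Q.subtype ≤ Subgroup.center S :=
    H9.le_center_of_card_le hS hc.le
  have h2 : Q ⊓ Subgroup.center S = (Subgroup.center Q).map Q.subtype := by
    refine le_antisymm (fun x hx => ⟨⟨x, hx.1⟩, Subgroup.mem_center_iff.mpr fun g =>
      Subtype.ext (Subgroup.mem_center_iff.mp hx.2 g), rfl⟩) (le_inf (Subgroup.map_subtype_le _) h1)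
  by_cases h : Subgroup.center S ≤ Q
  · exact Or.inl (by rw [← h2, inf_eq_right.mpr h])
  · obtain ⟨x, hx, hxQ⟩ := SetLike.not_le_iff_exists.mp h
    have h3 : Q ⊔ Subgroup.center S = ⊤ := top_le_iff.mp
      ((H9.sup_zpowers_eq_top_of_index hS hQi hxQ).ge.trans
        (sup_le_sup_left (Subgroup.zpowers_le.mpr hx) _))
    refine Or.inr ⟨h3, ?_⟩
    have h4 := H9.card_sup_mul_card_inf Q (Subgroup.center S)
    rw [h3, inf_comm, h2, hc, Subgroup.card_top, ← Q.card_mul_index, hQi, mul_assoc] at h4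
    rw [← Nat.eq_of_mul_eq_mul_left Nat.card_pos h4, pow_two]

end Cfsg.Agent.S3808
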