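import Cfsg.Statements.S3809
import Cfsg.Agent.H9.ExtraAut

set_option autoImplicit false
open Cfsg

namespace Cfsg.Agent.S3809

open scoped commutatorElement

/-- Let S be a finite p-group with an extraspecial subgroup of index p. Then S has order p^(2+2n) for some n ≥ 1, derived length at most 3, and exponent dividing p³. -/
theorem result {S : Type*} [Group S] [Finite S] (p : ℕ) [Fact p.Prime] (hS : IsPGroup p S) (Q : Subgroup S) (hQ : Cfsg.IsExtraspecial p ↥Q) (hQi : Q.index = p) :
    (∃ n : ℕ, 1 ≤ n ∧ Nat.card S = p ^ (2 + 2 * n)) ∧ derivedSeries S 3 = ⊥ ∧ ∀ x : S, x ^ (p ^ 3) = 1 := by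
  have hp : p.Prime := Fact.out
  have hn := H9.normal_of_index_eq hS hQi
  obtain ⟨m, c, hm, h1, h2, -⟩ := H27.exists_cform_of_isExtraspecial hQ
  refine ⟨⟨m, hm, by rw [← Q.card_mul_index, h1, hQi]; ring⟩, ?_, fun x => ?_⟩
  · have h3 : derivedSeries S 1 ≤ Q := by
      have : IsCyclic (S ⧸ Q) := isCyclic_of_prime_card (p := p) hQi
      rw [derivedSeries_one]
      exact Subgroup.Normal.quotient_commutative_iff_commutator_le.mp inferInstance
    have h4 : derivedSeries S 2 ≤ Subgroup.centralizer (Q : Set S) := by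
      rw [derivedSeries_succ, Subgroup.commutator_le]
      intro a ha b hb y hy
      exact congrArg Subtype.val (c.commute_commutator ⟨y, hy⟩ ⟨a, h3 ha⟩ ⟨b, h3 hb⟩).eq
    rw [derivedSeries_succ, Subgroup.commutator_eq_bot_iff_le_centralizer]
    refine h4.trans (Subgroup.centralizer_le ?_)
    exact ((Subgroup.commutator_le_left _ _).trans h3 : derivedSeries S 2 ≤ Q)
  · have h3 : x ^ p ∈ Q := hQi ▸ Q.pow_index_mem x
    have h4 : ((⟨x ^ p, h3⟩ : Q) ^ p) ^ p = 1 := by rw [← c.ζ_P p ⟨x ^ p, h3⟩, c.ζ_pow_char p]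
    rw [show p ^ 3 = p * p * p by ring, pow_mul, pow_mul]
    exact congrArg Subtype.val h4

end Cfsg.Agent.S3809
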