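import Cfsg.Statements.S3810
import Cfsg.Agent.H9.ExtraAut

set_option autoImplicit false
open Cfsg

namespace Cfsg.Agent.S3810

/-- Let S be a finite p-group with an extraspecial subgroup of index p. Then S has an abelian subgroup of index p if and only if S has order p⁴. -/
theorem result {S : Type*} [Group S] [Finite S] (p : ℕ) [Fact p.Prime] (hS : IsPGroup p S) (Q : Subgroup S) (hQ : Cfsg.IsExtraspecial p ↥Q) (hQi : Q.index = p) :
    (∃ A : Subgroup S, IsMulCommutative ↥A ∧ A.index = p) ↔ Nat.card S = p ^ 4 := by
  have hp : p.Prime := Fact.out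
  have hn := H9.normal_of_index_eq hS hQi
  obtain ⟨m, c, hm, h1, h2, hnd⟩ := H27.exists_cform_of_isExtraspecial hQ
  have hcard : Nat.card S = p ^ (2 * m + 2) := by rw [← Q.card_mul_index, h1, hQi]; ring
  constructor
  · rintro ⟨A, hA, hAi⟩
    have h3 := H9.cform_card_le_of_isMulCommutative c hnd (m := m) (by simp)
      (A := A.subgroupOf Q) (H9.isMulCommutative_iff_forall.mpr fun a ha b hb =>
        Subtype.ext (H9.isMulCommutative_iff_forall.mp hA a ha b hb))
    have h4 : A.relIndex Q ≤ p := by
      rw [← hAi, ← Subgroup.relIndex_top_right]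
      exact Subgroup.relIndex_le_of_le_right le_top (by
        rw [Subgroup.relIndex_top_right, hAi]; exact hp.ne_zero)
    have h5 := (A.subgroupOf Q).card_mul_index
    have h6 : p ^ (2 * m + 1) ≤ p ^ (m + 1 + 1) := by
      rw [← h1, ← h5, pow_succ]
      exact Nat.mul_le_mul h3 h4
    have h7 := (Nat.pow_le_pow_iff_right hp.one_lt).mp h6
    rw [hcard]
    congr 1
    omega
  · intro h
    have := hS.isNilpotent
    obtain ⟨A, hAn, hA, -, -, hC⟩ := H9.exists_scn_ge (A := (⊥ : Subgroup S)) (N := ⊤)
      inferInstance le_top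
    rw [top_inf_eq] at hC
    obtain ⟨a, ha⟩ := IsPGroup.iff_card.mp (hS.to_subgroup A)
    obtain ⟨b, hb⟩ := hS.index A
    have h3 := H9.index_centralizer_le_pow hS a A ha
    have h4 : A.index ≤ (Subgroup.centralizer (A : Set S)).index := by
      rw [le_antisymm hC (Subgroup.le_centralizer A)]
    have h5 := A.card_mul_index
    rw [ha, hb, h, ← pow_add] at h5
    have h6 := Nat.pow_right_injective hp.two_le h5
    rw [hb] at h4
    have h7 := (Nat.pow_le_pow_iff_right hp.one_lt).mp (h4.trans h3)
    have h8 : b ≠ 0 := by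
      rintro rfl
      rw [pow_zero, Subgroup.index_eq_one] at hb
      have h9 : Subgroup.center Q = ⊤ := by
        rw [eq_top_iff]
        intro x _
        exact Subgroup.mem_center_iff.mpr fun y => Subtype.ext
          (H9.isMulCommutative_iff_forall.mp hA _ (hb ▸ Subgroup.mem_top _) _
            (hb ▸ Subgroup.mem_top _))
      have h10 := hQ.2
      rw [h9, Subgroup.card_top, h1] at h10
      have := Nat.pow_right_injective hp.two_le (h10.trans (pow_one p).symm)
      omega
    have h9 : b = 1 := by
      have : a ≤ 4 := by omega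
      interval_cases a <;> simp only [Nat.choose_two_right] at h7 <;> omega
    exact ⟨A, hA, by rw [hb, h9, pow_one]⟩

end Cfsg.Agent.S3810
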