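import Cfsg.Statements.S3816
import Cfsg.Agent.H14.FlavC

set_option autoImplicit false
open Cfsg

namespace Cfsg.Agent.S3816

/-- Let p be an odd prime, H a finite solvable group of order prime to p, and x an automorphism of H of order p (so P = ⟨x⟩ has prime order p > 2 and acts coprimely on H). For h ∈ H let [h, P] be the subgroup generated by the commutators h⁻¹·xⁱ(h), and let [H, P] be the subgroup generated by all of these. Then the fixed points of x in [H, P] are generated by the fixed points of x in the subgroups [h, P], h ∈ H. -/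
theorem result {H : Type*} [Group H] [Finite H]
    [Group.IsSolvable H] {p : ℕ} [Fact p.Prime] (hp : p ≠ 2) (hcop : (Nat.card H).Coprime p)
    (x : MulAut H) (hx : orderOf x = p) :
    Subgroup.closure {c : H | ∃ h : H, ∃ i : ℕ, c = h⁻¹ * (x ^ i) h} ⊓ (x : H →* H).eqLocus (MonoidHom.id H) =
      ⨆ h : H, Subgroup.closure {c : H | ∃ i : ℕ, c = h⁻¹ * (x ^ i) h} ⊓ (x : H →* H).eqLocus (MonoidHom.id H) := by
  let Γ := H ⋊[MonoidHom.id (MulAut H)] MulAut H
  haveI : Finite Γ := Finite.of_equiv _ SemidirectProduct.equivProd.symm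
  let ι : H →* Γ := SemidirectProduct.inl
  let y : Γ := SemidirectProduct.inr x
  have hι : Function.Injective ι := SemidirectProduct.inl_injective
  have hc : ∀ (i : ℕ) (h : H), y ^ i * ι h * (y ^ i)⁻¹ = ι ((x ^ i) h) := fun i h => by
    have := SemidirectProduct.inl_aut (φ := MonoidHom.id (MulAut H)) (x ^ i) h
    rw [map_inv, map_pow SemidirectProduct.inr] at this
    exact this.symm
  have hc1 : ∀ h : H, y * ι h * y⁻¹ = ι (x h) := fun h => by simpa using hc 1 h
  have hfix : ∀ h : H, ι h ∈ Subgroup.centralizer (Subgroup.zpowers y : Set Γ) ↔ x h = h := fun h => by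
    constructor
    · intro hh
      refine hι ?_
      rw [← hc1, hh y (Subgroup.mem_zpowers y), mul_inv_cancel_right]
    · rintro hh _ ⟨n, rfl⟩
      refine (Commute.zpow_left ?_ n).eq
      have := hc1 h
      rwa [hh, mul_inv_eq_iff_eq_mul] at this
  have hX : ∀ h : H, (Subgroup.closure {c : H | ∃ i : ℕ, c = h⁻¹ * (x ^ i) h}).map ι =
      H14.Fv.X (Subgroup.zpowers y) (ι h) := fun h => by
    unfold H14.Fv.X
    rw [MonoidHom.map_closure]
    congr 1
    ext c
    constructor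
    · rintro ⟨_, ⟨i, rfl⟩, rfl⟩
      exact ⟨y ^ i, Subgroup.npow_mem_zpowers y i, by rw [hc, map_mul, map_inv]⟩
    · rintro ⟨z, hz, rfl⟩
      obtain ⟨i, rfl⟩ := mem_powers_iff_mem_zpowers.2 hz
      exact ⟨_, ⟨i, rfl⟩, by simp only; rw [hc, map_mul, map_inv]⟩
  refine le_antisymm (fun c hc' => ?_) (iSup_le fun h => inf_le_inf_right _
    (Subgroup.closure_mono fun c ⟨i, hi⟩ => ⟨h, i, hi⟩))
  have hcard : Nat.card ι.range = Nat.card H := Nat.card_congr (MonoidHom.ofInjective hι).toEquiv.symm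
  have key := H14.Fv.main hp _ Γ ι.range y rfl (by
    simp only [y]; rw [← map_pow, ← hx, pow_orderOf_eq_one, map_one])
    (Subgroup.mem_normalizer_fintype (by rintro _ ⟨h, rfl⟩; exact ⟨_, (hc1 h).symm⟩))
    (hcard ▸ hcop) (H2.isSolvable_of_mulEquiv (MonoidHom.ofInjective hι))
  have h1 : ι c ∈ ⁅ι.range, Subgroup.zpowers y⁆ :=
    ((Subgroup.closure_le (⁅ι.range, Subgroup.zpowers y⁆.comap ι)).2 (by
      rintro _ ⟨h, i, rfl⟩
      exact H14.Fv.X_le_comm (⟨h, rfl⟩ : ι h ∈ ι.range) ((hX h).le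
        ⟨_, Subgroup.subset_closure ⟨i, rfl⟩, rfl⟩))) hc'.1
  have h2 : H14.Fv.D (Subgroup.zpowers y) ι.range ≤ (⨆ h : H, Subgroup.closure
      {c : H | ∃ i : ℕ, c = h⁻¹ * (x ^ i) h} ⊓ (x : H →* H).eqLocus (MonoidHom.id H)).map ι :=
    iSup_le (by
      rintro ⟨_, h, rfl⟩ w ⟨hw, hw'⟩
      rw [← hX] at hw
      obtain ⟨w, hw, rfl⟩ := hw
      exact ⟨w, Subgroup.mem_iSup_of_mem h ⟨hw, (hfix w).1 hw'⟩, rfl⟩)
  obtain ⟨d, hd, e⟩ := h2 (key ⟨h1, (hfix c).2 hc'.2⟩)
  rwa [← hι e]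

end Cfsg.Agent.S3816
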