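import Cfsg.Statements.S3817
import Cfsg.Agent.H57.F2GO
import Cfsg.Agent.H19.F2U2
import Cfsg.Agent.H19.F2Br
import Cfsg.Agent.H72.F2RA
import Cfsg.Agent.H17.F2RB

set_option autoImplicit false
open Cfsg

namespace Cfsg.Agent.S3817

universe u

open H57.F2 in
theorem core : Core.{u} := by
  intro G _ _ p x
  have K := jobKit G p
  have F : All (G := G) p (FF p) := by
    by_cases h : p = 2
    · subst h; exact H19.F2.ff2 G
    · exact jobFO jobGO G p h K
  have U := jobU G p K (jobTI G p K) F
  have C := jobC G p K (jobG G p K).2 U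
  have U1 := jobU1 G p K (jobG G p K).2 U C (jobOb G p K F U C)
  exact jobEnd G p K U1 (jobT G p K C U1) x

/-- Let G be a finite group and write F₂(X) for the second term of the upper Fitting chain of a finite group X: the preimage in X of the Fitting subgroup of X/F(X). Then an element x of G lies in F₂(G) if and only if x lies in F₂(⟨x, y⟩) for every y ∈ G. -/
theorem result {G : Type*} [Group G] [Finite G]
    [hF : (Cfsg.fittingSubgroup G).Normal]
    (hK : ∀ K : Subgroup G, (Cfsg.fittingSubgroup ↥K).Normal) (x : G) :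
    x ∈ (Cfsg.fittingSubgroup (G ⧸ Cfsg.fittingSubgroup G)).comap (QuotientGroup.mk' (Cfsg.fittingSubgroup G)) ↔
      ∀ y : G, ∀ hx : x ∈ Subgroup.closure ({x, y} : Set G),
        haveI := hK (Subgroup.closure ({x, y} : Set G));
        (⟨x, hx⟩ : ↥(Subgroup.closure ({x, y} : Set G))) ∈
          (Cfsg.fittingSubgroup (↥(Subgroup.closure ({x, y} : Set G)) ⧸ Cfsg.fittingSubgroup ↥(Subgroup.closure ({x, y} : Set G)))).comap
            (QuotientGroup.mk' (Cfsg.fittingSubgroup ↥(Subgroup.closure ({x, y} : Set G)))) := by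
  exact H19.F2.stmt_of (H17.F2RB.jobRB H72.F2.jobRA core) hK x

end Cfsg.Agent.S3817
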