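import Cfsg.Statements.S3824
import Cfsg.Agent.H4.KegelC
import Cfsg.Agent.H4.Product

set_option autoImplicit false
open Cfsg

namespace Cfsg.Agent.S3824

/-- Every finite group having an abelian subgroup whose index is a power of 2 is solvable. -/
theorem result {G : Type*} [Group G] [Finite G]
    (A : Subgroup G) (hA : IsMulCommutative A) (hidx : ∃ k : ℕ, A.index = 2 ^ k) : Group.IsSolvable G := by
  obtain ⟨k, hk⟩ := hidx
  haveI : Fact (Nat.Prime 2) := ⟨Nat.prime_two⟩
  obtain ⟨P⟩ : Nonempty (Sylow 2 G) := inferInstance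
  refine H4.kegel_wielandt (A := A) (B := P) (open scoped IsMulCommutative in inferInstance)
    P.isPGroup'.isNilpotent fun g => ?_
  obtain ⟨x, hx, y, hy, e⟩ := H4.exists_mul_of_coprime_relIndex (A := A) (B := P) (D := ⊤) (by
    rw [Subgroup.relIndex_top_right, Subgroup.relIndex_top_right, hk]
    exact Nat.Coprime.pow_left _ ((Nat.Prime.coprime_iff_not_dvd Nat.prime_two).2 P.not_dvd_index))
    (Subgroup.mem_top g)
  exact ⟨x, hx.1, y, hy.1, e⟩

end Cfsg.Agent.S3824
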