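import Cfsg.Statements.S3856
import Cfsg.Agent.H1.GK
import Cfsg.Agent.S3857

set_option autoImplicit false
open Cfsg

namespace Cfsg.Agent.S3856

/-- Structure of finite groups with disconnected prime graph. The prime graph of a finite group G has the prime divisors of |G| as vertices, two distinct primes p, q being joined when G has an element of order pq. If G has even order and its prime graph is disconnected then, writing π₁ for the set of primes joined to 2 by a path: either G is a Frobenius group; or G is a 2-Frobenius group (there are normal subgroups H < K of G with K a Frobenius group with kernel H and G/H a Frobenius group with kernel K/H); or G has normal subgroups N ≤ M such that every prime divisor of |N| and of |G/M| lies in π₁ and M/N is a non-abelian simple group. -/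
theorem result {G : Type*} [Group G] [Finite G] (heven : Even (Nat.card G))
    (hdisc : (∃ A : Set ℕ, (∃ a ∈ A, a.Prime ∧ a ∣ Nat.card G) ∧ (∃ b ∉ A, b.Prime ∧ b ∣ Nat.card G) ∧
      ∀ a ∈ A, ∀ b ∉ A, a.Prime → b.Prime → a ∣ Nat.card G → b ∣ Nat.card G → ¬ ∃ g : G, orderOf g = a * b)) :
    (∃ C : Subgroup G, Cfsg.IsFrobeniusComplement C) ∨
    (∃ (H K : Subgroup G) (_ : H.Normal), K.Normal ∧ H < K ∧
      (∃ C : Subgroup ↥K, Cfsg.IsFrobeniusComplement C ∧ Cfsg.frobeniusKernel C = (H.subgroupOf K : Set ↥K)) ∧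
      (∃ C : Subgroup (G ⧸ H), Cfsg.IsFrobeniusComplement C ∧ Cfsg.frobeniusKernel C = (K.map (QuotientGroup.mk' H) : Set (G ⧸ H)))) ∨
    (∃ (N M : Subgroup G) (_ : N.Normal) (_ : M.Normal), N ≤ M ∧
      (∀ p : ℕ, p.Prime → p ∣ Nat.card ↥N → Relation.ReflTransGen (fun a b : ℕ => a.Prime ∧ b.Prime ∧ a ≠ b ∧ a ∣ Nat.card G ∧ b ∣ Nat.card G ∧ ∃ g : G, orderOf g = a * b) 2 p) ∧
      (∀ p : ℕ, p.Prime → p ∣ Nat.card (G ⧸ M) → Relation.ReflTransGen (fun a b : ℕ => a.Prime ∧ b.Prime ∧ a ≠ b ∧ a ∣ Nat.card G ∧ b ∣ Nat.card G ∧ ∃ g : G, orderOf g = a * b) 2 p) ∧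
      IsSimpleGroup (↥M ⧸ N.subgroupOf M) ∧ ¬ IsMulCommutative (↥M ⧸ N.subgroupOf M)) := by
  by_cases hs : Group.IsSolvable G
  · exact (Cfsg.Agent.S3857.result hs hdisc).imp_right Or.inl
  set R := fun a b : ℕ => a.Prime ∧ b.Prime ∧ a ≠ b ∧ a ∣ Nat.card G ∧ b ∣ Nat.card G ∧
    ∃ g : G, orderOf g = a * b with hR
  have hcl : H1.GK.Cl {p | ¬ Relation.ReflTransGen R 2 p} G := fun g a b ha hb h1 h2 hρ h3 => by
    by_cases e : b = a
    · exact hρ (e ▸ h3)
    exact hρ (h3.tail ⟨hb, ha, e, h2.trans (orderOf_dvd_natCard g), h1.trans (orderOf_dvd_natCard g), _,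
      orderOf_pow_orderOf_div (orderOf_pos g).ne'
        (((Nat.coprime_primes hb ha).2 e).mul_dvd_of_dvd_of_dvd h2 h1)⟩)
  obtain ⟨A, ⟨a, haA, ha, had⟩, ⟨b, hbA, hb, hbd⟩, hA⟩ := hdisc
  have key : ∀ p, Relation.ReflTransGen R 2 p → (p ∈ A ↔ 2 ∈ A) := fun p hp => by
    induction hp with
    | refl => rfl
    | @tail c d _ h ih =>
      obtain ⟨h1, h2, -, h4, h5, g, hg⟩ := h
      rw [← ih]
      exact ⟨fun e => by_contra fun e' => hA d e c e' h2 h1 h5 h4 ⟨g, hg.trans (mul_comm _ _)⟩,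
        fun e => by_contra fun e' => hA c e d e' h1 h2 h4 h5 ⟨g, hg⟩⟩
  obtain ⟨r, hr, hrd, hρ⟩ : ∃ r : ℕ, r.Prime ∧ r ∣ Nat.card G ∧ ¬ Relation.ReflTransGen R 2 r := by
    by_cases h2 : 2 ∈ A
    · exact ⟨b, hb, hbd, fun e => hbA ((key b e).2 h2)⟩
    · exact ⟨a, ha, had, fun e => h2 ((key a e).1 haA)⟩
  refine (H1.GK.main hcl (fun e => e .refl) hr hrd hρ hs).imp_right fun h => Or.inr ?_
  obtain ⟨N, M, h1, h2, h3, h4, h5, h6⟩ := h
  exact ⟨N, M, h1, h2, h3, fun p hp hd => not_not.1 (h4 p hp hd), fun p hp hd => not_not.1 (h5 p hp hd), h6⟩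

end Cfsg.Agent.S3856
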