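import Cfsg.Statements.S3869
import Cfsg.Agent.Base
import Cfsg.Agent.H26.PClosed
import Cfsg.Agent.H26.IrredField
import Cfsg.Agent.H3.FrattiniP
import Cfsg.Agent.H9.PBasic


set_option autoImplicit false
open Cfsg

namespace Cfsg.Agent.S3869


/-- Let p and q be distinct primes and G a finite non-abelian group with a normal elementary abelian q-subgroup A that is a minimal normal subgroup of G and has index p. Then A has order q^e with e the multiplicative order of q modulo p, and G is minimal non-p-closed: its Sylow p-subgroups are not normal, while in every proper subgroup and in every proper quotient of G the Sylow p-subgroups are normal. -/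
theorem result {G : Type*} [Group G] [Finite G] {p q : ℕ} [Fact p.Prime] (hq : q.Prime) (hpq : q ≠ p)
    (hna : ¬ IsMulCommutative G) (A : Subgroup G) [A.Normal] (hA : Cfsg.IsElementaryAbelian q A) (hidx : A.index = p)
    (hmin : ∀ B : Subgroup G, B.Normal → B ≤ A → B = ⊥ ∨ B = A) :
    Nat.card ↥A = q ^ orderOf (q : ZMod p) ∧ ¬ Cfsg.IsPClosed p G ∧ (∀ H : Subgroup G, H ≠ ⊤ → Cfsg.IsPClosed p ↥H) ∧
      ∀ (N : Subgroup G) [N.Normal], N ≠ ⊥ → Cfsg.IsPClosed p (G ⧸ N) := by
  have hp : p.Prime := Fact.out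
  have : Fact q.Prime := ⟨hq⟩
  have hAq : IsPGroup q A := H2.isPGroup_of_isElementaryAbelian hA
  obtain ⟨n, hn⟩ := IsPGroup.iff_card.1 hAq
  have hpA : ¬ p ∣ Nat.card A := by
    rw [hn]
    intro h
    exact hpq ((Nat.prime_dvd_prime_iff_eq hp hq).1 (hp.dvd_of_dvd_pow h)).symm
  have hco : IsCoatom A := H3.isCoatom_of_index_prime (hidx ▸ hp)
  have hcomm : ∀ a ∈ A, ∀ b ∈ A, a * b = b * a := fun a ha b hb =>
    have := hA.1
    congrArg Subtype.val (mul_comm' (⟨a, ha⟩ : A) ⟨b, hb⟩)
  have hgen : ∀ x, x ∉ A → ∀ g : G, ∃ a ∈ A, ∃ k : ℤ, g = a * x ^ k := by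
    intro x hx g
    rw [← H9.mem_sup_zpowers, hco.2 (A ⊔ Subgroup.zpowers x) (lt_of_le_of_ne le_sup_left (fun h =>
      hx (h ▸ Subgroup.mem_sup_right (Subgroup.mem_zpowers x))))]
    trivial
  have hnc : ∀ x, x ∉ A → x ∉ Subgroup.centralizer (A : Set G) := by
    intro x hx hc
    apply hna
    refine ⟨⟨fun g h => ?_⟩⟩
    obtain ⟨a, ha, k, rfl⟩ := hgen x hx g
    obtain ⟨b, hb, l, rfl⟩ := hgen x hx h
    have c1 : Commute a x := hc a ha
    have c2 : Commute b x := hc b hb
    have c3 : Commute a b := hcomm a ha b hb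
    exact (c3.mul_right (c1.zpow_right l)).mul_left
      ((c2.symm.zpow_left k).mul_right (Commute.zpow_zpow_self x k l))
  have hirr : ∀ x, x ∉ A → ∀ W : Subgroup G, W ≤ A → (∀ w ∈ W, x * w * x⁻¹ ∈ W) → W = ⊥ ∨ W = A := by
    intro x hx W hWA hW
    refine hmin W ?_ hWA
    rw [← Subgroup.normalizer_eq_top_iff]
    have h1 : A ≤ Subgroup.normalizer (W : Set G) := by
      refine le_trans ?_ (Subgroup.centralizer_le_normalizer _)
      intro a ha w hw
      exact hcomm w (hWA hw) a ha
    have h2 : x ∈ Subgroup.normalizer (W : Set G) := Subgroup.mem_normalizer_fintype hW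
    exact hco.2 _ (lt_of_le_of_ne h1 (fun h => hx (h ▸ h2)))
  have hord : ∀ x : G, orderOf x = p → x ∉ A := by
    intro x hx hxA
    exact hpA (hx ▸ A.orderOf_dvd_natCard hxA)
  have hnormal : ∀ N : Subgroup G, N.Normal → N ≠ ⊥ → A ≤ N := by
    intro N hN hb
    rcases H2.le_or_disjoint_of_minimal_normal hmin N with h | h
    · exact h
    · exfalso
      obtain ⟨⟨x, hxN⟩, hx⟩ := Subgroup.ne_bot_iff_exists_ne_one.1 hb
      refine hnc x (fun hxA => hx (Subtype.ext (Subgroup.disjoint_def.1 h hxA hxN))) ?_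
      intro a ha
      exact Subgroup.commute_of_normal_of_disjoint A N inferInstance hN h a x ha hxN
  have hpG : p ∣ Nat.card G := hidx ▸ A.index_dvd_card
  have hAb : A ≠ ⊥ := by
    rintro rfl
    obtain ⟨x, hx⟩ := exists_prime_orderOf_dvd_card' p hpG
    exact hnc x (hord x hx) (by simp [Subgroup.mem_centralizer_singleton_iff])
  refine ⟨?_, ?_, ?_, ?_⟩
  · obtain ⟨x, hx⟩ := exists_prime_orderOf_dvd_card' p hpG
    rw [hn, H26.eq_orderOf_of_irreducible_subgroup hA.1 (x := x)
      (by rw [Subgroup.normalizer_eq_top]; trivial) (hirr x (hord x hx)) hp hq hn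
      (by rw [← hx, pow_orderOf_eq_one]; exact Subgroup.one_mem _) (hnc x (hord x hx))]
  · intro h
    obtain ⟨P⟩ : Nonempty (Sylow p G) := inferInstance
    have h1 := hnormal P (h P) (P.ne_bot_of_dvd_card hpG)
    rcases (P.isPGroup'.to_le h1).card_eq_or_dvd with h2 | h2
    · exact hAb (Subgroup.card_eq_one.1 h2)
    · exact hpA h2
  · intro H hH
    by_cases hd : p ∣ Nat.card H
    · obtain ⟨y, hy⟩ := exists_prime_orderOf_dvd_card' p hd
      rw [← Subgroup.orderOf_coe] at hy
      have hyA := hord _ hy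
      rcases hirr y hyA (H ⊓ A) inf_le_right (fun w hw => ⟨H.mul_mem (H.mul_mem y.2 hw.1)
        (H.inv_mem y.2), ‹A.Normal›.conj_mem w hw.2 y⟩) with h | h
      · apply H26.isPClosed_of_isPGroup
        apply IsPGroup.of_card_dvd_pow (n := 1)
        rw [pow_one, ← hidx, ← Subgroup.relIndex_bot_left, ← h, Subgroup.inf_relIndex_left]
        exact Subgroup.relIndex_dvd_index_of_normal A H
      · exact absurd (hco.2 H (lt_of_le_of_ne (inf_eq_right.1 h) (fun h' => hyA (h' ▸ y.2)))) hH
    · exact H26.isPClosed_of_not_dvd hd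
  · intro N hN hb
    apply H26.isPClosed_of_isPGroup
    apply IsPGroup.of_card_dvd_pow (n := 1)
    rw [pow_one, ← hidx]
    exact Subgroup.index_dvd_of_le (hnormal N hN hb)

end Cfsg.Agent.S3869
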