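import Cfsg.Statements.S3868
import Cfsg.Agent.Base
import Cfsg.Agent.S3869


set_option autoImplicit false
open Cfsg

namespace Cfsg.Agent.S3868


/-- Structure of the non-simple minimal non-p-closed groups. Call a finite group p-closed when its Sylow p-subgroups are normal, and minimal non-p-closed when it is not p-closed but every proper subgroup and every proper quotient is. If such a group G is not simple, then there is a prime q ≠ p such that G has order p · q^e, where e is the multiplicative order of q modulo p, and G has a normal subgroup A of order q^e that is elementary abelian and is a minimal normal subgroup of G (so G is the semidirect product of A by a group of order p acting irreducibly). -/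
theorem result {G : Type*} [Group G] [Finite G] {p : ℕ} [Fact p.Prime]
    (hnc : ¬ Cfsg.IsPClosed p G) (hsub : ∀ H : Subgroup G, H ≠ ⊤ → Cfsg.IsPClosed p ↥H)
    (hquo : ∀ (N : Subgroup G) [N.Normal], N ≠ ⊥ → Cfsg.IsPClosed p (G ⧸ N)) (hns : ¬ IsSimpleGroup G) :
    ∃ q : ℕ, q.Prime ∧ q ≠ p ∧ Nat.card G = p * q ^ orderOf (q : ZMod p) ∧
      ∃ A : Subgroup G, A.Normal ∧ Nat.card ↥A = q ^ orderOf (q : ZMod p) ∧ Cfsg.IsElementaryAbelian q A ∧
        ∀ B : Subgroup G, B.Normal → B ≤ A → B = ⊥ ∨ B = A := by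
  have hp : p.Prime := Fact.out
  have hpG : p ∣ Nat.card G := by
    by_contra h
    exact hnc (H26.isPClosed_of_not_dvd h)
  have hnt : Nontrivial G := by
    rw [← Finite.one_lt_card_iff_nontrivial]
    exact lt_of_lt_of_le hp.one_lt (Nat.le_of_dvd Nat.card_pos hpG)
  obtain ⟨N, hN, hNb, hNt⟩ : ∃ N : Subgroup G, N.Normal ∧ N ≠ ⊥ ∧ N ≠ ⊤ := by
    by_contra hcon
    push Not at hcon
    refine hns ⟨fun N hN => ?_⟩
    by_cases h : N = ⊥
    · exact Or.inl h
    · exact Or.inr (hcon N hN h)
  obtain ⟨A, hAn, hAN, hAb, hmin⟩ := H2.exists_minimal_normal_le N hNb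
  have hAt : A ≠ ⊤ := fun h => hNt (top_le_iff.1 (h ▸ hAN))
  have hO : Cfsg.pCore p G = ⊥ := by
    by_contra h
    exact hnc (H26.isPClosed_of_quotient_isPGroup _ (H2.pCore_isPGroup p G) (hquo _ h))
  have hpA : ¬ p ∣ Nat.card A := H26.not_dvd_card_of_isPClosed_of_normal hO (hsub A hAt)
  have hPA : ∀ P : Sylow p G, (P : Subgroup G) ⊔ A = ⊤ := by
    intro P
    by_contra h
    have := H26.sup_normal_of_isPClosed_quotient A (hquo A hAb) P
    exact hnc (H26.isPClosed_of_normal_subgroup (hsub _ h)
      (fun hd => P.not_dvd_index (hd.trans (Subgroup.index_dvd_of_le le_sup_left))))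
  obtain ⟨P⟩ : Nonempty (Sylow p G) := inferInstance
  have hdisj : ∀ T : Subgroup G, IsPGroup p T → T ⊓ A = ⊥ := by
    intro T hT
    rcases (hT.to_inf_left (K := A)).card_eq_or_dvd with h | h
    · exact Subgroup.card_eq_one.1 h
    · exact absurd (h.trans (Subgroup.card_dvd_of_le inf_le_right)) hpA
  have hidx : A.index = Nat.card (P : Subgroup G) := by
    rw [← Subgroup.relIndex_top_right, ← hPA P, Subgroup.relIndex_sup_right, ← Subgroup.inf_relIndex_left,
      hdisj P P.isPGroup', Subgroup.relIndex_bot_left]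
  obtain ⟨m, hm⟩ := IsPGroup.iff_card.1 P.isPGroup'
  have hn1 : Nat.card (Sylow p G) ≠ 1 := by
    intro h
    have := (Nat.card_eq_one_iff_unique.1 h).1
    exact hnc (fun Q => Sylow.normal_of_subsingleton Q)
  obtain ⟨q, hq, hqd⟩ := Nat.exists_prime_and_dvd hn1
  have : Fact q.Prime := ⟨hq⟩
  have hqp : q ≠ p := by
    rintro rfl
    exact not_dvd_card_sylow q G hqd
  obtain ⟨Q, hQA, -⟩ : ∃ Q : Sylow q G, (Q : Subgroup G) ≤ A ∧ True := by
    obtain ⟨Q, -, h⟩ := H26.exists_sylow_le_of_not_dvd_index (p := q) (D := ⊥) (K := A) IsPGroup.of_bot bot_le (by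
      rw [hidx, hm]
      intro h
      exact hqp ((Nat.prime_dvd_prime_iff_eq hq hp).1 (hq.dvd_of_dvd_pow h)))
    exact ⟨Q, h, trivial⟩
  have hqG : q ∣ Nat.card G :=
    hqd.trans (P.card_dvd_index.trans (P : Subgroup G).index_dvd_card)
  have hQn : (Q : Subgroup G).Normal := by
    by_contra hQ
    have hNQ : Subgroup.normalizer ((Q : Subgroup G) : Set G) ≠ ⊤ :=
      fun h => hQ (Subgroup.normalizer_eq_top_iff.1 h)
    have hF := Sylow.normalizer_sup_eq_top' Q hQA
    obtain ⟨P', -, hP'⟩ := H26.exists_sylow_le_of_not_dvd_index (p := p) (D := ⊥)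
      (K := Subgroup.normalizer ((Q : Subgroup G) : Set G)) IsPGroup.of_bot bot_le (by
        intro h
        apply hpA
        refine h.trans ?_
        have h1 := Subgroup.relIndex_mul_index (H := A ⊓ Subgroup.normalizer ((Q : Subgroup G) : Set G))
          (K := A) inf_le_left
        have h2 := Subgroup.relIndex_mul_index (H := A ⊓ Subgroup.normalizer ((Q : Subgroup G) : Set G))
          (K := Subgroup.normalizer ((Q : Subgroup G) : Set G)) inf_le_right
        rw [Subgroup.inf_relIndex_right, ← Subgroup.relIndex_sup_right, Sylow.coe_coe, hF,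
          Subgroup.relIndex_top_right, ← Sylow.coe_coe, ← h1, mul_comm] at h2
        rw [Nat.eq_of_mul_eq_mul_right (Nat.pos_of_ne_zero A.index_ne_zero_of_finite) h2]
        exact Subgroup.relIndex_dvd_card _ _)
    have h1 := H26.le_normalizer_sylow_of_isPClosed (hsub _ hNQ) P' hP'
    rw [P'.card_eq_index_normalizer] at hqd
    exact Q.not_dvd_index (hqd.trans (Subgroup.index_dvd_of_le (Subgroup.le_normalizer.trans h1)))
  have hQeq : (Q : Subgroup G) = A := (hmin Q hQn hQA).resolve_left (Q.ne_bot_of_dvd_card hqG)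
  have hAq : IsPGroup q A := hQeq ▸ Q.isPGroup'
  have hel := H2.isElementaryAbelian_of_minimal_normal hAq hmin
  have hm1 : m = 1 := by
    have hm0 : m ≠ 0 := by
      rintro rfl
      exact P.ne_bot_of_dvd_card hpG (Subgroup.card_eq_one.1 hm)
    obtain ⟨M, hMn, -, hM⟩ := H9.exists_normal_le_card_eq P.isPGroup' ⊤ (m - 1) (by
      rw [Subgroup.card_top, hm]
      exact Nat.pow_le_pow_right hp.pos (Nat.sub_le _ _))
    set T : Subgroup G := M.map (P : Subgroup G).subtype with hT
    have hTp : IsPGroup p T := (P.isPGroup'.to_subgroup M).map _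
    have hTc : Nat.card T = p ^ (m - 1) := by rw [hT, Subgroup.card_subtype, hM]
    have hrel : A.relIndex (T ⊔ A) = p ^ (m - 1) := by
      rw [Subgroup.relIndex_sup_right, ← Subgroup.inf_relIndex_left, hdisj T hTp,
        Subgroup.relIndex_bot_left, hTc]
    have hTA : T ⊔ A ≠ ⊤ := by
      intro h
      rw [h, Subgroup.relIndex_top_right, hidx, hm] at hrel
      have := Nat.pow_right_injective hp.two_le hrel
      omega
    have h1 : T ⊔ A ≤ Subgroup.normalizer (T : Set G) := by
      refine H26.le_normalizer_of_isPClosed (hsub _ hTA) le_sup_left hTp (fun h => hpA (h.trans ?_))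
      have e1 := Subgroup.relIndex_mul_relIndex ⊥ T (T ⊔ A) bot_le le_sup_left
      have e2 := Subgroup.relIndex_mul_relIndex ⊥ A (T ⊔ A) bot_le le_sup_right
      rw [← e2, hrel, Subgroup.relIndex_bot_left, Subgroup.relIndex_bot_left, hTc, mul_comm] at e1
      rw [Nat.eq_of_mul_eq_mul_right (Nat.pow_pos hp.pos) e1]
    have h2 : (P : Subgroup G) ≤ Subgroup.normalizer (T : Set G) := by
      rw [← Subgroup.normal_subgroupOf_iff_le_normalizer (Subgroup.map_subtype_le M), 
        Subgroup.subgroupOf, Subgroup.comap_map_eq_self_of_injective (P : Subgroup G).subtype_injective]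
      exact hMn
    have hTn : T.Normal := by
      rw [← Subgroup.normalizer_eq_top_iff, eq_top_iff, ← hPA P]
      exact sup_le h2 (le_sup_right.trans h1)
    have h3 : T ≤ Cfsg.pCore p G := H2.le_pCore hTp
    rw [hO, le_bot_iff] at h3
    rw [h3, Subgroup.card_bot] at hTc
    have := Nat.pow_right_injective hp.two_le (show p ^ (m - 1) = p ^ 0 from hTc.symm)
    omega
  rw [hm, hm1, pow_one] at hidx
  have hna : ¬ IsMulCommutative G := fun h => hnc (fun Q => inferInstance)
  obtain ⟨h1, -⟩ := Cfsg.Agent.S3869.result hq hqp hna A hel hidx hmin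
  refine ⟨q, hq, hqp, ?_, A, hAn, h1, hel, hmin⟩
  rw [← h1, ← hidx, A.index_mul_card]

end Cfsg.Agent.S3868
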