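import Cfsg.Statements.S3870
import Cfsg.Agent.Base
import Cfsg.Agent.H26.SylowTI
import Cfsg.Agent.H26.FrobConstruct


set_option autoImplicit false
open Cfsg

namespace Cfsg.Agent.S3870


/-- Let G be a finite simple group whose Sylow p-subgroups are not normal but such that every proper subgroup of G has a normal Sylow p-subgroup. Then any two distinct Sylow p-subgroups of G intersect trivially, and for every Sylow p-subgroup P the normalizer of every non-identity subgroup of P lies in the normalizer of P. -/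
theorem result {G : Type*} [Group G] [Finite G] [IsSimpleGroup G] {p : ℕ} [Fact p.Prime]
    (hnc : ¬ Cfsg.IsPClosed p G) (hsub : ∀ H : Subgroup G, H ≠ ⊤ → Cfsg.IsPClosed p ↥H) :
    (∀ P Q : Sylow p G, P ≠ Q → (P : Subgroup G) ⊓ (Q : Subgroup G) = ⊥) ∧
      ∀ (P : Sylow p G) (R : Subgroup G), R ≤ P → R ≠ ⊥ →
        Subgroup.normalizer (R : Set G) ≤ Subgroup.normalizer ((P : Subgroup G) : Set G) := by
  have hTI : ∀ P Q : Sylow p G, P ≠ Q → (P : Subgroup G) ⊓ (Q : Subgroup G) = ⊥ := by
    by_contra hcon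
    push Not at hcon
    obtain ⟨D, ⟨P, Q, hPQ, rfl, hb⟩, hmax⟩ := (wellFounded_gt (α := Subgroup G)).has_min
      {D : Subgroup G | ∃ P Q : Sylow p G, P ≠ Q ∧ D = (P : Subgroup G) ⊓ (Q : Subgroup G) ∧ D ≠ ⊥}
      (by obtain ⟨P, Q, h1, h2⟩ := hcon; exact ⟨_, P, Q, h1, rfl, h2⟩)
    set D := (P : Subgroup G) ⊓ (Q : Subgroup G) with hD
    have hDP : D < P := lt_of_le_of_ne inf_le_left (fun h => hPQ
      (Sylow.ext (P.is_maximal' Q.isPGroup' (inf_eq_left.1 h))).symm)
    have hDQ : D < Q := lt_of_le_of_ne inf_le_right (fun h => hPQ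
      (Sylow.ext (Q.is_maximal' P.isPGroup' (inf_eq_right.1 h))))
    set N := Subgroup.normalizer (D : Set G) with hN
    have hNt : N ≠ ⊤ := by
      intro h
      have : D.Normal := Subgroup.normalizer_eq_top_iff.1 h
      rcases this.eq_bot_or_eq_top with h1 | h1
      · exact hb h1
      · rw [h1] at hDP
        exact not_top_lt hDP
    obtain ⟨S⟩ : Nonempty (Sylow p N) := inferInstance
    have hSn := hsub N hNt S
    obtain ⟨T, hT⟩ := S.exists_comap_subtype_eq
    have key : ∀ R : Sylow p G, D < R → R = T := by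
      intro R hR
      by_contra hne
      have h1 := H26.lt_inf_normalizer_of_isPGroup R.isPGroup' hR
      have h2 : (R : Subgroup G) ⊓ N ≤ T := by
        intro x hx
        obtain ⟨S', hS'⟩ := (R.isPGroup'.comap_subtype (K := N)).exists_le_sylow
        have : Subsingleton (Sylow p N) := (Sylow.unique_of_normal S hSn).instSubsingleton
        rw [Subsingleton.elim S' S, ← hT] at hS'
        exact hS' (show (⟨x, hx.2⟩ : N) ∈ _ from hx.1)
      have h3 : D < (R : Subgroup G) ⊓ T := lt_of_lt_of_le h1 (le_inf inf_le_left h2)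
      exact hmax _ ⟨R, T, hne, rfl, fun h => by rw [h] at h3; exact not_lt_bot h3⟩ h3
    exact hPQ ((key P hDP).trans (key Q hDQ).symm)
  refine ⟨hTI, fun P R hRP hR g hg => ?_⟩
  rw [Sylow.coe_coe, ← Sylow.smul_eq_iff_mem_normalizer]
  by_contra hne
  apply hR
  rw [eq_bot_iff, ← hTI _ _ hne]
  intro x hx
  refine ⟨(H26.mem_conj_smul_iff _ _ _).2 (hRP ?_), hRP hx⟩
  exact (Subgroup.mem_normalizer_iff''.1 hg x).1 hx

end Cfsg.Agent.S3870
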