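import Cfsg.Statements.S3872
import Cfsg.Agent.H19.Regular2
import Cfsg.Agent.H3.NonCyclic
import Cfsg.Agent.H2.Misc1

set_option autoImplicit false
open Cfsg

namespace Cfsg.Agent.S3872

/-- Say that a finite group is p-exponent closed when its elements of order dividing p form a subgroup. Let G be a finite p-group that is not p-exponent closed, but all of whose proper subgroups and proper quotients are. Then G is generated by two elements, has nilpotency class at least p, has exponent p², has cyclic center, and has order at least p^(p+1). -/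
theorem result {G : Type*} [Group G] [Finite G] {p : ℕ} [Fact p.Prime] (hG : IsPGroup p G)
    (hnc : ¬ (∃ H : Subgroup G, (H : Set G) = {g : G | g ^ p = 1})) (hsub : ∀ K : Subgroup G, K ≠ ⊤ → (∃ H : Subgroup ↥K, (H : Set ↥K) = {g : ↥K | g ^ p = 1}))
    (hquo : ∀ (N : Subgroup G) [N.Normal], N ≠ ⊥ → (∃ H : Subgroup (G ⧸ N), (H : Set (G ⧸ N)) = {g : (G ⧸ N) | g ^ p = 1})) :
    (∃ x y : G, Subgroup.closure ({x, y} : Set G) = ⊤) ∧ (⊤ : Subgroup G).lowerCentralSeries (p - 1) ≠ ⊥ ∧
      Monoid.exponent G = p ^ 2 ∧ IsCyclic ↥(Subgroup.center G) ∧ p ^ (p + 1) ≤ Nat.card G := by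
  have hp : p.Prime := Fact.out
  obtain ⟨x, y, hx, hy, hxy⟩ : ∃ x y : G, x ^ p = 1 ∧ y ^ p = 1 ∧ (x * y) ^ p ≠ 1 := by
    by_contra h
    push Not at h
    exact hnc ⟨{ carrier := {g | g ^ p = 1}
                 one_mem' := one_pow p
                 mul_mem' := fun ha hb => h _ _ ha hb
                 inv_mem' := fun ha => by
                   show _ ^ p = 1
                   rw [inv_pow, ha, inv_one] }, rfl⟩
  have top : Subgroup.closure ({x, y} : Set G) = ⊤ := by
    by_contra h
    obtain ⟨H, hH⟩ := hsub _ h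
    have a : (⟨x, Subgroup.subset_closure (by simp)⟩ : Subgroup.closure ({x, y} : Set G)) ∈ H := by
      rw [← SetLike.mem_coe, hH]; exact Subtype.ext hx
    have b : (⟨y, Subgroup.subset_closure (by simp)⟩ : Subgroup.closure ({x, y} : Set G)) ∈ H := by
      rw [← SetLike.mem_coe, hH]; exact Subtype.ext hy
    have c := H.mul_mem a b
    rw [← SetLike.mem_coe, hH] at c
    exact hxy (congrArg Subtype.val c)
  have lcs : (⊤ : Subgroup G).lowerCentralSeries (p - 1) ≠ ⊥ := fun h =>
    hxy (by simpa using (H19.regAt_one_of_class_lt h).mul_pow_eq_one hG (k := 1) (x := x) (y := y)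
              (by simpa) (by simpa))
  have quo : ∀ z ∈ Subgroup.center G, z ≠ 1 → ∀ g : G, g ^ p ∈ Subgroup.zpowers z := by
    intro z hz z1 g
    haveI : (Subgroup.zpowers z).Normal := ⟨fun a ha b => by
      rwa [Subgroup.mem_center_iff.1 (Subgroup.zpowers_le.2 hz ha), mul_inv_cancel_right]⟩
    obtain ⟨H, hH⟩ := hquo (Subgroup.zpowers z) (by simpa)
    have : (⊤ : Subgroup G) ≤ H.comap (QuotientGroup.mk' _) := by
      rw [← top, Subgroup.closure_le]
      rintro a (rfl | rfl) <;>
        rw [SetLike.mem_coe, Subgroup.mem_comap, ← SetLike.mem_coe, hH, Set.mem_setOf_eq,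
          ← map_pow] <;> simp [*]
    have h := this (Subgroup.mem_top g)
    rwa [Subgroup.mem_comap, ← SetLike.mem_coe, hH, Set.mem_setOf_eq, ← map_pow,
      QuotientGroup.mk'_apply, QuotientGroup.eq_one_iff] at h
  haveI : Nontrivial G := ⟨_, _, hxy⟩
  refine ⟨⟨x, y, top⟩, lcs, ?_, ?_, ?_⟩
  · haveI := hG.center_nontrivial
    obtain ⟨z, hz⟩ := exists_prime_orderOf_dvd_card' (G := Subgroup.center G) p
      ((hG.to_subgroup _).nontrivial_iff_card.1 inferInstance |>.elim fun n h =>
        h.2 ▸ dvd_pow_self p h.1.ne')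
    have z1 : z.1 ≠ 1 := fun h => hp.one_lt.ne' (by rw [← hz, show z = 1 from Subtype.ext h, orderOf_one])
    have e : ∀ g : G, g ^ p ^ 2 = 1 := fun g => by
      rw [sq, pow_mul]
      exact orderOf_dvd_iff_pow_eq_one.1 ((orderOf_dvd_of_mem_zpowers (quo z z.2 z1 g)).trans
        ((Subgroup.orderOf_coe z).trans hz).dvd)
    obtain ⟨i, hi, h⟩ := (Nat.dvd_prime_pow hp).1 (Monoid.exponent_dvd_of_forall_pow_eq_one e)
    rw [h]
    by_contra hc
    have : p ^ i ∣ p ^ 1 := pow_dvd_pow p (by
      by_contra h2; exact hc (by rw [show i = 2 by omega]))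
    exact hxy (Monoid.exponent_dvd_iff_forall_pow_eq_one.1 (by rw [h]; simpa using this) _)
  · rcases H3.exists_pair_of_pgroup (hG.to_subgroup (Subgroup.center G)) with
      h | ⟨-, n, ⟨e⟩⟩ | ⟨a, b, -, ha, hb, h⟩
    · exact h
    · exact absurd ⟨⟨fun a b => e.symm.injective (by
        rw [map_mul, map_mul]; exact Subtype.ext (Subgroup.mem_center_iff.1 (e.symm b).2 _))⟩⟩
        (H3.not_isMulCommutative_quaternion n)
    · have a1 : a.1 ≠ 1 := fun e => hp.one_lt.ne' (by
        rw [← ha, show a = 1 from Subtype.ext e, orderOf_one])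
      have b1 : b.1 ≠ 1 := fun e => hp.one_lt.ne' (by
        rw [← hb, show b = 1 from Subtype.ext e, orderOf_one])
      have k : ∀ c : G, orderOf c = p → (x * y) ^ p ∈ Subgroup.zpowers c →
          Subgroup.zpowers ((x * y) ^ p) = Subgroup.zpowers c := fun c hc hm => by
        refine Subgroup.eq_of_le_of_card_ge (Subgroup.zpowers_le.2 hm) ?_
        rw [Nat.card_zpowers, Nat.card_zpowers, hc, orderOf_eq_prime
          (orderOf_dvd_iff_pow_eq_one.1 ((orderOf_dvd_of_mem_zpowers hm).trans hc.dvd)) hxy]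
      have e := (k a ((Subgroup.orderOf_coe a).trans ha) (quo a a.2 a1 _)).symm.trans
        (k b ((Subgroup.orderOf_coe b).trans hb) (quo b b.2 b1 _))
      obtain ⟨m, hm⟩ := e ▸ Subgroup.mem_zpowers b.1
      exact absurd ⟨m, Subtype.ext hm⟩ h
  · obtain ⟨n, hn⟩ := hG.exists_card_eq
    rw [hn]
    refine Nat.pow_le_pow_right hp.pos ?_
    by_contra h
    haveI := hG.isNilpotent
    by_cases h1 : 1 < n
    · exact lcs (Subgroup.lowerCentralSeries_eq_bot_iff_nilpotencyClass_le.2
        ((H2.nilpotencyClass_le_of_card_eq p n hn h1).trans (by omega)))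
    · refine hxy (orderOf_dvd_iff_pow_eq_one.1 ((orderOf_dvd_natCard _).trans ?_))
      rw [hn]
      simpa using pow_dvd_pow p (show n ≤ 1 by omega)

end Cfsg.Agent.S3872
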