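import Cfsg.Statements.S3873
import Cfsg.Agent.Base
import Cfsg.Agent.S3868


set_option autoImplicit false
open Cfsg

namespace Cfsg.Agent.S3873

theorem exists_of_le {G : Type*} [Group G] {p : ℕ} (B : Subgroup G) (hB : ∀ g : G, g ^ p = 1 → g ∈ B)
    (h : ∃ H : Subgroup B, (H : Set B) = {g : B | g ^ p = 1}) :
    ∃ H : Subgroup G, (H : Set G) = {g : G | g ^ p = 1} := by
  obtain ⟨H, hH⟩ := h
  refine ⟨H.map B.subtype, ?_⟩
  ext g
  constructor
  · rintro ⟨x, hx, rfl⟩
    have : x ∈ (H : Set B) := hx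
    rw [hH] at this
    exact congrArg Subtype.val this
  · intro hg
    refine ⟨⟨g, hB g hg⟩, ?_, rfl⟩
    rw [hH]
    exact Subtype.ext hg

theorem normal_of_eq {G : Type*} [Group G] {p : ℕ} (H : Subgroup G)
    (hH : (H : Set G) = {g : G | g ^ p = 1}) : H.Normal ∧ IsPGroup p H := by
  have hm : ∀ g, g ∈ H ↔ g ^ p = 1 := fun g => by
    rw [← SetLike.mem_coe, hH]; rfl
  refine ⟨⟨fun x hx g => ?_⟩, fun x => ⟨1, Subtype.ext ?_⟩⟩
  · rw [hm] at hx ⊢
    rw [conj_pow, hx]; simp
  · rw [pow_one]; exact (hm _).1 x.2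

theorem pclosed_of {G : Type*} [Group G] [Finite G] {p : ℕ} [Fact p.Prime]
    (hexp : ∀ (x : G) (k : ℕ), x ^ p ^ k = 1 → x ^ p = 1)
    (h : ∃ H : Subgroup G, (H : Set G) = {g : G | g ^ p = 1}) : Cfsg.IsPClosed p G := by
  obtain ⟨H, hH⟩ := h
  refine H26.isPClosed_of_forall_mem (normal_of_eq H hH).2 (fun x k hx => ?_)
  rw [← SetLike.mem_coe, hH]
  exact hexp x k hx


/-- Say that a finite group is p-exponent closed when its elements of order dividing p form a subgroup. Let G be a finite group that is not p-exponent closed, but all of whose proper subgroups and proper quotients are, and suppose G is neither simple nor a p-group. Then there is a prime q ≠ p such that G has order p · q^e, where e is the multiplicative order of q modulo p, and G has a normal elementary abelian subgroup of order q^e that is a minimal normal subgroup of G. -/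
theorem result {G : Type*} [Group G] [Finite G] {p : ℕ} [Fact p.Prime]
    (hnc : ¬ (∃ H : Subgroup G, (H : Set G) = {g : G | g ^ p = 1})) (hsub : ∀ K : Subgroup G, K ≠ ⊤ → (∃ H : Subgroup ↥K, (H : Set ↥K) = {g : ↥K | g ^ p = 1}))
    (hquo : ∀ (N : Subgroup G) [N.Normal], N ≠ ⊥ → (∃ H : Subgroup (G ⧸ N), (H : Set (G ⧸ N)) = {g : (G ⧸ N) | g ^ p = 1}))
    (hns : ¬ IsSimpleGroup G) (hnp : ¬ IsPGroup p G) :
    ∃ q : ℕ, q.Prime ∧ q ≠ p ∧ Nat.card G = p * q ^ orderOf (q : ZMod p) ∧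
      ∃ A : Subgroup G, A.Normal ∧ Nat.card ↥A = q ^ orderOf (q : ZMod p) ∧ Cfsg.IsElementaryAbelian q A ∧
        ∀ B : Subgroup G, B.Normal → B ≤ A → B = ⊥ ∨ B = A := by
  have hp : p.Prime := Fact.out
  have hnt : Nontrivial G := by
    by_contra h
    rw [not_nontrivial_iff_subsingleton] at h
    exact hnp (IsPGroup.of_subsingleton p G)
  obtain ⟨N, hN, hNb, hNt⟩ : ∃ N : Subgroup G, N.Normal ∧ N ≠ ⊥ ∧ N ≠ ⊤ := by
    by_contra hcon
    push Not at hcon
    refine hns ⟨fun N hN => ?_⟩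
    by_cases h : N = ⊥
    · exact Or.inl h
    · exact Or.inr (hcon N hN h)
  obtain ⟨A, hAn, hAN, hAb, hmin⟩ := H2.exists_minimal_normal_le N hNb
  have hAt : A ≠ ⊤ := fun h => hNt (top_le_iff.1 (h ▸ hAN))
  obtain ⟨E, hE⟩ := hquo A hAb
  have hEm : ∀ g, g ∈ E ↔ g ^ p = 1 := fun g => by
    rw [← SetLike.mem_coe, hE]; rfl
  have hB : E.comap (QuotientGroup.mk' A) = ⊤ := by
    by_contra h
    refine hnc (exists_of_le _ (fun g hg => ?_) (hsub _ h))
    rw [Subgroup.mem_comap, hEm, ← map_pow, hg, map_one]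
  have hpow : ∀ g : G, g ^ p ∈ A := by
    intro g
    have : g ∈ E.comap (QuotientGroup.mk' A) := by rw [hB]; trivial
    rw [Subgroup.mem_comap, hEm, ← map_pow] at this
    exact (QuotientGroup.eq_one_iff _).1 this
  obtain ⟨F, hF⟩ := hsub A hAt
  have hFm : ∀ g, g ∈ F ↔ g ^ p = 1 := fun g => by
    rw [← SetLike.mem_coe, hF]; rfl
  have hFn : (F.map A.subtype).Normal := by
    refine ⟨?_⟩
    rintro _ ⟨x, hx, rfl⟩ g
    refine ⟨⟨_, hAn.conj_mem x x.2 g⟩, ?_, rfl⟩
    have hx' : (x : G) ^ p = 1 := congrArg Subtype.val ((hFm x).1 hx)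
    rw [SetLike.mem_coe, hFm]
    apply Subtype.ext
    change (g * x * g⁻¹) ^ p = 1
    rw [conj_pow, hx']; simp
  have hA1 : ∀ a ∈ A, a ^ p = 1 → a = 1 := by
    intro a ha hap
    rcases hmin _ hFn (Subgroup.map_subtype_le F) with h | h
    · rw [← Subgroup.mem_bot, ← h]
      exact ⟨⟨a, ha⟩, (hFm _).2 (Subtype.ext hap), rfl⟩
    · exfalso
      apply hnp
      intro g
      have := hpow g
      rw [← h] at this
      obtain ⟨x, hx, hxg⟩ := this
      refine ⟨2, ?_⟩
      rw [pow_two, pow_mul, ← hxg]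
      exact congrArg Subtype.val ((hFm x).1 hx)
  have hexp : ∀ (k : ℕ) (x : G), x ^ p ^ k = 1 → x ^ p = 1 := by
    intro k
    induction k with
    | zero => intro x hx; rw [pow_zero, pow_one] at hx; rw [hx, one_pow]
    | succ k ih =>
      intro x hx
      rw [pow_succ', pow_mul] at hx
      exact hA1 _ (hpow x) (ih _ hx)
  refine Cfsg.Agent.S3868.result ?_ ?_ ?_ hns
  · intro h
    obtain ⟨P⟩ : Nonempty (Sylow p G) := inferInstance
    refine hnc ⟨P, ?_⟩
    ext g
    constructor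
    · intro hg
      obtain ⟨k, hk⟩ := P.isPGroup' ⟨g, hg⟩
      exact hexp k g (congrArg Subtype.val hk)
    · intro hg
      exact H26.IsPClosed_mem_sylow h P (k := 1) (by rw [pow_one]; exact hg)
  · intro H hH
    exact pclosed_of (fun x k hx => Subtype.ext (hexp k x (congrArg Subtype.val hx))) (hsub H hH)
  · intro M _ hM
    refine pclosed_of (fun x k hx => ?_) (hquo M hM)
    have hD : IsPGroup p (Subgroup.zpowers x) := by
      rintro ⟨_, m, rfl⟩
      refine ⟨k, Subtype.ext ?_⟩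
      change (x ^ m) ^ p ^ k = 1
      rw [← zpow_natCast, ← zpow_mul, mul_comm, zpow_mul, zpow_natCast, hx, one_zpow]
    obtain ⟨Q, hQ⟩ := hD.exists_le_sylow
    obtain ⟨P, rfl⟩ := Sylow.mapSurjective_surjective (QuotientGroup.mk'_surjective M) p Q
    obtain ⟨y, hy, rfl⟩ := hQ (Subgroup.mem_zpowers x)
    obtain ⟨l, hl⟩ := P.isPGroup' ⟨y, hy⟩
    rw [← map_pow, hexp l y (congrArg Subtype.val hl), map_one]

end Cfsg.Agent.S3873
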