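import Cfsg.Statements.S3890
import Cfsg.Agent.Base
import Cfsg.Agent.H26.NilpCover


set_option autoImplicit false
open Cfsg

namespace Cfsg.Agent.S3890


/-- A cover of a group is a finite set of proper subgroups whose union is the whole group; it is minimal when no cover has fewer members, and nilpotent when all its members are nilpotent. Let G be a finite group with trivial center admitting a nilpotent minimal cover 𝓐, and let P be an abelian Sylow p-subgroup of G that is not normal. Then either P is elementary abelian of order greater than p, or P is a Sylow p-subgroup of some member A of 𝓐, the normalizer N of P is a maximal subgroup of G, N meets each of its conjugates by elements outside N in a subgroup of order prime to p, and the centralizer of P equals A. -/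
theorem result {G : Type*} [Group G] [Finite G] (hZ : Subgroup.center G = ⊥) (𝓐 : Finset (Subgroup G))
    (h𝓐 : ((∀ A ∈ 𝓐, A ≠ ⊤) ∧ (∀ g : G, ∃ A ∈ 𝓐, g ∈ A)) ∧ (∀ 𝓑 : Finset (Subgroup G), (∀ A ∈ 𝓑, A ≠ ⊤) ∧ (∀ g : G, ∃ A ∈ 𝓑, g ∈ A) → 𝓐.card ≤ 𝓑.card) ∧ (∀ A ∈ 𝓐, Group.IsNilpotent ↥A)) {p : ℕ} [Fact p.Prime] (P : Sylow p G) (hab : IsMulCommutative ↥(P : Subgroup G))
    (hnn : ¬ (P : Subgroup G).Normal) :
    (Cfsg.IsElementaryAbelian p (P : Subgroup G) ∧ p < Nat.card ↥(P : Subgroup G)) ∨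
    (∃ A ∈ 𝓐, (P : Subgroup G) ≤ A ∧ ¬ p ∣ ((P : Subgroup G).subgroupOf A).index ∧
      IsCoatom (Subgroup.normalizer ((P : Subgroup G) : Set G)) ∧
      (∀ g : G, g ∉ Subgroup.normalizer ((P : Subgroup G) : Set G) →
        ¬ p ∣ Nat.card ↥(Subgroup.normalizer ((P : Subgroup G) : Set G) ⊓
          (Subgroup.normalizer ((P : Subgroup G) : Set G)).map (MulAut.conj g).toMonoidHom)) ∧
      Subgroup.centralizer ((P : Subgroup G) : Set G) = A) := by
  have hb : (P : Subgroup G) ≠ ⊥ := fun h => hnn (h ▸ inferInstance)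
  by_cases hcase : Cfsg.IsElementaryAbelian p (P : Subgroup G) ∧ p < Nat.card ↥(P : Subgroup G)
  · exact Or.inl hcase
  right
  have hp : p.Prime := Fact.out
  have hP : IsCyclic ↥(P : Subgroup G) ∨
      (IsMulCommutative ↥(P : Subgroup G) ∧ ¬ Cfsg.IsElementaryAbelian p (P : Subgroup G)) := by
    by_cases hel : Cfsg.IsElementaryAbelian p (P : Subgroup G)
    · left
      have hle : Nat.card ↥(P : Subgroup G) ≤ p := not_lt.1 (fun h => hcase ⟨hel, h⟩)
      rcases P.isPGroup'.card_eq_or_dvd with h | h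
      · exact absurd (Subgroup.card_eq_one.1 h) hb
      · exact isCyclic_of_prime_card (le_antisymm hle (Nat.le_of_dvd Nat.card_pos h))
    · exact Or.inr ⟨hab, hel⟩
  obtain ⟨⟨A, hA, h1, h2⟩, hTI, h3⟩ := H26.IsNilpMinCover.sylow_structure h𝓐 hZ P hP hb
  have hN : Subgroup.normalizer ((P : Subgroup G) : Set G) ≠ ⊤ :=
    fun h => hnn (Subgroup.normalizer_eq_top_iff.1 h)
  refine ⟨A, hA, h1, fun h => P.not_dvd_index (h.trans (Subgroup.relIndex_dvd_index_of_le h1)),
    ⟨hN, fun M hM => ?_⟩, ?_, h2⟩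
  · by_contra hMt
    exact hM.not_ge (h3 M hMt ((Subgroup.centralizer_le_normalizer _).trans hM.le))
  · intro g hg hd
    obtain ⟨⟨x, hx1, y, hy, hxy⟩, hx⟩ := exists_prime_orderOf_dvd_card' p hd
    rw [← Subgroup.orderOf_coe] at hx
    change orderOf x = p at hx
    have hxy' : g * y * g⁻¹ = x := hxy
    have hxp : x ^ p ^ 1 = 1 := by rw [pow_one, ← hx, pow_orderOf_eq_one]
    have hyp : y ^ p ^ 1 = 1 := by
      rw [← hxy', conj_pow, conj_eq_one_iff] at hxp
      exact hxp
    have hxP := H26.le_sylow_of_le_normalizer' P (H26.isPGroup_zpowers_of_pow hxp)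
      (Subgroup.zpowers_le.2 hx1) (Subgroup.mem_zpowers x)
    have hyP := H26.le_sylow_of_le_normalizer' P (H26.isPGroup_zpowers_of_pow hyp)
      (Subgroup.zpowers_le.2 hy) (Subgroup.mem_zpowers y)
    have hne : P ≠ g • P := fun h => hg (Sylow.smul_eq_iff_mem_normalizer.1 h.symm)
    have : x ∈ (P : Subgroup G) ⊓ ((g • P : Sylow p G) : Subgroup G) :=
      ⟨hxP, (H26.mem_conj_smul_iff _ _ _).2 (by simpa [← hxy', mul_assoc] using hyP)⟩
    rw [hTI _ _ hne, Subgroup.mem_bot] at this
    rw [this, orderOf_one] at hx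
    exact hp.one_lt.ne hx

end Cfsg.Agent.S3890
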