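import Cfsg.Statements.S3893
import Cfsg.Agent.H66.SzPart

set_option autoImplicit false
open Cfsg

namespace Cfsg.Agent.S3893

open H66 in
theorem cover_aux {F : Type*} [Field F] {T : Tits F} {G : Type*} [Group G] (M : Model T G) {m : ℕ}
    (hT : T.IsFin m) :
    ¬ ∃ 𝓐 : Finset (Subgroup G), ((∀ A ∈ 𝓐, A ≠ ⊤) ∧ (∀ g : G, ∃ A ∈ 𝓐, g ∈ A)) ∧
      (∀ 𝓑 : Finset (Subgroup G), (∀ A ∈ 𝓑, A ≠ ⊤) ∧ (∀ g : G, ∃ A ∈ 𝓑, g ∈ A) → 𝓐.card ≤ 𝓑.card) ∧
      (∀ A ∈ 𝓐, Group.IsNilpotent ↥A) := by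
  classical
  have := hT.finite
  have := M.finite
  rintro ⟨𝓐, ⟨h1, h2⟩, h3, h4⟩
  -- replace every member lying in a point stabiliser by that stabiliser
  let f : Subgroup G → Subgroup G := fun A =>
    if h : ∃ p : M.Pt, A ≤ MulAction.stabilizer G p then MulAction.stabilizer G h.choose else A
  have hf : ∀ A, A ≤ f A := fun A => by
    by_cases h : ∃ p : M.Pt, A ≤ MulAction.stabilizer G p
    · simp only [f, dif_pos h]; exact h.choose_spec
    · simp only [f, dif_neg h]; exact le_rfl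
  have hst : ∀ p : M.Pt, MulAction.stabilizer G p ≠ ⊤ := fun p h => by
    obtain ⟨x, rfl⟩ := M.exists_smul_inf p
    have : x * M.w * x⁻¹ ∈ MulAction.stabilizer G (x • M.inf) := h ▸ Subgroup.mem_top _
    rw [MulAction.mem_stabilizer_iff, mul_smul, mul_smul, inv_smul_smul, smul_left_cancel_iff,
      M.w_inf] at this
    exact M.pt_ne_inf _ _ this
  have hle := h3 (𝓐.image f) ⟨?_, ?_⟩
  rotate_left
  · intro A' hA'
    obtain ⟨A, hA, rfl⟩ := Finset.mem_image.mp hA'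
    by_cases h : ∃ p : M.Pt, A ≤ MulAction.stabilizer G p
    · simp only [f, dif_pos h]; exact hst _
    · simp only [f, dif_neg h]; exact h1 A hA
  · intro g
    obtain ⟨A, hA, hg⟩ := h2 g
    exact ⟨f A, Finset.mem_image_of_mem f hA, hf A hg⟩
  have hinj : Set.InjOn f 𝓐 := Finset.injOn_of_card_image_eq (le_antisymm Finset.card_image_le hle)
  -- a member containing `h k` and a member containing an involution with the same image
  obtain ⟨k, hk⟩ := hT.exists_unit_ne_one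
  have k1 : M.h k ≠ 1 := by simpa [M.h_eq_one] using hk
  obtain ⟨A, hA, hkA⟩ := h2 (M.h k)
  have := h4 A hA
  have hAH : A ≤ M.H := M.isCC_H.le_of_isNilpotent (M.h_mem_H k) hkA k1
  have eA : ∃ p : M.Pt, A ≤ MulAction.stabilizer G p := ⟨M.inf, hAH.trans M.H_le_B⟩
  obtain ⟨x, hx⟩ := M.exists_smul_inf eA.choose
  obtain ⟨C, hC, hzC⟩ := h2 ((M.conj x).u 0 1)
  have := h4 C hC
  have z1 : (M.conj x).u 0 1 ≠ 1 := by simp [Model.u_eq_one]
  have hCQ : C ≤ (M.conj x).Q := by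
    rcases M.nilpotent_cases hT C with ⟨y, hy⟩ | ⟨D, hD, h⟩
    · rwa [M.conj_Q_eq (hy hzC) ((M.conj x).u_mem_Q 0 1) z1] at hy
    · exact absurd (Model.eq_one_of_mem_torus hD (h hzC) ((M.conj x).u_pow_four 0 1)) z1
  have eC : ∃ p : M.Pt, C ≤ MulAction.stabilizer G p :=
    ⟨x • M.inf, fun g hg => M.mem_conj_B'.mp ((M.conj x).Q_le_B (hCQ hg))⟩
  have e : eC.choose = eA.choose := by
    have := eC.choose_spec hzC
    rw [MulAction.mem_stabilizer_iff, M.conj_u, mul_smul, mul_smul, smul_eq_iff_eq_inv_smul] at this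
    rw [← hx, ← M.eq_inf_of_fix (M.u_mem_Q 0 1) (by simp [Model.u_eq_one]) this, smul_inv_smul]
  have hAC : A = C := hinj hA hC (by simp only [f, dif_pos eA, dif_pos eC, e])
  exact k1 (Model.eq_one_of_mem_torus (M.isTorus_H hT) (M.h_mem_H k)
    ((M.conj x).pow_four_of_mem_Q (hCQ (hAC ▸ hkA))))


/-- A cover of a group is a finite set of proper subgroups whose union is the whole group; it is minimal when no cover has fewer members, and nilpotent when all its members are nilpotent. The Suzuki groups Sz(q), q = 2^(2m+1) with m ≥ 1, have no nilpotent minimal cover. -/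
theorem result {F : Type*} [Field F] [Fintype F] (m : ℕ) (hm : 1 ≤ m) (hF : Fintype.card F = 2 ^ (2 * m + 1)) :
    ¬ ∃ 𝓐 : Finset (Subgroup ↥(Cfsg.Lie.Sz F (2 ^ (m + 1)))), ((∀ A ∈ 𝓐, A ≠ ⊤) ∧ (∀ g : ↥(Cfsg.Lie.Sz F (2 ^ (m + 1))), ∃ A ∈ 𝓐, g ∈ A)) ∧ (∀ 𝓑 : Finset (Subgroup ↥(Cfsg.Lie.Sz F (2 ^ (m + 1)))), (∀ A ∈ 𝓑, A ≠ ⊤) ∧ (∀ g : ↥(Cfsg.Lie.Sz F (2 ^ (m + 1))), ∃ A ∈ 𝓑, g ∈ A) → 𝓐.card ≤ 𝓑.card) ∧ (∀ A ∈ 𝓐, Group.IsNilpotent ↥A) := by
  have hT := H66.titsOf_isFin F hm hF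
  exact cover_aux (H66.modelB hT) hT

end Cfsg.Agent.S3893
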