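import Cfsg.Statements.S3895
import Cfsg.Agent.H18.ClsCount

set_option autoImplicit false
open Cfsg

namespace Cfsg.Agent.S3895

/-- Let G be a finite group with Sylow 2-subgroup P, and write k₂(G) for the number of conjugacy classes of G consisting of 2-elements (elements of 2-power order, the identity included). Then k₂(G) > |P|/2 if and only if G has a normal 2-complement and P has more than |P|/2 conjugacy classes. -/
theorem result {G : Type*} [Group G] [Finite G] (P : Sylow 2 G) :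
    Nat.card ↥(P : Subgroup G) < 2 * Nat.card {c : ConjClasses G // ∀ x ∈ c.carrier, ∃ k : ℕ, orderOf x = 2 ^ k} ↔
      Cfsg.HasNormalPComplement 2 G ∧ Nat.card ↥(P : Subgroup G) < 2 * Nat.card (ConjClasses ↥(P : Subgroup G)) := by
  rw [← H18.CC.kk_eq]
  classical
  have key : ∀ x y : P, ConjClasses.mk x = ConjClasses.mk y → H18.CC.cl P x = H18.CC.cl P y :=
    fun x y e => H18.CC.cl_eq.2 ((P : Subgroup G).subtype.map_isConj
      (ConjClasses.mk_eq_mk_iff_isConj.1 e))
  let F : ConjClasses (P : Subgroup G) → H18.CC.Cl 2 G :=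
    Quotient.lift (H18.CC.cl P) fun x y e => key x y (Quotient.sound e)
  have hF : Function.Surjective F := fun c => let ⟨x, e⟩ := H18.CC.cl_surj P c; ⟨ConjClasses.mk x, e⟩
  refine ⟨fun h => ⟨H18.CC.npc_two P h, h.trans_le (Nat.mul_le_mul_left _
    (Nat.card_le_card_of_surjective F hF))⟩, fun ⟨h1, h2⟩ => h2.trans_le (Nat.mul_le_mul_left _
    (Nat.card_le_card_of_injective F fun a b => ?_))⟩
  obtain ⟨x, rfl⟩ := ConjClasses.mk_surjective a
  obtain ⟨y, rfl⟩ := ConjClasses.mk_surjective b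
  intro e
  obtain ⟨g, hg⟩ := isConj_iff.1 (H18.CC.cl_eq.1 e)
  obtain ⟨u, hu, h3⟩ := H7.controls_fusion_of_hasNPC h1 P g
  exact ConjClasses.mk_eq_mk_iff_isConj.2 (isConj_iff.2 ⟨⟨u, hu⟩, Subtype.ext
    ((h3 x x.2 (hg ▸ y.2)).trans hg)⟩)

end Cfsg.Agent.S3895
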