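import Cfsg.Statements.S3898
import Cfsg.Agent.H18.ClsCount
import Cfsg.Agent.H42.L3Kit

set_option autoImplicit false
open Cfsg

namespace Cfsg.Agent.S3898

open Subgroup H98 H1.Gold Finset Cfsg.Agent.S3899 H18.CC

universe u

theorem nor_le {G : Type u} [Group G] [Finite G] {r : ℕ} [hr : Fact r.Prime] (h2 : r ≠ 2)
    (hM : ¬ 2 ∣ Nat.card (pResidual 2 G)) (R : Sylow r G) (h : Nat.card R < 2 * kk {r} G)
    [Fintype (Cl r G)] (hw : 2 ^ (Nat.card G).factorization 2 * Nat.card R <
      2 * ∑ c : Cl r G, 2 ^ (Nat.card (cen1 (Quotient.out c.1 : G))).factorization 2) :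
    nor (R : Subgroup G) ≤ cen R := by
  classical
  have hc := comm_of_odd h2 R h
  have odd : ∀ q : ℕ, q.Prime → q ≠ 2 → ∀ x ∈ nor (R : Subgroup G), (∃ k, x ^ q ^ k = 1) →
      x ∈ cen (R : Subgroup G) := by
    rintro q hq q2 x hx ⟨k, e⟩
    by_cases qr : q = r
    · subst qr
      exact hc ((isSyl_sylow R).le_of_le_normalizer' (isPGroup_zpowers e) le_top (zpowers_le.2 hx)
        (mem_zpowers x))
    · by_contra n
      have d := orderOf_dvd_of_pow_eq_one e
      exact absurd (two_mul_le_of_nor R le_rfl (fun x hx _ => hx) hx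
        (((hq.odd_of_ne_two q2).pow (n := k)).of_dvd_nat d)
        ((((Nat.coprime_primes hq hr.out).2 qr).pow_left k).coprime_dvd_left d) n) (not_le.2 h)
  have MN : pResidual 2 G ⊓ nor (R : Subgroup G) ≤ cen R := le_of_forall_prime_pow_mem
    fun q hq d x hx => odd q hq (fun e => hM ((e ▸ d).trans (card_dvd_of_le inf_le_left))) x hx.2
  have RM : IsSyl r (R : Subgroup G) (pResidual 2 G) := isSyl_sylow_of_le R
    (H7.le_pResidual_of_coprime (by
      rw [R.card_eq_multiplicity]; exact ((Nat.coprime_primes hr.out Nat.prime_two).2 h2).pow_left _))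
  intro t ht
  by_contra n
  letI := Fintype.ofFinite (R : Subgroup G)
  refine absurd (wcount (cl_surj R) (univ.filter fun x => x.1 ∈ cen1 t) _
    (2 ^ (Nat.card G).factorization 2) (fun c => ?_) (fun x hx => ⟨?_, ?_⟩) ?_)
    (by rw [← Nat.card_eq_fintype_card]; exact not_le.2 hw)
  · exact Nat.pow_le_pow_right two_pos ((Nat.factorization_le_iff_dvd Nat.card_pos.ne'
      Nat.card_pos.ne').2 (card_subgroup_dvd_card _) 2)
  · obtain ⟨u, hu⟩ := isConj_iff.1 (ConjClasses.mk_eq_mk_iff_isConj.1 (Quotient.out_eq (cl R x).1)).symm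
    rw [← hu, ← cj_cen1, card_cj, ← pow_succ', ← (cen1 (x : G)).index_mul_card,
      Nat.factorization_mul index_ne_zero_of_finite Nat.card_pos.ne', Finsupp.add_apply]
    refine Nat.pow_le_pow_right two_pos ?_
    rw [add_comm]
    refine Nat.add_le_add_right (Nat.prime_two.factorization_pos_of_dvd index_ne_zero_of_finite ?_) _
    by_contra d
    have e := H7.sup_eq_top_of_index (H7.index_pResidual (p := 2) (G := G)) d
    obtain ⟨a, ha, b, hb, rfl⟩ := (mem_sup_right_norm le_normalizer_of_normal).1 (e.ge (mem_top t))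
    have e1 : a * b * x * (a * b)⁻¹ = a * x * a⁻¹ := by rw [mul_assoc a, mem_cen1.1 hb]; group
    obtain ⟨m, hm, k⟩ := H42.L3.exists_nor_conj RM hc x.2 ha (e1 ▸ conj_mem_of_mem_normalizer ht x.2)
    refine hx (mem_filter.2 ⟨mem_univ _, mem_cen1.2 (mem_cen1.1 (mul_mem ?_ hb)).symm⟩)
    exact (mul_mem_cancel_left (inv_mem (cen_le_cen1 x.2 (MN hm)))).1 k
  · simp only [mem_filter, mem_univ, true_and, mem_cen1] at hx ⊢
    refine ⟨⟨_, conj_mem_of_mem_normalizer ht x.2⟩, fun k => hx ?_, fun k => hx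
      (mul_inv_eq_iff_eq_mul.1 (congrArg Subtype.val k)).symm, cl_eq.2 (isConj_iff.2 ⟨t, rfl⟩).symm⟩
    calc x * t = t⁻¹ * (t * x * t⁻¹ * t) * t := by group
      _ = _ := by rw [k]; group
  · rw [← Fintype.card_subtype, ← Nat.card_eq_fintype_card, ← Nat.card_eq_fintype_card]
    have e := ((cen1 t).subgroupOf R).index_mul_card
    obtain ⟨i, hi⟩ := R.isPGroup'.index ((cen1 t).subgroupOf R)
    refine le_trans (Nat.mul_le_mul_right _ ?_) e.le
    rw [hi]
    refine (hr.out.two_le.lt_of_ne h2.symm).trans_le (Nat.le_self_pow (fun i0 => n fun x hx => ?_) r)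
    rw [i0, pow_zero, index_eq_one] at hi
    exact mem_cen1.1 (hi.ge (mem_top (⟨x, hx⟩ : (R : Subgroup G))))

/-- Let π be a finite set of primes containing 2 and G a finite group. Write k_π(G) for the number of conjugacy classes of G consisting of π-elements (elements all of whose order's prime divisors lie in π) and |G|_π for the π-part of the order of G. If k_π(G) > |G|_π/2, then G has a normal π-complement (a normal subgroup of order prime to π whose index is a π-number) and an abelian Hall subgroup for the set of odd primes in π. -/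
theorem result {G : Type*} [Group G] [Finite G] (π : Finset ℕ) (hπ : ∀ r ∈ π, r.Prime) (h2 : 2 ∈ π)
    (hk : π.prod (fun r => r ^ (Nat.card G).factorization r) < 2 * Nat.card {c : ConjClasses G // ∀ x ∈ c.carrier, ∀ r : ℕ, r.Prime → r ∣ orderOf x → r ∈ π}) :
    (∃ N : Subgroup G, N.Normal ∧ (∀ r : ℕ, r.Prime → r ∣ Nat.card ↥N → r ∉ π) ∧ ∀ r : ℕ, r.Prime → r ∣ N.index → r ∈ π) ∧ ∃ H : Subgroup G, Cfsg.IsPiHall ((↑π : Set ℕ) \ {2}) H ∧ IsMulCommutative ↥H := by
  classical
  change _ < 2 * kk π G at hk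
  have one : ∀ r ∈ π, r ^ (Nat.card G).factorization r < 2 * kk {r} G := fun r hr => by
    have hs : ∀ q ∈ π.erase r, q.Prime := fun q hq => hπ q (mem_of_mem_erase hq)
    have := kk_le_mul (G := G) {r} (π.erase r) _ fun H => (kk_le _ hs H).trans (prod_mono _ hs H)
    rw [← Set.insert_eq, ← coe_insert, insert_erase hr] at this
    rw [← mul_prod_erase _ _ hr] at hk
    exact Nat.lt_of_mul_lt_mul_right (hk.trans_le
      ((Nat.mul_le_mul_left _ this).trans_eq (mul_assoc _ _ _).symm))
  obtain ⟨P⟩ : Nonempty (Sylow 2 G) := inferInstance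
  have hM := H7.hasNPC_iff_not_dvd.1 (npc_two P (P.card_eq_multiplicity ▸ one 2 h2))
  have key : ∀ r ∈ π, r ≠ 2 → ¬ r ∣ Nat.card (pResidual r G) ∧ _root_.commutator G ≤ pResidual r G := by
    intro r hr r2
    haveI := Fact.mk (hπ r hr)
    obtain ⟨R⟩ : Nonempty (Sylow r G) := inferInstance
    letI := Fintype.ofFinite (Cl r G)
    have m2 : 2 ∈ π.erase r := mem_erase.2 ⟨r2.symm, h2⟩
    have hs : ∀ q ∈ π.erase r, q.Prime := fun q hq => hπ q (mem_of_mem_erase hq)
    have hN := nor_le r2 hM R (R.card_eq_multiplicity ▸ one r hr) (by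
      have := (kk_le_sum (G := G) {r} (π.erase r)).trans (sum_le_sum fun c _ =>
        (kk_le _ hs _).trans ((mul_prod_erase _ _ m2).symm.le.trans (Nat.mul_le_mul_left _
          (prod_mono _ (fun q hq => hs q (mem_of_mem_erase hq)) _))))
      rw [← Set.insert_eq, ← coe_insert, insert_erase hr, ← sum_mul] at this
      rw [← mul_prod_erase _ _ hr, ← mul_prod_erase _ _ m2, ← mul_assoc, mul_comm (r ^ _)] at hk
      rw [R.card_eq_multiplicity]
      exact Nat.lt_of_mul_lt_mul_right (hk.trans_le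
        ((Nat.mul_le_mul_left _ this).trans_eq (mul_assoc _ _ _).symm)))
    refine ⟨H7.hasNPC_iff_not_dvd.1 ⟨R, _, inferInstance,
      MonoidHom.ker_transferSylow_isComplement' R hN⟩, ?_⟩
    rw [commutator_def, ← H7.pResidual_sup_sylow R]
    refine H24.commutator_sup_left_le (commutator_le_left _ _)
      (H24.commutator_sup_right_le (commutator_le_right _ _) ?_)
    rw [commutator_eq_bot_iff_le_centralizer.2 (le_normalizer.trans hN)]
    exact bot_le
  let N : Subgroup G := ⨅ r : π, pResidual r G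
  haveI hN : N.Normal := normal_iInf_normal fun r => inferInstance
  have h1 : ∀ r : ℕ, r.Prime → r ∣ Nat.card N → r ∉ π := fun r _ hd hr => by
    have := hd.trans (card_dvd_of_le (iInf_le _ (⟨r, hr⟩ : π)))
    by_cases r2 : r = 2
    · subst r2; exact hM this
    · exact (key r hr r2).1 this
  have h3 : ∀ r : ℕ, r.Prime → r ∣ N.index → r ∈ π := fun r hr hd => by
    haveI := Fact.mk hr
    obtain ⟨y, hy⟩ := exists_prime_orderOf_dvd_card' (G := G ⧸ N) r hd
    obtain ⟨x, rfl, k, hx⟩ := H18.exists_lift_primePow _ (QuotientGroup.mk'_surjective N) hr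
      ⟨1, hy.trans (pow_one r).symm⟩
    by_contra hrπ
    have : x ∈ N := Subgroup.mem_iInf.2 fun q => H7.mem_pResidual_of_coprime (by
      rw [hx]
      exact Nat.Coprime.pow_left _ ((Nat.coprime_primes hr (hπ q q.2)).2 fun e => hrπ (e ▸ q.2)))
    rw [QuotientGroup.mk'_apply, (QuotientGroup.eq_one_iff _).2 this, orderOf_one] at hy
    exact hr.one_lt.ne hy
  refine ⟨⟨N, hN, h1, h3⟩, ?_⟩
  obtain ⟨H, hH⟩ := exists_right_complement'_of_coprime (N := N) (H24.coprime_of_pi h3 h1).symm
  refine ⟨H ⊓ pResidual 2 G, ⟨fun r hr hd => ⟨h3 r hr (hH.symm.index_eq_card ▸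
    hd.trans (card_dvd_of_le inf_le_left)), fun e => hM ((e ▸ hd).trans
    (card_dvd_of_le inf_le_right))⟩, fun r hr hrπ hd => ?_⟩, ?_⟩
  · rw [← relIndex_mul_index (inf_le_left : H ⊓ pResidual 2 G ≤ H), inf_relIndex_left,
      hr.dvd_mul] at hd
    obtain ⟨k, e⟩ := H7.index_pResidual (p := 2) (G := G)
    rcases hd with hd | hd
    · exact hrπ.2 ((Nat.prime_dvd_prime_iff_eq hr Nat.prime_two).1 (hr.dvd_of_dvd_pow
        (e ▸ hd.trans (relIndex_dvd_index_of_normal _ _))))
    · exact h1 r hr (hH.index_eq_card ▸ hd) hrπ.1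
  rw [← le_centralizer_iff_isMulCommutative, ← commutator_eq_bot_iff_le_centralizer, eq_bot_iff,
    ← hH.disjoint.eq_bot]
  refine le_inf (le_iInf fun r => ?_) (commutator_le_of_le inf_le_left inf_le_left)
  by_cases r2 : r.1 = 2
  · rw [r2]; exact commutator_le_of_le inf_le_right inf_le_right
  · exact (commutator_mono le_top le_top).trans (key r r.2 r2).2

end Cfsg.Agent.S3898
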