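import Cfsg.Statements.S3900
import Cfsg.Agent.H4.BW

set_option autoImplicit false
open Cfsg

namespace Cfsg.Agent.S3900

/-- A criterion of Baumslag–Wiegold type for a term of the lower central series. Let G be a finite group and k ≥ 0; call an element a left-normed commutator value of length k + 1 when it has the form [[…[x₀, x₁], …], x_k] with k + 1 entries (for k = 0, any element), where [a, b] = aba⁻¹b⁻¹. Then the (k+1)-st term γ_{k+1}(G) of the lower central series (γ₁(G) = G) is nilpotent if and only if for every two such values x, y of coprime orders, either every prime dividing o(x)·o(y) divides o(xy), or o(x)·o(y) ≤ o(xy). -/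
theorem result {G : Type*} [Group G] [Finite G] (k : ℕ) :
    Group.IsNilpotent ↥((⊤ : Subgroup G).lowerCentralSeries k) ↔
      ∀ x y : G, (∃ f : Fin (k + 1) → G, x = ((List.ofFn f).tail).foldl (fun a b => a * b * a⁻¹ * b⁻¹) (f 0)) → (∃ f : Fin (k + 1) → G, y = ((List.ofFn f).tail).foldl (fun a b => a * b * a⁻¹ * b⁻¹) (f 0)) → (orderOf x).Coprime (orderOf y) →
        (∀ r : ℕ, r.Prime → r ∣ orderOf x * orderOf y → r ∣ orderOf (x * y)) ∨ orderOf x * orderOf y ≤ orderOf (x * y) := by
  simp only [← H4.BW.V_iff]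
  refine ⟨fun h x y hx hy hc => .inr ?_, fun h => H4.BW.main _ G rfl fun x y hx hc => ?_⟩
  · exact ((H26.commute_of_coprime_orderOf_of_mem h hx.mem hy.mem
      hc).orderOf_mul_eq_mul_orderOf_of_coprime hc).ge
  · have e : orderOf (x⁻¹ * H4.BW.cm x y) = orderOf x := by
      rw [← orderOf_inv x, ← H24.orderOf_conj' y x⁻¹]; simp [H4.BW.cm, mul_assoc]
    rw [← orderOf_eq_one_iff]
    rcases h x⁻¹ _ hx.inv (hx.succ y).pred (by rw [orderOf_inv]; exact hc.symm) with h1 | h1 <;>
      rw [e, orderOf_inv] at h1
    · exact Nat.eq_one_iff_not_exists_prime_dvd.2 fun r hr d =>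
        hr.one_lt.ne' (Nat.eq_one_of_dvd_coprimes hc d (h1 r hr (d.mul_left _)))
    · have := orderOf_pos x
      have := orderOf_pos (H4.BW.cm x y)
      nlinarith

end Cfsg.Agent.S3900
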