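import Cfsg.Statements.S3904
import Cfsg.Agent.Base
import Cfsg.Agent.H23.MaxCent

set_option autoImplicit false
open Cfsg

namespace Cfsg.Agent.S3904

open H23
open scoped commutatorElement

theorem case_normal {G : Type*} [Group G] [Finite G]
    (h : ∀ x : G, x ∉ Subgroup.center G → IsCoatom (Subgroup.centralizer ({x} : Set G)))
    (hn : ∀ x : G, (Subgroup.centralizer ({x} : Set G)).Normal) :
    ∃ p : ℕ, p.Prime ∧ Cfsg.IsElementaryAbelian p (⊤ : Subgroup (G ⧸ Subgroup.center G)) := by
  have hcomm : commutator G ≤ Subgroup.center G := by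
    intro c hc
    rw [Subgroup.mem_center_iff]
    intro x
    by_cases hx : x ∈ Subgroup.center G
    · exact (Subgroup.mem_center_iff.mp hx c).symm
    · have := hn x
      exact (Subgroup.mem_centralizer_singleton_iff.mp
        (commutator_le_of_index_prime _ (H3.index_prime_of_isCoatom_normal (h x hx)) hc)).symm
  have hc : ∀ a b : G ⧸ Subgroup.center G, a * b = b * a := by
    intro a b
    obtain ⟨a, rfl⟩ := QuotientGroup.mk'_surjective _ a
    obtain ⟨b, rfl⟩ := QuotientGroup.mk'_surjective _ b
    rw [← commutatorElement_eq_one_iff_mul_comm, ← map_commutatorElement, QuotientGroup.mk'_apply,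
      QuotientGroup.eq_one_iff]
    exact hcomm (Subgroup.commutator_mem_commutator (Subgroup.mem_top a) (Subgroup.mem_top b))
  have hprime : ∀ a : G ⧸ Subgroup.center G, a ≠ 1 → (orderOf a).Prime := by
    intro a ha
    obtain ⟨x, rfl⟩ := QuotientGroup.mk'_surjective _ a
    have hx : x ∉ Subgroup.center G := fun h' => ha ((QuotientGroup.eq_one_iff x).mpr h')
    have := hn x
    have hp := H3.index_prime_of_isCoatom_normal (h x hx)
    set p := (Subgroup.centralizer ({x} : Set G)).index
    have : Fact p.Prime := ⟨hp⟩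
    rw [orderOf_eq_prime (p := p) _ ha]
    · exact hp
    rw [← map_pow, QuotientGroup.mk'_apply, QuotientGroup.eq_one_iff, Subgroup.mem_center_iff]
    intro g
    have hz := Subgroup.mem_center_iff.mp
      (hcomm (Subgroup.commutator_mem_commutator (Subgroup.mem_top g) (Subgroup.mem_top x)))
    set c := ⁅g, x⁆ with hcdef
    have h1 : g * x = c * x * g := by rw [hcdef, commutatorElement_def]; group
    have h2 : ∀ n : ℕ, g ^ n * x = c ^ n * x * g ^ n := by
      intro n
      induction n with
      | zero => simp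
      | succ n ih =>
        rw [pow_succ', mul_assoc, ih, ← mul_assoc, ← mul_assoc,
          (Commute.pow_right (hz g) n).eq, mul_assoc (c ^ n), h1, pow_succ c]
        group
    have h3 : ∀ n : ℕ, g * x ^ n = c ^ n * x ^ n * g := by
      intro n
      induction n with
      | zero => simp
      | succ n ih =>
        rw [pow_succ, ← mul_assoc, ih, mul_assoc, h1, pow_succ c]
        calc c ^ n * x ^ n * (c * x * g) = c ^ n * (x ^ n * c) * x * g := by group
          _ = _ := by rw [hz]; group
    have h4 : g ^ p * x = x * g ^ p :=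
      Subgroup.mem_centralizer_singleton_iff.mp (Subgroup.pow_index_mem _ g)
    have h5 : c ^ p = 1 := by
      have := h2 p
      rw [h4, mul_assoc] at this
      exact (mul_eq_right.mp this.symm)
    rw [h3, h5, one_mul]
  have hmc : IsMulCommutative (⊤ : Subgroup (G ⧸ Subgroup.center G)) :=
    ⟨⟨fun a b => Subtype.ext (hc a b)⟩⟩
  by_cases htriv : ∀ a : G ⧸ Subgroup.center G, a = 1
  · exact ⟨2, Nat.prime_two, hmc, fun a _ => htriv _⟩
  push Not at htriv
  obtain ⟨a, ha⟩ := htriv
  refine ⟨orderOf a, hprime a ha, hmc, fun b _ => ?_⟩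
  by_cases hb : b = 1
  · rw [hb, one_pow]
  by_cases hab : orderOf a = orderOf b
  · rw [hab, pow_orderOf_eq_one]
  exfalso
  have h1 := (show Commute a b from hc a b).orderOf_mul_eq_mul_orderOf_of_coprime
    ((Nat.coprime_primes (hprime a ha) (hprime b hb)).mpr hab)
  have h2 : a * b ≠ 1 := by
    intro e
    rw [e, orderOf_one] at h1
    exact (hprime a ha).one_lt.ne' (Nat.eq_one_of_mul_eq_one_right h1.symm)
  exact Nat.not_prime_mul (hprime a ha).one_lt.ne' (hprime b hb).one_lt.ne' (h1 ▸ hprime _ h2)

theorem case_frobenius {G : Type*} [Group G] [Finite G]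
    (h : ∀ x : G, x ∉ Subgroup.center G → IsCoatom (Subgroup.centralizer ({x} : Set G)))
    (A : Subgroup G) (hA : IsCoatom A) [IsMulCommutative A] (hn : ¬ A.Normal) :
    (¬ IsMulCommutative (G ⧸ Subgroup.center G) ∧ (∀ H : Subgroup (G ⧸ Subgroup.center G), H ≠ ⊤ → IsMulCommutative ↥H) ∧
      ∃ p q a : ℕ, p.Prime ∧ q.Prime ∧ p ≠ q ∧ Nat.card (G ⧸ Subgroup.center G) = p ^ a * q ∧
        ∀ P : Subgroup (G ⧸ Subgroup.center G), Nat.card ↥P = p ^ a → P.Normal) := by
  have hF := isFrobeniusComplement_of_abelian_isCoatom hA hn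
  have hπ := QuotientGroup.mk'_surjective (Subgroup.center G)
  have hmax := H3.isCoatom_map_of_surjective_of_ker_le _ hπ hA (by
      rw [QuotientGroup.ker_mk']; exact center_le_of_isCoatom hA hn)
  set B := A.map (QuotientGroup.mk' (Subgroup.center G)) with hB
  have : Group.IsSolvable B := Group.isSolvable_of_comm fun a b => mul_comm' a b
  obtain ⟨hK, p, hp, hKp⟩ := frobKer_elementary_of_isCoatom hF hmax
  have hcompl := H5.frobKer_isComplement' hF
  set K := H5.frobKer hF with hKdef
  have hKt : K ≠ ⊤ := by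
    intro e
    have := hcompl.disjoint
    rw [e, top_disjoint] at this
    exact hF.1 this
  obtain ⟨⟨y, hyK⟩, hy1⟩ := Subgroup.ne_bot_iff_exists_ne_one.mp (H5.frobKer_ne_bot hF)
  have hy1' : y ≠ 1 := fun e => hy1 (Subtype.ext e)
  obtain ⟨y, rfl⟩ := hπ y
  have hyZ : y ∉ Subgroup.center G := fun h' => hy1' ((QuotientGroup.eq_one_iff y).mpr h')
  have hle : Subgroup.centralizer ({y} : Set G) ≤ K.comap (QuotientGroup.mk' _) := by
    intro c hc
    rw [Subgroup.mem_comap]
    by_contra hcK
    obtain ⟨hc1, g, hg⟩ := (H5.not_mem_frobeniusKernel_iff _ _).mp hcK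
    have h1 := H5.frob_eq_one_of_commute hF hg (by simpa using hc1)
      (H5.conj_mem_frobeniusKernel hyK g) (by
        have := congrArg (QuotientGroup.mk' (Subgroup.center G))
          (Subgroup.mem_centralizer_singleton_iff.mp hc)
        rw [map_mul, map_mul] at this
        rw [conj_mul, conj_mul, this])
    exact hy1' (by simpa using h1)
  have heq : Subgroup.centralizer ({y} : Set G) = K.comap (QuotientGroup.mk' _) := by
    by_contra hne
    have := (h y hyZ).2 _ (lt_of_le_of_ne hle hne)
    apply hKt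
    rw [← Subgroup.map_comap_eq_self_of_surjective hπ K, this, ← MonoidHom.range_eq_map,
      MonoidHom.range_eq_top.mpr hπ]
  have hq : K.index.Prime := by
    rw [← Subgroup.index_comap_of_surjective K hπ]
    exact H3.index_prime_of_isCoatom_normal (heq ▸ h y hyZ)
  have hKmax := H3.isCoatom_of_index_prime hq
  have : Fact p.Prime := ⟨hp⟩
  have : Fact K.index.Prime := ⟨hq⟩
  obtain ⟨a, ha⟩ := IsPGroup.iff_card.mp (H4.isPGroup_of_exponent hKp)
  have hcop : (Nat.card K).Coprime K.index := by
    rw [hcompl.symm.index_eq_card, H5.card_frobKer]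
    exact (H5.frob_coprime ((H5.isFrobeniusComplement_iff _).1 hF).2.2).symm
  have hpq : p ≠ K.index := by
    intro e
    have ha0 : a ≠ 0 := by
      rintro rfl
      exact H5.frobKer_ne_bot hF (Subgroup.card_eq_one.mp ha)
    exact hp.one_lt.ne' (Nat.eq_one_of_dvd_coprimes hcop (ha ▸ dvd_pow_self p ha0) e.dvd)
  refine ⟨fun hc => ?_, fun H hH => ?_, p, K.index, a, hp, hq, hpq, ?_, fun P hP => ?_⟩
  · apply hF.2.1
    rw [← H5.frob_normalizer_eq hF, Subgroup.normalizer_eq_top_iff]
    infer_instance
  · by_cases hHK : H ≤ K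
    · exact ⟨⟨fun u v => Subtype.ext (setLike_mul_comm (s := K) (hHK u.2) (hHK v.2))⟩⟩
    have htop : K ⊔ H = ⊤ := hKmax.2 _ (lt_of_le_of_ne le_sup_left fun e => hHK (e ▸ le_sup_right))
    have hnorm : (K ⊓ H).Normal := by
      refine ⟨fun u hu g => ?_⟩
      obtain ⟨k, hk, w, hw, rfl⟩ := H3.mem_sup_normal_left.mp (htop ▸ Subgroup.mem_top g)
      have h1 : w * u * w⁻¹ ∈ K := Subgroup.Normal.conj_mem inferInstance u hu.1 w
      have h2 : k * w * u * (k * w)⁻¹ = w * u * w⁻¹ := by
        calc k * w * u * (k * w)⁻¹ = k * (w * u * w⁻¹) * k⁻¹ := by group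
          _ = _ := by rw [setLike_mul_comm (s := K) hk h1, mul_inv_cancel_right]
      rw [h2]
      exact ⟨h1, H.mul_mem (H.mul_mem hw hu.2) (H.inv_mem hw)⟩
    by_cases hb : K ⊓ H = ⊥
    · have h1 := H4.card_sup_mul_card_inf K H
      rw [htop, hb, Subgroup.card_bot, mul_one, Subgroup.card_top, ← K.card_mul_index] at h1
      have h2 : Nat.card H = K.index := (Nat.eq_of_mul_eq_mul_left Nat.card_pos h1).symm
      exact (isCyclic_of_prime_card h2).isMulCommutative
    · have h1 := eq_of_le_normalizer_of_isCoatom hmax hcompl.disjoint inf_le_left hb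
        Subgroup.le_normalizer_of_normal
      exact absurd (by rw [← htop]; exact (sup_eq_right.mpr (inf_eq_left.mp h1)).symm) hH
  · rw [← ha, K.card_mul_index]
  · have h1 : P ≤ K := fun x hx => mem_of_coprime_index K
      (Nat.Coprime.of_dvd_left (P.orderOf_dvd_natCard hx) (by rw [hP, ← ha]; exact hcop))
    rw [Subgroup.eq_of_le_of_card_ge h1 (by rw [hP, ha])]
    infer_instance

/-- Let G be a non-abelian finite group in which the centralizer of every non-central element is a maximal subgroup. Then G/Z(G) is either an elementary abelian p-group for some prime p, or a minimal non-abelian group (non-abelian with all proper subgroups abelian) of order p^a · q for distinct primes p, q with a normal Sylow p-subgroup. -/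
theorem result {G : Type*} [Group G] [Finite G] (hna : ¬ IsMulCommutative G)
    (h : ∀ x : G, x ∉ Subgroup.center G → IsCoatom (Subgroup.centralizer ({x} : Set G))) :
    (∃ p : ℕ, p.Prime ∧ Cfsg.IsElementaryAbelian p (⊤ : Subgroup (G ⧸ Subgroup.center G))) ∨
    (¬ IsMulCommutative (G ⧸ Subgroup.center G) ∧ (∀ H : Subgroup (G ⧸ Subgroup.center G), H ≠ ⊤ → IsMulCommutative ↥H) ∧
      ∃ p q a : ℕ, p.Prime ∧ q.Prime ∧ p ≠ q ∧ Nat.card (G ⧸ Subgroup.center G) = p ^ a * q ∧
        ∀ P : Subgroup (G ⧸ Subgroup.center G), Nat.card ↥P = p ^ a → P.Normal) := by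
  by_cases hn : ∀ x : G, (Subgroup.centralizer ({x} : Set G)).Normal
  · exact Or.inl (case_normal h hn)
  right
  push Not at hn
  obtain ⟨y, hyn⟩ := hn
  have hy : y ∉ Subgroup.center G := fun h' => hyn (by
    rw [(centralizer_singleton_eq_top_iff y).mpr h']; infer_instance)
  obtain ⟨x, hx, hxa⟩ := maxCent_exists_abelian h hyn
  by_cases hxn : (Subgroup.centralizer ({x} : Set G)).Normal
  swap
  · exact case_frobenius h _ (h x hx) hxn
  set A := Subgroup.centralizer ({x} : Set G) with hA
  have hyA : y ∉ A := by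
    intro h'
    apply hyn
    rw [← maxCent_eq_of_le h hx hy fun a ha =>
      Subgroup.mem_centralizer_singleton_iff.mpr (setLike_mul_comm (s := A) ha h')]
    exact hxn
  have : Fact A.index.Prime := ⟨H3.index_prime_of_isCoatom_normal (h x hx)⟩
  have hc : IsCyclic (G ⧸ A) := isCyclic_of_prime_card (p := A.index) rfl
  have : IsMulCommutative (Subgroup.centralizer ({y} : Set G)) := by
    refine ((QuotientGroup.mk' A).comp
      (Subgroup.subtype _)).isMulCommutative_of_isCyclic_of_ker_le_center fun c hc => ?_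
    have h1 : (c : G) ∈ A := (QuotientGroup.eq_one_iff _).mp hc
    have h2 : (c : G) ∈ Subgroup.center G := by
      by_contra h2
      apply hyA
      rw [hA, maxCent_eq_of_le h hx h2 fun a ha =>
        Subgroup.mem_centralizer_singleton_iff.mpr (setLike_mul_comm (s := A) ha h1)]
      exact Subgroup.mem_centralizer_singleton_iff.mpr
        (Subgroup.mem_centralizer_singleton_iff.mp c.2).symm
    rw [Subgroup.mem_center_iff]
    intro d
    exact Subtype.ext (Subgroup.mem_center_iff.mp h2 d)
  exact case_frobenius h _ (h y hy) hyn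

end Cfsg.Agent.S3904
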