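import Cfsg.Statements.S3916
import Cfsg.Agent.H56.CyTR
import Cfsg.Agent.H26.CyQ
import Cfsg.Agent.H20.CyFR
import Cfsg.Agent.H64.CyFC
import Cfsg.Agent.H19.CyCYC
import Cfsg.Agent.H22.CyML
import Cfsg.Agent.H43.CyTop

set_option autoImplicit false
open Cfsg

namespace Cfsg.Agent.S3916

/-- Let G be a finite group in which, for every prime p, any two cyclic p-subgroups of the same order are conjugate. If G is not solvable, then G has normal subgroups K ≤ L such that K is solvable, L/K is a non-abelian simple group, and G/L is solvable. -/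
theorem result {G : Type*} [Group G] [Finite G] (hP : ∀ (p : ℕ), p.Prime → ∀ A B : Subgroup G, IsCyclic ↥A → IsCyclic ↥B → IsPGroup p ↥A → Nat.card ↥A = Nat.card ↥B → ∃ g : G, B = A.map (MulAut.conj g).toMonoidHom) (hns : ¬ Group.IsSolvable G) :
    ∃ (K L : Subgroup G) (_ : K.Normal) (_ : L.Normal), K ≤ L ∧ Group.IsSolvable ↥K ∧ Group.IsSolvable (G ⧸ L) ∧
      IsSimpleGroup (↥L ⧸ K.subgroupOf L) ∧ ¬ IsMulCommutative (↥L ⧸ K.subgroupOf L) := by
  exact H56.CY.main_of H26.CY.jobQ H20.CyFR.job H64.CyFC.job H56.CY.jobTR H19.CyCYC.job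
    H22.CyML.job H43.CyTop.job G hP hns

end Cfsg.Agent.S3916
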