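import Cfsg.Agent.Base
import Cfsg.Statements.S3946
import Cfsg.Agent.H5.Kegel

set_option autoImplicit false
open Cfsg

namespace Cfsg.Agent.S3946

/-- Call an automorphism α of order n of a group G splitting when x · α(x) · α²(x) ⋯ α^(n−1)(x) = 1 for every x ∈ G. A finite group admitting a splitting automorphism of prime order is nilpotent (this contains the case of a fixed-point-free automorphism of prime order). -/
theorem result {G : Type*} [Group G] [Finite G] (α : MulAut G) (hp : (orderOf α).Prime)
    (hsplit : ∀ x : G, (((List.range (orderOf α)).map (fun i : ℕ => (α ^ i) x)).prod = 1)) : Group.IsNilpotent G := by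
  let φ := MonoidHom.id (MulAut G)
  have : Finite (G ⋊[φ] MulAut G) := Finite.of_equiv _ SemidirectProduct.equivProd.symm
  have h := H5.kegel (G := G ⋊[φ] MulAut G) (H := (SemidirectProduct.inl (φ := φ)).range)
    (a := SemidirectProduct.inr α) hp (by
      rw [SemidirectProduct.range_inl_eq_ker_rightHom]
      exact Subgroup.le_normalizer_of_normal (Subgroup.mem_top _)) (by
      rintro _ ⟨x, rfl⟩
      rw [← H5.prod_conj_mul_pow, ← map_pow, pow_orderOf_eq_one, map_one, mul_one,
        ← map_one (SemidirectProduct.inl (φ := φ)), ← hsplit x, map_list_prod, List.map_map]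
      refine congrArg List.prod (List.map_congr_left fun i _ => ?_)
      rw [← map_pow, ← map_inv]
      exact (SemidirectProduct.inl_aut _ _).symm)
  exact Group.nilpotent_of_mulEquiv
    (MonoidHom.ofInjective (SemidirectProduct.inl_injective (φ := φ))).symm

end Cfsg.Agent.S3946
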