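import Cfsg.Statements.S3996
import Cfsg.Agent.H23.Frobenius
import Cfsg.Agent.H24.EppoRows
import Cfsg.Agent.H30.TwoMod4
import Cfsg.Agent.H42.OddOrder

set_option autoImplicit false
open Cfsg

namespace Cfsg.Agent.S3996

open Finset

/-- number of elements of order `m` -/
noncomputable def s (G : Type*) [Group G] (m : ℕ) : ℕ := Nat.card {g : G // orderOf g = m}

variable {G : Type*} [Group G] [Finite G]

theorem sum_s {n : ℕ} (hn : n ∣ Nat.card G) : n ∣ ∑ m ∈ n.divisors, s G m := by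
  classical
  haveI := Fintype.ofFinite G
  have h := H23.dvd_card_pow_eq_one hn
  have e := sum_card_orderOf_eq_card_pow_eq_one (G := G) (ne_zero_of_dvd_ne_zero Nat.card_pos.ne' hn)
  simp only [s, Nat.card_eq_fintype_card, Fintype.card_subtype] at h ⊢
  rw [e]
  convert h

theorem s_one : s G 1 = 1 := by
  simp only [s, orderOf_eq_one_iff]
  exact Nat.card_unique

theorem frob {p : ℕ} (hp : p.Prime) (e : ℕ) : e.Coprime p → e * p ∣ Nat.card G →
    p ∣ s G (e * p) + s G e := by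
  induction e using Nat.strong_induction_on with
  | _ e ih =>
  intro hc hd
  have he : e ≠ 0 := by
    rintro rfl
    exact Nat.card_pos.ne' (by simpa using hd)
  have h := (dvd_mul_left p e).trans (sum_s hd)
  have e1 : (e * p).divisors = e.divisors ∪ e.divisors.image (· * p) := by
    ext d
    simp only [Nat.mem_divisors, mem_union, mem_image]
    constructor
    · rintro ⟨h1, -⟩
      by_cases h2 : p ∣ d
      · obtain ⟨c, rfl⟩ := h2
        exact Or.inr ⟨c, ⟨Nat.dvd_of_mul_dvd_mul_right hp.pos (mul_comm p c ▸ h1), he⟩, mul_comm _ _⟩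
      · exact Or.inl ⟨((hp.coprime_iff_not_dvd.2 h2).symm).dvd_of_dvd_mul_right h1, he⟩
    · rintro (⟨h1, -⟩ | ⟨c, ⟨h1, -⟩, rfl⟩)
      · exact ⟨h1.mul_right p, mul_ne_zero he hp.ne_zero⟩
      · exact ⟨Nat.mul_dvd_mul_right h1 p, mul_ne_zero he hp.ne_zero⟩
  rw [e1, sum_union, sum_image fun a _ b _ h => Nat.eq_of_mul_eq_mul_right hp.pos h,
    ← sum_add_distrib, ← Nat.cons_self_properDivisors he, sum_cons] at h
  · rw [add_comm]
    refine (Nat.dvd_add_iff_left (dvd_sum fun d hd' => ?_)).2 h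
    obtain ⟨h1, h2⟩ := Nat.mem_properDivisors.1 hd'
    rw [add_comm]
    exact ih d h2 (hc.coprime_dvd_left h1) ((Nat.mul_dvd_mul_right h1 p).trans hd)
  · refine disjoint_left.2 fun d h1 h2 => ?_
    obtain ⟨c, -, rfl⟩ := mem_image.1 h2
    exact hp.coprime_iff_not_dvd.1 hc.symm ((dvd_mul_left p c).trans (Nat.dvd_of_mem_divisors h1))

theorem tot (m : ℕ) : m.totient ∣ s G m := by
  classical
  haveI := Fintype.ofFinite G
  rw [s, Nat.card_eq_fintype_card, Fintype.card_subtype,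
    card_eq_sum_card_image (fun g : G => Subgroup.zpowers g)]
  refine dvd_sum fun Z hZ => ?_
  obtain ⟨x, hx, rfl⟩ := mem_image.1 hZ
  have hx := (mem_filter.1 hx).2
  have := IsCyclic.card_orderOf_eq_totient (α := Subgroup.zpowers x) (d := m)
    (by rw [Fintype.card_zpowers, hx])
  refine dvd_of_eq (this.symm.trans (card_bij (fun y _ => (y : G)) ?_ ?_ ?_))
  · intro y hy
    have hy : orderOf (y : G) = m := by simpa using hy
    simp only [mem_filter, mem_univ, true_and]
    refine ⟨hy, Subgroup.eq_of_le_of_card_ge (Subgroup.zpowers_le.2 y.2) ?_⟩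
    rw [Nat.card_zpowers, Nat.card_zpowers, hx, hy]
  · exact fun _ _ _ _ h => Subtype.ext h
  · intro y hy
    simp only [mem_filter, mem_univ, true_and] at hy
    exact ⟨⟨y, hy.2 ▸ Subgroup.mem_zpowers y⟩, by simpa using hy.1, rfl⟩

/-- A finite group in which the numbers of elements of each order that occurs (the numbers #{g : o(g) = m}, m ranging over the element orders) take exactly three different values is solvable. -/
theorem result {G : Type*} [Group G] [Finite G] (h : (((fun m : ℕ => Nat.card {g : G // orderOf g = m}) '' Set.range (orderOf : G → ℕ))).ncard = 3) : Group.IsSolvable G := by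
  change (s G '' Set.range (orderOf : G → ℕ)).ncard = 3 at h
  by_cases h4 : 4 ∣ Nat.card G
  swap
  · obtain ⟨σ, hσ⟩ := H30.exists_sign h4
    have : Group.IsSolvable σ.ker := by
      refine H42.odd_order (Nat.not_even_iff_odd.1 fun h2 => ?_)
      obtain ⟨g, hg⟩ := exists_prime_orderOf_dvd_card' 2 h2.two_dvd
      have := (hσ g).1 g.2
      rw [Subgroup.orderOf_coe, hg] at this
      exact absurd this (by decide)
    exact Group.isSolvable_of_ker_le_range σ.ker.subtype σ (by simp)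
  by_contra hs
  have three : ∀ u v : ℕ, u ≠ v → u ≠ 0 → v ≠ 0 → (∃ m, s G m = u) → (∃ m, s G m = v) →
      ∃ w, ∀ m, s G m ≠ 0 → s G m = u ∨ s G m = v ∨ s G m = w := by
    have mem : ∀ m, s G m ≠ 0 → s G m ∈ s G '' Set.range (orderOf : G → ℕ) := fun m hm => by
      obtain ⟨⟨g, hg⟩⟩ := (Nat.card_ne_zero.1 hm).1
      exact ⟨m, ⟨g, hg⟩, rfl⟩
    obtain ⟨x, y, z, -, -, -, e⟩ := Set.ncard_eq_three.1 h
    rw [e] at mem
    rintro _ _ huv hu hv ⟨a, rfl⟩ ⟨b, rfl⟩
    have h1 := mem a hu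
    have h2 := mem b hv
    simp only [Set.mem_insert_iff, Set.mem_singleton_iff] at mem h1 h2
    by_cases hx : x = s G a ∨ x = s G b
    · by_cases hy : y = s G a ∨ y = s G b
      · exact ⟨z, fun m hm => by have := mem m hm; omega⟩
      · exact ⟨y, fun m hm => by have := mem m hm; omega⟩
    · exact ⟨x, fun m hm => by have := mem m hm; omega⟩
  obtain ⟨p, q, hp, hq, hpq, p2, q2, pd, qd⟩ : ∃ p q : ℕ, p.Prime ∧ q.Prime ∧ p ≠ q ∧ p ≠ 2 ∧ q ≠ 2 ∧
      p ∣ Nat.card G ∧ q ∣ Nat.card G := by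
    have h3 : 1 < ((Nat.card G).primeFactors.erase 2).card := by
      have := mt H24.solvable_of_card_primeFactors_le hs
      have := pred_card_le_card_erase (s := (Nat.card G).primeFactors) (a := 2)
      omega
    obtain ⟨p, hp, q, hq, hpq⟩ := one_lt_card.1 h3
    simp only [mem_erase, Nat.mem_primeFactors] at hp hq
    exact ⟨p, q, hp.2.1, hq.2.1, hpq, hp.1, hq.1, hp.2.2.1, hq.2.2.1⟩
  have c4 : ∀ {r : ℕ}, r.Prime → r ≠ 2 → (4 : ℕ).Coprime r := fun hr h2 =>
    Nat.Coprime.pow_left 2 ((Nat.coprime_primes Nat.prime_two hr).2 h2.symm)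
  have cqp : q.Coprime p := (Nat.coprime_primes hq hp).2 hpq.symm
  have f1 : ∀ {r : ℕ}, r.Prime → r ∣ Nat.card G → r ∣ s G r + 1 := fun hr hd => by
    simpa [s_one] using frob (G := G) hr 1 (Nat.coprime_one_left _) (by simpa using hd)
  have ev : ∀ {r : ℕ}, r.Prime → r ≠ 2 → 2 ∣ r.totient := fun hr h2 =>
    (Nat.totient_even (lt_of_le_of_ne hr.two_le h2.symm)).two_dvd
  have n1 : ∀ {r x : ℕ}, r.Prime → r ∣ x + 1 → ¬ r ∣ x := fun hr h1 h2 =>
    hr.one_lt.ne' (Nat.dvd_one.1 ((Nat.dvd_add_right h2).1 h1))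
  have fin : ∀ {e b : ℕ}, e.Coprime p → e * p ∣ Nat.card G → s G e = b → ¬ p ∣ b →
      (s G (e * p) ≠ 0 → s G (e * p) = b) → False := fun {e b} h1 h2 h3 h5 h6 => by
    have h7 := frob hp e h1 h2
    rw [h3] at h7
    rw [h6 fun h0 => h5 (by simpa [h0] using h7), ← two_mul] at h7
    exact ((Nat.Prime.dvd_mul hp).1 h7).elim
      (fun h => p2 ((Nat.prime_dvd_prime_iff_eq hp Nat.prime_two).1 h)) h5
  have dqp : q * p ∣ Nat.card G := cqp.mul_dvd_of_dvd_of_dvd qd pd
  have tqp : 4 ∣ (q * p).totient := by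
    rw [Nat.totient_mul cqp]; exact Nat.mul_dvd_mul (ev hq q2) (ev hp p2)
  have s2 := f1 Nat.prime_two ((show 2 ∣ 4 by decide).trans h4)
  have np : ∀ {r : ℕ}, r.Prime → r ∣ Nat.card G → s G r ≠ 0 := fun hr hd h0 =>
    n1 hr (f1 hr hd) (by simp [h0])
  by_cases h2 : s G 2 = 1
  · have s4 := sum_s h4
    rw [show Nat.divisors 4 = {1, 2, 4} by decide, sum_insert (by decide), sum_insert (by decide),
      sum_singleton, s_one, h2] at s4
    obtain ⟨b, hb⟩ := three 1 (s G 4) (by omega) one_ne_zero (by omega) ⟨1, s_one⟩ ⟨4, rfl⟩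
    have hb4 : ∀ m, 4 ∣ m.totient → s G m ≠ 0 → s G m = b := fun m h1 h0 => by
      have := hb m h0
      have := h1.trans (tot (G := G) m)
      omega
    have t4 : ∀ {r : ℕ}, r.Prime → r ≠ 2 → 4 ∣ (4 * r).totient := fun hr h2 => by
      rw [Nat.totient_mul (c4 hr h2)]; exact Nat.mul_dvd_mul (show 2 ∣ Nat.totient 4 by decide) (ev hr h2)
    have ab : ∀ {r : ℕ}, r.Prime → r ≠ 2 → r ∣ Nat.card G → s G r = b ∨
        (s G r = s G 4 ∧ s G (4 * r) = b) := fun {r} hr r2 rd => by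
      rcases hb r (np hr rd) with h | h | h
      · have := (ev hr r2).trans (tot (G := G) r); omega
      · refine Or.inr ⟨h, hb4 _ (t4 hr r2) fun h0 => n1 hr (f1 hr rd) ?_⟩
        simpa [h0, h] using frob (G := G) hr 4 (c4 hr r2) ((c4 hr r2).mul_dvd_of_dvd_of_dvd h4 rd)
      · exact Or.inl h
    have pb : ¬ p ∣ b := by
      rcases ab hp p2 pd with h | ⟨h, h'⟩
      · exact h ▸ n1 hp (f1 hp pd)
      · intro h0
        have := frob (G := G) hp 4 (c4 hp p2) ((c4 hp p2).mul_dvd_of_dvd_of_dvd h4 pd)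
        rw [h', ← h] at this
        exact n1 hp (f1 hp pd) ((Nat.dvd_add_right h0).1 this)
    rcases ab hq q2 qd with h | ⟨-, h⟩
    · exact fin cqp dqp h pb (hb4 _ tqp)
    · have c := Nat.Coprime.mul_left (c4 hp p2) cqp
      refine fin c (c.mul_dvd_of_dvd_of_dvd ((c4 hq q2).mul_dvd_of_dvd_of_dvd h4 qd) pd) h pb (hb4 _ ?_)
      rw [Nat.totient_mul c]
      exact (t4 hq q2).mul_right _
  · obtain ⟨b, hb⟩ := three 1 (s G 2) (Ne.symm h2) one_ne_zero (by omega) ⟨1, s_one⟩ ⟨2, rfl⟩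
    have hb2 : ∀ m, 2 ∣ m.totient → s G m ≠ 0 → s G m = b := fun m h1 h0 => by
      have := hb m h0
      have := h1.trans (tot (G := G) m)
      omega
    exact fin cqp dqp (hb2 q (ev hq q2) (np hq qd))
      (hb2 p (ev hp p2) (np hp pd) ▸ n1 hp (f1 hp pd)) (hb2 _ ((show 2 ∣ 4 by decide).trans tqp))

end Cfsg.Agent.S3996
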