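import Cfsg.Statements.S3999
import Cfsg.Agent.Base
import Cfsg.Agent.H23.Tower
import Cfsg.Agent.H46.Coprime
import Cfsg.Agent.H5.ThompsonFpf
import Cfsg.Agent.H5.FrobCompl
import Cfsg.Agent.H29.Burnside
import Cfsg.Agent.H48.Meta
import Cfsg.Agent.H94.Involves

set_option autoImplicit false
open Cfsg

namespace Cfsg.Agent.S3999

open H46 Subgroup

theorem card_le_of_involves {E P : Type*} [Group E] [Group P] [Finite P] {p : ℕ} (hp : 0 < p)
    (hE : ∀ x : E, x ^ p = 1) (h : Involves E P) (z : P) :
    Nat.card E ≤ p * (zpowers z).index := by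
  obtain ⟨K, f, hf⟩ := H94.involves_iff.1 h
  have := Finite.of_surjective f hf
  have hc : IsCyclic ((zpowers z).subgroupOf K) :=
    isCyclic_of_injective ((zpowers z).subgroupOf K |>.subtype |> K.subtype.comp |>.codRestrict
      (zpowers z) fun x => x.2) fun a b e => Subtype.ext (Subtype.ext (Subtype.ext_iff.1 e :))
  have hc' : IsCyclic (((zpowers z).subgroupOf K).map f) :=
    isCyclic_of_surjective _ (f.subgroupMap_surjective _)
  rw [← card_mul_index (((zpowers z).subgroupOf K).map f)]
  refine Nat.mul_le_mul (H48.card_le_of_cyclic_of_exponent' hc' hp fun x _ => hE x)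
    ((Nat.le_of_dvd (relIndex_pos _ _) (index_map_dvd _ hf)).trans ?_)
  rw [← relIndex_top_right]
  exact relIndex_le_of_le_right le_top (relIndex_pos _ _).ne'

theorem compl_tower {F : Type*} [Group F] [Finite F] {C : Subgroup F} (hC : IsFrobeniusComplement C)
    (hs : Group.IsSolvable C) {t : ℕ} (ht : 5 ≤ t) :
    ∃ Q : Subgroup C, Q.Normal ∧ IsPiHall {q | t ≤ q} Q := by
  refine H23.exists_normal_isPiHall_ge t C fun N hN hN1 => ?_
  obtain ⟨U, -, hU⟩ := exists_chiefFactor_above (normalIn_top_iff.2 hN) (NormalIn.refl ⊤) hN1.lt_top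
  obtain ⟨p, hp, -, hE⟩ := hU.minNormal.exists_elem (sol_quo inferInstance N)
  have hUN : U ≤ Nrm N := le_top.trans hU.1.nrm
  refine ⟨U, normalIn_top_iff.1 hU.2.1, hU.2.2.1, ?_⟩
  rw [← card_quo hUN]
  have := Fact.mk hp
  have hpi := isPi_of_elem hp hE
  by_cases hpt : t ≤ p
  · exact Or.inl fun q hq hd => (hpi q hq hd : q = p) ▸ hpt
  obtain ⟨P⟩ : Nonempty (Sylow p C) := inferInstance
  have hI : Involves (U ⧸ₙ N) P := H94.involves_sylow (hpi.isPGroup hp) (H94.involves_trans
    (H94.involves_map _ _) (H94.involves_trans (H94.involves_subgroup _) (H94.involves_subgroup _))) P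
  have hE' : ∀ x : U ⧸ₙ N, x ^ p = 1 := fun x => Subtype.ext (hE.2 x x.2)
  have := H5.frobKer_normal hC
  rcases H5.sylow_isCyclic_or_quaternion_of_fpf (H5.frobKer_ne_bot hC)
    (le_top.trans (normalIn_top_iff.2 this).nrm) (H5.frobKer_inf_centralizer hC) P with
    h | ⟨rfl, n, ⟨e⟩⟩
  · obtain ⟨z, hz⟩ := h.exists_generator
    have := card_le_of_involves hp.pos hE' hI z
    rw [(eq_top_iff' _).2 hz, index_top] at this
    omega
  · have := card_le_of_involves hp.pos hE' (H94.involves_congr_right e |>.1 hI) (QuaternionGroup.a 1)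
    have h2 := card_mul_index (zpowers (QuaternionGroup.a 1 : QuaternionGroup (2 ^ n)))
    rw [card_zpowers', QuaternionGroup.orderOf_a_one, Nat.card_eq_fintype_card,
      QuaternionGroup.card] at h2
    have h3 : (zpowers (QuaternionGroup.a 1 : QuaternionGroup (2 ^ n))).index = 2 :=
      Nat.eq_of_mul_eq_mul_left (by positivity : 0 < 2 * 2 ^ n) (by rw [h2]; ring)
    omega

theorem ker_hall {F : Type*} [Group F] [Finite F] {C : Subgroup F} (hC : IsFrobeniusComplement C) :
    IsPiHallOf (piOf (Nat.card (H5.frobKer hC))) (H5.frobKer hC) ⊤ :=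
  isPiHallOf_mk le_top (isPi_piOf _) (pnat_compl_piOf.2 (by
    rw [relIndex_top_right, H5.index_frobKer]; exact (H5.frobKer_coprime hC).symm))

theorem tower {F G : Type*} [Group F] [Finite F] [Group G] [Finite G] {C : Subgroup F}
    (hC : IsFrobeniusComplement C) (e : F ≃ G) (he : ∀ g, orderOf (e g) = orderOf g) {n m : ℕ}
    (hn : n = Nat.card G + 1) (hm : m ≤ n ∨ Group.IsSolvable C ∧ m + 5 ≤ 2 * n) :
    ∃ N : Subgroup G, N.Normal ∧ IsPiHall {q | (q ∈ piOf (Nat.card (H5.frobKer hC)) ∧ q < m) ∨
      (2 * n ≤ q + m ∧ q < n)} N ∧ Group.IsSolvable N := by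
  have hK := ker_hall hC
  have hKn := H5.frobKer_normal hC
  set π := piOf (Nat.card (H5.frobKer hC)) with hπ
  have hlt : ∀ q, q ∣ Nat.card F → q < n := fun q h => by
    have := Nat.le_of_dvd Nat.card_pos h
    have := Nat.card_congr e
    omega
  have hlt' : ∀ q, q.Prime → q ∈ π → q < n := fun q _ h =>
    hlt q (h.2.trans (card_dvd_card_top _))
  refine H23.exists_solvable_isPiHall_of_orderType e he
    (fun i => {q | (q ∈ π ∧ q < i) ∨ (2 * n ≤ q + i ∧ q < n)}) m (fun q _ h => ?_)
    (fun i _ => ?_) fun i hi => ?_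
  · simp only [Set.mem_ofPred_eq] at h
    omega
  · by_cases h : n ≤ i
    · refine ⟨2 * n - (i + 1), fun q hq => ?_⟩
      have := hlt' q hq
      have := hq.pos
      by_cases h' : q ∈ π <;> simp only [Set.mem_ofPred_eq, h', true_and, false_and, forall_const,
        false_or] at * <;> omega
    · by_cases h' : i ∈ π
      · refine ⟨i, fun q hq => ?_⟩
        by_cases h'' : q ∈ π
        · simp only [Set.mem_ofPred_eq, h'', true_and]; omega
        · have : q ≠ i := fun e => h'' (e ▸ h')
          simp only [Set.mem_ofPred_eq, h'', false_and, false_or]; omega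
      · refine ⟨0, fun q hq => ?_⟩
        have := hq.pos
        by_cases h'' : q ∈ π
        · have : q ≠ i := fun e => h' (e ▸ h'')
          simp only [Set.mem_ofPred_eq, h'', true_and]; omega
        · simp only [Set.mem_ofPred_eq, h'', false_and, false_or]; omega
  · by_cases h : i ≤ n
    · refine ⟨piCoreOf {q | q ∈ π ∧ q < i} (H5.frobKer hC),
        normalIn_top_iff.1 ((normalIn_top_iff.2 hKn).piCoreOf _),
        H23.isPiHall_congr (fun q _ => ?_) (isPiHallOf_top.1 ((nil_piCoreOf_hall _
          (H5.frobKer_isNilpotent hC)).trans hK fun q h => h.1))⟩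
      simp only [Set.mem_ofPred_eq]
      exact ⟨Or.inl, fun h' => h'.resolve_right (by omega)⟩
    · obtain ⟨hs, hm⟩ := hm.resolve_left (by omega)
      obtain ⟨Q, hQn, hQ⟩ := compl_tower hC hs (t := 2 * n - i) (by omega)
      have hsd : IsSd (H5.frobKer hC) C ⊤ := isSd_of_card (normalIn_top_iff.2 hKn) le_top
        (H5.frobKer_isComplement' hC).disjoint.eq_bot
        (by rw [card_top, (H5.frobKer_isComplement' hC).card_mul_card])
      have hCH : IsPiHallOf πᶜ C ⊤ := hsd.hall_compl_right hK
      have hQ' : IsPiHallOf ({q | 2 * n - i ≤ q} ∩ πᶜ) (Q.map C.subtype) C :=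
        isPiHallOf_congr (fun q hq hd => ⟨fun h => ⟨h, hCH.isPi q hq hd⟩, fun h => h.1⟩)
          (isPiHallOf_iff.2 ⟨map_subtype_le _, by rwa [subgroupOf_map_subtype_self]⟩)
      refine ⟨H5.frobKer hC ⊔ Q.map C.subtype, normalIn_top_iff.1 ⟨le_top, (sup_eq_of_isComplIn hsd.isComplIn).ge.trans
        (sup_le (nrm_of_le le_sup_left) (nrm_sup (le_top.trans (normalIn_top_iff.2 hKn).nrm)
          (normalIn_map_subtype hQn).nrm))⟩, isPiHallOf_top.1 (isPiHallOf_congr (fun q hq hd => ?_)
            (isPiHallOf_top.2 (H23.isPiHall_sup (isPiHallOf_top.1 hK)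
              (isPiHallOf_top.1 (hQ'.trans hCH Set.inter_subset_right)))))⟩
      have := hlt q (by rwa [card_top] at hd)
      by_cases h'' : q ∈ π <;> simp [h''] <;> omega

theorem sol_transfer {F G : Type*} [Group F] [Finite F] [Group G] [Finite G] {C : Subgroup F}
    (hC : IsFrobeniusComplement C) (e : F ≃ G) (he : ∀ g, orderOf (e g) = orderOf g)
    (hs : Group.IsSolvable F) : Group.IsSolvable G := by
  obtain ⟨N, hN, hH, hNs⟩ := tower hC e he (m := 2 * (Nat.card G + 1) - 5) rfl
    ((le_or_gt 5 (2 * (Nat.card G + 1))).elim (fun h => Or.inr ⟨inferInstance, by omega⟩)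
      fun h => Or.inl (by omega))
  have : Group.IsSolvable (G ⧸ N) := by
    refine H29.isSolvable_of_prime_dvd_card Nat.prime_two Nat.prime_three fun q hq hd => ?_
    rw [← index_eq_card] at hd
    have h1 := hH.2 q hq
    have := Nat.le_of_dvd Nat.card_pos (hd.trans (index_dvd_card N))
    have h5 : q < 5 := by
      by_contra h
      exact h1 (Or.inr (by omega)) hd
    have := hq.two_le
    interval_cases q
    · norm_num
    · norm_num
    · exact absurd hq (by norm_num)
  exact Group.isSolvable_of_ker_le_range N.subtype (QuotientGroup.mk' N) (by simp)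

theorem frob_transfer {F G : Type*} [Group F] [Finite F] [Group G] [Finite G] {C : Subgroup F}
    (hC : IsFrobeniusComplement C) (e : F ≃ G) (he : ∀ g, orderOf (e g) = orderOf g) :
    ∃ D : Subgroup G, IsFrobeniusComplement D := by
  obtain ⟨N, hN, hH, -⟩ := tower hC e he rfl (Or.inl le_rfl)
  have hK := isPiHallOf_top.1 (ker_hall hC)
  have := H5.frobKer_normal hC
  set π := piOf (Nat.card (H5.frobKer hC)) with hπ
  have hH' : IsPiHallOf π N ⊤ := isPiHallOf_congr (fun q hq hd => by
    have := Nat.le_of_dvd Nat.card_pos (card_top (G := G) ▸ hd)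
    by_cases h'' : q ∈ π <;> simp [h''] <;> omega) (isPiHallOf_top.2 hH)
  have hc := H23.card_eq_of_isPiHall_of_card_eq (Nat.card_congr e) hK (isPiHallOf_top.1 hH')
  obtain ⟨D, hD⟩ := exists_right_complement'_of_coprime
    (show (Nat.card N).Coprime N.index from relIndex_top_right N ▸ hH'.isHallOf.2)
  refine ⟨D, H5.isFrobeniusComplement_of_fpf hD (fun h => ?_) (fun h => ?_) fun d hd hd1 => ?_⟩
  · rw [h, card_bot] at hc
    exact H5.frobKer_ne_bot hC (card_eq_one.1 hc)
  · have h1 := hD.card_mul_card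
    rw [h, card_bot, mul_one, ← hc, ← Nat.card_congr e, ← (H5.frobKer_isComplement' hC).card_mul_card] at h1
    exact hC.1 (card_eq_one.1 (Nat.eq_of_mul_eq_mul_left Nat.card_pos (h1.symm.trans (mul_one _).symm)))
  · refine H5.inf_centralizer_eq_bot_iff.2 fun k hk hkd => ?_
    by_contra hk1
    have hkπ : IsPiElt π k := hH'.isPi.elt hk
    have hdπ : IsPiElt πᶜ d := (hH'.idx.of_dvd (by
      rw [relIndex_top_right, hD.symm.index_eq_card]; exact orderOf_dvd_card hd))
    have ho : orderOf (e.symm (k * d)) = orderOf k * orderOf d := by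
      rw [H23.orderOf_symm_eq e he,
        (show Commute k d from hkd).orderOf_mul_eq_mul_orderOf_of_coprime (hkπ.coprime hdπ)]
    generalize e.symm (k * d) = x at ho
    have h1 : orderOf (x ^ orderOf d) = orderOf k := by
      rw [orderOf_pow_of_dvd (orderOf_pos d).ne' (ho ▸ dvd_mul_left _ _), ho,
        Nat.mul_div_cancel _ (orderOf_pos d)]
    have h2 := H5.centralizer_le_frobKer hC ((H23.mem_iff_of_normal_isPiHall hK _).2 (by rw [h1]; exact hkπ))
      (fun h => hk1 (orderOf_eq_one_iff.1 (by rw [← h1, h, orderOf_one])))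
      (mem_cent1.2 (Commute.self_pow x _))
    have h3 := (H23.mem_iff_of_normal_isPiHall hK _).1 h2
    exact hd1 (IsPiElt.eq_one (fun q hq h => h3 q hq (ho ▸ h.mul_left _)) hdπ)

/-- Let F be a finite Frobenius group (it has a Frobenius complement) and G a finite group with the same order type as F (for every m the same number of elements of order m). Then G is a Frobenius group; moreover G is solvable if and only if F is. -/
theorem result {F G : Type*} [Group F] [Finite F] [Group G] [Finite G] (hF : (∃ C : Subgroup F, Cfsg.IsFrobeniusComplement C)) (hT : (∀ m : ℕ, Nat.card {g : F // orderOf g = m} = Nat.card {h : G // orderOf h = m})) :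
    (∃ C : Subgroup G, Cfsg.IsFrobeniusComplement C) ∧ (Group.IsSolvable G ↔ Group.IsSolvable F) := by
  obtain ⟨C, hC⟩ := hF
  obtain ⟨e, he⟩ := H23.exists_equiv_orderOf_eq hT
  obtain ⟨D, hD⟩ := frob_transfer hC e he
  exact ⟨⟨D, hD⟩, sol_transfer hD e.symm (H23.orderOf_symm_eq e he), sol_transfer hC e he⟩

end Cfsg.Agent.S3999
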