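import Cfsg.Agent.Base
import Cfsg.Statements.S4001
import Cfsg.Agent.H5.CK
import Cfsg.Agent.H4.NilpCoprime
import Cfsg.Agent.H46.Prod

set_option autoImplicit false
open Cfsg

namespace Cfsg.Agent.S4001

open Subgroup H5

theorem of_dvd {G : Type*} [Group G] [Finite G] {g : G} {n : ℕ} (h : n ∣ orderOf g) :
    ∃ g : G, orderOf g = n := ⟨_, orderOf_pow_orderOf_div (orderOf_pos g).ne' h⟩

theorem of_comm {G : Type*} [Group G] [Finite G] {x y : G} {p q : ℕ} (hp : p.Prime) (hq : q.Prime)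
    (hne : p ≠ q) (hx : orderOf x = p) (hy : orderOf y = q) (hc : Commute x y) :
    ∃ g : G, orderOf g = p * q :=
  ⟨x * y, by
    rw [hc.orderOf_mul_eq_mul_orderOf_of_coprime (by rw [hx, hy]; exact (Nat.coprime_primes hp hq).2 hne),
      hx, hy]⟩

theorem of_cyclic {G Q : Type*} [Group G] [Finite G] [Group Q] [IsCyclic Q] (f : G →* Q)
    (hf : Function.Surjective f) {n : ℕ} (h : n ∣ Nat.card Q) : ∃ g : G, orderOf g = n := by
  obtain ⟨z, hz⟩ := IsCyclic.exists_ofOrder_eq_natCard (α := Q)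
  obtain ⟨g, rfl⟩ := hf z
  exact of_dvd (h.trans (hz ▸ orderOf_map_dvd f g))

theorem not_adj {G : Type*} [Group G] [Finite G] {H K : Subgroup G} [H.Normal] [K.Normal]
    (h : TwoFrob H K) {p q : ℕ} (hp : p.Prime) (hq : q.Prime) (hne : p ≠ q)
    (h1 : p ∣ H.relIndex K) (h2 : ¬ q ∣ H.relIndex K) {g : G} (hg : orderOf g = p * q) : False := by
  have hx : orderOf (g ^ q) = p := by
    rw [orderOf_pow' _ hq.ne_zero, hg, Nat.gcd_mul_left_left, Nat.mul_div_cancel _ hq.pos]
  have hy : orderOf (g ^ p) = q := by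
    rw [orderOf_pow' _ hp.ne_zero, hg, Nat.gcd_mul_right_left, Nat.mul_div_cancel_left _ hp.pos]
  have hc : g ^ p * g ^ q = g ^ q * g ^ p := ((Commute.refl g).pow_pow _ _).eq
  have hxK : g ^ q ∈ K := by
    rw [← QuotientGroup.eq_one_iff, ← orderOf_eq_one_iff]
    exact Nat.eq_one_of_dvd_coprimes h.coprime2
      ((hx ▸ orderOf_map_dvd (QuotientGroup.mk' K) _).trans h1) (orderOf_dvd_natCard _)
  have hxH : g ^ q ∉ H := fun e => hp.one_lt.ne' (Nat.eq_one_of_dvd_coprimes h.coprime1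
    (hx ▸ orderOf_dvd_natCard H e) h1)
  have hyK : g ^ p ∈ K := h.cent2 hxK hxH (congrArg QuotientGroup.mk hc)
  have hyH : g ^ p ∈ H := by
    have : (⟨_, hyK⟩ : K) ∈ H.subgroupOf K := by
      rw [← QuotientGroup.eq_one_iff, ← orderOf_eq_one_iff]
      have h3 := orderOf_map_dvd (QuotientGroup.mk' (H.subgroupOf K)) ⟨_, hyK⟩
      rw [← orderOf_coe, hy] at h3
      exact ((Nat.dvd_prime hq).1 h3).resolve_right fun e => h2 (e ▸ orderOf_dvd_natCard _)
    exact this
  exact hxH (h.cent1 hyH (fun e => hq.one_lt.ne (by rw [← hy, e, orderOf_one])) hxK hc.symm)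

theorem mixed {G : Type*} [Group G] [Finite G] {H K : Subgroup G} [H.Normal] [K.Normal]
    (h : TwoFrob H K) {p q : ℕ} (hp : p.Prime) (hq : q.Prime) (hne : p ≠ q)
    (h1 : p ∣ Nat.card H) (h2 : ¬ q ∣ Nat.card H) (h3 : q ∣ K.index) :
    ∃ g : G, orderOf g = p * q := by
  by_contra hn
  have := Fact.mk hp
  have := Fact.mk hq
  have := h.nil
  have hm : H.relIndex K ≠ 1 := fun e => h.top1 (index_eq_one.1 e)
  obtain ⟨r, hr, hrd⟩ := Nat.exists_prime_and_dvd hm
  have := Fact.mk hr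
  obtain ⟨R⟩ : Nonempty (Sylow r K) := inferInstance
  obtain ⟨P⟩ : Nonempty (Sylow p H) := inferInstance
  have hPn : (P : Subgroup H).Normal := inferInstance
  have := Sylow.characteristic_of_normal P hPn
  set R' := (R : Subgroup K).map K.subtype with hR'
  set P' := (P : Subgroup H).map H.subtype with hP'
  have hRp : IsPGroup r R' := R.2.map _
  have hPp : IsPGroup p P' := P.2.map _
  have hrH : ¬ r ∣ Nat.card H := fun e =>
    hr.one_lt.ne' (Nat.eq_one_of_dvd_coprimes h.coprime1 e hrd)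
  have hRH : ∀ x ∈ R', x ∈ H → x = 1 := fun x hx hxH => by
    obtain ⟨n, hn⟩ := hRp.exists_orderOf_eq_pow ⟨x, hx⟩
    rw [← orderOf_coe] at hn
    exact orderOf_eq_one_iff.1 (Nat.eq_one_of_dvd_coprimes
      (((Nat.Prime.coprime_iff_not_dvd hr).2 hrH).pow_left n) hn.dvd (orderOf_dvd_natCard H hxH))
  have hfr := Sylow.normalizer_sup_eq_top R
  obtain ⟨y, hy⟩ := exists_prime_orderOf_dvd_card' (G := normalizer (R' : Set G)) q (h3.trans (by
    have e := relIndex_sup_right (normalizer (R' : Set G)) K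
    rw [hfr, relIndex_top_right] at e
    rw [e]
    exact relIndex_dvd_card _ _))
  rw [← orderOf_coe] at hy
  have hqK : ¬ q ∣ Nat.card K := by
    rw [← card_mul_index (H.subgroupOf K), H4.card_subgroupOf_of_le h.le]
    exact hq.not_dvd_mul h2 fun e => hq.one_lt.ne' (Nat.eq_one_of_dvd_coprimes h.coprime2 e h3)
  have hB : ∀ b ∈ zpowers (y : G), b ≠ 1 → R' ⊓ centralizer {b} = ⊥ := by
    intro b hb b1
    refine inf_centralizer_eq_bot_iff.2 fun x hx hc => by_contra fun x1 => hqK ?_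
    have h4 : b ∈ K := h.cent2 (map_subtype_le _ hx) (fun e => x1 (hRH x hx e))
      (congrArg QuotientGroup.mk hc.symm)
    have h5 : orderOf b = q := ((Nat.dvd_prime hq).1 (hy ▸ orderOf_dvd_of_mem_zpowers hb)).resolve_left
      (by rwa [orderOf_eq_one_iff])
    exact h5 ▸ orderOf_dvd_natCard K h4
  have hR1 : R' ≠ ⊥ := by
    rw [hR', Ne, map_eq_bot_iff_of_injective _ K.subtype_injective]
    exact R.ne_bot_of_dvd_card (hrd.trans (relIndex_dvd_card _ _))
  have hP1 : P' ≠ ⊥ := by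
    rw [hP', Ne, map_eq_bot_iff_of_injective _ H.subtype_injective]
    exact P.ne_bot_of_dvd_card h1
  obtain ⟨a, ha⟩ := IsPGroup.iff_card.1 hPp
  obtain ⟨b, hb⟩ := IsPGroup.iff_card.1 hRp
  have hpr : (Nat.card P').Coprime (Nat.card R') := by
    rw [ha, hb]
    exact Nat.coprime_pow_primes _ _ hp hr fun e => hrH (e ▸ h1)
  have hyR : zpowers (y : G) ≤ normalizer (R' : Set G) := zpowers_le.2 y.2
  obtain ⟨V, hV, hV1, hVc, hAV⟩ := exists_invariant_abelian (A := R' ⊔ zpowers (y : G)) hP1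
    le_normalizer_of_normal (Nat.Coprime.coprime_dvd_left (H46.card_sup_dvd hyR) (by
      rw [Nat.card_zpowers, hy]
      refine Nat.Coprime.mul_left hpr.symm ?_
      rw [ha]
      exact ((Nat.coprime_primes hq hp).2 hne.symm).pow_right _))
    (Or.inr (by have := hPp.isNilpotent; infer_instance))
  refine hV1 (eq_bot_of_frob_action (le_sup_left.trans hAV) (le_sup_right.trans hAV) hyR hB
    (hpr.coprime_dvd_left (card_dvd_of_le hV)) (eq_bot_iff.2 fun v hv => ?_)
    (eq_bot_iff.2 fun v hv => ?_))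
  · by_contra v1
    obtain ⟨⟨x, hx⟩, x1⟩ := ne_bot_iff_exists_ne_one.1 hR1
    exact x1 (Subtype.ext (hRH x hx (h.cent1 (map_subtype_le _ (hV hv.1)) v1 (map_subtype_le _ hx)
      (hv.2 x hx))))
  · by_contra v1
    obtain ⟨n, hn'⟩ := hPp.exists_orderOf_eq_pow ⟨v, hV hv.1⟩
    rw [← orderOf_coe] at hn'
    have hd : p ∣ orderOf v := by
      cases n with
      | zero => exact absurd (orderOf_eq_one_iff.1 hn') v1
      | succ n => exact hn' ▸ dvd_pow_self p (by omega)
    exact hn (of_comm hp hq hne (orderOf_pow_orderOf_div (orderOf_pos v).ne' hd) hy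
      (Commute.pow_left (hv.2 _ (mem_zpowers _)).symm _))

/-- Let G be a 2-Frobenius group: it has normal subgroups H < K with K a Frobenius group with kernel H and G/H a Frobenius group with kernel K/H. Then G is solvable; K/H has odd order coprime to the order of H and to the order of G/K (it is the image of an odd-order Hall subgroup); G/K is cyclic; and the prime graph of G has exactly two connected components, both complete: for distinct primes p, q dividing the order of G, G has an element of order pq exactly when p and q either both divide the order of K/H or both do not. -/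
theorem result {G : Type*} [Group G] [Finite G] (H K : Subgroup G) [H.Normal] [K.Normal] (hlt : H < K)
    (hK : ∃ C : Subgroup ↥K, Cfsg.IsFrobeniusComplement C ∧ Cfsg.frobeniusKernel C = (H.subgroupOf K : Set ↥K))
    (hGH : ∃ C : Subgroup (G ⧸ H), Cfsg.IsFrobeniusComplement C ∧ Cfsg.frobeniusKernel C = (K.map (QuotientGroup.mk' H) : Set (G ⧸ H))) :
    Group.IsSolvable G ∧ Odd (Nat.card (↥K ⧸ H.subgroupOf K)) ∧
      Nat.Coprime (Nat.card (↥K ⧸ H.subgroupOf K)) (Nat.card ↥H * Nat.card (G ⧸ K)) ∧ IsCyclic (G ⧸ K) ∧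
      ∀ p q : ℕ, p.Prime → q.Prime → p ≠ q → p ∣ Nat.card G → q ∣ Nat.card G →
        ((∃ g : G, orderOf g = p * q) ↔ (p ∣ Nat.card (↥K ⧸ H.subgroupOf K) ↔ q ∣ Nat.card (↥K ⧸ H.subgroupOf K))) := by
  have h := twoFrob_of hlt hK hGH
  have hc := h.odd_cyclic
  have hq' := h.cyclic_quot
  change _ ∧ Odd (H.relIndex K) ∧ (H.relIndex K).Coprime (_ * K.index) ∧ _ ∧
    ∀ p q : ℕ, _ → _ → _ → _ → _ → (_ ↔ (p ∣ H.relIndex K ↔ q ∣ H.relIndex K))
  refine ⟨h.solvable, by rw [H18.relIndex_eq_card_map]; exact hc.1,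
    h.coprime1.symm.mul_right h.coprime2, hq', fun p q hp hq hne hpd hqd => ⟨?_, fun e => ?_⟩⟩
  · rintro ⟨g, hg⟩
    exact ⟨fun h1 => by_contra fun h2 => not_adj h hp hq hne h1 h2 hg,
      fun h1 => by_contra fun h2 => not_adj h hq hp hne.symm h1 h2 (hg.trans (mul_comm _ _))⟩
  have hpq := (Nat.coprime_primes hp hq).2 hne
  by_cases h1 : p ∣ H.relIndex K
  · have := hc.2
    obtain ⟨g, hg⟩ := of_cyclic ((QuotientGroup.mk' H).subgroupMap K)
      (MonoidHom.subgroupMap_surjective _ _)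
      (H18.relIndex_eq_card_map H K ▸ hpq.mul_dvd_of_dvd_of_dvd h1 (e.1 h1))
    exact ⟨g, by rw [orderOf_coe, hg]⟩
  have h2 : ¬ q ∣ H.relIndex K := fun h2 => h1 (e.2 h2)
  have key : ∀ r : ℕ, r.Prime → r ∣ Nat.card G → ¬ r ∣ H.relIndex K →
      r ∣ Nat.card H ∨ r ∣ K.index := by
    intro r hr hd hn
    rw [← card_mul_index K, ← card_mul_index (H.subgroupOf K), H4.card_subgroupOf_of_le h.le] at hd
    exact (hr.dvd_mul.1 hd).imp_left fun e => (hr.dvd_mul.1 e).resolve_right hn
  by_cases h3 : p ∣ Nat.card H <;> by_cases h4 : q ∣ Nat.card H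
  · have := Fact.mk hp
    have := Fact.mk hq
    have := h.nil
    obtain ⟨x, hx⟩ := exists_prime_orderOf_dvd_card' (G := H) p h3
    obtain ⟨y, hy⟩ := exists_prime_orderOf_dvd_card' (G := H) q h4
    rw [← orderOf_coe] at hx hy
    exact of_comm hp hq hne hx hy (H4.commute_of_nilpotent x.2 y.2 (by rwa [hx, hy]))
  · exact mixed h hp hq hne h3 h4 ((key q hq hqd h2).resolve_left h4)
  · rw [mul_comm]
    exact mixed h hq hp hne.symm h4 h3 ((key p hp hpd h1).resolve_left h3)
  · exact of_cyclic (QuotientGroup.mk' K) (QuotientGroup.mk'_surjective K)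
      (hpq.mul_dvd_of_dvd_of_dvd ((key p hp hpd h1).resolve_left h3)
        ((key q hq hqd h2).resolve_left h4))

end Cfsg.Agent.S4001
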