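import Cfsg.Agent.Base
import Cfsg.Agent.H23.Brauer
import Cfsg.Agent.S0636
import Cfsg.Agent.H98.Coprime
import Cfsg.Agent.H9.ClassTwo
import Cfsg.Agent.H46.Misc
import Cfsg.Agent.H18.Misc2
import Cfsg.Statements.S4003

set_option autoImplicit false
open Cfsg

namespace Cfsg.Agent.S4003

open Subgroup H46
open scoped commutatorElement

section
variable {G : Type*} [Group G] [Finite G] {p : ℕ} [hp : Fact p.Prime]

theorem estep (hodd : p ≠ 2) {E : Subgroup G} (hE : IsElementaryAbelian p E) (hc : Nat.card E = p ^ 2)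
    {v e : G} {k : ℕ} (hv : orderOf v = p ^ k) (hn : v ∈ Nrm E) (he : e ∈ E) : (v * e) ^ p = v ^ p := by
  have := hE.1
  have hV : IsPGroup p (zpowers v) := IsPGroup.of_card (by rw [Nat.card_zpowers, hv])
  have hP : IsPGroup p E := IsPGroup.of_card hc
  have h0 : E ≠ ⊥ := fun e => by
    rw [e, card_bot] at hc
    exact hp.out.ne_one (Nat.eq_one_of_mul_eq_one_right (by rw [← sq, ← hc]))
  have h1 := H98.commutator_lt_of_isPGroup hP hV (zpowers_le.2 hn) h0
  have h2 : ⁅⁅E, zpowers v⁆, zpowers v⁆ = ⊥ := by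
    by_cases h : ⁅E, zpowers v⁆ = ⊥
    · rw [h, commutator_bot_left]
    have h3 := H98.commutator_lt_of_isPGroup (hP.to_le h1.le) hV
      (normalizer_commutator_ge_right _ _) h
    have h4 := card_eq_of_lt_sq hp.out hc h1.le h h1.ne
    rcases (Nat.dvd_prime hp.out).1 (h4 ▸ card_dvd_of_le h3.le) with e | e
    · exact card_eq_one.1 e
    · exact absurd (card_lt_of_lt h3) (by omega)
  have h3 : ⁅e, v⁆ ∈ ⁅E, zpowers v⁆ := commutator_mem_commutator he (mem_zpowers v)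
  rw [H9.mul_pow_of_odd (commutatorElement_eq_one_iff_commute.1 (mem_bot.1
    (h2 ▸ commutator_mem_commutator h3 (mem_zpowers v)))).symm (setLike_mul_comm he (h1.le h3))
    (hp.out.odd_of_ne_two hodd) (hE.2 _ (h1.le h3)), hE.2 e he, mul_one]

theorem ord_pow {y : G} (j : ℕ) (h : p ∣ orderOf (y ^ p ^ j)) :
    orderOf y = p ^ j * orderOf (y ^ p ^ j) := by
  induction j generalizing y with
  | zero => simp
  | succ j ih =>
    rw [pow_succ', pow_mul] at h ⊢
    have h1 := ih h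
    have h2 : p ∣ orderOf y := (h.trans (orderOf_pow_dvd _)).trans (orderOf_pow_dvd _)
    rw [mul_assoc, ← h1, orderOf_pow_of_dvd hp.out.ne_zero h2, Nat.mul_div_cancel' h2]

omit [Finite G] in
theorem ord_pow' {y : G} {i j m : ℕ} (h : orderOf y = p ^ (i + j) * m) : orderOf (y ^ p ^ j) = p ^ i * m := by
  rw [orderOf_pow_of_dvd (pow_ne_zero j hp.out.ne_zero) (h ▸ (pow_dvd_pow p (by omega)).mul_right m), h,
    pow_add, mul_right_comm, Nat.mul_div_cancel _ (pow_pos hp.out.pos j)]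

omit [Finite G] hp in
theorem ord_conj (μ y : G) : orderOf (μ * y * μ⁻¹) = orderOf y := (MulAut.conj μ).orderOf_eq y

theorem estep2 (hodd : p ≠ 2) {E : Subgroup G} (hE : IsElementaryAbelian p E) (hc : Nat.card E = p ^ 2)
    {w e : G} {m : ℕ} (hm : p.Coprime m) (hw : orderOf w = p ^ 2 * m) (hn : w ∈ Nrm E) (he : e ∈ E) :
    orderOf (w * e) = p ^ 2 * m := by
  have m0 : m ≠ 0 := by rintro rfl; exact (orderOf_pos w).ne' (by simpa using hw)
  have hn' : ∀ f ∈ E, w⁻¹ * f * w ∈ E := fun f hf => (mem_normalizer_iff''.1 hn f).1 hf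
  obtain ⟨μ, -, h1⟩ := H23.brauer_lemma E w e hn' he
  have h2 : orderOf ((w * e) ^ p ^ 2) = m := by
    rw [← ord_conj μ, ← hc, h1, hc, ord_pow' (i := 0) (by simpa using hw), pow_zero, one_mul]
  obtain ⟨g, hg, h3⟩ := H23.exists_pow_mul_invCore E w (H23.le_invCore E E w le_rfl hn' he) m
  have h4 : orderOf (w ^ m) = p ^ 2 := by
    rw [orderOf_pow_of_dvd m0 (hw ▸ dvd_mul_left _ _), hw, Nat.mul_div_cancel _ (Nat.pos_of_ne_zero m0)]
  have h5 := estep hodd hE hc h4 (pow_mem hn m) (H23.invCore_le _ _ hg)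
  have h6 : orderOf (((w * e) ^ m) ^ p ^ 1) = p ^ 1 * 1 := by
    rw [pow_one, h3, h5, ← pow_one p, ord_pow' (i := 1) (m := 1) (by simpa using h4), pow_one]
  have h7 := ord_pow 1 (h6 ▸ (by simp : p ∣ p ^ 1 * 1))
  have h8 : m ∣ orderOf (w * e) := h2 ▸ orderOf_pow_dvd _
  rw [h6, orderOf_pow_of_dvd m0 h8] at h7
  rw [← Nat.div_mul_cancel h8, h7]
  ring

theorem key (hodd : p ≠ 2) {H E : Subgroup G} {s m : ℕ} (hm : p.Coprime m) (hH : Nat.card H = p ^ (s + 2))
    (hE : IsElementaryAbelian p E) (hc : Nat.card E = p ^ 2) (hEH : ∀ x, x ∈ E ↔ x ∈ H ∧ x ^ p = 1) :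
    p ^ (s + 2) ∣ Nat.card {g : G // orderOf g = p ^ (s + 2) * m} := by
  rw [← hH]
  refine H23.card_dvd_card_of_closed H {g : G | orderOf g = Nat.card H * m}
    (fun h _ x hx => (ord_conj h x).trans hx) fun x hx F hF hn f hf => ?_
  simp only [Set.mem_ofPred_eq, hH] at hx ⊢
  by_cases h0 : F = H
  · subst h0
    have hle : E ≤ F := fun y hy => ((hEH y).1 hy).1
    have hN : Nrm F ≤ Nrm E := fun g hg => mem_normalizer_fintype fun y hy => (hEH _).2
      ⟨(mem_normalizer_iff.1 hg y).1 (hle hy), by rw [conj_pow, hE.2 y hy]; simp⟩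
    have hx' : x ∈ Nrm F := by
      simpa using inv_mem (mem_normalizer_fintype (x := x⁻¹) (by simpa using hn) : x⁻¹ ∈ Nrm F)
    have : (E.subgroupOf (Nrm F)).Normal :=
      (normal_subgroupOf_iff_le_normalizer (hle.trans le_normalizer)).2 hN
    let π := QuotientGroup.mk' (E.subgroupOf (Nrm F))
    have h1 : Nat.card ((F.subgroupOf (Nrm F)).map π) = p ^ s := by
      have := card_mul_relIndex hle
      rw [hc, hH, pow_add p s, mul_comm, Nat.mul_left_inj (pow_ne_zero 2 hp.out.ne_zero)] at this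
      rw [← relIndex_ker, QuotientGroup.ker_mk', relIndex_subgroupOf le_normalizer, this]
    obtain ⟨_, ⟨μ, -, rfl⟩, h2⟩ := H23.brauer_lemma ((F.subgroupOf (Nrm F)).map π) (π ⟨x, hx'⟩)
      (π ⟨f, le_normalizer hf⟩) (by
        rintro _ ⟨y, hy, rfl⟩
        exact ⟨⟨x, hx'⟩⁻¹ * y * ⟨x, hx'⟩, hn y hy, by simp⟩) (mem_map_of_mem _ hf)
    rw [h1, ← map_mul, ← map_pow, ← map_pow, ← map_inv, ← map_mul, ← map_mul] at h2
    have h3 : (x ^ p ^ s)⁻¹ * (μ * (x * f) ^ p ^ s * (μ : G)⁻¹) ∈ E :=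
      (QuotientGroup.eq (s := E.subgroupOf (Nrm F))).1 h2.symm
    have h4 := estep2 hodd hE hc hm (ord_pow' (j := s) (by rw [hx, add_comm])) (pow_mem (hN hx') _) h3
    rw [mul_inv_cancel_left, ord_conj] at h4
    rw [ord_pow s (h4 ▸ (dvd_pow_self p two_ne_zero).mul_right m), h4]
    ring
  · obtain ⟨t, ht, h1⟩ := (Nat.dvd_prime_pow hp.out).1 (hH ▸ card_dvd_of_le hF)
    have h2 : t ≠ s + 2 := fun e => h0 (eq_of_le_of_card_eq hF (by rw [h1, hH, e]))
    obtain ⟨i, hi⟩ : ∃ i, s + 2 = i + 1 + t := ⟨s + 1 - t, by omega⟩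
    obtain ⟨μ, -, h3⟩ := H23.brauer_lemma F x f hn hf
    have h4 : orderOf ((x * f) ^ p ^ t) = p ^ (i + 1) * m := by
      rw [← ord_conj μ, ← h1, h3, h1, ord_pow' (hi ▸ hx)]
    rw [ord_pow t (h4 ▸ (dvd_pow_self p i.succ_ne_zero).mul_right m), h4, hi]
    ring

end

/-- Let G be a finite group, p an odd prime dividing the order of G whose Sylow p-subgroups are not cyclic, and n = p^s·m with s > 1 and m coprime to p. Then the number of elements of G of order n is a multiple of p^s. -/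
theorem result {G : Type*} [Group G] [Finite G] (p : ℕ) [Fact p.Prime] (hodd : p ≠ 2) (hpG : p ∣ Nat.card G)
    (P : Sylow p G) (hP : ¬ IsCyclic ↥(P : Subgroup G)) (s m : ℕ) (hs : 1 < s) (hm : Nat.Coprime p m) :
    p ^ s ∣ Nat.card {g : G // orderOf g = p ^ s * m} := by
  have hp : p.Prime := Fact.out
  obtain ⟨s, rfl⟩ : ∃ t, s = t + 2 := ⟨s - 2, by omega⟩
  rcases isEmpty_or_nonempty {g : G // orderOf g = p ^ (s + 2) * m} with h | ⟨⟨g, hg⟩⟩
  · simp
  have m0 : m ≠ 0 := by rintro rfl; exact (orderOf_pos g).ne' (by simpa using hg)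
  have hu : orderOf (g ^ m) = p ^ (s + 2) := by
    rw [orderOf_pow_of_dvd m0 (hg ▸ dvd_mul_left _ _), hg, Nat.mul_div_cancel _ (Nat.pos_of_ne_zero m0)]
  set u := g ^ m
  obtain ⟨Q, hQ⟩ := (IsPGroup.of_card (G := zpowers u) (by rw [Nat.card_zpowers, hu])).exists_le_sylow
  obtain ⟨A, -, hA, hA1, hA2⟩ := S0636.result hodd Q.isPGroup' ⊤ fun h => hP
    (isCyclic_of_surjective _ (topEquiv.trans (Sylow.equiv Q P)).surjective)
  have hE : IsElementaryAbelian p (A.map (Q : Subgroup G).subtype) := ⟨by have := hA1.1; infer_instance, by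
    rintro _ ⟨a, ha, rfl⟩
    rw [← map_pow, hA1.2 a ha, map_one]⟩
  have hc : Nat.card (A.map (Q : Subgroup G).subtype) = p ^ 2 := by rw [card_subtype, hA2]
  have hn : u ∈ Nrm (A.map (Q : Subgroup G).subtype) := mem_normalizer_fintype (by
    rintro _ ⟨a, ha, rfl⟩
    exact ⟨_, hA.conj_mem a ha ⟨u, hQ (mem_zpowers u)⟩, rfl⟩)
  obtain ⟨e, he, heu⟩ : ∃ e ∈ A.map (Q : Subgroup G).subtype, e ∉ zpowers u := by
    by_contra h
    push Not at h
    obtain ⟨a, ha⟩ := (Subgroup.isCyclic_iff_exists_zpowers_eq_top _).1 (isCyclic_of_le h)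
    have h1 := orderOf_dvd_of_pow_eq_one (hE.2 a (ha ▸ mem_zpowers a))
    rw [← Nat.card_zpowers, ha, hc] at h1
    exact absurd (Nat.le_of_dvd hp.pos h1) (by have := hp.two_le; nlinarith)
  have hep := hE.2 e he
  have heo : orderOf e = p := orderOf_eq_prime hep fun h => heu (h ▸ one_mem _)
  have hc1 : Commute (u ^ p) e := by
    have := (Commute.self_pow (u * e) p).symm
    rw [estep hodd hE hc hu hn he] at this
    simpa using ((Commute.self_pow u p).symm.inv_right.mul_right this)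
  have c : ∀ j, Commute (u ^ p ^ (j + 1)) e := fun j => by rw [pow_succ', pow_mul]; exact hc1.pow_left _
  have cn : ∀ j, zpowers e ≤ Nrm (zpowers (u ^ p ^ (j + 1))) := fun j =>
    zpowers_le.2 (centralizer_le_normalizer _ (by rintro _ ⟨k, rfl⟩; exact ((c j).zpow_left k).eq))
  have hcard : ∀ i j, s + 2 = i + (j + 1) →
      Nat.card (zpowers (u ^ p ^ (j + 1)) ⊔ zpowers e : Subgroup G) = p ^ (i + 1) := fun i j h => by
    rw [card_sup_of_disjoint (cn j), Nat.card_zpowers,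
      Nat.card_zpowers, heo, ord_pow' (i := i) (m := 1) (by rw [hu, h, mul_one]), mul_one, pow_succ]
    have h1 := card_dvd_of_le (inf_le_right (a := zpowers (u ^ p ^ (j + 1))) (b := zpowers e))
    rw [Nat.card_zpowers, heo] at h1
    rcases (Nat.dvd_prime hp).1 h1 with h | h
    · exact card_eq_one.1 h
    · have := eq_of_le_of_card_eq inf_le_right (h.trans (heo.symm.trans (Nat.card_zpowers e).symm))
      exact (heu (zpowers_le.2 (pow_mem (mem_zpowers u) _) (inf_eq_right.1 this (mem_zpowers e)))).elim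
  have h5 : orderOf (u ^ p ^ (s + 1)) = p := by
    rw [ord_pow' (i := 1) (m := 1) (by rw [hu, mul_one, add_comm 1]), pow_one, mul_one]
  have h6 : ∀ j, ∀ a ∈ zpowers (u ^ p ^ (j + 1)), ∀ b ∈ zpowers e, (a * b) ^ p = a ^ p := by
    rintro j _ ⟨k, rfl⟩ _ ⟨l, rfl⟩
    rw [((c j).zpow_zpow k l).mul_pow, hE.2 _ (zpow_mem he l), mul_one]
  have h7 : ∀ x ∈ zpowers (u ^ p ^ (s + 1)) ⊔ zpowers e, x ^ p = 1 := fun x hx => by
    obtain ⟨a, ha, b, hb, rfl⟩ := (mem_sup_of_nrm (cn s)).1 hx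
    rw [h6 s a ha b hb, ← orderOf_dvd_iff_pow_eq_one, ← h5]
    exact orderOf_dvd_of_mem_zpowers ha
  refine key hodd hm (hcard (s + 1) 0 rfl) ⟨?_, h7⟩ (hcard 1 s (by omega))
    fun x => ⟨fun hx => ⟨sup_le_sup_right (zpowers_le.2 ?_) _ hx, h7 x hx⟩, fun ⟨hx, h⟩ => ?_⟩
  · rw [zpowers_eq_closure, zpowers_eq_closure, ← Subgroup.closure_union]
    refine isMulCommutative_closure ?_
    rintro a (rfl | rfl) b (rfl | rfl)
    exacts [rfl, (c s).eq, (c s).eq.symm, rfl]
  · rw [zero_add, pow_one, pow_succ', pow_mul]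
    exact pow_mem (mem_zpowers _) _
  · obtain ⟨a, ha, b, hb, rfl⟩ := (mem_sup_of_nrm (cn 0)).1 hx
    rw [h6 0 a ha b hb, ← orderOf_dvd_iff_pow_eq_one, ← h5] at h
    exact mul_mem_sup (H18.mem_zpowers_of_orderOf_dvd (K := zpowers u) inferInstance
      (zpowers_le.2 (pow_mem (mem_zpowers u) _) ha) (pow_mem (mem_zpowers u) _) h) hb

end Cfsg.Agent.S4003
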