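import Cfsg.Statements.S4008
import Cfsg.Agent.H11.FPRows
import Cfsg.Agent.H26.FPThm
import Cfsg.Agent.H89.OScott
import Cfsg.Agent.H25.SimpleSyl
import Cfsg.Agent.H17.Inv
import Cfsg.Agent.H14.Comp
import Cfsg.Agent.H42.OddOrder
import Cfsg.Agent.H98.Sylow
import Cfsg.Agent.H5.FrobCompl
import Cfsg.Agent.S4636

set_option autoImplicit false
set_option linter.unusedSectionVars false
open Cfsg

namespace Cfsg.Agent.S4008

open Subgroup H98

variable {X : Type*} [Group X] [Finite X] {r : ℕ}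

theorem no_comm (hr : r.Prime) (h2 : r ≠ 2) (hno : ∀ g : X, orderOf g ≠ 2 * r) {t x : X} (ht : orderOf t = 2)
    (hx : orderOf x = r) (c : Commute t x) : False :=
  hno (t * x) (by
    rw [c.orderOf_mul_eq_mul_orderOf_of_coprime (by
      rw [ht, hx]; exact (Nat.coprime_primes Nat.prime_two hr).2 h2.symm), ht, hx])

theorem exists_pow {p : ℕ} [Fact p.Prime] {P : Subgroup X} (hP : IsPGroup p P) {x : X} (hx : x ∈ P)
    (x1 : x ≠ 1) : ∃ y ∈ zpowers x, orderOf y = p := by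
  obtain ⟨k, hk⟩ := (hP.to_le (zpowers_le.2 hx)).exists_card_eq
  obtain ⟨y, hy⟩ := exists_prime_orderOf_dvd_card' (G := zpowers x) p (by
    rw [hk]
    refine dvd_pow_self _ fun e => x1 ?_
    rwa [e, pow_zero, card_eq_one, zpowers_eq_bot] at hk)
  exact ⟨y, y.2, by rwa [orderOf_coe]⟩

theorem comp_two (hF : fittingSubgroup X = ⊥) {L : Subgroup X} (hL : IsComponent L) : 2 ∣ Nat.card L :=
  even_iff_two_dvd.1 (Nat.not_odd_iff_even.1 fun h => H89.comp_not_solvable hF hL (H42.odd_order h))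

theorem caseA (hr : r.Prime) (h2 : r ≠ 2) (hno : ∀ g : X, orderOf g ≠ 2 * r) (hd : r ∣ Nat.card X)
    (hF : fittingSubgroup X = ⊥) {L L' : Subgroup X} (hL : IsComponent L) (hL' : IsComponent L')
    (hne : L ≠ L') : False := by
  haveI := Fact.mk hr
  obtain ⟨t, tL, ht⟩ := H17.exists_involution_of_even (comp_two hF hL)
  obtain ⟨t', tL', ht'⟩ := H17.exists_involution_of_even (comp_two hF hL')
  by_cases h : r ∣ Nat.card (layer X)
  · obtain ⟨x, hx⟩ := exists_prime_orderOf_dvd_card' r h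
    rw [← orderOf_coe] at hx
    obtain ⟨a, ha⟩ := H89.exists_pr hL x.2
    by_cases a1 : a = 1
    · exact no_comm hr h2 hno ht hx (show t * x = x * t by simpa [a1] using ha.2 t tL)
    have k : ∀ n : ℕ, H89.Pr L ((x : X) ^ n) (a ^ n) := fun n => by
      induction n with
      | zero => simpa using H89.pr_self L.one_mem
      | succ n ih => rw [pow_succ, pow_succ]; exact ih.mul ha
    have e := k r
    rw [← hx, pow_orderOf_eq_one, hx] at e
    exact no_comm hr h2 hno ht' (orderOf_eq_prime (e.unique hF hL (H89.pr_self L.one_mem)) a1)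
      (H89.comp_comm hL hL' hne ha.1 tL').symm
  obtain ⟨x, hx⟩ := exists_prime_orderOf_dvd_card' r hd
  have := H11.FP.s2965_of H26.FP.thm (zpowers x) (layer X) le_normalizer_of_normal
    (by rw [Nat.card_zpowers, hx]; exact (Nat.Prime.coprime_iff_not_dvd hr).2 h)
    (.inr (H17.odd_card_iff.2 fun s hs e => no_comm hr h2 hno e hx (hs.2 x (mem_zpowers x)).symm))
  exact H89.comp_not_solvable hF hL (Group.isSolvable_of_isSolvable_injective
    (inclusion_injective (H14.comp_le_layer hL)))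

theorem caseB (hF : fittingSubgroup X = ⊥) {L L' T : Subgroup X} (hL : IsComponent L) (hL' : IsComponent L')
    (hne : L ≠ L') (hT : IsSyl 2 T ⊤) {c : X} (cT : c ∈ T)
    (h : ∀ x ∈ T, ∀ y ∈ T, x ∈ zpowers c ∨ y ∈ zpowers c ∨ x * y ∈ zpowers c) : False := by
  obtain ⟨P, hP⟩ := exists_isSyl 2 L
  obtain ⟨P', hP'⟩ := exists_isSyl 2 L'
  have hc : P ≤ centralizer (P' : Set X) := fun a ha b hb =>
    (H89.comp_comm hL hL' hne (hP.le ha) (hP'.le hb)).symm
  obtain ⟨g, -, hg⟩ := hT.exists_cj_le (IsPGroup.to_sup_of_normal_right' hP.isPGroup hP'.isPGroup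
    (le_normalizer_of_le_centralizer hc)) le_top
  have k : ∀ {L P : Subgroup X}, IsComponent L → IsSyl 2 P L → cj g P ≤ T →
      ∃ a ∈ L, orderOf (g * a * g⁻¹) = 2 ∧ g * a * g⁻¹ ∈ zpowers c := fun {L P} hL hP hg => by
    obtain ⟨S, hS⟩ := hP.exists_sylow
    haveI := H89.comp_simple hF hL
    have nc : ¬ IsCyclic P := fun j => H25.not_isCyclic_sylow_two (H89.comp_not_comm hF hL) (comp_two hF hL) S
      (by rw [hS]; exact isCyclic_of_surjective _ (subgroupOfEquivOfLe hP.le).symm.surjective)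
    have k : ∀ a ∈ P, a ≠ 1 → g * a * g⁻¹ ∈ zpowers c →
        ∃ a ∈ L, orderOf (g * a * g⁻¹) = 2 ∧ g * a * g⁻¹ ∈ zpowers c := fun a ha a1 hc => by
      obtain ⟨_, ⟨n, rfl⟩, e⟩ := exists_pow hP.isPGroup ha a1
      refine ⟨_, hP.le (zpow_mem ha n), by rw [← e]; exact H17.orderOf_conj' _ _, ?_⟩
      rw [← conj_zpow]; exact zpow_mem hc n
    obtain ⟨x, xP, x1⟩ : ∃ x ∈ P, x ≠ 1 := by
      by_contra! j
      exact nc (by rw [(eq_bot_iff_forall _).2 j]; infer_instance)
    obtain ⟨y, yP, yx⟩ : ∃ y ∈ P, y ∉ zpowers x := by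
      by_contra! j
      exact nc (by rw [le_antisymm j (zpowers_le.2 xP)]; infer_instance)
    rcases h _ (hg (conj_mem_cj xP)) _ (hg (conj_mem_cj yP)) with e | e | e
    · exact k x xP x1 e
    · exact k y yP (fun j => yx (j ▸ one_mem _)) e
    · rw [conj_mul] at e
      exact k _ (mul_mem xP yP) (fun j => yx (eq_inv_of_mul_eq_one_right j ▸ inv_mem (mem_zpowers x))) e
  obtain ⟨a, aL, a2, ac⟩ := k hL hP ((cj_mono g le_sup_left).trans hg)
  obtain ⟨b, bL, b2, bc⟩ := k hL' hP' ((cj_mono g le_sup_right).trans hg)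
  have e := Cfsg.Agent.S4636.eq_of_card_eq (zpowers c) inferInstance _ _ (zpowers_le.2 ac) (zpowers_le.2 bc)
    (by rw [Nat.card_zpowers, Nat.card_zpowers, a2, b2])
  have : g * a * g⁻¹ ∈ cj g L' := zpowers_le.2 (conj_mem_cj bL) (e ▸ mem_zpowers _)
  rw [H89.comp_disj hF hL hL' hne aL (conj_mem_cj_iff.1 this)] at a2
  simp at a2

theorem quat {T : Subgroup X} (h : IsCyclic T ∨ ∃ n : ℕ, Nonempty (T ≃* QuaternionGroup n)) :
    ∃ c ∈ T, ∀ x ∈ T, ∀ y ∈ T, x ∈ zpowers c ∨ y ∈ zpowers c ∨ x * y ∈ zpowers c := by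
  rcases h with h | ⟨n, ⟨e⟩⟩
  · obtain ⟨c, hc⟩ := IsCyclic.exists_generator (α := T)
    refine ⟨c, c.2, fun x hx _ _ => .inl ?_⟩
    obtain ⟨n, e⟩ := hc ⟨x, hx⟩
    exact ⟨n, congrArg Subtype.val e⟩
  · have k : ∀ (x : T) i, e x = .a i → (x : X) ∈ zpowers (e.symm (.a 1) : X) := fun x i hx => by
      obtain ⟨m, rfl⟩ := ZMod.intCast_surjective i
      refine ⟨m, ?_⟩
      change (e.symm (.a 1) : X) ^ m = x
      rw [← coe_zpow, ← map_zpow, ← e.symm_apply_apply x, hx]
      congr 2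
      clear hx
      induction m using Int.induction_on with
      | zero => rw [zpow_zero, Int.cast_zero]; rfl
      | succ m ih => rw [zpow_add_one, ih]; simp
      | pred m ih => rw [zpow_sub_one, ih, mul_inv_eq_iff_eq_mul]; simp
    refine ⟨_, (e.symm (.a 1)).2, fun x hx y hy => ?_⟩
    rcases e1 : e ⟨x, hx⟩ with i | i
    · exact .inl (k _ i e1)
    rcases e2 : e ⟨y, hy⟩ with j | j
    · exact .inr (.inl (k _ j e2))
    · exact .inr (.inr (k (⟨x, hx⟩ * ⟨y, hy⟩) _ (by rw [map_mul, e1, e2]; rfl)))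

theorem result {G : Type*} [Group G] [Finite G] (hns : ¬ Group.IsSolvable G) (heven : Even (Nat.card G))
    (r : ℕ) (hr : r.Prime) (hodd : r ≠ 2) (hrG : r ∣ Nat.card G) (hno : ∀ g : G, orderOf g ≠ 2 * r)
    (R : Subgroup G) [R.Normal] (hRs : Group.IsSolvable ↥R) (hRmax : ∀ N : Subgroup G, N.Normal → Group.IsSolvable ↥N → N ≤ R) :
    ∃ S : Subgroup (G ⧸ R), S.Normal ∧ IsSimpleGroup ↥S ∧ ¬ IsMulCommutative ↥S ∧
      Subgroup.centralizer (S : Set (G ⧸ R)) = ⊥ := by
  haveI := Fact.mk hr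
  have hs := QuotientGroup.mk'_surjective R
  have hk : ∀ N : Subgroup (G ⧸ R), Group.IsSolvable N → Group.IsSolvable (N.comap (QuotientGroup.mk' R)) :=
    fun N hN => Group.isSolvable_of_ker_le_range (inclusion (H := R) fun x hx => by
      rw [mem_comap, QuotientGroup.mk'_apply, (QuotientGroup.eq_one_iff x).2 hx]; exact one_mem _)
      ((QuotientGroup.mk' R).subgroupComap N) fun x hx => ⟨⟨x, (QuotientGroup.eq_one_iff _).1
        (congrArg Subtype.val hx)⟩, rfl⟩
  have hF : fittingSubgroup (G ⧸ R) = ⊥ := H89.fitting_eq_bot_of fun N n c => by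
    have := hRmax _ (n.comap (QuotientGroup.mk' R)) (hk N (Group.isSolvable_of_comm c.is_comm.comm))
    rw [← map_comap_eq_self_of_surjective hs N, Subgroup.map_eq_bot_iff, QuotientGroup.ker_mk']
    exact this
  haveI : Nontrivial (G ⧸ R) := by
    by_contra h
    rw [not_nontrivial_iff_subsingleton] at h
    exact hns (Group.isSolvable_of_ker_le_range R.subtype (QuotientGroup.mk' R) (by simp))
  by_contra hc
  obtain ⟨L, L', hL, hL', hne⟩ := H89.exists_two_comp hF hc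
  by_cases h : r ∣ Nat.card R
  · obtain ⟨P, hP⟩ := exists_isSyl r R
    obtain ⟨T, hT⟩ := exists_isSyl 2 (normalizer (P : Set G))
    obtain ⟨c, cT, e⟩ := quat (T := T) ((H5.isCyclic_or_quaternion_of_fpf (mt hP.eq_bot_iff.1 (not_not.2 h))
      hT.le (fun x hx x1 => eq_bot_iff.2 fun y hy => by_contra fun y1 => by
        obtain ⟨_, ⟨m, rfl⟩, e⟩ := exists_pow hT.isPGroup hx x1
        obtain ⟨_, ⟨n, rfl⟩, e'⟩ := exists_pow hP.isPGroup hy.1 y1
        exact no_comm hr hodd hno e e' (Commute.zpow_zpow (mem_centralizer_singleton_iff.1 hy.2).symm m n))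
      hT.isPGroup).imp_right fun ⟨_, _, j⟩ => ⟨_, j⟩)
    have h1 := hT.map (QuotientGroup.mk' R)
    have h2 : (normalizer (P : Set G)).map (QuotientGroup.mk' R) = ⊤ := eq_top_iff.2 fun x _ => by
      obtain ⟨g, rfl⟩ := hs x
      obtain ⟨a, ha, n, hn, rfl⟩ := hP.frattini_mem (g := g) (by rw [normalizer_eq_top]; trivial)
      exact ⟨a, ha, by rw [map_mul, QuotientGroup.mk'_apply R n, (QuotientGroup.eq_one_iff n).2 hn, mul_one]⟩
    rw [h2] at h1
    refine caseB hF hL hL' hne h1 (mem_map_of_mem _ cT) ?_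
    rintro _ ⟨x, hx, rfl⟩ _ ⟨y, hy, rfl⟩
    rw [← map_mul, ← MonoidHom.map_zpowers]
    exact (e x hx y hy).imp (mem_map_of_mem _) (Or.imp (mem_map_of_mem _) (mem_map_of_mem _))
  · refine caseA hr hodd (fun x hx => ?_) ?_ hF hL hL' hne
    · obtain ⟨g, rfl⟩ := hs x
      exact hno _ (orderOf_pow_orderOf_div (orderOf_pos g).ne' (hx ▸ orderOf_map_dvd _ g))
    · rw [card_eq_card_quotient_mul_card_subgroup R] at hrG
      exact (hr.dvd_mul.1 hrG).resolve_right h

end Cfsg.Agent.S4008
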