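import Cfsg.Statements.S4009
import Cfsg.Agent.Base
import Cfsg.Agent.H24.Comm
import Cfsg.Agent.H2.Fitting

set_option autoImplicit false
open Cfsg

namespace Cfsg.Agent.S4009

open Subgroup
open scoped commutatorElement

section
variable {G : Type*} [Group G]

/-- iterated commutators with the whole group -/
def it (H : Subgroup G) : ℕ → Subgroup G
  | 0 => H
  | j + 1 => ⁅it H j, ⊤⁆

instance it_normal (H : Subgroup G) [h : H.Normal] : ∀ j, (it H j).Normal
  | 0 => h
  | j + 1 => by have := it_normal H j; exact commutator_normal _ _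

theorem it_comm (H : Subgroup G) [H.Normal] (i j : ℕ) :
    ⁅it H i, (⊤ : Subgroup G).lowerCentralSeries j⁆ ≤ it H (i + j + 1) :=
  H24.commutator_lowerCentralSeries_le (it H) (it_normal H) ⊤ (fun _ => le_rfl) i j

theorem it_anti (H : Subgroup G) [H.Normal] : Antitone (it H) :=
  antitone_nat_of_succ_le fun j => commutator_le_left _ _

theorem lcs_comm (i j : ℕ) : ⁅(⊤ : Subgroup G).lowerCentralSeries i,
    (⊤ : Subgroup G).lowerCentralSeries j⁆ ≤ (⊤ : Subgroup G).lowerCentralSeries (i + j + 1) :=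
  H24.commutator_lowerCentralSeries_le _ (fun _ => inferInstance) ⊤ (fun _ => le_rfl) i j

theorem comm_le {H Z M : Subgroup G} [M.Normal] {a b : G} (ha : a ∈ H) (hb : b ∈ H)
    (h : H ≤ zpowers a ⊔ (zpowers b ⊔ Z)) (hab : ⁅a, b⁆ ∈ M) (hZ : ⁅Z, H⁆ ≤ M) : ⁅H, H⁆ ≤ M := by
  have c : ∀ x y : G, ⁅x, y⁆ ∈ M ↔ Commute (QuotientGroup.mk' M x) (QuotientGroup.mk' M y) := by
    intro x y
    rw [← commutatorElement_eq_one_iff_commute, ← map_commutatorElement, QuotientGroup.mk'_apply,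
      QuotientGroup.eq_one_iff]
  have key : ∀ y ∈ H, ⁅a, y⁆ ∈ M → ⁅b, y⁆ ∈ M → ∀ x ∈ H, ⁅x, y⁆ ∈ M := by
    intro y hy h1 h2 x hx
    have : H ≤ (centralizer {QuotientGroup.mk' M y}).comap (QuotientGroup.mk' M) := by
      refine h.trans (sup_le (zpowers_le.2 ?_) (sup_le (zpowers_le.2 ?_) fun z hz => ?_))
      · exact mem_centralizer_singleton_iff.2 ((c _ _).1 h1)
      · exact mem_centralizer_singleton_iff.2 ((c _ _).1 h2)
      · exact mem_centralizer_singleton_iff.2 ((c _ _).1 (hZ (commutator_mem_commutator hz hy)))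
    exact (c _ _).2 (mem_centralizer_singleton_iff.1 (this hx))
  have s : ∀ x y : G, ⁅x, y⁆ ∈ M → ⁅y, x⁆ ∈ M := fun x y h => (c _ _).2 ((c _ _).1 h).symm
  have r : ∀ x : G, ⁅x, x⁆ ∈ M := fun x => (c _ _).2 (Commute.refl _)
  rw [commutator_le]
  intro x hx y hy
  exact key y hy (s _ _ (key a ha (r a) (s _ _ hab) y hy)) (s _ _ (key b hb hab (r b) y hy)) x hx

variable [Finite G] {p : ℕ} [hp : Fact p.Prime]

/-- the logarithm of the order -/
noncomputable def v (p : ℕ) (K : Subgroup G) : ℕ := Nat.log p (Nat.card K)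

theorem card_v (hG : IsPGroup p G) (K : Subgroup G) : Nat.card K = p ^ v p K := by
  obtain ⟨k, hk⟩ := IsPGroup.iff_card.1 (hG.to_subgroup K)
  rw [v, hk, Nat.log_pow hp.out.one_lt]

theorem v_lt (hG : IsPGroup p G) {A B : Subgroup G} (h : A < B) : v p A + 1 ≤ v p B := by
  have h1 : Nat.card A < Nat.card B := lt_of_le_of_ne (card_le_of_le h.le)
    (fun e => h.ne (eq_of_le_of_card_ge h.le e.ge))
  rw [card_v hG, card_v hG B] at h1
  exact (Nat.pow_lt_pow_iff_right hp.out.one_lt).1 h1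

theorem eq_of_v (hG : IsPGroup p G) {A B : Subgroup G} (h : A ≤ B) (h' : v p B ≤ v p A) : A = B := by
  by_contra hne
  have := v_lt hG (lt_of_le_of_ne h hne)
  omega

theorem exists_gen (hG : IsPGroup p G) {B H : Subgroup G} (h : B ≤ H) (k : ℕ)
    (hv : v p H ≤ v p B + (k + 1)) : ∃ a ∈ H, v p H ≤ v p (zpowers a ⊔ B) + k := by
  by_cases e : B = H
  · refine ⟨1, one_mem _, ?_⟩
    rw [zpowers_one_eq_bot, bot_sup_eq, e]; omega
  obtain ⟨a, ha, haB⟩ := SetLike.exists_of_lt (lt_of_le_of_ne h e)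
  have := v_lt hG (A := B) (B := zpowers a ⊔ B) (lt_of_le_of_ne le_sup_right
    (fun e => haB (e ▸ mem_sup_left (mem_zpowers a))))
  exact ⟨a, ha, by omega⟩

theorem it_chain (hG : IsPGroup p G) (H : Subgroup G) [H.Normal] (i j : ℕ)
    (h : it H (i + j) ≠ ⊥) : v p (it H (i + j)) + j ≤ v p (it H i) := by
  induction j with
  | zero => exact le_rfl
  | succ j ih =>
    have h1 : it H (i + j) ≠ ⊥ := fun e => h (le_bot_iff.1 (e ▸ it_anti H (by omega)))
    have : Group.IsNilpotent G := hG.isNilpotent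
    have h2 := v_lt hG (H2.commutator_lt_of_isNilpotent (K := ⊤) le_top
      (by rw [normalizer_eq_top]) h1)
    have h3 := ih h1
    change v p ⁅it H (i + j), ⊤⁆ + (j + 1) ≤ _
    omega

theorem small (hG : IsPGroup p G) {H Z : Subgroup G} [H.Normal] {m : ℕ}
    (hH : H ≤ (⊤ : Subgroup G).lowerCentralSeries m) (hZH : Z ≤ H) (hv : v p H ≤ v p Z + 2)
    (hZ : ⁅Z, H⁆ ≤ ⁅⁅H, H⁆, ⊤⁆) :
    ⁅⁅H, H⁆, ⁅H, H⁆⁆ ≤ (⊤ : Subgroup G).lowerCentralSeries (4 * m + 4) := by
  obtain ⟨b, hb, h1⟩ := exists_gen hG hZH 1 hv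
  obtain ⟨a, ha, h2⟩ := exists_gen hG (sup_le (zpowers_le.2 hb) hZH) 0 h1
  have h3 := eq_of_v hG (sup_le (zpowers_le.2 ha) (sup_le (zpowers_le.2 hb) hZH)) h2
  have hc : ⁅a, b⁆ ∈ ⁅H, H⁆ := commutator_mem_commutator ha hb
  have hN : ⁅⁅H, H⁆, ⊤⁆ ≤ ⁅H, H⁆ := commutator_le_left _ _
  have hM : (zpowers ⁅a, b⁆ ⊔ ⁅⁅H, H⁆, ⊤⁆).Normal := ⟨fun x hx g => by
    have h4 := commutator_mem_commutator ((sup_le (zpowers_le.2 hc) hN) (inv_mem hx)) (mem_top g)
    have h5 := mul_mem hx (mem_sup_right (S := zpowers ⁅a, b⁆) h4)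
    convert h5 using 1
    rw [commutatorElement_def]; group⟩
  have h4 := comm_le ha hb h3.ge (mem_sup_left (mem_zpowers _)) (hZ.trans le_sup_right)
  have h5 := comm_le (M := ⁅⁅⁅H, H⁆, ⊤⁆, ⁅H, H⁆⁆) hc hc (h4.trans le_sup_right)
    (by rw [commutatorElement_self]; exact one_mem _) le_rfl
  have h6 : ⁅H, H⁆ ≤ (⊤ : Subgroup G).lowerCentralSeries (m + m + 1) :=
    (commutator_mono hH hH).trans (lcs_comm m m)
  refine h5.trans ((commutator_mono (commutator_mono h6 le_rfl) h6).trans ?_)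
  have := lcs_comm (G := G) (m + m + 1 + 1) (m + m + 1)
  rwa [show m + m + 1 + 1 + (m + m + 1) + 1 = 4 * m + 4 by ring] at this

theorem hall_mann (hG : IsPGroup p G) {H : Subgroup G} [H.Normal] {m : ℕ}
    (hH : H ≤ (⊤ : Subgroup G).lowerCentralSeries m) (hne : ⁅H, H⁆ ≠ ⊥) :
    v p ⁅H, H⁆ + m + 2 ≤ v p H ∧ (v p H ≤ v p ⁅H, H⁆ + m + 2 →
      ⁅⁅H, H⁆, ⁅H, H⁆⁆ ≤ (⊤ : Subgroup G).lowerCentralSeries (4 * m + 4)) := by
  have c : ∀ i, ⁅it H i, H⁆ ≤ it H (i + m + 1) := fun i =>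
    (commutator_mono le_rfl hH).trans (it_comm H i m)
  have vle : ∀ {A B : Subgroup G}, A ≤ B → v p A ≤ v p B := fun {A B} h => by
    rcases h.eq_or_lt with e | e
    · rw [e]
    · have := v_lt hG e; omega
  by_cases hA : v p (it H 1) + 2 ≤ v p H
  · have h1 : ⁅H, H⁆ ≤ it H (1 + m) := by
      have := c 0
      rwa [show 0 + m + 1 = 1 + m by ring] at this
    have h2 := it_chain hG H 1 m (fun e => hne (le_bot_iff.1 (e ▸ h1)))
    have h3 := vle h1
    refine ⟨by omega, fun h => small hG hH (it_anti H (Nat.zero_le 1)) (by omega) ?_⟩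
    rw [eq_of_v hG h1 (by omega)]
    exact c 1
  · obtain ⟨a, ha, h2⟩ := exists_gen hG (it_anti H (Nat.zero_le 1)) 0 (by
      change v p H ≤ _; omega)
    have h3 := eq_of_v hG (sup_le (zpowers_le.2 ha) (it_anti H (Nat.zero_le 1))) h2
    have h1 : ⁅H, H⁆ ≤ it H (2 + m) := by
      have := comm_le (H := H) (M := it H (1 + m + 1)) ha ha (h3.ge.trans le_sup_right)
        (by rw [commutatorElement_self]; exact one_mem _) (c 1)
      rwa [show 1 + m + 1 = 2 + m by ring] at this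
    have h4 : it H (2 + m) ≠ ⊥ := fun e => hne (le_bot_iff.1 (e ▸ h1))
    have h5 := it_chain hG H 2 m h4
    have h6 : v p (it H 2) + 2 ≤ v p H := it_chain hG H 0 2
      (fun e => h4 (le_bot_iff.1 (e ▸ it_anti H (by omega))))
    have h7 := vle h1
    refine ⟨by omega, fun h => small hG hH (it_anti H (Nat.zero_le 2)) (by omega) ?_⟩
    rw [eq_of_v hG h1 (by omega)]
    exact c 2

end

/-- Let P be a finite p-group of order p^n whose derived length is exactly k + 1 (the k-th derived subgroup is nontrivial and the (k+1)-st is trivial). Then n ≥ 2^k + 2k − 2. -/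
theorem result {P : Type*} [Group P] [Finite P] (p : ℕ) [Fact p.Prime] (n k : ℕ) (hcard : Nat.card P = p ^ n) (hk : derivedSeries P k ≠ ⊥) (hk' : derivedSeries P (k + 1) = ⊥) : 2 ^ k + 2 * k ≤ n + 2 := by
  have hp : p.Prime := Fact.out
  have hG : IsPGroup p P := IsPGroup.of_card hcard
  have h0 : ∀ i, derivedSeries P i ≤ (⊤ : Subgroup P).lowerCentralSeries (2 ^ i - 1) := by
    intro i
    induction i with
    | zero => exact le_top
    | succ i ih =>
      have := (commutator_mono ih ih).trans (lcs_comm _ _)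
      have e : 2 ^ i - 1 + (2 ^ i - 1) + 1 = 2 ^ (i + 1) - 1 := by
        have : 0 < 2 ^ i := by positivity
        omega
      rwa [e] at this
  have key : ∀ i, i ≤ k → v p (derivedSeries P i) + 2 ^ i + 2 * i ≤ n + 1 ∨
      (v p (derivedSeries P i) + 2 ^ i + 2 * i ≤ n + 2 ∧
        derivedSeries P (i + 1) ≤ (⊤ : Subgroup P).lowerCentralSeries (2 ^ (i + 1))) ∨
      (v p (derivedSeries P i) + 2 ^ i + 2 * i ≤ n + 3 ∧
        derivedSeries P i ≤ (⊤ : Subgroup P).lowerCentralSeries (2 ^ i)) := by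
    intro i
    induction i with
    | zero =>
      intro _
      left
      rw [derivedSeries_zero, v, card_top, hcard, Nat.log_pow hp.one_lt]
      simp
    | succ i ih =>
      intro hi
      have hne : ⁅derivedSeries P i, derivedSeries P i⁆ ≠ ⊥ := fun e =>
        hk (le_bot_iff.1 (e ▸ derivedSeries_antitone P hi))
      have hpos : 0 < 2 ^ i := by positivity
      have e1 : derivedSeries P (i + 1) = ⁅derivedSeries P i, derivedSeries P i⁆ := rfl
      have e2 : 2 ^ (i + 1) = 2 * 2 ^ i := by ring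
      obtain ⟨a1, a2⟩ := hall_mann hG (h0 i) hne
      rw [← e1] at a1 a2
      rcases ih (by omega) with h | h | h
      · by_cases hs : v p (derivedSeries P i) ≤ v p (derivedSeries P (i + 1)) + (2 ^ i - 1) + 2
        · refine Or.inr (Or.inl ⟨by omega, ?_⟩)
          have := a2 hs
          rwa [show 4 * (2 ^ i - 1) + 4 = 2 ^ (i + 1 + 1) by omega] at this
        · left; omega
      · exact Or.inr (Or.inr ⟨by omega, h.2⟩)
      · obtain ⟨b1, -⟩ := hall_mann hG h.2 hne
        rw [← e1] at b1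
        refine Or.inr (Or.inr ⟨by omega, ?_⟩)
        exact ((commutator_mono h.2 h.2).trans (lcs_comm _ _)).trans
          (Subgroup.lowerCentralSeries_antitone _ (by omega))
  have h1 := v_lt hG (bot_lt_iff_ne_bot.2 hk)
  have := key k le_rfl
  omega

end Cfsg.Agent.S4009
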