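import Cfsg.Statements.S4012
import Cfsg.Agent.H52.NCCos

set_option autoImplicit false
open Cfsg

namespace Cfsg.Agent.S4012

/-- Let N < M be normal subgroups of the finite group G and g ∈ M ∖ N whose conjugacy class is exactly M ∖ N. Then for some prime p the element g has p-power order (so every element of M ∖ N does), and M is solvable and has a normal p-complement (a normal subgroup of M of order prime to p and p-power index in M). -/
theorem result {G : Type*} [Group G] [Finite G] (N M : Subgroup G) [N.Normal] [M.Normal] (hNM : N < M) (g : G) (hgM : g ∈ M) (hgN : g ∉ N) (hcl : {h : G | IsConj g h} = (M : Set G) \ (N : Set G)) : ∃ p : ℕ, p.Prime ∧ (∃ k : ℕ, orderOf g = p ^ k) ∧ Group.IsSolvable ↥M ∧ ∃ K : Subgroup ↥M, K.Normal ∧ (Nat.card K).Coprime p ∧ ∃ k : ℕ, K.index = p ^ k := by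
  have cl : ∀ x ∈ M, x ∉ N → IsConj g x := fun x h1 h2 => (Set.ext_iff.1 hcl x).2 ⟨h1, h2⟩
  have h : H52.NC.Co N g := fun n hn => cl _ (M.mul_mem (hNM.le hn) hgM)
    fun k => hgN ((N.mul_mem_cancel_left hn).1 k)
  have sN := h.solvable
  let π := QuotientGroup.mk' N
  have hπ : ∀ x, π x = 1 ↔ x ∈ N := QuotientGroup.eq_one_iff
  obtain ⟨p, hp, hd⟩ := Nat.exists_prime_and_dvd (mt orderOf_eq_one_iff.1 (mt (hπ g).1 hgN))
  have o := orderOf_pow_orderOf_div (orderOf_pos (π g)).ne' hd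
  rw [← map_pow] at o
  obtain ⟨x, hx, e, k, hk⟩ := H26.FP.exists_lift_pow (K := M) π hp
    (Subgroup.mem_map_of_mem π (M.pow_mem hgM (orderOf (π g) / p)))
    ⟨1, by rw [pow_one]; exact orderOf_dvd_iff_pow_eq_one.1 o.dvd⟩
  have pw : ∀ y ∈ M, y ∉ N → y ^ p ^ k = 1 := fun y h1 h2 => by
    obtain ⟨c, rfl⟩ := isConj_iff.1 ((cl x hx fun m => hp.one_lt.ne (by
      rw [← o, ← e, (hπ x).2 m, orderOf_one])).symm.trans (cl y h1 h2))
    rw [conj_pow, hk, mul_one, mul_inv_cancel]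
  have := Fact.mk hp
  have pq : IsPGroup p (M ⧸ N.subgroupOf M) := fun y => by
    obtain ⟨y, rfl⟩ := QuotientGroup.mk_surjective y
    by_cases m : y.1 ∈ N
    · exact ⟨0, by rw [pow_zero, pow_one]; exact (QuotientGroup.eq_one_iff y).2 m⟩
    · exact ⟨k, by rw [← QuotientGroup.mk_pow, show y ^ p ^ k = 1 from Subtype.ext (pw y y.2 m),
        QuotientGroup.mk_one]⟩
  obtain ⟨Q, hQ⟩ := H4.exists_isPiHallOf {p}ᶜ N
  have := h.hall hp (pw g hgM hgN) hQ
  refine ⟨p, hp, ((Nat.dvd_prime_pow hp).1 (orderOf_dvd_of_pow_eq_one (pw g hgM hgN))).imp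
    fun _ e => e.2, ?_, Q.subgroupOf M, inferInstance, ?_, ?_⟩
  · have := H1.isSolvable_of_isPGroup pq
    exact Group.isSolvable_of_ker_le_range (Subgroup.inclusion hNM.le) 
      (QuotientGroup.mk' (N.subgroupOf M)) (by
      rw [QuotientGroup.ker_mk', Subgroup.inclusion_range])
  · rw [Nat.card_congr (Subgroup.subgroupOfEquivOfLe (hQ.1.trans hNM.le)).toEquiv]
    exact (hp.coprime_iff_not_dvd.2 fun d => hQ.2.1 p hp d rfl).symm
  · obtain ⟨j, hj⟩ := IsPGroup.iff_card.1 pq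
    refine ⟨_, Nat.eq_prime_pow_of_unique_prime_dvd Subgroup.index_ne_zero_of_finite
      fun {r} hr d => ?_⟩
    rw [← Subgroup.relIndex, ← Subgroup.relIndex_mul_relIndex Q N M hQ.1 hNM.le] at d
    rcases (Nat.Prime.dvd_mul hr).1 d with d | d
    · exact not_not.1 fun e => hQ.2.2 r hr e d
    · exact (Nat.prime_dvd_prime_iff_eq hr hp).1 (hr.dvd_of_dvd_pow (d.trans (dvd_of_eq hj)))

end Cfsg.Agent.S4012
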