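import Cfsg.Statements.S4016
import Cfsg.Agent.S3188
import Cfsg.Agent.H2.Misc1
import Cfsg.Agent.H61.PSL2
import Cfsg.Agent.H2.PrimeCore
import Cfsg.Agent.H18.PiCore

set_option autoImplicit false
open Cfsg

namespace Cfsg.Agent.S4016

universe u

/-- All subgroups of order prime to `p` are abelian. -/
def Hy (p : ℕ) (G : Type*) [Group G] : Prop :=
  ∀ H : Subgroup G, ¬ p ∣ Nat.card H → IsMulCommutative H

theorem Hy.inj {p : ℕ} {G H : Type*} [Group G] [Group H] (h : Hy p G) (f : H →* G)
    (hf : Function.Injective f) : Hy p H := by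
  intro K hK
  have := h (K.map f) (by rwa [Subgroup.card_map_of_injective hf])
  refine ⟨⟨fun a b => Subtype.ext (hf ?_)⟩⟩
  have := this.is_comm.comm ⟨f a, a, a.2, rfl⟩ ⟨f b, b, b.2, rfl⟩
  simpa using congrArg Subtype.val this

theorem lift {p : ℕ} [hp : Fact p.Prime] {H : Type*} [Group H] (hH : ¬ p ∣ Nat.card H) (n : ℕ) :
    ∀ (G : Type u) [Group G] [Finite G], Nat.card G = n → ∀ f : G →* H, Function.Surjective f →
      ∃ L : Subgroup G, ¬ p ∣ Nat.card L ∧ ∀ h, ∃ l ∈ L, f l = h := by
  induction n using Nat.strong_induction_on with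
  | _ n ih =>
  intro G _ _ hn f hf
  obtain ⟨Q⟩ : Nonempty (Sylow p G) := inferInstance
  have hQ : (Q : Subgroup G) ≤ f.ker := by
    intro x hx
    obtain ⟨k, hk⟩ := Q.isPGroup' ⟨x, hx⟩
    have h1 : x ^ p ^ k = 1 := congrArg Subtype.val hk
    have h2 : orderOf (f x) ∣ p ^ k := orderOf_dvd_of_pow_eq_one (by rw [← map_pow, h1, map_one])
    have h3 : orderOf (f x) ∣ Nat.card H := orderOf_dvd_natCard _
    have h4 : Nat.Coprime (p ^ k) (Nat.card H) :=
      Nat.Coprime.pow_left _ ((Nat.Prime.coprime_iff_not_dvd hp.out).2 hH)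
    exact orderOf_eq_one_iff.1 (Nat.eq_one_of_dvd_coprimes h4 h2 h3)
  by_cases hN : (Q : Subgroup G).Normal
  · obtain ⟨L, hL⟩ := Subgroup.exists_right_complement'_of_coprime (N := (Q : Subgroup G))
      Q.card_coprime_index
    refine ⟨L, ?_, fun h => ?_⟩
    · rw [← hL.symm.index_eq_card]
      exact Q.not_dvd_index
    · obtain ⟨g, rfl⟩ := hf h
      obtain ⟨⟨a, b⟩, hab⟩ := hL.2 g
      refine ⟨b, b.2, ?_⟩
      have : f a = 1 := hQ a.2
      rw [← hab]
      simp [this]
  · set N := Subgroup.normalizer ((Q : Subgroup G) : Set G) with hNdef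
    have hNt : N ≠ ⊤ := fun h => hN (Subgroup.normalizer_eq_top_iff.1 h)
    have hfr : N ⊔ f.ker = ⊤ := Sylow.normalizer_sup_eq_top' Q hQ
    have hs : Function.Surjective (f.comp N.subtype) := by
      intro h
      obtain ⟨g, rfl⟩ := hf h
      have : g ∈ N ⊔ f.ker := hfr ▸ Subgroup.mem_top g
      rw [← SetLike.mem_coe, Subgroup.mul_normal] at this
      obtain ⟨a, ha, b, hb, rfl⟩ := this
      refine ⟨⟨a, ha⟩, ?_⟩
      have : f b = 1 := hb
      simp [this]
    have hlt : Nat.card N < n := by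
      rw [← hn]
      exact Finite.card_subtype_lt (Classical.choose_spec (by
        by_contra hc
        push Not at hc
        exact hNt (eq_top_iff.2 fun x _ => hc x) : ∃ x, ¬ x ∈ N))
    obtain ⟨L, h1, h2⟩ := ih _ hlt N rfl _ hs
    refine ⟨L.map N.subtype, by rwa [Subgroup.card_map_of_injective N.subtype_injective],
      fun h => ?_⟩
    obtain ⟨l, hl, rfl⟩ := h2 h
    exact ⟨l, ⟨l, hl, rfl⟩, rfl⟩

theorem Hy.surj {p : ℕ} [Fact p.Prime] {G H : Type*} [Group G] [Finite G] [Group H] (h : Hy p G)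
    (f : G →* H) (hf : Function.Surjective f) : Hy p H := by
  intro K hK
  have hs : Function.Surjective (f.subgroupComap K) := by
    rintro ⟨k, hk⟩
    obtain ⟨g, rfl⟩ := hf k
    exact ⟨⟨g, hk⟩, rfl⟩
  obtain ⟨L, h1, h2⟩ := lift hK _ (K.comap f) rfl _ hs
  have := (h.inj _ (K.comap f).subtype_injective) L h1
  refine ⟨⟨fun a b => ?_⟩⟩
  obtain ⟨x, hx, rfl⟩ := h2 a
  obtain ⟨y, hy, rfl⟩ := h2 b
  rw [← map_mul, ← map_mul]
  exact congrArg _ (congrArg Subtype.val (this.is_comm.comm ⟨x, hx⟩ ⟨y, hy⟩))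

theorem main_not {p r : ℕ} (hp : p.Prime) (h2 : p ≠ 2) {G X : Type*} [Group G] [Finite G]
    [MulAction G X] {h : H61.Hur r G X} {x y : X} {q d n : ℕ} (m : H61.Main h x y q d n)
    (hq : 4 ≤ q) : ¬ Hy p G := by
  intro H
  have hd : 2 ≤ d := by rcases m.params with h | h <;> omega
  have hn : 3 ≤ n := by rcases m.params with h | h <;> omega
  by_cases h1 : p ∣ n
  · have h3 : ¬ p ∣ q * d := by
      intro h3
      have e1 : p ∣ q + 1 := by
        rcases m.params with h | h
        · exact h.2 ▸ h1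
        · exact h.2 ▸ h1.mul_left 2
      rcases (Nat.Prime.dvd_mul hp).1 h3 with h4 | h4
      · exact hp.one_lt.ne' (Nat.dvd_one.1 ((Nat.dvd_add_right h4).1 e1))
      · have e2 : p ∣ 2 := by
          rcases m.params with h | h
          · rw [← h.1, add_assoc] at e1
            exact (Nat.dvd_add_right h4).1 e1
          · rw [← h.1, add_assoc] at e1
            exact (Nat.dvd_add_right (h4.mul_left 2)).1 e1
        exact h2 ((Nat.prime_dvd_prime_iff_eq hp Nat.prime_two).1 e2)
    have hc := H (MulAction.stabilizer G x) (by rwa [m.card_stab])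
    obtain ⟨⟨u, hu⟩, hu1⟩ := Subgroup.ne_bot_iff_exists_ne_one.1
      (m.Q_ne_bot (MulAction.mem_orbit_self x))
    have hu1' : u ≠ 1 := fun h => hu1 (Subtype.ext h)
    have hle : MulAction.stabilizer G x ≤ h.Q x := by
      rw [← h.centralizer_eq_Q hu hu1']
      intro g hg
      rw [Subgroup.mem_centralizer_singleton_iff]
      exact congrArg Subtype.val (hc.is_comm.comm ⟨g, hg⟩ ⟨u, h.Q_le x hu⟩)
    have := Subgroup.card_le_of_le hle
    rw [m.card_stab, m.card_Q] at this
    nlinarith
  · obtain ⟨b, -, hab, -, hcard⟩ := m.exists_nonsplit (MulAction.mem_orbit_self y)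
    obtain ⟨w, hw1, hw2⟩ := m.exists_swap hab (by
      rw [Ne, ← Subgroup.card_eq_one, hcard]; omega)
    obtain ⟨e⟩ := h.pairStab_dihedral hab hw1 hw2
    rw [hcard] at e
    have hc := H (H61.pairStab G y b) (by
      rw [H61.card_pairStab hab hw1 hw2, hcard]
      intro h3
      rcases (Nat.Prime.dvd_mul hp).1 h3 with h4 | h4
      · exact h2 ((Nat.prime_dvd_prime_iff_eq hp Nat.prime_two).1 h4)
      · exact h1 h4)
    refine DihedralGroup.not_commutative (n := n) (by omega) (by omega) ⟨⟨fun a b => ?_⟩⟩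
    obtain ⟨a, rfl⟩ := e.surjective a
    obtain ⟨b, rfl⟩ := e.surjective b
    rw [← map_mul, ← map_mul, hc.is_comm.comm]

open H61 in
theorem psl_not {p : ℕ} (hp : p.Prime) (h2 : p ≠ 2) (F : Type) [Field F] [Fintype F]
    (hq : 4 ≤ Fintype.card F) : ¬ Hy p (Matrix.ProjectiveSpecialLinearGroup (Fin 2) F) := by
  obtain ⟨r, hr⟩ := CharP.exists F
  haveI : Fact r.Prime := ⟨CharP.char_is_prime F r⟩
  obtain ⟨y, m⟩ := H61.main_psl (F := F) r
  exact main_not hp h2 m (by rwa [Nat.card_eq_fintype_card])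

theorem solv {p : ℕ} [hp : Fact p.Prime] (h2 : p ≠ 2) (n : ℕ) :
    ∀ (G : Type u) [Group G] [Finite G], Nat.card G = n → Hy p G → Group.IsSolvable G := by
  induction n using Nat.strong_induction_on with
  | _ n ih =>
  intro G _ _ hn H
  have sub : ∀ K : Subgroup G, K ≠ ⊤ → Group.IsSolvable K := by
    intro K hK
    refine ih _ ?_ K rfl (H.inj _ K.subtype_injective)
    rw [← hn]
    exact Finite.card_subtype_lt (Classical.choose_spec (by
      by_contra hc
      push Not at hc
      exact hK (eq_top_iff.2 fun x _ => hc x) : ∃ x, ¬ x ∈ K))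
  by_cases hZ : Subgroup.center G = ⊥
  · obtain ⟨S⟩ : Nonempty (Sylow 2 G) := inferInstance
    have hS : IsMulCommutative (S : Subgroup G) := by
      refine H _ fun h => h2 ?_
      obtain ⟨k, hk⟩ := S.isPGroup'.exists_card_eq
      rw [hk] at h
      exact (Nat.prime_dvd_prime_iff_eq hp.out Nat.prime_two).1 (hp.out.dvd_of_dvd_pow h)
    rcases Cfsg.Agent.S3188.result S hS (fun t ht => sub _ fun hc => by
      have : t ∈ Subgroup.center G := by
        rw [Subgroup.mem_center_iff]
        intro g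
        have : g ∈ Subgroup.centralizer ({t} : Set G) := hc ▸ Subgroup.mem_top g
        exact Subgroup.mem_centralizer_singleton_iff.1 this
      rw [hZ, Subgroup.mem_bot] at this
      rw [this, orderOf_one] at ht
      omega) with h | ⟨F, _, _, hF, N, _, ⟨e⟩, -⟩
    · exact h
    · exfalso
      refine psl_not hp.out h2 F ?_ ?_
      · rcases hF with h | ⟨k, hk, h⟩
        · omega
        · rw [h]
          exact (Nat.pow_le_pow_right two_pos hk).trans' (by norm_num)
      · exact ((H.surj _ (QuotientGroup.mk'_surjective (Cfsg.oddCore G))).inj _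
          N.subtype_injective).inj e.symm.toMonoidHom e.symm.injective
  · have h1 : Group.IsSolvable (G ⧸ Subgroup.center G) := by
      refine ih _ ?_ _ rfl (H.surj _ (QuotientGroup.mk'_surjective _))
      have h3 := Subgroup.card_eq_card_quotient_mul_card_subgroup (Subgroup.center G)
      have h4 : 1 < Nat.card (Subgroup.center G) := Subgroup.one_lt_card_iff_ne_bot _ |>.2 hZ
      have h5 : 0 < Nat.card (G ⧸ Subgroup.center G) := Nat.card_pos
      nlinarith
    haveI : Group.IsSolvable (Subgroup.center G) :=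
      Group.isSolvable_of_comm fun a b => Subtype.ext (Subgroup.mem_center_iff.1 b.2 a)
    exact Group.isSolvable_of_ker_le_range (Subgroup.center G).subtype
      (QuotientGroup.mk' (Subgroup.center G)) (by simp)

/-- An element normalising a cyclic Sylow subgroup either centralises it or the Sylow subgroup
lies in any normal subgroup containing all `p'`-elements of the normaliser. -/
theorem cent_of {p : ℕ} [hp : Fact p.Prime] {G : Type*} [Group G] [Finite G] (P : Sylow p G)
    (hcyc : IsCyclic P) (C : Subgroup G) [C.Normal]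
    (hC : ∀ h : G, ¬ p ∣ orderOf h → h ∈ C) (hPC : ¬ (P : Subgroup G) ≤ C) :
    Subgroup.normalizer ((P : Subgroup G) : Set G) ≤
      Subgroup.centralizer ((P : Subgroup G) : Set G) := by
  obtain ⟨⟨x, hx⟩, hgen⟩ := hcyc.exists_zpow_surjective
  have hg : ∀ z ∈ (P : Subgroup G), ∃ k : ℤ, x ^ k = z := fun z hz => by
    obtain ⟨k, hk⟩ := hgen ⟨z, hz⟩
    exact ⟨k, congrArg Subtype.val hk⟩
  have hxC : x ∉ C := fun h => hPC fun z hz => by
    obtain ⟨k, rfl⟩ := hg z hz
    exact C.zpow_mem h k
  obtain ⟨s, hs⟩ := P.isPGroup' ⟨x, hx⟩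
  have hxs : x ^ p ^ s = 1 := congrArg Subtype.val hs
  -- it suffices to centralise `x`
  suffices key : ∀ g ∈ Subgroup.normalizer ((P : Subgroup G) : Set G), Commute g x by
    intro g hg' z hz
    obtain ⟨k, rfl⟩ := hg z hz
    exact ((key g hg').zpow_right k).eq.symm
  have step : ∀ h ∈ Subgroup.normalizer ((P : Subgroup G) : Set G), ¬ p ∣ orderOf h →
      Commute h x := by
    intro h hN hh
    obtain ⟨a, ha⟩ := hg (h * x * h⁻¹) ((Subgroup.mem_normalizer_iff.1 hN x).1 hx)
    have h1 : x ^ (a - 1) ∈ C := by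
      rw [zpow_sub_one, ha]
      have := C.mul_mem (hC h hh) (Subgroup.Normal.conj_mem ‹_› _ (C.inv_mem (hC h hh)) x)
      simpa [mul_assoc] using this
    have h2 : (p : ℤ) ∣ a - 1 := by
      by_contra hd
      have hcop : IsCoprime (a - 1) ((p : ℤ) ^ s) :=
        (((Nat.prime_iff_prime_int.1 hp.out).irreducible.coprime_iff_not_dvd.2 hd).symm).pow_right
      obtain ⟨u, v, huv⟩ := hcop
      apply hxC
      have e : x = (x ^ (a - 1)) ^ u * (x ^ (p ^ s : ℕ)) ^ v := by
        rw [← zpow_natCast, ← zpow_mul, ← zpow_mul, ← zpow_add]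
        push_cast
        rw [mul_comm (a - 1), mul_comm ((p : ℤ) ^ s), huv, zpow_one]
      rw [e, hxs, one_zpow, mul_one]
      exact C.zpow_mem h1 u
    have h3 : ∀ k : ℕ, h ^ k * x * (h ^ k)⁻¹ = x ^ (a ^ k) := by
      intro k
      induction k with
      | zero => simp
      | succ k ih =>
        rw [pow_succ', pow_succ' a, zpow_mul, ha, ← MulAut.conj_apply h x, ← map_zpow, ← ih]
        simp [mul_assoc]
    have h4 : ((p : ℤ) ^ (s + 1)) ∣ a ^ p ^ s - 1 ^ p ^ s := dvd_sub_pow_of_dvd_sub h2 s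
    have h5 : x ^ (a ^ p ^ s) = x := by
      obtain ⟨c, hc⟩ := h4
      have : a ^ p ^ s = 1 + (p ^ s : ℕ) * (p * c) := by
        push_cast
        rw [one_pow] at hc
        linear_combination hc
      rw [this, zpow_add, zpow_mul, zpow_natCast, hxs]
      simp
    have h6 : Commute (h ^ p ^ s) x := by
      have := h3 (p ^ s)
      rw [h5, mul_inv_eq_iff_eq_mul] at this
      exact this
    have hcop : Nat.Coprime (p ^ s) (orderOf h) :=
      Nat.Coprime.pow_left _ ((Nat.Prime.coprime_iff_not_dvd hp.out).2 hh)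
    obtain ⟨m, hm⟩ := exists_pow_eq_self_of_coprime hcop
    rw [← hm]
    exact h6.pow_left m
  intro g hN
  obtain ⟨e, m, hm, hem⟩ := Nat.exists_eq_pow_mul_and_not_dvd (orderOf_pos g).ne' p hp.out.ne_one
  have a1 : Commute (g ^ p ^ e) x := by
    refine step _ (Subgroup.pow_mem _ hN _) fun h => hm (h.trans ?_)
    exact orderOf_dvd_of_pow_eq_one (by rw [← pow_mul, ← hem, pow_orderOf_eq_one])
  have a2 : Commute (g ^ m) x := by
    have hp' : IsPGroup p (Subgroup.zpowers (g ^ m)) := by
      rintro ⟨_, k, rfl⟩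
      refine ⟨e, Subtype.ext ?_⟩
      have : (g ^ m) ^ p ^ e = 1 := by rw [← pow_mul, mul_comm, ← hem, pow_orderOf_eq_one]
      simp only [Subgroup.coe_pow, Subgroup.coe_one]
      rw [← zpow_natCast, ← zpow_mul, mul_comm, zpow_mul, zpow_natCast, this, one_zpow]
    have hle : Subgroup.zpowers (g ^ m) ≤ Subgroup.normalizer ((P : Subgroup G) : Set G) :=
      Subgroup.zpowers_le.2 (Subgroup.pow_mem _ hN _)
    have hsup := P.is_maximal' (IsPGroup.to_sup_of_normal_left' P.isPGroup' hp' hle) le_sup_left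
    have hmem : g ^ m ∈ (P : Subgroup G) := by
      rw [← hsup]
      exact Subgroup.mem_sup_right (Subgroup.mem_zpowers _)
    obtain ⟨k, hk⟩ := hg _ hmem
    rw [← hk]
    exact (Commute.refl x).zpow_left k
  have hcop : IsCoprime ((p : ℤ) ^ e) (m : ℤ) := by
    have := Nat.Coprime.pow_left e ((Nat.Prime.coprime_iff_not_dvd hp.out).2 hm)
    exact_mod_cast Nat.isCoprime_iff_coprime.2 this
  obtain ⟨u, v, huv⟩ := hcop
  have e1 : g = (g ^ p ^ e) ^ u * (g ^ m) ^ v := by
    rw [← zpow_natCast, ← zpow_natCast g m, ← zpow_mul, ← zpow_mul, ← zpow_add]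
    push_cast
    rw [mul_comm _ u, mul_comm _ v, huv, zpow_one]
  rw [e1]
  exact (a1.zpow_left u).mul_left (a2.zpow_left v)

/-- Let G be a finite group and p a prime such that a Sylow p-subgroup P of G is cyclic and every subgroup of G of order prime to p is abelian. Then G has a normal p-complement or P is normal in G. -/
theorem result {G : Type*} [Group G] [Finite G] {p : ℕ}
    [Fact p.Prime] (P : Sylow p G) (hcyc : IsCyclic P)
    (hab : ∀ H : Subgroup G, ¬ p ∣ Nat.card H → IsMulCommutative H) :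
    Cfsg.HasNormalPComplement p G ∨ (P : Subgroup G).Normal := by
  have hp : p.Prime := Fact.out
  by_cases hNC : Subgroup.normalizer ((P : Subgroup G) : Set G) ≤
      Subgroup.centralizer ((P : Subgroup G) : Set G)
  · exact Or.inl ⟨P, _, inferInstance, MonoidHom.ker_transferSylow_isComplement' P hNC⟩
  right
  by_cases h2 : p = 2
  · subst h2
    by_cases hd : 2 ∣ Nat.card G
    · exact absurd (hcyc.normalizer_le_centralizer ((Nat.minFac_eq_two_iff _).2 hd)) hNC
    · have : (P : Subgroup G) = ⊥ := by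
        obtain ⟨k, hk⟩ := P.isPGroup'.exists_card_eq
        rw [← Subgroup.card_eq_one]
        rcases k with _ | k
        · simpa using hk
        · exact absurd ((hk ▸ dvd_pow_self 2 k.succ_ne_zero).trans
            (Subgroup.card_subgroup_dvd_card _)) hd
      rw [this]
      infer_instance
  haveI := solv h2 _ G rfl hab
  set K := Cfsg.pPrimeCore p G with hK
  haveI := H2.pPrimeCore_characteristic p G
  haveI : K.Normal := inferInstance
  have hPC : (P : Subgroup G) ≤ Subgroup.centralizer (K : Set G) := by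
    by_contra hPC
    refine hNC (cent_of P hcyc _ (fun h hh => ?_) hPC)
    have h1 : ¬ p ∣ Nat.card (K ⊔ Subgroup.zpowers h : Subgroup G) := by
      intro h3
      have h4 : Nat.card (K ⊔ Subgroup.zpowers h : Subgroup G) ∣
          Nat.card K * Nat.card (Subgroup.zpowers h) := H18.card_sup_dvd_of_normal _ _
      rcases (Nat.Prime.dvd_mul hp).1 (h3.trans h4) with h5 | h5
      · exact H2.not_dvd_card_pPrimeCore p G h5
      · exact hh (by rwa [Nat.card_zpowers] at h5)
    intro k hk
    exact congrArg Subtype.val ((hab _ h1).is_comm.comm ⟨k, Subgroup.mem_sup_left hk⟩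
      ⟨h, Subgroup.mem_sup_right (Subgroup.mem_zpowers h)⟩)
  haveI hn := H2.sylow_sup_pPrimeCore_normal_of_abelian p P hcyc.isMulCommutative
  have hfr := Sylow.normalizer_sup_eq_top' P (N := (P : Subgroup G) ⊔ K) le_sup_left
  rw [← Subgroup.normalizer_eq_top_iff, eq_top_iff, ← hfr]
  refine sup_le le_rfl (sup_le Subgroup.le_normalizer fun k hk => ?_)
  refine Subgroup.centralizer_le_normalizer _ fun z hz => ?_
  exact (hPC hz k hk).symm

end Cfsg.Agent.S4016
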