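import Cfsg.Statements.S4018
import Cfsg.Agent.H18.L2Act
import Cfsg.Agent.H24.Walter

set_option autoImplicit false
open Cfsg

namespace Cfsg.Agent.S4018

/-- Let G be a finite group with an abelian Sylow 3-subgroup P such that the normalizer of P has order 4·#P, the centralizer C of P has order 2·#P, C meets each of its conjugates by elements outside its normalizer trivially, and every proper subgroup of G of even order has order dividing 4·#P. Then G is not simple. -/
theorem result {G : Type*} [Group G] [Finite G]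
    (P : Sylow 3 G) (hab : IsMulCommutative P)
    (hN : Nat.card (Subgroup.normalizer ((P : Subgroup G) : Set G)) = 4 * Nat.card P)
    (hC : Nat.card (Subgroup.centralizer (P : Set G)) = 2 * Nat.card P)
    (hTI : Cfsg.IsTISubset (Subgroup.centralizer (P : Set G) : Set G))
    (heven : ∀ H : Subgroup G, H ≠ ⊤ → 2 ∣ Nat.card H → Nat.card H ∣ 4 * Nat.card P) :
    ¬ IsSimpleGroup G := by
  intro hG
  have hP0 : 0 < Nat.card P := Nat.card_pos
  obtain ⟨k, hk⟩ := P.isPGroup'.exists_card_eq
  have hna : ¬ IsMulCommutative G := fun hc => by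
    have h1 : Subgroup.centralizer (P : Set G) = ⊤ :=
      eq_top_iff.2 fun g _ h _ => hc.is_comm.comm h g
    have h2 : Subgroup.normalizer ((P : Subgroup G) : Set G) = ⊤ :=
      eq_top_iff.2 (h1 ▸ Subgroup.centralizer_le_normalizer _)
    rw [h1] at hC
    rw [h2, hC] at hN
    omega
  have hS : ∀ A : Subgroup G, IsPGroup 2 A → Nat.card A ∣ 4 := fun A hA => by
    obtain ⟨j, hj⟩ := hA.exists_card_eq
    rcases Nat.eq_zero_or_pos j with rfl | hj0
    · rw [hj]; simp
    have hA' : A ≠ ⊤ := fun e => by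
      subst e
      have := (hA.of_equiv Subgroup.topEquiv).isNilpotent
      exact hna ⟨⟨IsSimpleGroup.comm_iff_isSolvable.2 inferInstance⟩⟩
    have := heven A hA' (hj ▸ dvd_pow_self 2 hj0.ne')
    rw [hk, hj] at this
    rw [hj]
    exact (Nat.Coprime.pow j k (by norm_num)).dvd_of_dvd_mul_right this
  have hab2 : H10.W.Ab2 G := fun Q => by
    have h1 := hS Q Q.isPGroup'
    have h2 : Nat.card Q ∣ 2 ^ 2 := h1
    obtain ⟨j, hj, e⟩ := (Nat.dvd_prime_pow Nat.prime_two).1 h2
    interval_cases j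
    · have : Subsingleton Q := (Nat.card_eq_one_iff_unique.1 e).1
      exact ⟨⟨fun a b => Subsingleton.elim _ _⟩⟩
    · have := isCyclic_of_prime_card (p := 2) (by simpa using e : Nat.card Q = 2)
      infer_instance
    · exact IsPGroup.isMulCommutative_of_card_eq_prime_sq e
  have hr : Cfsg.PRankLE 2 2 G := fun A _ h =>
    Nat.le_of_dvd (by norm_num) (hS A fun a => ⟨1, Subtype.ext (by simpa using h a a.2)⟩)
  obtain ⟨q, hq, hq8, hL⟩ := H24.rankTwo' G hna hab2 hr
  obtain ⟨p, X, _, hh, x, y, d, n, m, hp⟩ := H18.L2.exists_main hL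
  obtain ⟨-, hd, hn⟩ := hp.resolve_left fun h => by have := h.1; rw [Nat.even_iff] at this; omega
  obtain ⟨H1, h1, c1⟩ := H18.L2.exists_sub_d m hq.le
  obtain ⟨H2, h2, c2⟩ := H18.L2.exists_sub_n m hq.le
  have d1 := heven H1 h1 (c1 ▸ dvd_mul_right _ _)
  have d2 := heven H2 h2 (c2 ▸ dvd_mul_right _ _)
  rw [c1, hk, show 4 * 3 ^ k = 2 * (2 * 3 ^ k) by ring] at d1
  rw [c2, hk, show 4 * 3 ^ k = 2 * (2 * 3 ^ k) by ring] at d2
  replace d1 := Nat.dvd_of_mul_dvd_mul_left two_pos d1
  replace d2 := Nat.dvd_of_mul_dvd_mul_left two_pos d2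
  have key : ∀ a : ℕ, a ∣ 2 * 3 ^ k → ¬ 3 ∣ a → a ≤ 2 := fun a h3 h4 =>
    Nat.le_of_dvd two_pos ((Nat.Coprime.pow_right k
      ((Nat.Prime.coprime_iff_not_dvd Nat.prime_three).2 h4).symm).dvd_of_dvd_mul_right h3)
  have hq5 : d = 2 := by
    by_cases h3 : 3 ∣ d
    · have := key n d2 (by omega)
      omega
    · have := key d d1 h3
      omega
  have hc := m.card_eq
  rw [hq5, show q = 5 by omega] at hc
  have e1 := card_sylow_modEq_one 3 G
  rw [P.card_eq_index_normalizer] at e1
  have e2 := (Subgroup.normalizer ((P : Subgroup G) : Set G)).index_mul_card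
  have e3 := P.card_eq_multiplicity
  rw [hc, show (5 + 1) * (5 * 2) = 3 * 20 by norm_num, Nat.factorization_mul (by norm_num) (by norm_num),
    Finsupp.add_apply, Nat.Prime.factorization_self Nat.prime_three,
    Nat.factorization_eq_zero_of_not_dvd (by norm_num)] at e3
  rw [hN, hc, e3] at e2
  have e4 : (Subgroup.normalizer ((P : Subgroup G) : Set G)).index = 5 := by omega
  exact absurd (e4 ▸ e1 : 5 ≡ 1 [MOD 3]) (by decide)

end Cfsg.Agent.S4018
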