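import Cfsg.Statements.S4019
import Cfsg.Agent.Base
import Cfsg.Agent.H83.D6Main

set_option autoImplicit false
open Cfsg

namespace Cfsg.Agent.S4019

/-- Let G be a finite group in which, for every prime p, any two p-subgroups of the same order are conjugate. Then G/O(G), O(G) the largest normal subgroup of odd order, is one of: a cyclic 2-group; the one-dimensional affine group over the field with 8 elements; the one-dimensional semi-affine group (affine maps twisted by field automorphisms) over the field with 8 or with 32 elements; a simple group of order 175560; PSL₂(8); the full automorphism group of PSL₂(32); or PSL₂(p), PSL₂(p³), SL₂(p), SL₂(p³) for a prime p ≡ ±3 (mod 8). -/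
theorem result {G : Type*} [Group G] [Finite G]
    (hD : ∀ p : ℕ, p.Prime → ∀ H K : Subgroup G, IsPGroup p H → IsPGroup p K → Nat.card H = Nat.card K →
      ∃ g : G, K = H.map (MulAut.conj g).toMonoidHom) :
    (IsCyclic (G ⧸ Cfsg.oddCore G) ∧ IsPGroup 2 (G ⧸ Cfsg.oddCore G)) ∨
    Nonempty (G ⧸ Cfsg.oddCore G ≃* Cfsg.affineGroup (GaloisField 2 3)) ∨
    Nonempty (G ⧸ Cfsg.oddCore G ≃* Cfsg.semiaffineGroup (GaloisField 2 3)) ∨
    Nonempty (G ⧸ Cfsg.oddCore G ≃* Cfsg.semiaffineGroup (GaloisField 2 5)) ∨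
    Cfsg.IsJ1 (G ⧸ Cfsg.oddCore G) ∨
    Nonempty (G ⧸ Cfsg.oddCore G ≃* Matrix.ProjectiveSpecialLinearGroup (Fin 2) (GaloisField 2 3)) ∨
    Nonempty (G ⧸ Cfsg.oddCore G ≃* MulAut (Matrix.ProjectiveSpecialLinearGroup (Fin 2) (GaloisField 2 5))) ∨
    (∃ (p : ℕ) (_ : Fact p.Prime), (p % 8 = 3 ∨ p % 8 = 5) ∧
      (Nonempty (G ⧸ Cfsg.oddCore G ≃* Matrix.ProjectiveSpecialLinearGroup (Fin 2) (ZMod p)) ∨
       Nonempty (G ⧸ Cfsg.oddCore G ≃* Matrix.ProjectiveSpecialLinearGroup (Fin 2) (GaloisField p 3)) ∨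
       Nonempty (G ⧸ Cfsg.oddCore G ≃* Matrix.SpecialLinearGroup (Fin 2) (ZMod p)) ∨
       Nonempty (G ⧸ Cfsg.oddCore G ≃* Matrix.SpecialLinearGroup (Fin 2) (GaloisField p 3)))) := by
  rcases H83.D6.list_quot hD with h | h | h | h | h | ⟨F, _, _, hF, ⟨e⟩⟩ | h | ⟨⟨e⟩⟩ | h |
    ⟨p, f, F, _, _, hp, hf, hF, h3, h8, h⟩
  · exact Or.inl h
  · exact Or.inr (Or.inl h)
  · exact Or.inr <| Or.inr <| Or.inl h
  · exact Or.inr <| Or.inr <| Or.inr <| Or.inl h
  · exact Or.inr <| Or.inr <| Or.inr <| Or.inr <| Or.inl h.1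
  · let _ := Fintype.ofFinite (GaloisField 2 3)
    exact Or.inr <| Or.inr <| Or.inr <| Or.inr <| Or.inr <| Or.inl ⟨e.trans (H55.pslCongr
      (FiniteField.ringEquivOfCardEq (by
        rw [hF, eq_comm, ← Nat.card_eq_fintype_card, GaloisField.card 2 3 (by decide)]; rfl)))⟩
  · exact Or.inr <| Or.inr <| Or.inr <| Or.inr <| Or.inr <| Or.inr <| Or.inl h
  · obtain ⟨e'⟩ := Cfsg.Agent.S0251.result (F := ZMod 3) (ZMod.card 3)
    exact Or.inr <| Or.inr <| Or.inr <| Or.inr <| Or.inr <| Or.inr <| Or.inr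
      ⟨3, inferInstance, Or.inl rfl, Or.inl ⟨e.trans e'.symm⟩⟩
  · exact Or.inr <| Or.inr <| Or.inr <| Or.inr <| Or.inr <| Or.inr <| Or.inr
      ⟨3, inferInstance, Or.inl rfl, Or.inr <| Or.inr <| Or.inl h⟩
  · have hp' := Fact.mk hp
    refine Or.inr <| Or.inr <| Or.inr <| Or.inr <| Or.inr <| Or.inr <| Or.inr ⟨p, hp', h8, ?_⟩
    rcases hf with rfl | rfl
    · have r : F ≃+* ZMod p := FiniteField.ringEquivOfCardEq (by rw [hF, ZMod.card, pow_one])
      rcases h with ⟨⟨e⟩⟩ | ⟨⟨e⟩⟩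
      · exact Or.inl ⟨e.trans (H55.pslCongr r)⟩
      · exact Or.inr <| Or.inr <| Or.inl ⟨e.trans (H55.slCongr r)⟩
    · let _ := Fintype.ofFinite (GaloisField p 3)
      have r : F ≃+* GaloisField p 3 := FiniteField.ringEquivOfCardEq (by
        rw [hF, eq_comm, ← Nat.card_eq_fintype_card, GaloisField.card p 3 (by decide)])
      rcases h with ⟨⟨e⟩⟩ | ⟨⟨e⟩⟩
      · exact Or.inr <| Or.inl ⟨e.trans (H55.pslCongr r)⟩
      · exact Or.inr <| Or.inr <| Or.inr ⟨e.trans (H55.slCongr r)⟩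

end Cfsg.Agent.S4019
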