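import Cfsg.Statements.S4021
import Cfsg.Agent.Base
import Cfsg.Agent.H83.D6Main

set_option autoImplicit false
open Cfsg

namespace Cfsg.Agent.S4021

/-- Let G be a finite group in which any two subgroups of the same order are conjugate. Then G/O(G), O(G) the largest normal subgroup of odd order, is one of: a cyclic 2-group; the one-dimensional affine group over the field with 8 elements; the one-dimensional semi-affine group over the field with 8 or with 32 elements; PSL₂(8); the full automorphism group of PSL₂(32); the alternating group of degree 4 or 5; SL₂(3); or SL₂(5). -/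
theorem result {G : Type*} [Group G] [Finite G]
    (hC : ∀ H K : Subgroup G, Nat.card H = Nat.card K → ∃ g : G, K = H.map (MulAut.conj g).toMonoidHom) :
    (IsCyclic (G ⧸ Cfsg.oddCore G) ∧ IsPGroup 2 (G ⧸ Cfsg.oddCore G)) ∨
    Nonempty (G ⧸ Cfsg.oddCore G ≃* Cfsg.affineGroup (GaloisField 2 3)) ∨
    Nonempty (G ⧸ Cfsg.oddCore G ≃* Cfsg.semiaffineGroup (GaloisField 2 3)) ∨
    Nonempty (G ⧸ Cfsg.oddCore G ≃* Cfsg.semiaffineGroup (GaloisField 2 5)) ∨
    Nonempty (G ⧸ Cfsg.oddCore G ≃* Matrix.ProjectiveSpecialLinearGroup (Fin 2) (GaloisField 2 3)) ∨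
    Nonempty (G ⧸ Cfsg.oddCore G ≃* MulAut (Matrix.ProjectiveSpecialLinearGroup (Fin 2) (GaloisField 2 5))) ∨
    Nonempty (G ⧸ Cfsg.oddCore G ≃* alternatingGroup (Fin 4)) ∨
    Nonempty (G ⧸ Cfsg.oddCore G ≃* alternatingGroup (Fin 5)) ∨
    Nonempty (G ⧸ Cfsg.oddCore G ≃* Matrix.SpecialLinearGroup (Fin 2) (ZMod 3)) ∨
    Nonempty (G ⧸ Cfsg.oddCore G ≃* Matrix.SpecialLinearGroup (Fin 2) (ZMod 5)) := by
  have hX := H83.d6_all_surj hC _ (QuotientGroup.mk'_surjective (Cfsg.oddCore G))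
  rcases H83.D6.list_quot (fun _ _ H K _ _ e => hC H K e) with h | h | h | h | h |
    ⟨F, _, _, hF, ⟨e⟩⟩ | h | h | h | ⟨p, f, F, _, _, hp, hf, hF, h3, h8, h⟩
  · exact Or.inl h
  · exact Or.inr (Or.inl h)
  · exact Or.inr <| Or.inr <| Or.inl h
  · exact Or.inr <| Or.inr <| Or.inr <| Or.inl h
  · exact absurd h.2 (H83.d6_not_bad hX)
  · let _ := Fintype.ofFinite (GaloisField 2 3)
    exact Or.inr <| Or.inr <| Or.inr <| Or.inr <| Or.inl ⟨e.trans (H55.pslCongr
      (FiniteField.ringEquivOfCardEq (by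
        rw [hF, eq_comm, ← Nat.card_eq_fintype_card, GaloisField.card 2 3 (by decide)]; rfl)))⟩
  · exact Or.inr <| Or.inr <| Or.inr <| Or.inr <| Or.inr <| Or.inl h
  · exact Or.inr <| Or.inr <| Or.inr <| Or.inr <| Or.inr <| Or.inr <| Or.inl h
  · exact Or.inr <| Or.inr <| Or.inr <| Or.inr <| Or.inr <| Or.inr <| Or.inr <| Or.inr <| Or.inl h
  · have hq : p ^ f % 8 = 3 ∨ p ^ f % 8 = 5 := by
      rw [Nat.pow_mod]
      rcases hf with rfl | rfl <;> rcases h8 with e | e <;> simp [e]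
    have h5 : Fintype.card F = 5 := by
      by_contra hne
      have : ∃ φ : G ⧸ Cfsg.oddCore G →* H10.W.PSL2 F, Function.Surjective φ := by
        rcases h with ⟨⟨e⟩⟩ | ⟨⟨e⟩⟩
        · exact ⟨e.toMonoidHom, e.surjective⟩
        · exact ⟨(QuotientGroup.mk' _).comp e.toMonoidHom,
            (QuotientGroup.mk'_surjective _).comp e.surjective⟩
      obtain ⟨φ, hφ⟩ := this
      exact H83.d6_not_bad (H83.d6_all_surj hX φ hφ)
        (H83.d6_bad_l2 ⟨F, _, _, hF, ⟨MulEquiv.refl _⟩⟩ (by omega) hq)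
    refine Or.inr <| Or.inr <| Or.inr <| Or.inr <| Or.inr <| Or.inr <| Or.inr ?_
    rcases h with h | ⟨⟨e⟩⟩
    · exact Or.inl (H24.IsL2.alt5 ⟨F, _, _, h5, h⟩)
    · have := Fact.mk Nat.prime_five
      exact Or.inr <| Or.inr ⟨e.trans (H55.slCongr
        (FiniteField.ringEquivOfCardEq (by rw [h5, ZMod.card])))⟩

end Cfsg.Agent.S4021
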