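import Cfsg.Statements.S4022
import Cfsg.Agent.H18.CGrp
import Cfsg.Agent.H18.GY
import Cfsg.Agent.H18.Misc
import Cfsg.Agent.H15.Elem

set_option autoImplicit false
open Cfsg

namespace Cfsg.Agent.S4022

open Cfsg hiding pRank
open H46 Subgroup H18.CG

universe u

def Concl (G : Type u) [Group G] : Prop :=
  ∀ H K : Subgroup G, Nat.card H = Nat.card K → ∃ g : G, K = cj g H

theorem map_cj {G G' : Type*} [Group G] [Group G'] (f : G →* G') (g : G) (H : Subgroup G) :
    (cj g H).map f = cj (f g) (H.map f) := by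
  rw [cj, cj, map_map, map_map]; congr 1; ext x; simp

theorem lift {G : Type u} [Group G] [Finite G] (N : Subgroup G) [N.Normal] {H K : Subgroup G}
    {g : G ⧸ N} (h : K.map (QuotientGroup.mk' N) = cj g (H.map (QuotientGroup.mk' N))) :
    ∃ g : G, N ⊔ K = N ⊔ cj g H := by
  obtain ⟨g, rfl⟩ := QuotientGroup.mk_surjective g
  refine ⟨g, ?_⟩
  have h2 : cj (QuotientGroup.mk g : G ⧸ N) (H.map (QuotientGroup.mk' N)) =
      (cj g H).map (QuotientGroup.mk' N) := (map_cj (QuotientGroup.mk' N) g H).symm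
  have := congrArg (comap (QuotientGroup.mk' N)) (h.trans h2)
  rwa [comap_map_eq, comap_map_eq, QuotientGroup.ker_mk', sup_comm K, sup_comm (cj g H)] at this

theorem card_map_mk {G : Type u} [Group G] (N : Subgroup G) [N.Normal] (H : Subgroup G) :
    Nat.card ↥(N ⊓ H) * Nat.card (H.map (QuotientGroup.mk' N)) = Nat.card H := by
  rw [← H18.relIndex_eq_card_map, card_inf_mul_relIndex]

theorem cp_quot {G : Type u} [Group G] [Finite G] {p q : ℕ} (hp : p.Prime) (hq : q.Prime)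
    (h : CP p G) (N : Subgroup G) [N.Normal] (hN : IsPi {q} N) : CP p (G ⧸ N) := by
  haveI := Fact.mk hp
  intro H K hH hK e
  have key : ∀ L : Subgroup (G ⧸ N), IsPGroup p L → ∃ L' : Subgroup G, IsPGroup p L' ∧
      L'.map (QuotientGroup.mk' N) = L ∧
      Nat.card L' = Nat.card L * (if p = q then Nat.card N else 1) := by
    intro L hL
    set M := L.comap (QuotientGroup.mk' N)
    have hNM : N ≤ M := fun x hx => by
      change QuotientGroup.mk' N x ∈ L
      rw [show QuotientGroup.mk' N x = 1 from (QuotientGroup.eq_one_iff x).2 hx]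
      exact one_mem _
    have hM : M.map (QuotientGroup.mk' N) = L :=
      map_comap_eq_self_of_surjective (QuotientGroup.mk'_surjective N) L
    have hidx : PNat {p} (N.relIndex M) := by
      rw [H18.relIndex_eq_card_map, hM]; exact isPi_of_isPGroup hp hL
    obtain ⟨P, hP⟩ := exists_sylow hp M
    have h1 := hP.sup_eq_of_idx hNM hidx
    have h2 : P.map (QuotientGroup.mk' N) = L := by
      rw [← hM, ← h1, Subgroup.map_sup, (Subgroup.map_eq_bot_iff _).2 (QuotientGroup.ker_mk' N).ge,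
        bot_sup_eq]
    refine ⟨P, hP.isPGroup hp, h2, ?_⟩
    rw [← card_map_mk N P, h2, mul_comm]
    congr 1
    split_ifs with hpq
    · subst hpq
      rw [inf_eq_left.2 (hP.normal_le hN ⟨hNM, H18.GY.le_nrm_of_normal _ _⟩)]
    · rw [(hN.compl_singleton (by simpa using hpq)).inf_eq_bot' hP.isPi, card_bot]
  obtain ⟨H', h1, rfl, h3⟩ := key H hH
  obtain ⟨K', k1, rfl, k3⟩ := key K hK
  obtain ⟨g, rfl⟩ := h H' K' h1 k1 (by rw [h3, k3, e])
  exact ⟨QuotientGroup.mk g, map_cj _ _ _⟩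

theorem cp_of_cyclic {G : Type u} [Group G] [Finite G] {p : ℕ} (hp : p.Prime)
    (h : ∀ P : Subgroup G, IsPGroup p P → IsCyclic P) : CP p G := by
  intro H K hH hK e
  obtain ⟨P, hP, hKP⟩ := exists_sylow_ge hp hK le_top
  obtain ⟨g, -, hg⟩ := sylow_cj_le hp hP hH le_top
  exact ⟨g, eq_of_cyclic_of_card_eq (h P (hP.isPGroup hp)) hKP hg (by rw [card_cj, e])⟩

theorem cyc_quot {G : Type u} [Group G] [Finite G] {p : ℕ} (hp : p.Prime)
    (h : ∀ P : Subgroup G, IsPGroup p P → IsCyclic P) (N : Subgroup G) [N.Normal] :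
    ∀ P : Subgroup (G ⧸ N), IsPGroup p P → IsCyclic P := by
  haveI := Fact.mk hp
  intro P hP
  obtain ⟨S, hS⟩ := hP.exists_le_sylow
  obtain ⟨T, rfl⟩ := Sylow.mapSurjective_surjective (QuotientGroup.mk'_surjective N) p S
  haveI := h T T.isPGroup'
  refine cyclic_of_le ?_ hS
  exact isCyclic_of_surjective _ ((QuotientGroup.mk' N).subgroupMap_surjective T)

theorem finish {G : Type u} [Group G] [Finite G] [Group.IsSolvable G] {q : ℕ} {N H K : Subgroup G}
    [N.Normal] (hN : IsPi {q} N) (hc : IsMulCommutative N) (e1 : N ⊔ H = N ⊔ K)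
    (e2 : N ⊓ H = N ⊓ K) (hi : PNat {q}ᶜ (N.relIndex H)) : ∃ g : G, K = cj g H := by
  have hs : ∀ L : Subgroup G, Group.IsSolvable L := fun L => inferInstance
  have nn : ∀ A : Subgroup G, A ≤ Nrm N := fun A => H18.GY.le_nrm_of_normal _ _
  have key : ∀ L : Subgroup G, PNat {q}ᶜ (N.relIndex L) → ∃ L1 : Subgroup G,
      IsPiHallOf {q}ᶜ L1 (N ⊔ L) ∧ (N ⊓ L) ⊔ L1 = L := by
    intro L hL
    obtain ⟨L1, h1⟩ := hall_exists {q}ᶜ (hs L)
    refine ⟨L1, h1.trans_idx le_sup_right ?_, h1.sup_eq_of_idx inf_le_right ?_⟩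
    · rw [relIndex_sup_right_of_nrm (nn L)]
      exact (hN.relIndex L).compl_compl
    · rwa [inf_relIndex_right]
  obtain ⟨H1, h1, h2⟩ := key H hi
  obtain ⟨K1, k1, k2⟩ := key K (by
    rwa [← relIndex_sup_of_nrm (nn K), ← e1, relIndex_sup_of_nrm (nn H)])
  rw [← e1] at k1
  obtain ⟨g, hg, e⟩ := hall_trans (hs _) h1 k1
  refine ⟨g, ?_⟩
  have h3 : N ⊔ H ≤ Nrm (N ⊓ H) :=
    sup_le (nrm_of_comm hc inf_le_left) (nrm_inf (nn H) le_nrm_self)
  rw [← k2, e, ← e2, ← cj_of_mem_nrm (h3 hg), ← cj_sup, h2]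

theorem main (r : ℕ) : ∀ (G : Type u) [Group G] [Finite G], Group.IsSolvable G →
    (∀ p : ℕ, p.Prime → CP p G) →
    (∀ p : ℕ, p.Prime → p ≠ r → ∀ P : Subgroup G, IsPGroup p P → IsCyclic P) → Concl G := by
  refine @H18.induction_card _ ?_
  intro G _ _ ih hs hD hcyc H K e
  by_cases h0 : (⊤ : Subgroup G) = ⊥
  · exact ⟨1, by rw [eq_bot_of_le (le_top : H ≤ ⊤) h0, eq_bot_of_le (le_top : K ≤ ⊤) h0, cj_bot]⟩
  obtain ⟨N, hN, -⟩ := exists_minNormal_le (X := ⊤) h0 le_nrm_self
  haveI : N.Normal := normalIn_top_iff.1 ⟨le_top, hN.nrm⟩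
  obtain ⟨q, hq, hqd, hel⟩ := hN.exists_elem inferInstance
  haveI := Fact.mk hq
  have hNq : IsPi {q} N := isPi_of_elem hq hel
  have hquot : Concl (G ⧸ N) := ih _ (H18.card_quotient_lt hN.ne_bot) inferInstance
    (fun p hp => cp_quot hp hq (hD p hp) N hNq)
    (fun p hp hpr => cyc_quot hp (hcyc p hp hpr) N)
  have comb : ∀ {g : G}, (∃ g' : G, K = cj g' (cj g H)) → ∃ g : G, K = cj g H :=
    fun ⟨g', h⟩ => ⟨_, by rw [h, ← cj_mul]⟩
  have viaq : Nat.card ↥(N ⊓ H) = Nat.card ↥(N ⊓ K) → ∃ g : G, N ⊔ K = N ⊔ cj g H := by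
    intro h
    obtain ⟨g, hg⟩ := hquot (H.map (QuotientGroup.mk' N)) (K.map (QuotientGroup.mk' N))
      (Nat.eq_of_mul_eq_mul_left (card_pos' (N ⊓ H)) (by
        rw [card_map_mk, h, card_map_mk, e]))
    exact lift N hg
  have hcj : ∀ g : G, cj g N = N := fun g => cj_of_mem_nrm (hN.nrm (mem_top g))
  by_cases hd : q ∣ Nat.card H
  swap
  · have h1 : ∀ L : Subgroup G, Nat.card L = Nat.card H → N ⊓ L = ⊥ := fun L hL =>
      hNq.inf_eq_bot ((isPi_compl_singleton hq).2 (hL ▸ hd))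
    obtain ⟨g, hg⟩ := viaq (by rw [h1 H rfl, h1 K e.symm])
    exact comb (finish hNq hel.1 hg.symm (by rw [h1 _ (card_cj g H), h1 K e.symm])
      (((isPi_compl_singleton hq).2 (by rwa [card_cj])).relIndex N))
  have hmem : ∀ x : G, x ^ q = 1 → x ∈ N := by
    intro x hx
    by_cases h1 : x = 1
    · rw [h1]; exact one_mem _
    obtain ⟨y, hy, hyp⟩ := cauchy hq hqd
    have hxp : orderOf x = q := orderOf_eq_prime hx h1
    obtain ⟨g, hg⟩ := hD q hq (zpowers y) (zpowers x)
      (IsPGroup.of_card (n := 1) (by rw [card_zpowers', hyp, pow_one]))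
      (IsPGroup.of_card (n := 1) (by rw [card_zpowers', hxp, pow_one]))
      (by rw [card_zpowers', card_zpowers', hyp, hxp])
    have h2 : zpowers x ≤ N := by
      rw [hg, ← hcj g]; exact cj_mono g (zpowers_le.2 hy)
    exact h2 (mem_zpowers x)
  by_cases hcard : Nat.card N = q
  · have h1 : ∀ L : Subgroup G, Nat.card L = Nat.card H → N ≤ L := fun L hL => by
      obtain ⟨y, hy, hyp⟩ := cauchy hq (hL ▸ hd)
      have hy1 : y ≠ 1 := fun e => by rw [e, orderOf_one] at hyp; exact hq.one_lt.ne hyp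
      rw [← eq_zpowers_of_card_prime (hcard.symm ▸ hq)
        (hmem y (by rw [← hyp, pow_orderOf_eq_one])) hy1]
      exact zpowers_le.2 hy
    obtain ⟨g, hg⟩ := viaq (by rw [inf_eq_left.2 (h1 H rfl), inf_eq_left.2 (h1 K e.symm)])
    rw [sup_eq_right.2 (h1 K e.symm), sup_eq_right.2 (h1 _ (card_cj g H))] at hg
    exact ⟨g, hg⟩
  have hnc : ¬ IsCyclic N := fun hc =>
    hcard (((Nat.dvd_prime hq).1 (H15.elem_cyclic_card_dvd hel hc)).resolve_left
      (fun e => hN.ne_bot (card_eq_one.1 e)))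
  have hqr : q = r := by
    by_contra hne
    exact hnc (hcyc q hq hne N (hNq.isPGroup hq))
  have hall : ∀ x : G, IsPiElt {q} x → x ∈ N := by
    intro x hx
    obtain ⟨y, hy, hyp⟩ := cauchy hq hqd
    obtain ⟨z, hz, hzy⟩ : ∃ z ∈ N, z ∉ zpowers y := by
      by_contra hh
      push Not at hh
      exact hnc (cyclic_iff_exists_zpowers.2 ⟨y, le_antisymm (zpowers_le.2 hy) hh⟩)
    exact hmem x ((hD q hq).pow_eq_one hyp (H15.elem_orderOf hq hel hz
      (fun e => hzy (e ▸ one_mem _))) (mem_cent.1 (comm_iff_le_cent.1 hel.1 hz) y hy) hzy hx)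
  have hsyl : ∀ L : Subgroup G, IsSylowOf q (N ⊓ L) L := fun L => by
    obtain ⟨P, hP⟩ := exists_sylow hq L
    exact hP.of_ge hNq.inf_left (le_inf (fun x hx => hall x (hP.isPi.elt hx)) hP.le) inf_le_right
  have hcardD : Nat.card ↥(N ⊓ H) = Nat.card ↥(N ⊓ K) :=
    Nat.dvd_antisymm ((hsyl K).dvd_card hNq.inf_left (e ▸ card_dvd_of_le inf_le_right))
      ((hsyl H).dvd_card hNq.inf_left (e ▸ card_dvd_of_le inf_le_right))
  obtain ⟨g, hg⟩ := hD q hq _ _ (hNq.inf_left.isPGroup hq) (hNq.inf_left.isPGroup hq) hcardD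
  rw [cj_inf, hcj] at hg
  apply comb (g := g)
  have e' : Nat.card (cj g H) = Nat.card K := by rw [card_cj, e]
  generalize cj g H = H at hg e'
  set M := Nrm (N ⊓ K) with hM
  have hNM : N ≤ M := nrm_of_comm hel.1 inf_le_left
  have hKM : K ≤ M := nrm_inf (le_top.trans hN.nrm) le_nrm_self
  have hHM : H ≤ M := by rw [hM, hg]; exact nrm_inf (le_top.trans hN.nrm) le_nrm_self
  set N' := N.subgroupOf M
  have hcy : ∀ p : ℕ, p.Prime → ∀ P : Subgroup (M ⧸ N'), IsPGroup p P → IsCyclic P := by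
    intro p hp
    by_cases hpq : p = q
    · subst hpq
      intro P hP
      have h1 : IsPi {p}ᶜ (⊤ : Subgroup (M ⧸ N')) := by
        have := (hsyl M).idx
        rw [inf_relIndex_right] at this
        rw [IsPi, card_top]; exact this
      rw [(isPi_of_isPGroup hp hP).eq_bot (h1.of_le le_top)]
      infer_instance
    · refine cyc_quot hp (fun P hP => ?_) N'
      have := hcyc p hp (hqr ▸ hpq) _ (hP.map M.subtype)
      exact isCyclic_of_surjective _ (P.equivMapOfInjective _ M.subtype_injective).symm.surjective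
  have hlt : Nat.card (M ⧸ N') < Nat.card G := by
    refine lt_of_lt_of_le (H18.card_quotient_lt ?_) (card_le_card_group M)
    rw [Ne, subgroupOf_eq_bot, disjoint_iff, inf_eq_left.2 hNM]
    exact hN.ne_bot
  have h2 := ih _ hlt inferInstance (fun p hp => cp_of_cyclic hp (hcy p hp))
    (fun p hp _ => hcy p hp)
  have hc2 : ∀ L : Subgroup G, L ≤ M → Nat.card ↥(N ⊓ L) *
      Nat.card ((L.subgroupOf M).map (QuotientGroup.mk' N')) = Nat.card L := fun L hL => by
    rw [← card_subgroupOf hL, ← card_map_mk N' (L.subgroupOf M),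
      ← card_subgroupOf (inf_le_right.trans hL)]
    rfl
  obtain ⟨c, hc⟩ := h2 ((H.subgroupOf M).map (QuotientGroup.mk' N'))
    ((K.subgroupOf M).map (QuotientGroup.mk' N'))
    (Nat.eq_of_mul_eq_mul_left (card_pos' (N ⊓ H)) (by rw [hc2 H hHM, ← hg, hc2 K hKM, e']))
  obtain ⟨c, hc⟩ := lift N' hc
  have h3 := congrArg (map M.subtype) hc
  have h4 : (cj c (H.subgroupOf M)).map M.subtype = cj (c : G) H := by
    rw [map_cj, map_subgroupOf_eq_of_le hHM]; rfl
  rw [Subgroup.map_sup, Subgroup.map_sup, h4, map_subgroupOf_eq_of_le hNM,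
    map_subgroupOf_eq_of_le hKM] at h3
  obtain ⟨g', hg'⟩ := finish hNq hel.1 h3.symm (by
    rw [← hcj c, ← cj_inf, ← hg, cj_of_mem_nrm c.2, hcj]) (by
    have := (hsyl (cj (c : G) H)).idx
    rwa [inf_relIndex_right] at this)
  exact ⟨_, by rw [hg', ← cj_mul]⟩

/-- Let G be a finite solvable group in which, for every prime p, any two p-subgroups of the same order are conjugate, and suppose the Sylow p-subgroups of G are cyclic for all primes p with at most one exception. Then any two subgroups of G of the same order are conjugate. -/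
theorem result {G : Type*} [Group G] [Finite G]
    [Group.IsSolvable G] (hD : ∀ p : ℕ, p.Prime → ∀ H K : Subgroup G, IsPGroup p H → IsPGroup p K → Nat.card H = Nat.card K →
      ∃ g : G, K = H.map (MulAut.conj g).toMonoidHom)
    (r : ℕ) (hcyc : ∀ p : ℕ, p.Prime → p ≠ r → ∀ P : Sylow p G, IsCyclic P) :
    ∀ H K : Subgroup G, Nat.card H = Nat.card K → ∃ g : G, K = H.map (MulAut.conj g).toMonoidHom := by
  refine main r G inferInstance hD fun p hp hpr P hP => ?_
  haveI := Fact.mk hp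
  obtain ⟨S, hS⟩ := hP.exists_le_sylow
  exact cyclic_of_le (hcyc p hp hpr S) hS

end Cfsg.Agent.S4022
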