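import Cfsg.Statements.S4024
import Cfsg.Agent.H18.CGrp
import Cfsg.Agent.H18.PSolv
import Cfsg.Agent.H52.Sec6b
import Cfsg.Agent.H2.Core

set_option autoImplicit false
open Cfsg

namespace Cfsg.Agent.S4024

open Cfsg hiding pRank
open H46 Subgroup H18.CG

/-- Let p be an odd prime and G a finite group in which any two p-subgroups of the same order are conjugate, with Sylow p-subgroup P. If H is a normal p-solvable subgroup of G whose order is divisible by p, then P is abelian, and either P ≤ H or P is cyclic. -/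
theorem result {G : Type*} [Group G] [Finite G]
    {p : ℕ} [Fact p.Prime] (hp : p ≠ 2) (hC : ∀ H K : Subgroup G, IsPGroup p H → IsPGroup p K → Nat.card H = Nat.card K →
      ∃ g : G, K = H.map (MulAut.conj g).toMonoidHom) (P : Sylow p G)
    (H : Subgroup G) [H.Normal] (hsolv : Cfsg.IsPSolvable p H) (hdiv : p ∣ Nat.card H) :
    IsMulCommutative P ∧ ((P : Subgroup G) ≤ H ∨ IsCyclic P) := by
  have hp' : p.Prime := Fact.out
  have hS : IsSylowOf p (P : Subgroup G) ⊤ := isSylowOf_top P
  have key : ∀ K : Subgroup G, K.Normal → p ∣ Nat.card K → ∀ x : G, x ^ p = 1 → x ∈ K := by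
    intro K hK hd x hx
    by_cases h1 : x = 1
    · rw [h1]; exact one_mem _
    obtain ⟨y, hy, hyp⟩ := cauchy hp' hd
    have hxp : orderOf x = p := orderOf_eq_prime hx h1
    obtain ⟨g, hg⟩ := hC (zpowers y) (zpowers x)
      (IsPGroup.of_card (n := 1) (by rw [card_zpowers', hyp, pow_one]))
      (IsPGroup.of_card (n := 1) (by rw [card_zpowers', hxp, pow_one]))
      (by rw [card_zpowers', card_zpowers', hyp, hxp])
    have h2 : zpowers x ≤ K := by
      rw [hg]
      rintro _ ⟨w, hw, rfl⟩
      exact hK.conj_mem w (zpowers_le.2 hy hw) g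
    exact h2 (mem_zpowers x)
  rcases CP.sylow hC P.isPGroup' with h | h | h | ⟨-, h⟩
  · exact ⟨comm_of_cyclic h, Or.inr h⟩
  · exact ⟨h.1, Or.inl fun x hx => key H inferInstance hdiv x (h.2 x hx)⟩
  · exact absurd h.1 hp
  exfalso
  have hH : H ⊴ ⊤ := normalIn_top_iff.2 inferInstance
  set O := Op' p H with hO
  set K := Op'p p H with hK
  have hOn : O ⊴ ⊤ := hH.piCoreOf _
  have hKn : K.Normal := by
    haveI : (pPrimeCore p H).Characteristic := by
      rw [H18.pPrimeCore_eq_piCore]; infer_instance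
    haveI : (pPrimePCore p H).Characteristic :=
      Subgroup.Characteristic.comap_quotient_mk (H2.pCore_characteristic p _)
    exact inferInstanceAs ((pPrimePCore p H).map H.subtype).Normal
  have hOK : O ≤ K := by
    rw [hO, Op'_eq_pPrimeCore hp']
    exact map_mono H18.pPrimeCore_le_pPrimePCore
  have hKd : p ∣ Nat.card K := by
    by_contra hn
    have h1 : K ≤ O := le_piCoreOf ((isPi_compl_singleton hp').2 hn)
      (normalIn_map_subtype inferInstance)
    have h2 : pPrimePCore p H = pPrimeCore p H := by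
      refine le_antisymm ?_ H18.pPrimeCore_le_pPrimePCore
      rw [hO, Op'_eq_pPrimeCore hp'] at h1
      exact (map_le_map_iff_of_injective H.subtype_injective).1 h1
    have h3 := H18.isPSolvable_quotient hsolv (pPrimeCore p H)
    by_cases h4 : pPrimeCore p H = ⊤
    · have := H18.coprime_card_pPrimeCore (G := H) p
      rw [h4, card_top] at this
      exact (hp'.coprime_iff_not_dvd.1 this.symm) hdiv
    haveI : Nontrivial (H ⧸ pPrimeCore p H) := QuotientGroup.nontrivial_iff.2 h4
    rcases H18.isPSolvable_core_ne_bot h3 with h5 | h5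
    · apply h5
      rw [H18.pCore_eq_piCore, H18.piCore_quotient_eq_bot_iff, ← H18.pPrimePCore_eq_up, h2]
    · exact h5 (H18.pPrimeCore_quotient_pPrimeCore p)
  have hPK : (P : Subgroup G) ≤ K := fun x hx => key K hKn hKd x (h.exp x hx)
  have hPK' : IsSylowOf p (P : Subgroup G) K := hS.of_le hPK le_top
  have h1 := hPK'.sup_eq_of_idx hOK (H52.pnat_relIndex_Op'p hp' H)
  have h2 := frattini_arg hp' (normalIn_top_iff.2 hKn) hPK'
  rw [← h1, top_inf_eq, sup_assoc, sup_eq_right.2 le_nrm_self] at h2
  have hn : (O ⊔ Zc (P : Subgroup G)).Normal := normalIn_top_iff.1 ⟨le_top, by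
    rw [← h2]
    exact sup_le (le_sup_left.trans le_nrm_self)
      (nrm_sup (le_top.trans hOn.nrm) (nrm_zc le_rfl))⟩
  have hd : p ∣ Nat.card ↥(O ⊔ Zc (P : Subgroup G)) :=
    h.zc.1.symm.dvd.trans (card_dvd_of_le le_sup_right)
  have h3 : (P : Subgroup G) ≤ O ⊔ Zc (P : Subgroup G) := fun x hx => key _ hn hd x (h.exp x hx)
  have h4 := (isPiHallOf_of_sup (le_top.trans hOn.nrm) (isPi_piCoreOf _ H)
    (hS.isPi.of_le (inf_le_left : Zc (P : Subgroup G) ≤ P))).eq_of_le hS.isPi inf_le_left h3
  exact h.nc (h4 ▸ comm_zc _)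

end Cfsg.Agent.S4024
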