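import Cfsg.Statements.S4027
import Cfsg.Agent.S3861

set_option autoImplicit false
open Cfsg

namespace Cfsg.Agent.S4027

/-- Let G be a finite group in which every element x of odd order satisfies N_G(⟨x⟩) = C_G(x). Then the Sylow 2-subgroups of G are normal. -/
theorem result {G : Type*} [Group G] [Finite G]
    (hirr : ∀ x : G, (∀ r : ℕ, r.Prime → r ∣ orderOf x → r ≠ 2) →
      Subgroup.normalizer ((Subgroup.zpowers x : Subgroup G) : Set G) ≤ Subgroup.centralizer {x}) (P : Sylow 2 G) :
    (P : Subgroup G).Normal := by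
  refine (S3861.result P).1 fun x hx hodd hc => hx ?_
  obtain ⟨t, ht⟩ := isConj_iff.1 hc
  have h1 := hirr x (fun r _ hd e => (Nat.not_even_iff_odd.2 hodd) (even_iff_two_dvd.2 (e ▸ hd)))
    (H98.mem_normalizer_of_cj_le (g := t) (by
      rw [H98.cj, MonoidHom.map_zpowers, Subgroup.zpowers_le]
      exact (congrArg (· ∈ _) ht).mpr (inv_mem (Subgroup.mem_zpowers _))))
  rw [Subgroup.mem_centralizer_singleton_iff.1 h1, mul_inv_cancel_right, ← mul_eq_one_iff_eq_inv,
    ← sq] at ht
  exact orderOf_eq_one_iff.1 (Nat.eq_one_of_dvd_coprimes (Nat.coprime_two_left.2 hodd)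
    (orderOf_dvd_of_pow_eq_one ht) dvd_rfl)

end Cfsg.Agent.S4027
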