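import Cfsg.Statements.S4031
import Cfsg.Agent.H13.S3Cls
import Cfsg.Agent.H42.ReeFinal
import Cfsg.Agent.S2758
import Cfsg.Agent.H83.SC3Struct
import Cfsg.Agent.H55.Basic
import Cfsg.Agent.H51.GoldHub
import Cfsg.Agent.H29.Burnside

set_option autoImplicit false
open Cfsg

namespace Cfsg.Agent.S4031

/-- Let G be a finite non-abelian simple group in which N_G(⟨x⟩) = C_G(x) for every 3-element x. Then either G is isomorphic to PSL₂(q) with q an odd power of 3, q ≥ 27, or G is simple of the order of a Suzuki group (so 3 does not divide its order). -/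
theorem result {G : Type*} [Group G] [Finite G] [IsSimpleGroup G] (hna : ¬ IsMulCommutative G)
    (hirr : ∀ x : G, (∀ r : ℕ, r.Prime → r ∣ orderOf x → r = 3) →
      Subgroup.normalizer ((Subgroup.zpowers x : Subgroup G) : Set G) ≤ Subgroup.centralizer {x}) :
    (∃ f : ℕ, 1 ≤ f ∧ Nonempty (G ≃* Matrix.ProjectiveSpecialLinearGroup (Fin 2) (GaloisField 3 (2 * f + 1)))) ∨
    Cfsg.IsSuzuki G := by
  have : Fact (Nat.Prime 3) := ⟨Nat.prime_three⟩
  rcases H13.s3FreeSimple H51.st1169 H42.Ree.walterB G inferInstance hna (fun h => by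
    obtain ⟨e⟩ := H83.nonempty_perm3_equiv_dih
    obtain ⟨x, y, -, ⟨k, hk⟩, h1, h2⟩ :=
      (Cfsg.Agent.S2758.result (p := 3) (by decide)).2.1 ((H94.involves_congr_left e).1 h)
    have h3 := hirr y (fun r hr hd => (Nat.prime_dvd_prime_iff_eq hr Nat.prime_three).1
      (hr.dvd_of_dvd_pow (hk ▸ hd))) (H98.mem_normalizer_of_cj_le (g := x) (by
        rw [H98.cj, MonoidHom.map_zpowers, Subgroup.zpowers_le]
        change x * y * x⁻¹ ∈ _
        rw [h2]
        exact Subgroup.inv_mem _ (Subgroup.mem_zpowers y)))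
    rw [Subgroup.mem_centralizer_singleton_iff.1 h3, mul_inv_cancel_right] at h2
    refine h1 ((pow_eq_one_iff_of_coprime (show Nat.Coprime 2 (3 ^ k) from
      Nat.Coprime.pow_right _ (by decide))).1 ⟨?_, hk ▸ pow_orderOf_eq_one y⟩)
    rw [pow_two, ← eq_inv_iff_mul_eq_one]
    exact h2) with h | ⟨F, _, _, n, hF, ⟨e⟩⟩
  · exact Or.inr (H30.isSuzuki_of_iso h)
  have := Fintype.ofFinite (GaloisField 3 (2 * n + 1))
  refine Or.inl ⟨n, Nat.pos_of_ne_zero ?_, ⟨e.trans (H55.pslCongr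
    (FiniteField.ringEquivOfCardEq (hF.trans ?_)))⟩⟩
  · rintro rfl
    have h1 := H61.two_mul_card_psl (F := F) (by rw [Nat.card_eq_fintype_card, hF]; decide)
    rw [← Nat.card_congr e.toEquiv, Nat.card_eq_fintype_card (α := F), hF] at h1
    have h2 : Nat.card G = 2 ^ 2 * 3 ^ 1 := by omega
    exact hna ⟨⟨IsSimpleGroup.comm_iff_isSolvable.2
      (H29.isSolvable_of_card_dvd_pow_mul_pow Nat.prime_two Nat.prime_three h2.dvd)⟩⟩
  · rw [← Nat.card_eq_fintype_card, GaloisField.card 3 _ (by omega)]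

end Cfsg.Agent.S4031
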