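import Cfsg.Statements.S4038
import Cfsg.Agent.H18.InvMax2

set_option autoImplicit false
open Cfsg

namespace Cfsg.Agent.S4038

open Subgroup SemidirectProduct

/-- Let A and G be finite groups of coprime orders with A acting on G by automorphisms. Suppose G has a proper A-invariant subgroup M, maximal among proper A-invariant subgroups, which is nilpotent and whose Sylow 2-subgroups have nilpotency class at most 2. Then G is solvable. -/
theorem result {G A : Type*} [Group G] [Finite G]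
    [Group A] [Finite A] (φ : A →* MulAut G) (hcop : (Nat.card A).Coprime (Nat.card G))
    (M : Subgroup G) (hMtop : M ≠ ⊤) (hMinv : ∀ a : A, ∀ m : G, m ∈ M → φ a m ∈ M)
    (hMmax : ∀ H : Subgroup G, M ≤ H → H ≠ ⊤ → (∀ a : A, ∀ h : G, h ∈ H → φ a h ∈ H) → H = M)
    (hnil : Group.IsNilpotent M) (h2 : ∀ S : Sylow 2 ↥M, Group.nilpotencyClass ↥(S : Subgroup ↥M) ≤ 2) :
    Group.IsSolvable G := by
  have : Finite (G ⋊[φ] A) := Finite.of_equiv _ SemidirectProduct.equivProd.symm
  have : Fact (Nat.Prime 2) := ⟨Nat.prime_two⟩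
  have hi : Function.Injective (inl : G →* G ⋊[φ] A) := inl_injective
  have key : ∀ H : Subgroup G, (inr : A →* G ⋊[φ] A).range ≤
      H1.Gold.nor (H.map (inl : G →* G ⋊[φ] A)) ↔
      ∀ a : A, ∀ h : G, h ∈ H → φ a h ∈ H := fun H => by
    constructor
    · intro k a h hh
      have := H98.conj_mem_of_mem_normalizer (k ⟨a, rfl⟩) (mem_map_of_mem inl hh)
      rwa [← map_inv, ← inl_aut, mem_map_iff_mem hi] at this
    · rintro k _ ⟨a, rfl⟩
      refine H98.mem_normalizer_of_cj_le ?_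
      rintro _ ⟨_, ⟨h, hh, rfl⟩, rfl⟩
      exact ⟨_, k a h hh, by simp [inl_aut]⟩
  have h := H18.IM.Hyp.solvable _ (G := (⊤ : Subgroup G).map (inl : G →* G ⋊[φ] A))
    (A := (inr : A →* G ⋊[φ] A).range) (M := M.map inl) rfl
    ⟨(key ⊤).2 fun _ _ _ => mem_top _, ?_, (map_lt_map_iff_of_injective hi).2 hMtop.lt_top,
      (key M).2 hMinv, fun H h1 h2 h3 => ?_, H2.isNilpotent_map _ _, ?_⟩
  · exact Group.isSolvable_of_isSolvable_injective 
      (f := ((inl : G →* G ⋊[φ] A).subgroupMap ⊤).comp (topEquiv (G := G)).symm.toMonoidHom)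
      fun a b e => hi (congrArg Subtype.val e)
  · rwa [card_map_of_injective hi, card_top, MonoidHom.range_eq_map,
      card_map_of_injective inr_injective, card_top]
  · obtain ⟨K, rfl⟩ : ∃ K : Subgroup G, K.map inl = H :=
      ⟨_, map_comap_eq_self (by rwa [MonoidHom.range_eq_map])⟩
    by_cases e : K = ⊤
    · exact Or.inr (by rw [e])
    · exact Or.inl (by rw [hMmax K ((map_le_map_iff_of_injective hi).1 h1) e ((key K).1 h3)])
  · obtain ⟨S⟩ : Nonempty (Sylow 2 M) := inferInstance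
    refine ⟨_, (H98.isSyl_map_subtype S).map_of_injective hi, ?_⟩
    rintro _ ⟨_, ⟨a, ha, rfl⟩, rfl⟩ _ ⟨_, ⟨b, hb, rfl⟩, rfl⟩ _ ⟨_, ⟨c, hc, rfl⟩, rfl⟩
    have := S.isPGroup'.isNilpotent
    have k := Subgroup.lowerCentralSeries_eq_bot_iff_nilpotencyClass_le.2 (h2 S)
    rw [Subgroup.lowerCentralSeries_succ, commutator_eq_bot_iff_le_centralizer] at k
    have k2 := congrArg (fun x : (S : Subgroup M) => (inl ((x : M) : G) : G ⋊[φ] A))
      (k (commutator_mem_commutator (mem_top ⟨a, ha⟩) (mem_top ⟨b, hb⟩)) ⟨c, hc⟩ (mem_top _))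
    simpa [commutatorElement_def] using k2

end Cfsg.Agent.S4038
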