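import Cfsg.Statements.S4040
import Cfsg.Agent.H18.NilMax
import Cfsg.Agent.H7.ThompsonNPC
import Cfsg.Agent.H5.ThompsonCond
import Cfsg.Agent.H12.Thompson

set_option autoImplicit false
open Cfsg

namespace Cfsg.Agent.S4040

/-- A finite group possessing a maximal subgroup that is nilpotent of odd order is solvable. -/
theorem result {G : Type*} [Group G] [Finite G]
    (M : Subgroup G) (hmax : IsCoatom M) (hnil : Group.IsNilpotent M) (hodd : Odd (Nat.card M)) :
    Group.IsSolvable G := by
  refine H18.isSolvable_of_nilpotent_coatom (fun X _ => Odd (Nat.card X))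
    (fun X Y _ _ _ f hf h => h.of_dvd_nat (Subgroup.card_dvd_of_surjective f hf)) ?_ G M hmax hnil hodd
  intro G _ _ M hM hn hodd hcf p hp P h1 h2
  have hp2 : p ≠ 2 := by
    rintro rfl
    exact (H98.isSyl_sylow_of_le P h1).eq_bot_iff.not.1 h2
      (by rwa [← even_iff_two_dvd, Nat.not_even_iff_odd])
  refine H7.hasNPC_of_centerThompson hp2 P ?_
  have h0 : centerThompsonOf p (P : Subgroup G) ≠ ⊥ := by
    have hJ : thompsonSubgroupOf p (P : Subgroup G) ≤ P := Subgroup.map_subtype_le _
    haveI := (P.isPGroup'.to_le hJ).isNilpotent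
    have := H2.inf_inf_centralizer_ne_bot (N := thompsonSubgroupOf p (P : Subgroup G))
      (K := thompsonSubgroupOf p (P : Subgroup G)) Subgroup.le_normalizer (by
        rw [inf_idem]
        exact H12.thompsonSubgroupOf_ne_bot
          (not_not.1 ((H98.isSyl_self P.isPGroup').eq_bot_iff.not.1 h2)))
    rwa [inf_idem] at this
  have h3 := H18.normalizer_eq_of_coatom hM hcf h0 ((H7.centerThompsonOf_le _).trans h1)
    ((H18.le_normalizer_of_isNilpotent (H98.isSyl_sylow_of_le P h1)).trans
      (H7.normalizer_le_normalizer_centerThompsonOf _))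
  exact H7.hasNPC_of_le h3.le (H5.hasNPC_of_isNilpotent p)

end Cfsg.Agent.S4040
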