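import Cfsg.Statements.S4049
import Cfsg.Agent.S3861
import Cfsg.Agent.H18.Homog

set_option autoImplicit false
open Cfsg

namespace Cfsg.Agent.S4049

/-- Let G be a finite group such that N_G(H)/C_G(H) has odd order for every nontrivial subgroup H of odd order. Then the Sylow 2-subgroups of G are normal. -/
theorem result {G : Type*} [Group G] [Finite G]
    (hhom : ∀ H : Subgroup G, H ≠ ⊥ → ¬ 2 ∣ Nat.card ↥H →
        ¬ 2 ∣ (Subgroup.centralizer (H : Set G)).relIndex (Subgroup.normalizer (H : Set G))) (P : Sylow 2 G) :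
    (P : Subgroup G).Normal := by
  refine (S3861.result P).1 fun x hx hodd hc => hx ?_
  obtain ⟨t, ⟨j, hj⟩, ht⟩ := (S3863.result x hc).1
  have h0 := hhom (Subgroup.zpowers x) (by simpa using hx) (by
    rwa [Nat.card_zpowers, ← even_iff_two_dvd, Nat.not_even_iff_odd])
  have h1 : t ∈ Subgroup.normalizer (Subgroup.zpowers x : Set G) :=
    H98.mem_normalizer_of_cj_le (by
      rw [H98.cj, MonoidHom.map_zpowers, Subgroup.zpowers_le]
      exact (congrArg (· ∈ _) ht).mpr (inv_mem (Subgroup.mem_zpowers _)))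
  have h2 := H18.mem_centralizer_of_coprime_relIndex h1
    (hj ▸ ((Nat.Prime.coprime_iff_not_dvd Nat.prime_two).2 h0).pow_left j)
  rw [H18.mem_centralizer_zpowers_iff.1 h2, mul_inv_cancel_right, ← mul_eq_one_iff_eq_inv,
    ← sq] at ht
  exact orderOf_eq_one_iff.1 (Nat.eq_one_of_dvd_coprimes (Nat.coprime_two_left.2 hodd)
    (orderOf_dvd_of_pow_eq_one ht) dvd_rfl)

end Cfsg.Agent.S4049
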