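import Cfsg.Statements.S4057
import Cfsg.Agent.Base
import Cfsg.Agent.S4009
import Cfsg.Agent.S0130
import Cfsg.Agent.H27.Bb1
import Cfsg.Agent.H57.Unitri
import Cfsg.Agent.H12.Linearize

set_option autoImplicit false
open Cfsg

namespace Cfsg.Agent.S4057

open Subgroup
open scoped commutatorElement

section Mat
variable {r : ℕ} {F : Type*} [Field F]

/-- weights of matrix positions -/
def w (a b : Fin r) : ℤ := 2 ^ (b : ℕ) - 2 ^ (a : ℕ)

theorem w_add (a b c : Fin r) : w a c = w a b + w b c := by simp [w]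

theorem w_pos {a b : Fin r} : 0 < w a b ↔ a < b := by
  rw [w, sub_pos, pow_lt_pow_iff_right₀ (by norm_num : (1 : ℤ) < 2), Fin.lt_def]

theorem w_lt (a b : Fin r) : w a b < 2 ^ r := by
  have h1 : (2 : ℤ) ^ (b : ℕ) < 2 ^ r := pow_lt_pow_right₀ (by norm_num) b.2
  have h2 : (0 : ℤ) < 2 ^ (a : ℕ) := by positivity
  rw [w]; omega

theorem w_inj {a b c d : Fin r} (h : 0 < w a b) (e : w a b = w c d) : a = c ∧ b = d := by
  have key : ∀ a b c d : Fin r, c < d → w a b = w c d → ¬ b < d := by
    intro a b c d h1 e h2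
    obtain ⟨k, hk⟩ : ∃ k, (d : ℕ) = k + 1 := ⟨d - 1, by have := Fin.lt_def.1 h1; omega⟩
    have f1 : (2 : ℤ) ^ (b : ℕ) ≤ 2 ^ k :=
      pow_le_pow_right₀ (by norm_num) (by have := Fin.lt_def.1 h2; omega)
    have f2 : (2 : ℤ) ^ (c : ℕ) ≤ 2 ^ k :=
      pow_le_pow_right₀ (by norm_num) (by have := Fin.lt_def.1 h1; omega)
    have f3 : (0 : ℤ) < 2 ^ (a : ℕ) := by positivity
    simp only [w, hk, pow_succ] at e
    omega
  have hbd : b = d := le_antisymm (not_lt.1 (key c d a b (w_pos.1 h) e.symm))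
    (not_lt.1 (key a b c d (w_pos.1 (e ▸ h)) e))
  subst hbd
  refine ⟨Fin.ext ?_, rfl⟩
  simp only [w, sub_right_inj] at e
  exact pow_right_injective₀ (by norm_num) (by norm_num) e

/-- vanishing below a weight -/
def Fm (m : ℤ) (M : Matrix (Fin r) (Fin r) F) : Prop := ∀ a b, w a b < m → M a b = 0

theorem Fm.mul {m m' : ℤ} {M N : Matrix (Fin r) (Fin r) F} (h : Fm m M) (h' : Fm m' N) :
    Fm (m + m') (M * N) := by
  intro a c hac
  rw [Matrix.mul_apply]
  refine Finset.sum_eq_zero fun b _ => ?_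
  by_cases e : w a b < m
  · rw [h a b e, zero_mul]
  · rw [h' b c (by have := w_add a b c; omega), mul_zero]

theorem fm_one {g : GL (Fin r) F} (hg : g ∈ H57.unitriGL r F) :
    Fm 1 ((g : Matrix (Fin r) (Fin r) F) - 1) := by
  intro a b h
  have h1 : ¬ a < b := fun e => by have := w_pos.2 e; omega
  rcases (not_lt.1 h1).eq_or_lt with e | e
  · subst e; simp [(H57.mem_unitriGL.1 hg).2]
  · simp [(H57.mem_unitriGL.1 hg).1 a b e, Matrix.one_apply_ne e.ne']

theorem mul_lead {m : ℤ} (hm : 1 ≤ m) {u v : Matrix (Fin r) (Fin r) F} (hu : Fm m (u - 1))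
    (hv : Fm m (v - 1)) (a b : Fin r) (h : w a b ≤ m) :
    (u * v - 1) a b = (u - 1) a b + (v - 1) a b := by
  have e : u * v - 1 = (u - 1) + (v - 1) + (u - 1) * (v - 1) := by noncomm_ring
  rw [e, Matrix.add_apply, Matrix.add_apply, hu.mul hv a b (by omega), add_zero]

theorem Fm.mul' {m : ℤ} (hm : 1 ≤ m) {u v : Matrix (Fin r) (Fin r) F} (hu : Fm m (u - 1))
    (hv : Fm m (v - 1)) : Fm m (u * v - 1) := fun a b h => by
  rw [mul_lead hm hu hv a b h.le, hu a b h, hv a b h, add_zero]

theorem pow_lead {m : ℤ} (hm : 1 ≤ m) {u : Matrix (Fin r) (Fin r) F} (hu : Fm m (u - 1)) (c : ℕ) :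
    Fm m (u ^ c - 1) ∧ ∀ a b, w a b ≤ m → (u ^ c - 1) a b = c * (u - 1) a b := by
  induction c with
  | zero => exact ⟨fun a b _ => by simp, fun a b _ => by simp⟩
  | succ c ih =>
    rw [pow_succ]
    refine ⟨ih.1.mul' hm hu, fun a b h => ?_⟩
    rw [mul_lead hm ih.1 hu a b h, ih.2 a b h]; push_cast; ring

/-- leading positions occurring in a subgroup -/
def SS (K : Subgroup (GL (Fin r) F)) (i j : Fin r) : Prop :=
  ∃ g ∈ K, Fm (w i j) ((g : Matrix (Fin r) (Fin r) F) - 1) ∧
    ((g : Matrix (Fin r) (Fin r) F) - 1) i j ≠ 0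

theorem SS.pos {K : Subgroup (GL (Fin r) F)} (hK : K ≤ H57.unitriGL r F) {i j : Fin r}
    (h : SS K i j) : 0 < w i j := by
  obtain ⟨g, hg, -, h⟩ := h
  by_contra hc
  exact h (fm_one (hK hg) i j (by omega))

theorem SS.trans {K : Subgroup (GL (Fin r) F)} (hK : K ≤ H57.unitriGL r F) {i j l : Fin r}
    (h1 : SS K i j) (h2 : SS K j l) : SS K i l := by
  have p1 := h1.pos hK
  have p2 := h2.pos hK
  obtain ⟨g, hg, a1, a2⟩ := h1
  obtain ⟨h, hh, b1, b2⟩ := h2
  have hz := fm_one (hK (mul_mem (inv_mem hg) (inv_mem hh)))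
  obtain ⟨X, hX⟩ : ∃ X, X = (g : Matrix (Fin r) (Fin r) F) - 1 := ⟨_, rfl⟩
  obtain ⟨Y, hY⟩ : ∃ Y, Y = (h : Matrix (Fin r) (Fin r) F) - 1 := ⟨_, rfl⟩
  obtain ⟨Z, hZ⟩ : ∃ Z, Z = ((g⁻¹ * h⁻¹ : GL (Fin r) F) : Matrix (Fin r) (Fin r) F) - 1 := ⟨_, rfl⟩
  rw [← hX] at a1 a2
  rw [← hY] at b1 b2
  rw [← hZ] at hz
  have e : ((g * h * (g⁻¹ * h⁻¹) : GL (Fin r) F) : Matrix (Fin r) (Fin r) F) - 1 =
      (X * Y - Y * X) + (X * Y - Y * X) * Z := by
    have e1 : (h : Matrix (Fin r) (Fin r) F) * g * ((g⁻¹ * h⁻¹ : GL (Fin r) F) :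
        Matrix (Fin r) (Fin r) F) = 1 := by
      rw [← Units.val_mul, ← Units.val_mul]; simp
    rw [Units.val_mul (g * h), Units.val_mul g h, ← e1, hX, hY, hZ, e1]
    have e2 : (h : Matrix (Fin r) (Fin r) F) * g * ((g⁻¹ * h⁻¹ : GL (Fin r) F) :
        Matrix (Fin r) (Fin r) F) - 1 = 0 := by rw [e1, sub_self]
    rw [← sub_eq_zero, ← e2]
    noncomm_ring
  have hD : Fm (w i l) (X * Y - Y * X) := fun a b hab => by
    have := w_add i j l
    rw [Matrix.sub_apply, a1.mul b1 a b (by omega), b1.mul a1 a b (by omega), sub_self]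
  refine ⟨_, mul_mem (mul_mem hg hh) (mul_mem (inv_mem hg) (inv_mem hh)), ?_, ?_⟩
  · intro a b hab
    rw [e, Matrix.add_apply, hD a b hab, hD.mul hz a b (by omega), add_zero]
  · have e1 : (X * Y) i l = X i j * Y j l := by
      rw [Matrix.mul_apply, Finset.sum_eq_single j _ (by simp)]
      intro b _ hb
      by_cases c : w i b < w i j
      · rw [a1 i b c, zero_mul]
      · have c2 : w i j ≠ w i b := fun e => hb (w_inj p1 e).2.symm
        rw [b1 b l (by have := w_add i b l; have := w_add i j l; omega), mul_zero]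
    have e2 : (Y * X) i l = 0 := by
      rw [Matrix.mul_apply]
      refine Finset.sum_eq_zero fun b _ => ?_
      by_cases c : w i b < w j l
      · rw [b1 i b c, zero_mul]
      · have c2 : w j l ≠ w i b := fun e => (w_pos.1 p1).ne (w_inj p2 e).1.symm
        rw [a1 b l (by have := w_add i b l; have := w_add i j l; omega), mul_zero]
    rw [e, Matrix.add_apply, hD.mul hz i l (by omega), add_zero, Matrix.sub_apply, e1, e2, sub_zero]
    exact mul_ne_zero a2 b2

theorem elim {p : ℕ} [Fact p.Prime] {K H : Subgroup (GL (Fin r) (ZMod p))}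
    (hH : H ≤ H57.unitriGL r (ZMod p)) (hK : K ≤ H) (h : ∀ i j, SS H i j → SS K i j) : H ≤ K := by
  have key : ∀ t : ℕ, ∀ g ∈ H, Fm (2 ^ r - t) ((g : Matrix (Fin r) (Fin r) (ZMod p)) - 1) →
      g ∈ K := by
    intro t
    induction t with
    | zero =>
      intro g _ hg
      have : g = 1 := Units.ext (sub_eq_zero.1 (Matrix.ext fun a b =>
        hg a b (by simpa using w_lt a b)))
      rw [this]; exact one_mem _
    | succ t ih =>
      intro g hg h1
      by_cases h2 : Fm (2 ^ r - t) ((g : Matrix (Fin r) (Fin r) (ZMod p)) - 1)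
      · exact ih g hg h2
      simp only [Fm, not_forall] at h2
      obtain ⟨a, b, h3, h4⟩ := h2
      have h5 : w a b = 2 ^ r - (t + 1 : ℕ) := by
        by_contra hc
        exact h4 (h1 a b (by push_cast at hc ⊢; omega))
      rw [← h5] at h1
      have hS : SS H a b := ⟨g, hg, h1, h4⟩
      have hp := hS.pos hH
      obtain ⟨k, hk, k1, k2⟩ := h a b hS
      obtain ⟨c, hc⟩ := ZMod.natCast_zmod_surjective
        (-((g : Matrix (Fin r) (Fin r) (ZMod p)) - 1) a b /
          ((k : Matrix (Fin r) (Fin r) (ZMod p)) - 1) a b)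
      obtain ⟨q1, q2⟩ := pow_lead hp k1 c
      have := ih (g * k ^ c) (mul_mem hg (pow_mem (hK hk) c)) (fun a' b' h6 => by
        rw [Units.val_mul, Units.val_pow_eq_pow_val]
        by_cases h7 : w a' b' < w a b
        · exact h1.mul' hp q1 a' b' h7
        · obtain ⟨rfl, rfl⟩ := w_inj hp (show w a b = w a' b' by push_cast at h5; omega)
          rw [mul_lead hp h1 q1 a b le_rfl, q2 a b le_rfl, hc, div_mul_cancel₀ _ k2, add_neg_cancel])
      simpa using mul_mem this (inv_mem (pow_mem hk c))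
  intro g hg
  refine key (2 ^ r) g hg fun a b hab => fm_one (hH hg) a b ?_
  push_cast at hab
  omega

theorem rank_unitri {p : ℕ} [Fact p.Prime] {H : Subgroup (GL (Fin r) (ZMod p))}
    (hH : H ≤ H57.unitriGL r (ZMod p)) : Group.rank H ≤ r ^ 2 / 4 := by
  classical
  let C : Fin r → Fin r → Prop := fun i j => SS H i j ∧ ¬ ∃ l, SS H i l ∧ SS H l j
  let T : Finset (Fin r × Fin r) := Finset.univ.filter fun x => C x.1 x.2
  have hch : ∀ x : T, SS H x.1.1 x.1.2 := fun x => (Finset.mem_filter.1 x.2).2.1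
  choose f hf1 hf2 using hch
  have hK : Subgroup.closure ((Finset.univ.image f : Finset _) : Set (GL (Fin r) (ZMod p))) ≤ H := by
    rw [closure_le]
    intro g hg
    obtain ⟨x, -, rfl⟩ := Finset.mem_image.1 hg
    exact hf1 x
  have key : ∀ n : ℕ, ∀ i j : Fin r, (j : ℕ) ≤ i + n → SS H i j →
      SS (Subgroup.closure ((Finset.univ.image f : Finset _) : Set (GL (Fin r) (ZMod p)))) i j := by
    intro n
    induction n with
    | zero => intro i j h1 h2; have := Fin.lt_def.1 (w_pos.1 (h2.pos hH)); omega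
    | succ n ih =>
      intro i j h1 h2
      by_cases h : ∃ l, SS H i l ∧ SS H l j
      · obtain ⟨l, a, b⟩ := h
        have c1 := Fin.lt_def.1 (w_pos.1 (a.pos hH))
        have c2 := Fin.lt_def.1 (w_pos.1 (b.pos hH))
        exact (ih i l (by omega) a).trans (hK.trans hH) (ih l j (by omega) b)
      · have hx : (i, j) ∈ T := Finset.mem_filter.2 ⟨Finset.mem_univ _, h2, h⟩
        exact ⟨f ⟨_, hx⟩, subset_closure (Finset.mem_image_of_mem f (Finset.mem_univ _)),
          hf2 ⟨_, hx⟩⟩
  have he := le_antisymm hK (elim hH hK fun i j => key j i j (by omega))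
  rw [← Subgroup.rank_congr he]
  refine (rank_closure_finset_le_card _).trans (Finset.card_image_le.trans ?_)
  have lt : ∀ {a b}, C a b → a < b := fun h => w_pos.1 (h.1.pos hH)
  let Γ : SimpleGraph (Fin r) := SimpleGraph.fromRel C
  have hΓ : Γ.CliqueFree (2 + 1) := by
    intro s hs
    obtain ⟨a, b, c, h1, h2, h3, -⟩ := SimpleGraph.is3Clique_iff.1 hs
    simp only [Γ, SimpleGraph.fromRel_adj] at h1 h2 h3
    have no : ∀ {a b c}, C a b → C b c → C a c → False := fun x y z => z.2 ⟨_, x.1, y.1⟩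
    obtain ⟨-, h1 | h1⟩ := h1 <;> obtain ⟨-, h2 | h2⟩ := h2 <;> obtain ⟨-, h3 | h3⟩ := h3
    · exact no h1 h3 h2
    · exact no h2 h3 h1
    · exact lt_asymm ((lt h1).trans (lt h3)) (lt h2)
    · exact no h2 h1 h3
    · exact no h1 h2 h3
    · exact lt_asymm ((lt h1).trans (lt h2)) (lt h3)
    · exact no h3 h2 h1
    · exact no h3 h1 h2
  have h1 := hΓ.card_edgeFinset_le
  simp only [Fintype.card_fin] at h1
  have h2 : T.card ≤ Γ.edgeFinset.card := by
    refine Finset.card_le_card_of_injOn (fun x => s(x.1, x.2)) (fun x hx => ?_) ?_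
    · have := (Finset.mem_filter.1 hx).2
      simp only [Finset.mem_coe, SimpleGraph.mem_edgeFinset, SimpleGraph.mem_edgeSet, Γ,
        SimpleGraph.fromRel_adj]
      exact ⟨(lt this).ne, Or.inl this⟩
    · intro x hx y hy e
      have a := lt (Finset.mem_filter.1 hx).2
      have b := lt (Finset.mem_filter.1 hy).2
      rcases Sym2.eq_iff.1 e with e | e
      · exact Prod.ext e.1 e.2
      · rw [e.1, e.2] at a; exact absurd a (lt_asymm b)
  rw [Finset.card_univ, Fintype.card_coe]
  have h3 : (r % 2).choose 2 = 0 := Nat.choose_eq_zero_of_lt (Nat.mod_lt _ two_pos)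
  omega

end Mat

universe u

theorem exists_lift {G Q : Type*} [Group G] [Group Q] [Finite Q] (f : G →* Q)
    (hf : Function.Surjective f) :
    ∃ S : Finset G, S.card ≤ Group.rank Q ∧ closure (S : Set G) ⊔ f.ker = ⊤ := by
  classical
  obtain ⟨T, h1, h2⟩ := Group.rank_spec Q
  refine ⟨T.image (Function.surjInv hf), Finset.card_image_le.trans h1.le, ?_⟩
  rw [← comap_map_eq, MonoidHom.map_closure, Finset.coe_image, Set.image_image]
  simp [Function.surjInv_eq hf, h2]

theorem rank_le_add {G Q : Type*} [Group G] [Group Q] [Finite G] [Finite Q] (f : G →* Q) :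
    Group.rank G ≤ Group.rank f.ker + Group.rank f.range := by
  classical
  obtain ⟨S, h1, h2⟩ := exists_lift f.rangeRestrict f.rangeRestrict_surjective
  obtain ⟨T, h3, h4⟩ := Group.rank_spec f.ker
  have h5 : closure ((T.image Subtype.val ∪ S : Finset G) : Set G) = ⊤ := by
    rw [Finset.coe_union, Subgroup.closure_union, sup_comm, ← h2, MonoidHom.ker_rangeRestrict,
      Finset.coe_image]
    congr 1
    have := congrArg (Subgroup.map f.ker.subtype) h4
    rwa [MonoidHom.map_closure, ← MonoidHom.range_eq_map, range_subtype] at this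
  refine (Group.rank_le h5).trans ((Finset.card_union_le _ _).trans ?_)
  exact add_le_add (Finset.card_image_le.trans h3.le) h1

theorem rank_pc {p : ℕ} [hp : Fact p.Prime] (hp2 : p ≠ 2) (n : ℕ) :
    ∀ (G : Type u) [Group G] [Finite G], Nat.card G = n → IsPGroup p G → H27.Bb.PC p G →
      ∀ k, Nat.card (H48.Om p G) ≤ p ^ k → Group.rank G ≤ k := by
  classical
  induction n using Nat.strong_induction_on with
  | _ n ih =>
  intro G _ _ hn hG hPC k hk
  rcases subsingleton_or_nontrivial G with h | h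
  · rw [Group.rank_eq_zero]; exact Nat.zero_le _
  by_cases hF : H48.Om p G ≤ frattini G
  · obtain ⟨S, h1, h2⟩ := exists_lift _ (QuotientGroup.mk'_surjective (H48.Om p G))
    rw [QuotientGroup.ker_mk'] at h2
    refine (Group.rank_le (frattini_nongenerating (eq_top_iff.2
      (h2.ge.trans (sup_le_sup_left hF _))))).trans (h1.trans ?_)
    refine ih _ ?_ _ rfl (hG.to_quotient _) (hPC.quotient hp2 hG) k
      ((hPC.card_Om_quotient_le hp2 hG _ fun _ h => h).trans hk)
    rw [← hn, card_eq_card_quotient_mul_card_subgroup (H48.Om p G)]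
    refine lt_mul_of_one_lt_right Nat.card_pos ((one_lt_card_iff_ne_bot _).2 fun e => ?_)
    obtain ⟨m, hm, hc⟩ := hG.nontrivial_iff_card.1 h
    obtain ⟨x, hx⟩ := exists_prime_orderOf_dvd_card' (G := G) p (hc ▸ dvd_pow_self p hm.ne')
    have h3 : x ∈ H48.Om p G := H48.mem_Om (hx ▸ pow_orderOf_eq_one x)
    rw [e, mem_bot] at h3
    rw [h3, orderOf_one] at hx
    exact hp.out.one_lt.ne hx
  · obtain ⟨M, hM, hOM⟩ : ∃ M : Subgroup G, IsCoatom M ∧ ¬ H48.Om p G ≤ M := by
      by_contra hc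
      push Not at hc
      exact hF (le_iInf₂ hc)
    obtain ⟨x, hx, hxM⟩ := SetLike.not_le_iff_exists.1 hOM
    have hlt : (H48.Om p M).map M.subtype < H48.Om p G := lt_of_le_of_ne (H48.map_Om_le _)
      (fun e => hxM (map_subtype_le _ (e ▸ hx)))
    have h1 := S4009.v_lt hG hlt
    rw [S4009.card_v hG, Nat.pow_le_pow_iff_right hp.out.one_lt] at hk
    have h2 := ih _ (by
      rw [← hn]
      exact lt_of_le_of_ne M.card_le_card_group
        (fun e => hM.1 (eq_top_of_card_eq M e))) M rfl (hG.to_subgroup M)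
      (hPC.subgroup M) (k - 1) (by
        rw [← card_map_of_injective M.subtype_injective, S4009.card_v hG,
          Nat.pow_le_pow_iff_right hp.out.one_lt]
        omega)
    obtain ⟨T, h3, h4⟩ := Group.rank_spec M
    have h5 : closure ((insert x (T.image Subtype.val) : Finset G) : Set G) = ⊤ := by
      have := congrArg (Subgroup.map M.subtype) h4
      rw [MonoidHom.map_closure, ← MonoidHom.range_eq_map, range_subtype] at this
      refine hM.2 _ (lt_of_le_of_ne ?_ fun e => hxM (e ▸ subset_closure (by simp)))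
      refine this.ge.trans ?_
      apply Subgroup.closure_mono
      rw [Finset.coe_insert, Finset.coe_image]
      exact Set.subset_insert _ _
    refine (Group.rank_le h5).trans ((Finset.card_insert_le _ _).trans ?_)
    have := Finset.card_image_le (s := T) (f := Subtype.val)
    omega

/-- Let p be an odd prime and P a finite p-group in which every normal abelian subgroup can be generated by k elements. Then every subgroup of P can be generated by at most ⌊k(k+4)/4⌋ elements. -/
theorem result {P : Type*} [Group P] [Finite P] {p : ℕ} [Fact p.Prime]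
    (hp : p ≠ 2) (hP : IsPGroup p P) (k : ℕ)
    (hab : ∀ A : Subgroup P, A.Normal → IsMulCommutative A → ∃ S : Finset P, S.card ≤ k ∧ Subgroup.closure (S : Set P) = A) :
    ∀ H : Subgroup P, ∃ S : Finset P, S.card ≤ k * (k + 4) / 4 ∧ Subgroup.closure (S : Set P) = H := by
  classical
  intro H
  obtain ⟨A, ⟨hAn, hAc, hAe⟩, hmax⟩ := (Set.toFinite
    {A : Subgroup P | A.Normal ∧ IsMulCommutative A ∧ ∀ a ∈ A, a ^ p ^ 1 = 1}).exists_maximal
    ⟨⊥, inferInstance, inferInstance, fun a ha => by rw [mem_bot.1 ha, one_pow]⟩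
  have hom := S0130.result hP 1 (by rwa [pow_one]) A hAc hAe
    (fun B a b c d => le_antisymm (hmax ⟨a, b, c⟩ d) d)
  simp only [pow_one] at hAe hom
  obtain ⟨r, hr⟩ := IsPGroup.iff_card.1 (hP.to_subgroup A)
  have hrk : r ≤ k := by
    obtain ⟨S, h1, h2⟩ := hab A hAn hAc
    have h3 : Group.rank A ≤ k := by
      rw [← Subgroup.rank_congr h2]; exact (rank_closure_finset_le_card S).trans h1
    let _ : CommGroup A := { mul_comm := fun a b => hAc.is_comm.comm a b }
    have h4 := card_dvd_exponent_pow_rank' A (n := p) (fun g => Subtype.ext (hAe g g.2))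
    rw [hr, Nat.pow_dvd_pow_iff_le_right (Fact.out : p.Prime).one_lt] at h4
    exact h4.trans h3
  obtain ⟨e⟩ := H12.nonempty_mulAut_equiv_GL (W := A) (fun a b => hAc.is_comm.comm a b)
    (fun g => Subtype.ext (hAe g g.2)) hr
  let f : H →* GL (Fin r) (ZMod p) :=
    e.toMonoidHom.comp ((MulAut.conjNormal (H := A)).comp H.subtype)
  have hker : ∀ x : f.ker, ((x : H) : P) ∈ centralizer (A : Set P) := fun x a ha => by
    have h1 : MulAut.conjNormal (H := A) ((x : H) : P) = 1 := e.injective (by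
      rw [map_one]; exact x.2)
    have h2 : ((x : H) : P) * a * ((x : H) : P)⁻¹ = a :=
      congrArg (fun φ : MulAut A => (φ ⟨a, ha⟩ : P)) h1
    exact (mul_inv_eq_iff_eq_mul.1 h2).symm
  have hA : ∀ x : f.ker, x ^ p = 1 → ((x : H) : P) ∈ A := fun x hx =>
    hom _ (hker x) (congrArg (fun y : f.ker => ((y : H) : P)) hx)
  have hPC : H27.Bb.PC p f.ker := fun x hx => mem_center_iff.2 fun y =>
    Subtype.ext (Subtype.ext (hker y _ (hA x hx)).symm)
  have h1 : Group.rank f.ker ≤ r := rank_pc hp _ _ rfl ((hP.to_subgroup H).to_subgroup _) hPC r (by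
    rw [← hr]
    exact Nat.card_le_card_of_injective
      (fun x : H48.Om p f.ker => (⟨_, hA x (hPC.pow_eq_one x.2)⟩ : A))
      (fun a b h => Subtype.ext (Subtype.ext (Subtype.ext (congrArg (fun y : A => (y : P)) h)))))
  have h2 : Group.rank f.range ≤ r ^ 2 / 4 := by
    obtain ⟨Q, hQ⟩ := ((hP.to_subgroup H).of_surjective _
      f.rangeRestrict_surjective).exists_le_sylow
    obtain ⟨g, hg⟩ := H57.exists_sylow_gl_eq_conj p Q
    rw [Group.rank_congr (f.range.equivMapOfInjective (MulAut.conj g⁻¹).toMonoidHom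
      (MulAut.conj g⁻¹).injective)]
    refine rank_unitri ?_
    rintro _ ⟨x, hx, rfl⟩
    simpa using (hg x).1 (hQ hx)
  have h3 := rank_le_add f
  obtain ⟨T, h4, h5⟩ := Group.rank_spec H
  refine ⟨T.image Subtype.val, Finset.card_image_le.trans ?_, ?_⟩
  · have h6 : r ^ 2 ≤ k ^ 2 := Nat.pow_le_pow_left hrk 2
    have h7 : k * (k + 4) = k ^ 2 + 4 * k := by ring
    omega
  · have := congrArg (Subgroup.map H.subtype) h5
    rwa [MonoidHom.map_closure, ← MonoidHom.range_eq_map, range_subtype, coe_subtype,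
      ← Finset.coe_image] at this

end Cfsg.Agent.S4057
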