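import Cfsg.Statements.S4064
import Cfsg.Agent.H31.ZTFacts
import Cfsg.Agent.H89.Socle
import Cfsg.Agent.S1476

set_option autoImplicit false
open Cfsg

namespace Cfsg.Agent.S4064

open Subgroup H98 H31

section
variable {G : Type*} [Group G] [Finite G]

omit [Finite G] in
theorem comm_conj (hTI : ∀ x : G, Cfsg.IsTISubset (centralizer ({x} : Set G) : Set G)) {x y g : G}
    (hx : x ≠ 1) (hy : y * x = x * y) (hg : g * x = x * g) : y * (g * y * g⁻¹) = g * y * g⁻¹ * y := by
  have hx' : x ∈ centralizer ({y} : Set G) := mem_centralizer_singleton_iff.2 hy.symm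
  have : g ∈ normalizer (centralizer ({y} : Set G) : Set G) := by
    by_contra hn
    exact hx (hTI y g hn x hx' (by rw [hg]; simpa using hx'))
  exact (mem_centralizer_singleton_iff.1 (conj_mem_of_mem_normalizer this
    (mem_centralizer_singleton_iff.2 rfl))).symm

theorem nil_of_comm_conj (h : ∀ y g : G, y * (g * y * g⁻¹) = g * y * g⁻¹ * y) :
    Group.IsNilpotent G := by
  have key : ∀ (p : ℕ) (_ : Fact p.Prime) (P : Sylow p G), (P : Subgroup G).Normal := ?_
  · exact ((Group.isNilpotent_of_finite_tfae (G := G)).out 3 0).1 key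
  intro p _ P
  have : (P : Subgroup G) = pCore p G := le_antisymm (fun y hy => H83.mem_pCore_of_baer_suzuki
    fun g => by
      have h1 := P.isPGroup'.to_le (zpowers_le.2 hy)
      have h2 : IsPGroup p (zpowers (g * y * g⁻¹)) :=
        (isPGroup_cj g P.isPGroup').to_le (zpowers_le.2 (conj_mem_cj hy))
      refine (isPGroup_sup_of_le_normalizer h1 h2 (le_normalizer_of_le_centralizer ?_)).to_le
        ((closure_le _).2 ?_)
      · rintro _ ⟨k, rfl⟩
        refine mem_centralizer_iff.2 ?_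
        rintro _ ⟨l, rfl⟩
        exact (Commute.zpow_zpow (h y g) k l).symm
      · rintro _ (rfl | rfl)
        · exact mem_sup_left (mem_zpowers _)
        · exact mem_sup_right (mem_zpowers _)) (H2.pCore_le_sylow P)
  rw [this]; infer_instance

theorem cn (hTI : ∀ x : G, Cfsg.IsTISubset (centralizer ({x} : Set G) : Set G)) : IsCNGroup G :=
  fun _ hx => nil_of_comm_conj fun y g => Subtype.ext (comm_conj hTI hx
    (mem_centralizer_singleton_iff.1 y.2) (mem_centralizer_singleton_iff.1 g.2))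

theorem not_three_step (hTI : ∀ x : G, Cfsg.IsTISubset (centralizer ({x} : Set G) : Set G))
    {p : ℕ} (hp : p.Prime) : ¬ IsThreeStepGroup p G := by
  rintro ⟨h1, A, -, -, -, -, -, hne, ⟨n, hn⟩, -⟩
  have := Fact.mk hp
  obtain ⟨P⟩ : Nonempty (Sylow p G) := inferInstance
  have := P.isPGroup'.isNilpotent
  obtain ⟨⟨z, hz, hzc⟩, hz1⟩ := ne_bot_iff_exists_ne_one.1 (H2.inf_center_ne_bot_of_isNilpotent
    ((pCore p G).subgroupOf P) (by rwa [Ne, subgroupOf_eq_bot, disjoint_iff,
      inf_eq_left.2 (H2.pCore_le_sylow P)]))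
  have hz1' : (z : G) ≠ 1 := fun e => hz1 (Subtype.ext (Subtype.ext e))
  have hP : (P : Subgroup G) ≤ centralizer ({(z : G)} : Set G) := fun y hy =>
    mem_centralizer_singleton_iff.2 (congrArg Subtype.val (mem_center_iff.1 hzc ⟨y, hy⟩))
  have hN : ∀ g, g ∈ normalizer (centralizer ({(z : G)} : Set G) : Set G) := fun g => by
    by_contra hg
    exact hz1' (hTI z g hg z (hP z.2) (hP (H2.pCore_le_sylow P
      ((inferInstance : (pCore p G).Normal).conj_mem _ hz g))))
  have := cn hTI z hz1'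
  have hHS : centralizer ({(z : G)} : Set G) ≤ normalizer ((P : Subgroup G) : Set G) :=
    (normal_subgroupOf_iff_le_normalizer hP).1
      (Sylow.normal_of_normalizerCondition Group.normalizerCondition_of_isNilpotent (P.subtype hP))
  have hPn : (P : Subgroup G).Normal := normalizer_eq_top_iff.1 (eq_top_iff.2 fun g _ => by
    obtain ⟨a, ha, n, hn, rfl⟩ := (isSyl_sylow_of_le P hP).frattini_mem (hN g)
    exact mul_mem ha (hHS hn))
  have h2 := index_dvd_of_le ((H2.le_pCore P.isPGroup').trans (le_sup_left (b := A)))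
  rw [hn] at h2
  rcases n with _ | n
  · exact hne (index_eq_one.1 hn)
  · exact P.not_dvd_index ((dvd_pow_self p (by omega)).trans h2)

theorem not_zt (hTI : ∀ x : G, Cfsg.IsTISubset (centralizer ({x} : Set G) : Set G)) (h : CIT G) :
    ¬ IsZT G := by
  intro hZ
  obtain ⟨S, m, hm, ⟨u, hu, v, hv, huv⟩, hS, hi⟩ := hZ.exists_numbers
  have hcen : ∀ k ∈ (S : Subgroup G), k ≠ 1 → ∀ n ∈ normalizer ((S : Subgroup G) : Set G),
      n * k = k * n → n ∈ (S : Subgroup G) := fun k hk hk1 n hn e =>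
    mem_sylow_of_two S (h.two_of_commute' (two_of_mem S.isPGroup' hk) hk1 e) hn
  have key : ∀ K : Subgroup G, K ≤ S → normalizer ((S : Subgroup G) : Set G) ≤
      normalizer (K : Set G) → ∃ a, Nat.card K = (2 ^ (2 * m + 1)) ^ a := by
    intro K hK hn
    have := relIndex_dvd_ncard_of_centralizer_le (S : Subgroup G) _ ((K : Set G) \ {1})
      (fun n hn' t ht => ⟨conj_mem_of_mem_normalizer (hn hn') ht.1, fun e => ht.2 (by
        simpa [mul_assoc] using congrArg (n⁻¹ * · * n) (Set.mem_singleton_iff.1 e))⟩)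
      fun t ht n hn' e => hcen t (hK ht.1) ht.2 n hn' e
    obtain ⟨a, ha⟩ := IsPGroup.iff_card.1 (S.isPGroup'.to_le hK)
    rw [hi, ncard_sdiff_one, ha] at this
    obtain ⟨b, rfl⟩ := dvd_of_two_pow_sub_one_dvd this
    exact ⟨b, by rw [ha, pow_mul]⟩
  have hu1 : u ≠ 1 := fun e => huv (by simp [e])
  have hS1 : (S : Subgroup G) ≠ ⊥ := fun e => hu1 (mem_bot.1 (e ▸ hu))
  have hZ1 := omegaZ_ne_bot S.isPGroup' hS1
  obtain ⟨⟨z, hz⟩, hz1⟩ := ne_bot_iff_exists_ne_one.1 hZ1
  have hz1' : z ≠ 1 := fun e => hz1 (Subtype.ext e)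
  have hZC : omegaZ (S : Subgroup G) ≤ centralizer ({u} : Set G) := fun w hw =>
    mem_centralizer_singleton_iff.2 (hw.2.2 u hu).symm
  have hN : normalizer ((S : Subgroup G) : Set G) ≤
      normalizer (centralizer ({u} : Set G) : Set G) := fun g hg => by
    by_contra hn
    exact hz1' (hTI u g hn z (hZC hz) (hZC (conj_mem_of_mem_normalizer
      (normalizer_le_omegaZ _ hg) hz)))
  have hCS : centralizer ({u} : Set G) ≤ S := (isSyl_sylow S).le_of_le_normalizer
    (h.isPGroup_centralizer (two_of_mem S.isPGroup' hu) hu1) le_top (le_normalizer.trans hN)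
  obtain ⟨a, ha⟩ := key (omegaZ S) (fun w hw => hw.1) (normalizer_le_omegaZ _)
  obtain ⟨b, hb⟩ := key _ hCS hN
  have h1 : ¬ Nat.card (S : Subgroup G) ≤ Nat.card (centralizer ({u} : Set G)) := fun e =>
    huv (mem_centralizer_singleton_iff.1 ((eq_of_le_of_card_ge hCS e).ge hv)).symm
  have h2 : ¬ Nat.card (centralizer ({u} : Set G)) ≤ Nat.card (omegaZ (S : Subgroup G)) := fun e =>
    huv (((eq_of_le_of_card_ge hZC e).ge (mem_centralizer_singleton_iff.2 rfl)).2.2 v hv).symm
  have h3 : Nat.card (omegaZ (S : Subgroup G)) ≠ 1 := fun e => hZ1 (card_eq_one.1 e)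
  have hq : 1 < 2 ^ (2 * m + 1) := Nat.one_lt_two_pow (by omega)
  rw [hS, hb, Nat.pow_le_pow_iff_right hq] at h1
  rw [hb, ha, Nat.pow_le_pow_iff_right hq] at h2
  have : a = 0 := by omega
  rw [ha, this] at h3
  exact h3 rfl

omit [Finite G] in
theorem quat (hTI : ∀ x : G, Cfsg.IsTISubset (centralizer ({x} : Set G) : Set G)) {Q : Subgroup G}
    {n : ℕ} (e : Q ≃* QuaternionGroup (2 ^ n)) : n ≤ 1 := by
  have hz : ∀ y : QuaternionGroup (2 ^ n), y * QuaternionGroup.a (2 ^ n : ℕ) =
      QuaternionGroup.a (2 ^ n : ℕ) * y := by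
    have h0 : ((2 ^ n : ℕ) : ZMod (2 * 2 ^ n)) + (2 ^ n : ℕ) = 0 := by
      rw [← Nat.cast_add, ← two_mul, ZMod.natCast_self]
    rintro (i | i)
    · simp [add_comm]
    · simp only [QuaternionGroup.xa_mul_a, QuaternionGroup.a_mul_xa, QuaternionGroup.xa.injEq]
      rw [eq_neg_of_add_eq_zero_left h0, sub_neg_eq_add, ← eq_neg_of_add_eq_zero_left h0]
  have hz1 : ((e.symm (QuaternionGroup.a (2 ^ n : ℕ)) : Q) : G) ≠ 1 := by
    intro h
    have h1 : e.symm (QuaternionGroup.a (2 ^ n : ℕ)) = 1 := Subtype.ext h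
    rw [MulEquiv.map_eq_one_iff, ← QuaternionGroup.a_one_pow, ← orderOf_dvd_iff_pow_eq_one,
      QuaternionGroup.orderOf_a_one] at h1
    have := Nat.le_of_dvd (by positivity) h1
    have : 0 < 2 ^ n := by positivity
    omega
  have hc : ∀ y, ((e.symm y : Q) : G) * (e.symm (QuaternionGroup.a (2 ^ n : ℕ)) : Q) =
      (e.symm (QuaternionGroup.a (2 ^ n : ℕ)) : Q) * (e.symm y : Q) := fun y => by
    rw [← coe_mul, ← coe_mul, ← map_mul, ← map_mul, hz]
  have h1 := comm_conj hTI hz1 (hc (QuaternionGroup.xa 0)) (hc (QuaternionGroup.a 1))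
  simp only [← coe_mul, ← coe_inv, ← map_mul, ← map_inv, Subtype.coe_inj,
    EmbeddingLike.apply_eq_iff_eq] at h1
  have h2 : (QuaternionGroup.a 1 : QuaternionGroup (2 ^ n)) ^ 4 = 1 := by
    rw [QuaternionGroup.a_one_pow, QuaternionGroup.one_def]
    have hinv : (QuaternionGroup.a 1 : QuaternionGroup (2 ^ n))⁻¹ = QuaternionGroup.a (-1) := rfl
    simp only [hinv, QuaternionGroup.a_mul_xa, QuaternionGroup.xa_mul_a, QuaternionGroup.xa_mul_xa,
      QuaternionGroup.a.injEq] at h1
    congr 1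
    push_cast
    linear_combination -h1
  rw [← orderOf_dvd_iff_pow_eq_one, QuaternionGroup.orderOf_a_one] at h2
  have h3 := Nat.le_of_dvd (by norm_num) h2
  by_contra hc
  have := Nat.pow_le_pow_right (by norm_num : 0 < 2) (show 2 ≤ n by omega)
  omega

end

/-- Let G be a finite group in which the centralizer of every element meets each of its conjugates by elements outside its normalizer trivially. Then G is nilpotent; or G is a Frobenius group with a complement that is cyclic or isomorphic to the direct product of a cyclic group of odd order and the quaternion group of order 8; or G is isomorphic to PSL₂(2ⁿ) for some n ≥ 2. -/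
theorem result {G : Type*} [Group G] [Finite G] (hTI : ∀ x : G, Cfsg.IsTISubset (Subgroup.centralizer ({x} : Set G) : Set G)) :
    Group.IsNilpotent G ∨
    (∃ H : Subgroup G, Cfsg.IsFrobeniusComplement H ∧
      (IsCyclic H ∨ ∃ m : ℕ, Odd m ∧ Nonempty (H ≃* Multiplicative (ZMod m) × QuaternionGroup 2))) ∨
    (∃ n : ℕ, 2 ≤ n ∧ Nonempty (G ≃* Matrix.ProjectiveSpecialLinearGroup (Fin 2) (GaloisField 2 n))) := by
  have hCN := cn hTI
  by_cases hG : Group.IsSolvable G
  · rcases Cfsg.Agent.S1476.result hCN with h | ⟨K, E, -, -, hF, h⟩ | ⟨p, hp, h⟩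
    · exact Or.inl h
    · refine Or.inr (Or.inl ⟨E, hF, ?_⟩)
      rcases h with h | ⟨C, Q, rfl, hc, hC, ho, n, ⟨e⟩⟩
      · exact Or.inl h
      have hcop : (Nat.card C).Coprime (Nat.card Q) := by
        rw [Nat.card_congr e.toEquiv, Nat.card_eq_fintype_card (α := QuaternionGroup _),
          QuaternionGroup.card]
        exact Nat.Coprime.mul_right (Nat.Coprime.pow_right 2 (Nat.coprime_two_right.2 ho))
          (Nat.Coprime.pow_right n (Nat.coprime_two_right.2 ho))
      obtain ⟨f, -⟩ := H89.exists_prodEquiv_sup C Q (disjoint_of_coprime_natCard hcop) hc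
      rcases Nat.le_one_iff_eq_zero_or_eq_one.1 (quat hTI e) with rfl | rfl
      · have := QuaternionGroup.quaternionGroup_one_isCyclic
        have hQ : IsCyclic Q := isCyclic_of_surjective e.symm e.symm.surjective
        have : IsCyclic (C × Q) := Group.isCyclic_prod_iff.2 ⟨hC, hQ, hcop⟩
        exact Or.inl (isCyclic_of_surjective f f.surjective)
      · exact Or.inr ⟨_, ho, ⟨f.symm.trans ((zmodCyclicMulEquiv hC).symm.prodCongr e)⟩⟩
    · exact (not_three_step hTI hp h).elim
  have h := cit_of_cn' hG hCN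
  have he := even_of_not_solvable hG
  obtain ⟨S⟩ : Nonempty (Sylow 2 G) := inferInstance
  obtain ⟨z, hz, hz1, hzz, hc, -⟩ := exists_fixed_invol S.isPGroup' S.isPGroup' le_normalizer
    (sylow_ne_bot_of_even S he)
  have hti := hTI z
  rw [h.centralizer_eq_sylow S (two_of_mul_self hzz) hz1 hc] at hti
  have hO : pCore 2 G = ⊥ := by
    by_contra hO
    obtain ⟨⟨w, hw⟩, hw1⟩ := ne_bot_iff_exists_ne_one.1 hO
    have hn : (S : Subgroup G).Normal := normalizer_eq_top_iff.1 (eq_top_iff.2 fun g _ => by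
      by_contra hg
      exact hw1 (Subtype.ext (hti g hg w (H2.pCore_le_sylow S hw) (H2.pCore_le_sylow S
        ((inferInstance : (pCore 2 G).Normal).conj_mem _ hw g)))))
    have := S.isPGroup'.isNilpotent
    have : Group.IsSolvable (G ⧸ (S : Subgroup G)) := Cfsg.Agent.S0205.result
      (Nat.not_even_iff_odd.1 fun e => S.not_dvd_index e.two_dvd)
    exact hG (Group.isSolvable_of_ker_le_range (S : Subgroup G).subtype
      (QuotientGroup.mk' (S : Subgroup G)) (by simp))
  rcases h.ti_case hO he S (fun g x hx hx1 hg => by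
    by_contra hn; exact hx1 (hti g hn x hx hg)) with e | e | e
  · exact (hG e).elim
  · exact Or.inr (Or.inr e.galois)
  · exact (not_zt hTI h e).elim

end Cfsg.Agent.S4064
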