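import Cfsg.Agent.Base
import Cfsg.Agent.H1.Cocycle
import Cfsg.Agent.H46.Coprime
import Cfsg.Statements.S4071

set_option autoImplicit false
open Cfsg

namespace Cfsg.Agent.S4071

open Subgroup H46 in
theorem fwd {G : Type*} [Group G] [Finite G] [Group.IsSolvable G] (hnn : ¬ Group.IsNilpotent G)
    (h : ∀ H : Subgroup G, ¬ IsMulCommutative H → Subgroup.normalizer (H : Set G) = H) :
    ∃ (x : G) (A : Subgroup G) (p : ℕ), p.Prime ∧ A.Normal ∧ IsMulCommutative A ∧ (∃ k : ℕ, orderOf x = p ^ k) ∧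
      ¬ p ∣ Nat.card A ∧ (Subgroup.zpowers x).IsComplement' A ∧ x ^ p ∈ Subgroup.center G ∧
      ∀ a : G, a ∈ A → a ≠ 1 → x * a * x⁻¹ ≠ a := by
  have hab : ∀ N : Subgroup G, N.Normal → N ≠ ⊤ → IsMulCommutative N := fun N hN h1 => by
    by_contra h2
    exact h1 ((h N h2).symm.trans (normalizer_eq_top N))
  have : Nontrivial G := by
    by_contra h1
    rw [not_nontrivial_iff_subsingleton] at h1
    exact hnn inferInstance
  obtain ⟨M, hM, hp⟩ := H1.exists_normal_prime_index G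
  set p := M.index with hpM
  have := Fact.mk hp
  have hMt : M ≠ ⊤ := fun e => hp.ne_one (index_eq_one.2 e)
  have hMc := hab M hM hMt
  have hc : ∀ a ∈ M, ∀ b ∈ M, Commute a b := fun a ha b hb => setLike_mul_comm ha hb
  obtain ⟨k, m, hm, hG⟩ := Nat.exists_eq_pow_mul_and_not_dvd (Nat.card_pos (α := G)).ne' p hp.ne_one
  let A : Subgroup G :=
    { carrier := {a | a ∈ M ∧ a ^ m = 1}
      mul_mem' := fun {a b} ha hb => ⟨mul_mem ha.1 hb.1, by rw [(hc a ha.1 b hb.1).mul_pow, ha.2, hb.2, mul_one]⟩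
      one_mem' := ⟨one_mem _, one_pow _⟩
      inv_mem' := fun {a} ha => ⟨inv_mem ha.1, by rw [inv_pow, ha.2, inv_one]⟩ }
  have hAn : A.Normal := ⟨fun a ha g => ⟨hM.conj_mem a ha.1 g, by rw [conj_pow, ha.2]; simp⟩⟩
  have hAM : A ≤ M := fun a ha => ha.1
  have hAc : IsMulCommutative A := ⟨⟨fun a b => Subtype.ext (hc _ a.2.1 _ b.2.1)⟩⟩
  have hAp : ¬ p ∣ Nat.card A := fun e => by
    obtain ⟨a, ha⟩ := exists_prime_orderOf_dvd_card' p e
    exact hm (by rw [← ha, ← orderOf_coe]; exact orderOf_dvd_of_pow_eq_one a.2.2)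
  have hQ : IsPGroup p (G ⧸ A) := fun g => by
    obtain ⟨g, rfl⟩ := QuotientGroup.mk_surjective g
    refine ⟨k + 1, ?_⟩
    rw [← QuotientGroup.mk_pow, QuotientGroup.eq_one_iff]
    refine ⟨by rw [pow_succ', pow_mul]; exact pow_mem (M.pow_index_mem g) _, ?_⟩
    rw [← pow_mul, pow_succ', mul_assoc, ← hG, mul_comm, pow_mul, pow_card_eq_one', one_pow]
  obtain ⟨g, hg⟩ : ∃ g, g ∉ M := not_forall.1 fun e => hMt ((eq_top_iff' M).2 e)
  have hxM : g ^ m ∉ M := fun e => hg (by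
    have := (QuotientGroup.eq_one_iff _).2 e
    rw [QuotientGroup.mk_pow, ← orderOf_dvd_iff_pow_eq_one] at this
    rw [← QuotientGroup.eq_one_iff, ← orderOf_eq_one_iff]
    exact Nat.eq_one_of_dvd_coprimes ((Nat.Prime.coprime_iff_not_dvd hp).2 hm)
      (orderOf_dvd_natCard _) this)
  obtain ⟨j, -, hj⟩ := (Nat.dvd_prime_pow hp).1 (orderOf_dvd_of_pow_eq_one (x := g ^ m) (n := p ^ k) (by
    rw [← pow_mul, mul_comm, ← hG, pow_card_eq_one']))
  set x := g ^ m
  have hco : (Nat.card (zpowers x)).Coprime (Nat.card A) := by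
    rw [Nat.card_zpowers, hj]
    exact ((Nat.Prime.coprime_iff_not_dvd hp).2 hAp).pow_left j
  have hmax : ∀ L : Subgroup G, M ≤ L → x ∈ L → L = ⊤ := fun L h1 h2 => by
    rcases (Nat.dvd_prime hp).1 (index_dvd_of_le h1) with e | e
    · exact index_eq_one.1 e
    · have := relIndex_mul_index h1
      rw [e, ← hpM, Nat.mul_eq_right hp.ne_zero, relIndex_eq_one] at this
      exact (hxM (this h2)).elim
  have hnc : ¬ zpowers x ≤ Cent A := fun e => hnn (by
    have := hQ.isNilpotent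
    refine Subgroup.isNilpotent_of_ker_le_center (QuotientGroup.mk' A) ?_
    rw [QuotientGroup.ker_mk']
    exact centralizer_eq_top_iff_subset.1
      (hmax _ (fun b hb a ha => hc a ha.1 b hb) (e (mem_zpowers x))))
  have htop : zpowers x ⊔ A = ⊤ := by
    have h1 := h (zpowers x ⊔ A) fun e => hnc fun y hy a ha =>
      setLike_mul_comm (s := zpowers x ⊔ A) (mem_sup_right ha) (mem_sup_left hy)
    have := hQ.isNilpotent
    have h2 : ((zpowers x ⊔ A).map (QuotientGroup.mk' A)).comap (QuotientGroup.mk' A) = zpowers x ⊔ A :=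
      comap_map_eq_self (by rw [QuotientGroup.ker_mk']; exact le_sup_right)
    rw [← h2, normalizerCondition_iff_only_full_group_self_normalizing.1
      Group.normalizerCondition_of_isNilpotent ((zpowers x ⊔ A).map (QuotientGroup.mk' A)) ?_, comap_top]
    apply comap_injective (QuotientGroup.mk'_surjective A)
    rw [comap_normalizer_eq_of_surjective _ (QuotientGroup.mk'_surjective A), h2, h1]
  have hs : SolOr (zpowers x) A := Or.inl inferInstance
  have hB : (⁅A, zpowers x⁆).Normal := by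
    rw [← normalizer_eq_top_iff, eq_top_iff, ← htop]
    exact sup_le (nrm_commutator_right _ _) (nrm_commutator_left _ _)
  have hBA : ⁅A, zpowers x⁆ ≤ A := commutator_le_left _ _
  have h3 : zpowers x ⊔ ⁅A, zpowers x⁆ = ⊤ := by
    by_contra e
    have hn : (zpowers x ⊔ ⁅A, zpowers x⁆).Normal := by
      rw [← normalizer_eq_top_iff, eq_top_iff, ← htop]
      refine sup_le (le_sup_left.trans le_normalizer) ?_
      rw [le_normalizer_iff_commutator_le_left]
      exact commutator_sup_le ((commutator_comm _ _).le.trans le_sup_right)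
        ((commutator_le_left _ _).trans le_sup_right) le_normalizer
    have := hab _ hn e
    exact hnc (coprime_commGG1P le_normalizer_of_normal hco hs fun y hy a ha =>
      setLike_mul_comm (s := zpowers x ⊔ ⁅A, zpowers x⁆) (mem_sup_right ha) (mem_sup_left hy))
  refine ⟨x, A, p, hp, hAn, hAc, ⟨j, hj⟩, hAp, isComplement'_of_disjoint_and_mul_eq_univ
    (disjoint_of_coprime_natCard hco) (by rw [← mul_normal, htop, coe_top]), ?_, fun a ha h1 e => h1 ?_⟩
  · have : centralizer ({x ^ p} : Set G) = ⊤ := hmax _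
      (fun b hb => mem_centralizer_singleton_iff.2 (hc b hb _ (M.pow_index_mem x)))
      (mem_centralizer_singleton_iff.2 (Commute.self_pow x p))
    exact mem_center_iff.2 fun b => mem_centralizer_singleton_iff.1 (this ▸ mem_top b)
  · have h4 : a ∈ ⁅A, zpowers x⁆ := by
      obtain ⟨y, hy, b, hb, rfl⟩ := mem_sup_of_normal_right.1 (h3 ▸ mem_top a)
      have : y ∈ zpowers x ⊓ A := ⟨hy, (A.mul_mem_cancel_right (hBA hb)).1 ha⟩
      rw [inf_eq_bot_of_coprime' hco, mem_bot] at this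
      rwa [this, one_mul]
    rw [← mem_bot (G := G), ← coprime_abel_cent_TI hAc le_normalizer_of_normal hco]
    refine ⟨h4, ?_⟩
    rintro _ ⟨n, rfl⟩
    exact ((show Commute x a from mul_inv_eq_iff_eq_mul.1 e).zpow_left n).eq

/-- Let G be a finite solvable non-nilpotent group. Every non-abelian subgroup of G is self-normalizing if and only if G is a semidirect product ⟨x⟩ ⋉ A in which ⟨x⟩ is a p-group for some prime p, A is a normal abelian subgroup of order prime to p, x^p is central in G, and x acts fixed-point-freely on A (no non-identity element of A commutes with x). -/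
theorem result {G : Type*} [Group G] [Finite G]
    [Group.IsSolvable G] (hnn : ¬ Group.IsNilpotent G) :
    (∀ H : Subgroup G, ¬ IsMulCommutative H → Subgroup.normalizer (H : Set G) = H) ↔
    ∃ (x : G) (A : Subgroup G) (p : ℕ), p.Prime ∧ A.Normal ∧ IsMulCommutative A ∧ (∃ k : ℕ, orderOf x = p ^ k) ∧
      ¬ p ∣ Nat.card A ∧ (Subgroup.zpowers x).IsComplement' A ∧ x ^ p ∈ Subgroup.center G ∧
      ∀ a : G, a ∈ A → a ≠ 1 → x * a * x⁻¹ ≠ a := by
  refine ⟨fwd hnn, ?_⟩
  rintro ⟨x, A, p, hp, hAn, hAc, ⟨k, hk⟩, hAp, hco, hz, hf⟩ H hH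
  have hc : ∀ a ∈ A, ∀ b ∈ A, Commute a b := fun a ha b hb => setLike_mul_comm ha hb
  have hd : ∀ g : G, ∃ i : ℕ, ∃ a ∈ A, g = x ^ i * a := fun g => by
    obtain ⟨⟨⟨u, hu⟩, a⟩, e⟩ := hco.2 g
    obtain ⟨i, rfl⟩ := (mem_powers_iff_mem_zpowers.2 hu : u ∈ Submonoid.powers x)
    exact ⟨i, a, a.2, e.symm⟩
  obtain ⟨i, b, hb, hy, hi⟩ : ∃ i : ℕ, ∃ b ∈ A, x ^ i * b ∈ H ∧ ¬ p ∣ i := by
    by_contra h1
    push Not at h1
    refine hH ⟨⟨fun u v => Subtype.ext ?_⟩⟩
    obtain ⟨i, a, ha, e1⟩ := hd u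
    obtain ⟨j, b, hb, e2⟩ := hd v
    obtain ⟨i, rfl⟩ := h1 i a ha (e1 ▸ u.2)
    obtain ⟨j, rfl⟩ := h1 j b hb (e2 ▸ v.2)
    have z : ∀ n g, Commute g (x ^ (p * n)) := fun n g =>
      Subgroup.mem_center_iff.1 (pow_mul x p n ▸ pow_mem hz n) g
    rw [Subgroup.coe_mul, Subgroup.coe_mul, e1, e2]
    exact ((z j _).mul_right ((z i b).symm.mul_left (hc a ha b hb))).eq
  obtain ⟨l, hl⟩ := exists_pow_eq_self_of_coprime (x := x) (n := i)
    (hk ▸ ((hp.coprime_iff_not_dvd.2 hi).symm.pow_right k))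
  set y := x ^ i * b with hyd
  have hfy : ∀ a ∈ A, Commute y a → a = 1 := fun a ha e => by
    by_contra h1
    have e1 : Commute (x ^ i) a := by
      simpa [hyd] using e.mul_left (hc b hb a ha).inv_left
    exact hf a ha h1 (mul_inv_eq_iff_eq_mul.2 (hl ▸ e1.pow_left l).eq)
  let φ : (H ⊓ A : Subgroup G) → (H ⊓ A : Subgroup G) := fun c => ⟨(c : G)⁻¹ * (y * c * y⁻¹),
    mul_mem (inv_mem c.2) ⟨H.mul_mem (H.mul_mem hy c.2.1) (H.inv_mem hy), hAn.conj_mem _ c.2.2 _⟩⟩
  have inj : ∀ c ∈ A, ∀ d ∈ A, c⁻¹ * (y * c * y⁻¹) = d⁻¹ * (y * d * y⁻¹) → c = d := fun c h1 d h2 e => by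
    refine mul_inv_eq_one.1 (hfy _ (mul_mem h1 (inv_mem h2)) ?_)
    calc y * (c * d⁻¹) = c * (c⁻¹ * (y * c * y⁻¹)) * y * d⁻¹ := by group
      _ = _ := by rw [e]; group
  have sur : Function.Surjective φ := Finite.injective_iff_surjective.1 fun c d e =>
    Subtype.ext (inj _ c.2.2 _ d.2.2 (congrArg Subtype.val e))
  refine le_antisymm (fun n hn => ?_) Subgroup.le_normalizer
  obtain ⟨j, a, ha, rfl⟩ := hd n
  have h1 : (y ^ (l * j))⁻¹ * (x ^ j * a) ∈ A := by
    rw [← QuotientGroup.eq, QuotientGroup.mk_mul_of_mem _ ha, QuotientGroup.mk_pow, hyd,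
      QuotientGroup.mk_mul_of_mem _ hb, ← QuotientGroup.mk_pow, pow_mul, hl]
  have h2 := mul_mem (inv_mem (pow_mem (Subgroup.le_normalizer hy) (l * j))) hn
  set c := (y ^ (l * j))⁻¹ * (x ^ j * a) with hcd
  obtain ⟨d, hd'⟩ := sur ⟨c⁻¹ * (y * c * y⁻¹), by
    simpa [mul_assoc] using H.mul_mem ((Subgroup.mem_normalizer_iff''.1 h2 y).1 hy) (H.inv_mem hy),
    A.mul_mem (A.inv_mem h1) (hAn.conj_mem _ h1 _)⟩
  have h3 : c ∈ H := inj _ d.2.2 _ h1 (congrArg Subtype.val hd') ▸ d.2.1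
  exact (H.mul_mem_cancel_left (inv_mem (pow_mem hy _))).1 h3

end Cfsg.Agent.S4071
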