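import Cfsg.Agent.Base
import Cfsg.Agent.H40.Cl2
import Cfsg.Agent.H3.FrattiniP
import Cfsg.Statements.S4072

set_option autoImplicit false
open Cfsg

namespace Cfsg.Agent.S4072

open Subgroup

theorem burn {Q : Type*} [Group Q] [Finite Q] {p : ℕ} [Fact p.Prime] (hQ : Group.IsPerfect Q)
    {R : Subgroup Q} (hR : IsPGroup p R) (hc : IsMulCommutative R) (hn : normalizer (R : Set Q) = R) :
    R = ⊥ := by
  obtain ⟨S, hS⟩ := hR.exists_le_sylow
  have := S.isPGroup'.isNilpotent
  have e : R = S := le_antisymm hS (subgroupOf_eq_top.1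
    (normalizerCondition_iff_only_full_group_self_normalizing.1 Group.normalizerCondition_of_isNilpotent _
      (by rw [← subgroupOf_normalizer_eq hS, hn])))
  subst e
  have hP : normalizer ((S : Subgroup Q) : Set Q) ≤ centralizer ((S : Subgroup Q) : Set Q) :=
    hn.le.trans (le_centralizer _)
  have h1 : (MonoidHom.transferSylow S hP).ker = ⊤ := by
    rw [eq_top_iff, ← hQ.commutator_eq_top]
    refine commutator_le.2 fun a _ b _ => ?_
    rw [MonoidHom.mem_ker, map_commutatorElement, commutatorElement_eq_one_iff_mul_comm]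
    exact mul_comm' _ _
  simpa [h1] using MonoidHom.ker_transferSylow_disjoint S hP _ S.isPGroup'

theorem card_der {P : Type*} [Group P] [Finite P] {p : ℕ} [hp : Fact p.Prime] (hP : IsPGroup p P)
    (hna : ¬ IsMulCommutative P) (h : ∀ A : Subgroup P, A ≠ ⊤ → IsMulCommutative A) :
    Nat.card (_root_.commutator P) = p := by
  obtain ⟨a, b, hab⟩ : ∃ a b : P, a * b ≠ b * a := by
    by_contra h1
    push Not at h1
    exact hna ⟨⟨h1⟩⟩
  have k : ∀ a : P, ∃ A : Subgroup P, IsCoatom A ∧ a ∈ A := fun a => by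
    obtain ⟨A, hA, h1⟩ := (eq_top_or_exists_le_coatom (zpowers a)).resolve_left fun e =>
      hna (have := isCyclic_iff_exists_zpowers_eq_top.2 ⟨a, e⟩; inferInstance)
    exact ⟨A, hA, h1 (mem_zpowers a)⟩
  obtain ⟨A, hA, ha⟩ := k a
  obtain ⟨B, hB, hb⟩ := k b
  have cA := h A hA.1
  have cB := h B hB.1
  have := hP.isNilpotent
  have := Group.normalizerCondition_of_isNilpotent.normal_of_coatom _ hA
  have h1 : A ⊓ B ≤ center P := fun z hz => by
    have : centralizer ({z} : Set P) = ⊤ := hA.2 _ (lt_of_le_not_ge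
      (fun y hy => mem_centralizer_singleton_iff.2 (setLike_mul_comm hy hz.1)) fun e =>
        hab (setLike_mul_comm ha (e (mem_centralizer_singleton_iff.2 (setLike_mul_comm hb hz.2)))))
    exact mem_center_iff.2 fun y => mem_centralizer_singleton_iff.1 (this ▸ mem_top y)
  refine (H40.Cl2.card_comm hP hna ((index_dvd_of_le h1).trans ?_)).1
  rw [← relIndex_mul_index inf_le_right, inf_relIndex_right, sq, H3.index_eq_of_isCoatom_pgroup hP hB]
  exact mul_dvd_mul_right (H3.index_eq_of_isCoatom_pgroup hP hA ▸ relIndex_dvd_index_of_normal A B) p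

/-- A finite group in which every non-abelian subgroup is self-normalizing is solvable or simple. -/
theorem result {G : Type*} [Group G] [Finite G] (hS : ∀ H : Subgroup G, ¬ IsMulCommutative H → Subgroup.normalizer (H : Set G) = H) :
    Group.IsSolvable G ∨ IsSimpleGroup G := by
  by_contra h
  rw [not_or] at h
  have hab : ∀ N : Subgroup G, N.Normal → N ≠ ⊤ → IsMulCommutative N := fun N hN h1 => by
    by_contra h2
    exact h1 ((hS N h2).symm.trans (normalizer_eq_top N))
  have hG : Group.IsPerfect G := ⟨by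
    by_contra h1
    have := hab _ inferInstance h1
    refine h.1 ⟨⟨2, eq_bot_iff.2 (commutator_le.2 fun a ha b hb => ?_)⟩⟩
    exact commutatorElement_eq_one_iff_mul_comm.2 (setLike_mul_comm (s := _root_.commutator G) ha hb)⟩
  have : Nontrivial G := by
    by_contra h1
    rw [not_nontrivial_iff_subsingleton] at h1
    exact h.1 inferInstance
  obtain ⟨N, hN, h0, h1⟩ : ∃ N : Subgroup G, N.Normal ∧ N ≠ ⊥ ∧ N ≠ ⊤ := by
    by_contra h2
    push Not at h2
    exact h.2 ⟨fun N hN => or_iff_not_imp_left.2 (h2 N hN)⟩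
  have key : ∀ (M H : Subgroup G) [M.Normal] (p : ℕ) [Fact p.Prime], M ≤ H → ¬ IsMulCommutative H →
      IsPGroup p (H.map (QuotientGroup.mk' M)) → IsMulCommutative (H.map (QuotientGroup.mk' M)) → H ≤ M :=
    fun M H _ p _ h2 h3 h4 h5 => by
      have e : (H.map (QuotientGroup.mk' M)).comap (QuotientGroup.mk' M) = H :=
        comap_map_eq_self (by rwa [QuotientGroup.ker_mk'])
      rw [← QuotientGroup.ker_mk' M, ← Subgroup.map_eq_bot_iff]
      refine burn (p := p) inferInstance h4 h5 (comap_injective (QuotientGroup.mk'_surjective M) ?_)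
      rw [comap_normalizer_eq_of_surjective _ (QuotientGroup.mk'_surjective M), e, hS H h3]
  by_cases hc : centralizer (N : Set G) = ⊤
  · obtain ⟨p, hp, h2⟩ := Nat.exists_prime_and_dvd (mt card_eq_one.1 h0)
    have := Fact.mk hp
    obtain ⟨⟨z, hzN⟩, hz⟩ := exists_prime_orderOf_dvd_card' p h2
    rw [orderOf_mk] at hz
    have hzc : z ∈ center G := centralizer_eq_top_iff_subset.1 hc hzN
    have z1 : z ≠ 1 := fun e => hp.ne_one (by rw [← hz, e, orderOf_one])
    obtain ⟨P⟩ : Nonempty (Sylow p G) := inferInstance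
    have h3 := H40.Cl2.cen_le hG P hzc (k := 1) (by rw [pow_one, ← hz, pow_orderOf_eq_one])
    have hna : ¬ IsMulCommutative P := fun e => z1 (mem_bot.1 (commutator_le.2 (fun a ha b hb =>
      commutatorElement_eq_one_iff_mul_comm.2 (setLike_mul_comm ha hb)) h3))
    have h4 := card_der P.isPGroup' hna fun A hA => by
      by_contra h4
      have := P.isPGroup'.isNilpotent
      refine hA (normalizerCondition_iff_only_full_group_self_normalizing.1
        Group.normalizerCondition_of_isNilpotent A (le_antisymm ?_ le_normalizer))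
      have h5 := hS (A.map (P : Subgroup G).subtype) fun e =>
        h4 ⟨⟨fun a b => Subtype.ext (Subtype.ext (setLike_mul_comm (s := A.map (P : Subgroup G).subtype)
          (mem_map_of_mem _ a.2) (mem_map_of_mem _ b.2)))⟩⟩
      exact map_subtype_le_map_subtype.1 ((le_normalizer_map _).trans h5.le)
    have h5 : zpowers z = ⁅(P : Subgroup G), (P : Subgroup G)⁆ :=
      eq_of_le_of_card_ge (zpowers_le.2 h3) (by
        rw [Nat.card_zpowers, hz, ← map_subtype_commutator, card_subtype, h4])
    have hZ : center G ≤ P := hS _ hna ▸ center_le_normalizer _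
    refine hna ⟨⟨fun a b => Subtype.ext (mem_center_iff.1 (key (center G) P p hZ hna
      (P.isPGroup'.map _) ⟨⟨?_⟩⟩ b.2) a)⟩⟩
    rintro ⟨_, a, ha, rfl⟩ ⟨_, b, hb, rfl⟩
    refine Subtype.ext (commutatorElement_eq_one_iff_mul_comm.1 ?_)
    rw [← map_commutatorElement]
    exact (QuotientGroup.eq_one_iff _).2 (zpowers_le.2 hzc (h5 ▸ commutator_mem_commutator ha hb))
  · have hNc := hab N hN h1
    set C := centralizer (N : Set G)
    have : Nontrivial (G ⧸ C) := QuotientGroup.nontrivial_iff.2 hc
    obtain ⟨p, hp, h2⟩ := Nat.exists_prime_and_dvd (Finite.one_lt_card (α := G ⧸ C)).ne'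
    have := Fact.mk hp
    obtain ⟨x, hx⟩ := exists_prime_orderOf_dvd_card' p h2
    have e := map_comap_eq_self_of_surjective (QuotientGroup.mk'_surjective C) (zpowers x)
    obtain ⟨y, rfl⟩ := QuotientGroup.mk'_surjective C x
    have hy : y ∈ (zpowers (QuotientGroup.mk' C y)).comap (QuotientGroup.mk' C) := mem_zpowers _
    have h3 : C ≤ (zpowers (QuotientGroup.mk' C y)).comap (QuotientGroup.mk' C) := by
      simpa using ker_le_comap (QuotientGroup.mk' C) (zpowers (QuotientGroup.mk' C y))
    have h4 : y ∉ C := fun e => hp.ne_one (by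
      rw [← hx, orderOf_eq_one_iff]; exact (QuotientGroup.eq_one_iff _).2 e)
    refine h4 (key C _ p h3 (fun e => h4 fun n hn => setLike_mul_comm (h3 (le_centralizer N hn)) hy)
      (e.symm ▸ IsPGroup.of_card (n := 1) (by rw [Nat.card_zpowers, hx, pow_one]))
      (e.symm ▸ inferInstance) hy)

end Cfsg.Agent.S4072
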