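import Cfsg.Statements.S4073
import Cfsg.Agent.H31.SN

set_option autoImplicit false
open Cfsg

namespace Cfsg.Agent.S4073

/-- Let G be a finite non-abelian simple group. Every non-abelian subgroup of G is self-normalizing if and only if G is isomorphic to PSL₂(2ⁿ) for some n ≥ 2 with 2ⁿ − 1 prime (this includes the alternating group of degree 5 as PSL₂(4)). -/
theorem result {G : Type*} [Group G] [Finite G] [IsSimpleGroup G]
    (hna : ¬ IsMulCommutative G) :
    (∀ H : Subgroup G, ¬ IsMulCommutative H → Subgroup.normalizer (H : Set G) = H) ↔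
    ∃ n : ℕ, 2 ≤ n ∧ (2 ^ n - 1).Prime ∧ Nonempty (G ≃* Matrix.ProjectiveSpecialLinearGroup (Fin 2) (GaloisField 2 n)) := by
  refine ⟨fun h => ?_, fun ⟨n, hn, pr, ⟨e⟩⟩ => ?_⟩
  · obtain ⟨F, _, _, ⟨n, hn, c⟩, ⟨e⟩⟩ := H17.L2Even.sl' (H31.SN.SN.l2 h hna)
    have h2 : (2 : F) = 0 := H61.two_eq_zero_iff_even.2
      (by rw [Nat.card_eq_fintype_card, c]; exact (Nat.even_pow' (by omega)).2 even_two)
    have := Fintype.ofFinite (GaloisField 2 n)
    exact ⟨n, hn, c ▸ (H31.SN.SN.of_inj h e.symm.toMonoidHom e.symm.injective).prime h2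
      (c ▸ Nat.pow_lt_pow_right (by decide : 1 < 2) hn), ⟨(e.trans (H96.slCongr
        (FiniteField.ringEquivOfCardEq (by rw [c, ← Nat.card_eq_fintype_card,
          GaloisField.card 2 n (by omega)])))).trans (H61.slEquivPslOfTwo CharTwo.two_eq_zero)⟩⟩
  · have := Fintype.ofFinite (GaloisField 2 n)
    let f := e.trans (H61.slEquivPslOfTwo CharTwo.two_eq_zero).symm
    exact (H31.SN.of_ct (H17.sl_two_comm CharTwo.two_eq_zero) (H31.SN.sl_q CharTwo.two_eq_zero (by
      rwa [← Nat.card_eq_fintype_card, GaloisField.card 2 n (by omega)]))).of_inj f.toMonoidHom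
        f.injective

end Cfsg.Agent.S4073
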