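import Cfsg.Statements.S4078
import Cfsg.Agent.H18.TwoGen2
import Cfsg.Agent.S0205

set_option autoImplicit false
open Cfsg

namespace Cfsg.Agent.S4078

open H46 Subgroup

universe u

theorem sol_invol {G : Type u} [Group G] [Finite G] {s t : G} (hs : s * s = 1) (ht : t * t = 1) :
    Group.IsSolvable ↥(zpowers s ⊔ zpowers t) := by
  have h1 : s * (s * t) * s⁻¹ = (s * t)⁻¹ := by
    rw [← mul_assoc, hs, one_mul, mul_inv_rev, inv_eq_of_mul_eq_one_right ht]
  refine sol_of_le (sol_sup (N := zpowers (s * t)) (H := zpowers s)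
    (zpowers_le_of_mem (mem_nrm_of_cj_le ?_)) (sol_of_comm inferInstance)
    (sol_of_comm inferInstance)) (sup_le le_sup_right (zpowers_le_of_mem ?_))
  · rw [cj_zpowers, h1, zpowers_inv]
  · have : t = s * (s * t) := by rw [← mul_assoc, hs, one_mul]
    have h2 : s * (s * t) ∈ zpowers (s * t) ⊔ zpowers s :=
      mul_mem (mem_sup_right (mem_zpowers _)) (mem_sup_left (mem_zpowers _))
    rwa [← this] at h2

theorem sol_map_iff {G : Type u} [Group G] [Finite G] {N : Subgroup G} [N.Normal]
    (hN : Group.IsSolvable N) (H : Subgroup G) :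
    Group.IsSolvable (H.map (QuotientGroup.mk' N)) ↔ Group.IsSolvable H := by
  refine ⟨fun h => ?_, fun h =>
    Group.isSolvable_of_surjective ((QuotientGroup.mk' N).subgroupMap_surjective _)⟩
  have := sol_of_le hN (inf_le_left (b := H))
  refine Group.isSolvable_of_ker_le_range (inclusion (inf_le_right (a := N)))
    ((QuotientGroup.mk' N).subgroupMap H) fun x hx => ⟨⟨x, ?_, x.2⟩, rfl⟩
  exact (QuotientGroup.eq_one_iff _).1 (congrArg Subtype.val hx)

theorem aux : ∀ (G : Type u) [Group G] [Finite G], (∀ x : G, ∃ H : Subgroup G,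
    ∀ y, y ∈ H ↔ Group.IsSolvable ↥(zpowers x ⊔ zpowers y)) → Group.IsSolvable G := by
  refine @H18.induction_card _ ?_
  intro G _ _ ih h
  by_cases hodd : Odd (Nat.card G)
  · exact Cfsg.Agent.S0205.result hodd
  let N := normalClosure {t : G | t * t = 1}
  have hc : ∀ (K : Subgroup G), (∀ t : G, t * t = 1 → t ∈ K) → N ≤ K := fun K hK =>
    (closure_le _).2 fun y hy => by
      obtain ⟨a, ha, hc⟩ := Group.mem_conjugatesOfSet_iff.1 hy
      obtain ⟨l, rfl⟩ := isConj_iff.1 hc
      refine hK _ ?_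
      rw [← pow_two, conj_pow, pow_two, show a * a = 1 from ha, mul_one, mul_inv_cancel]
  have h1 : ∀ x ∈ N, ∀ y ∈ N, Group.IsSolvable ↥(zpowers x ⊔ zpowers y) := fun x hx y hy => by
    obtain ⟨H, hH⟩ := h x
    refine (hH y).1 (hc H (fun t ht => (hH t).2 ?_) hy)
    obtain ⟨K, hK⟩ := h t
    rw [sup_comm]
    exact (hK x).1 (hc K (fun s hs => (hK s).2 (sol_invol ht hs)) hx)
  have hN : Group.IsSolvable N := H18.TG.solvable_of_two_gen N fun a b => by
    have := h1 a a.2 b b.2
    rw [← N.coe_subtype, ← MonoidHom.map_zpowers, ← MonoidHom.map_zpowers, ← Subgroup.map_sup] at this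
    exact Group.isSolvable_of_surjective
      (f := (equivMapOfInjective _ _ N.subtype_injective).symm.toMonoidHom) (MulEquiv.surjective _)
  have hN1 : N ≠ ⊥ := by
    obtain ⟨t, ht⟩ := exists_prime_orderOf_dvd_card' (G := G) 2
      (even_iff_two_dvd.1 (Nat.not_odd_iff_even.1 hodd))
    refine ne_bot_of_mem (x := t) (subset_normalClosure ?_) fun e => ?_
    · show t * t = 1
      rw [← pow_two, ← ht, pow_orderOf_eq_one]
    · rw [e, orderOf_one] at ht
      exact absurd ht (by decide)
  have h3 := ih (G ⧸ N) (by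
    rw [← N.card_mul_index, index_eq_card]
    exact lt_mul_of_one_lt_left Nat.card_pos (one_lt_card.2 hN1)) fun x => by
      obtain ⟨x, rfl⟩ := QuotientGroup.mk'_surjective N x
      obtain ⟨H, hH⟩ := h x
      have key : ∀ y : G, Group.IsSolvable ↥(zpowers (QuotientGroup.mk' N x) ⊔
          zpowers (QuotientGroup.mk' N y)) ↔ y ∈ H := fun y => by
        rw [← MonoidHom.map_zpowers, ← MonoidHom.map_zpowers, ← Subgroup.map_sup, sol_map_iff hN, hH]
      refine ⟨H.map (QuotientGroup.mk' N), fun y => ⟨?_, fun hy => ?_⟩⟩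
      · rintro ⟨y, hy, rfl⟩
        exact (key y).2 hy
      · obtain ⟨y, rfl⟩ := QuotientGroup.mk'_surjective N y
        exact ⟨y, (key y).1 hy, rfl⟩
  exact Group.isSolvable_of_ker_le_range N.subtype (QuotientGroup.mk' N) (by simp)

/-- For an element x of a finite group G let Sol(x) be the set of y ∈ G such that x and y generate a solvable subgroup. Then G is solvable if and only if Sol(x) is (the carrier of) a subgroup of G for every x ∈ G. -/
theorem result {G : Type*} [Group G] [Finite G] :
    Group.IsSolvable G ↔ ∀ x : G, ∃ H : Subgroup G, (H : Set G) = {y : G | Group.IsSolvable ↥(Subgroup.closure ({x, y} : Set G))} := by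
  refine ⟨fun h x => ⟨⊤, Set.ext fun y => ⟨fun _ => show Group.IsSolvable _ from inferInstance,
    fun _ => mem_top y⟩⟩, fun h => aux G fun x => ?_⟩
  obtain ⟨H, hH⟩ := h x
  exact ⟨H, fun y => by rw [← H18.TG.closure_pair]; exact Set.ext_iff.1 hH y⟩

end Cfsg.Agent.S4078
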