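import Cfsg.Statements.S4083
import Cfsg.Agent.Base
import Cfsg.Agent.H84.GWC3
import Cfsg.Agent.S0228
import Cfsg.Agent.H86.Fusion
import Cfsg.Agent.H61.PSLMax
import Cfsg.Agent.H85.DihFour

set_option autoImplicit false
open Cfsg

namespace Cfsg.Agent.S4083

open Subgroup H85 H60.GW H7.GW

universe u

theorem two_of_odd {H : Type u} [Group H] [Finite H] (h : ∀ g : H, Odd (orderOf g) → g = 1) :
    IsPGroup 2 H := by
  refine IsPGroup.iff_card.2 ?_
  obtain ⟨k, m, hm, e⟩ := Nat.exists_eq_two_pow_mul_odd (Nat.card_pos (α := H)).ne'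
  by_cases h1 : m = 1
  · exact ⟨k, by rw [e, h1, mul_one]⟩
  obtain ⟨p, hp, hpm⟩ := Nat.exists_prime_and_dvd h1
  have := Fact.mk hp
  obtain ⟨g, hg⟩ := exists_prime_orderOf_dvd_card' (G := H) p (e ▸ hpm.mul_left _)
  have h2 := h g (hg ▸ Odd.of_dvd_nat hm hpm)
  rw [h2, orderOf_one] at hg
  exact absurd hg.symm hp.ne_one

theorem sylow_eq_top {H : Type u} [Group H] (h : IsPGroup 2 H) (S : Sylow 2 H) :
    (S : Subgroup H) = ⊤ := (S.is_maximal' (h.to_subgroup ⊤) le_top).symm

theorem dih_of_top {H : Type u} [Group H] {r s : H} (h : Dih (⊤ : Subgroup H) r s)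
    (h2 : IsPGroup 2 H) : ∃ n : ℕ, Nonempty (H ≃* DihedralGroup (2 ^ n)) := by
  obtain ⟨n, hn⟩ := h.orderOf_eq_two_pow (h2.to_subgroup ⊤)
  obtain ⟨e⟩ := dih_equiv h
  exact ⟨n, ⟨topEquiv.symm.trans (hn ▸ e)⟩⟩

theorem core {H : Type u} [Group H] [Finite H] (hT : TwoIn (⊤ : Subgroup H))
    (hK : ∀ K : Subgroup H, IsKleinFour K → centralizer (K : Set H) ≤ K)
    (S : Sylow 2 H) [hS : (S : Subgroup H).Normal] (hc : IsCyclic (H ⧸ (S : Subgroup H))) :
    IsCyclic H ∨ (∃ n : ℕ, Nonempty (H ≃* DihedralGroup (2 ^ n))) ∨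
      Nonempty (H ≃* alternatingGroup (Fin 4)) := by
  have hnrm : ∀ g : H, g ∈ normalizer ((S : Subgroup H) : Set H) := fun g => by
    rw [normalizer_eq_top]; exact mem_top g
  have hodd : Odd (S : Subgroup H).index := by
    rw [← Nat.not_even_iff_odd, even_iff_two_dvd]; exact S.not_dvd_index
  by_cases h4 : IsKleinFour (S : Subgroup H)
  · have hd := H86.relIndex_centralizer_four_dvd h4 ⊤ (fun g _ => hnrm g)
    have hC : centralizer ((S : Subgroup H) : Set H) = S := le_antisymm (hK _ h4) fun a ha =>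
      mem_centralizer_iff.2 fun b hb => H86.four_comm h4 hb ha
    rw [hC, relIndex_top_right] at hd
    have h3 : (S : Subgroup H).index ∣ 3 :=
      (Nat.Coprime.dvd_mul_left (m := 2) (Nat.coprime_two_right.2 hodd)).1 hd
    rcases (Nat.dvd_prime Nat.prime_three).1 h3 with h1 | h1
    · rw [index_eq_one] at h1
      rcases hT ⊤ le_top (h1 ▸ S.isPGroup') with h5 | ⟨σ, t, s, h5, -, -⟩
      · exact Or.inl (isCyclic_of_surjective _ topEquiv.surjective)
      · exact Or.inr (Or.inl (dih_of_top h5 ((h1 ▸ S.isPGroup').of_equiv topEquiv)))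
    · have h12 : Nat.card H = 12 := by
        rw [← (S : Subgroup H).card_mul_index, h4.card_four, h1]
      refine Or.inr (Or.inr (Cfsg.Agent.S0228.result h12 fun z hz hzc => ?_))
      have : Fact (Nat.Prime 3) := ⟨Nat.prime_three⟩
      obtain ⟨g, hg⟩ := exists_prime_orderOf_dvd_card' (G := H) 3 (by rw [h12]; norm_num)
      have hzS : z ∈ (S : Subgroup H) := by
        rw [← hC]; exact mem_centralizer_iff.2 fun b _ => mem_center_iff.1 hzc b
      have h5 := four_sq_mem_centralizer h4 (hnrm g) hzS (ne_one_of_ord hz)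
        (by rw [mem_center_iff.1 hzc g, mul_inv_cancel_right])
      rw [hC] at h5
      have h6 := H86.four_sq h4 (mem_of_sq_mem_of_odd (by rw [hg]; decide) h5)
      have h7 := orderOf_dvd_of_pow_eq_one (show g ^ 2 = 1 by rwa [pow_two])
      rw [hg] at h7
      omega
  have hcent : ∀ g : H, Odd (orderOf g) → g ∈ centralizer ((S : Subgroup H) : Set H) :=
    fun g hg => H84.GWC.odd_cent_of_twoIn hT S.isPGroup' h4 (hnrm g) hg
  rcases hT S le_top S.isPGroup' with h5 | ⟨σ, t, s, h5, ht, htm⟩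
  · left
    obtain ⟨x, hx⟩ := (Subgroup.isCyclic_iff_exists_zpowers_eq_top _).1 h5
    obtain ⟨q, hq⟩ := hc.exists_generator
    obtain ⟨g, rfl⟩ := QuotientGroup.mk_surjective q
    obtain ⟨k, m, hm, e⟩ := Nat.exists_eq_two_pow_mul_odd (orderOf_pos g).ne'
    have hy : orderOf (g ^ 2 ^ k) = m := by
      rw [orderOf_pow_of_dvd (by positivity) ⟨m, e⟩, e, Nat.mul_div_cancel_left _ (by positivity)]
    have hxS : x ∈ (S : Subgroup H) := hx ▸ mem_zpowers x
    have hcom : Commute x (g ^ 2 ^ k) := mem_centralizer_iff.1 (hcent _ (hy ▸ hm)) x hxS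
    obtain ⟨j, hj⟩ := IsPGroup.iff_orderOf.1 S.isPGroup' ⟨x, hxS⟩
    rw [orderOf_mk] at hj
    have hcop : (orderOf x).Coprime (orderOf (g ^ 2 ^ k)) := by
      rw [hj, hy]; exact Nat.Coprime.pow_left _ (Nat.coprime_two_left.2 hm)
    refine isCyclic_of_orderOf_eq_card (x * g ^ 2 ^ k) ?_
    rw [hcom.orderOf_mul_eq_mul_orderOf_of_coprime hcop]
    refine Nat.dvd_antisymm ?_ ?_
    · exact hcop.mul_dvd_of_dvd_of_dvd (orderOf_dvd_natCard _) (orderOf_dvd_natCard _)
    · rw [← (S : Subgroup H).card_mul_index, ← hx, Nat.card_zpowers, hx, hy]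
      refine Nat.mul_dvd_mul_left _ ?_
      have h7 : orderOf (g : H ⧸ (S : Subgroup H)) = (S : Subgroup H).index :=
        orderOf_eq_card_of_forall_mem_zpowers hq
      have h8 : orderOf (g : H ⧸ (S : Subgroup H)) ∣ orderOf g :=
        orderOf_map_dvd (QuotientGroup.mk' (S : Subgroup H)) g
      rw [h7, e] at h8
      exact (Nat.Coprime.dvd_mul_left (Nat.Coprime.pow_right _ (Nat.coprime_two_right.2 hodd))).1 h8
  · have h6 := h5.isKleinFour_closure htm ht h5.s_mem h5.notMem
    have h7 := h5.closure_le htm h5.s_mem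
    have h8 : IsPGroup 2 H := two_of_odd fun g hg =>
      eq_one_of_sq_of_odd hg (H86.four_sq h6 (hK _ h6 (centralizer_le h7 (hcent g hg))))
    rw [sylow_eq_top h8 S] at h5
    exact Or.inr (Or.inl (dih_of_top h5 h8))

theorem klein_of {G : Type u} [Group G] {K : Subgroup G} (h4 : Nat.card K = 4)
    (h2 : ∀ k ∈ K, k ^ 2 = 1) : IsKleinFour K := by
  have : Finite K := Nat.finite_of_card_ne_zero (by omega)
  have : Nontrivial K := Finite.one_lt_card_iff_nontrivial.1 (by omega)
  exact ⟨h4, (Monoid.exponent_eq_prime_iff Nat.prime_two).2 fun g hg =>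
    orderOf_eq_prime (Subtype.ext (h2 g g.2)) hg⟩

theorem two_of_dih {H : Type u} [Group H] {n : ℕ} (e : H ≃* DihedralGroup (2 ^ n)) :
    IsPGroup 2 H := IsPGroup.of_card (n := n + 1) (by
  rw [Nat.card_congr e.toEquiv, DihedralGroup.nat_card, pow_succ'])

theorem not_two_of_alt {H : Type u} [Group H] [Finite H] (e : H ≃* alternatingGroup (Fin 4)) :
    ¬ IsPGroup 2 H := fun h => by
  obtain ⟨n, hn⟩ := IsPGroup.iff_card.1 h
  rw [H61.card_of_alt4 e] at hn
  have := (Nat.Prime.dvd_of_dvd_pow Nat.prime_three (show 3 ∣ 2 ^ n by rw [← hn]; norm_num))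
  omega

/-- Let G be a finite group with Sylow 2-subgroup P. Every subgroup H of G whose Sylow 2-subgroup is normal in H with cyclic quotient is cyclic, dihedral of 2-power order, or isomorphic to the alternating group of degree 4, if and only if either P is cyclic, or P is dihedral (of order at least 4) and every elementary abelian subgroup K of order 4 of P satisfies C_G(K) = K. -/
theorem result {G : Type*} [Group G] [Finite G] (P : Sylow 2 G) :
    (∀ H : Subgroup G, (∀ S : Sylow 2 ↥H, (S : Subgroup ↥H).Normal) →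
        (∀ (S : Sylow 2 ↥H) [(S : Subgroup ↥H).Normal], IsCyclic (↥H ⧸ (S : Subgroup ↥H))) →
        IsCyclic H ∨ (∃ n : ℕ, Nonempty (H ≃* DihedralGroup (2 ^ n))) ∨ Nonempty (H ≃* alternatingGroup (Fin 4))) ↔
    (IsCyclic P ∨
      ((∃ n : ℕ, 1 ≤ n ∧ Nonempty ((P : Subgroup G) ≃* DihedralGroup (2 ^ n))) ∧
        ∀ K : Subgroup G, K ≤ P → Nat.card K = 4 → (∀ k ∈ K, k ^ 2 = 1) → Subgroup.centralizer (K : Set G) = K)) := by
  constructor
  · intro h
    have key : ∀ H : Subgroup G, IsPGroup 2 H →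
        IsCyclic H ∨ ∃ n : ℕ, Nonempty (H ≃* DihedralGroup (2 ^ n)) := fun H hH => by
      rcases h H (fun S => by rw [sylow_eq_top hH S]; infer_instance) (fun S _ => by
        have : Subsingleton (H ⧸ (S : Subgroup H)) := by
          rw [QuotientGroup.subsingleton_iff]; exact sylow_eq_top hH S
        infer_instance) with h1 | h1 | ⟨⟨e⟩⟩
      · exact Or.inl h1
      · exact Or.inr h1
      · exact absurd hH (not_two_of_alt e)
    rcases key P P.isPGroup' with h1 | ⟨n, ⟨e⟩⟩
    · exact Or.inl h1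
    rcases n with _ | n
    · refine Or.inl (isCyclic_of_prime_card (p := 2) ?_)
      rw [Nat.card_congr e.toEquiv, DihedralGroup.nat_card]; rfl
    refine Or.inr ⟨⟨n + 1, by omega, ⟨e⟩⟩, fun K _ h4 h2 => ?_⟩
    have hK := klein_of h4 h2
    have hKC : K ≤ centralizer (K : Set G) := fun a ha =>
      mem_centralizer_iff.2 fun b hb => H86.four_comm hK hb ha
    have hnc : ∀ H : Subgroup G, K ≤ H → ¬ IsCyclic H := fun H hH hc =>
      IsKleinFour.not_isCyclic (G := K) (isCyclic_of_le hH)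
    have hC : IsPGroup 2 (centralizer (K : Set G)) := two_of_odd fun g hg => by
      have hcomm : ∀ a ∈ K ⊔ zpowers (g : G), ∀ b ∈ K ⊔ zpowers (g : G), a * b = b * a := by
        have h3 : K ⊔ zpowers (g : G) ≤ centralizer (K : Set G) := sup_le hKC (zpowers_le.2 g.2)
        have h5 : K ⊔ zpowers (g : G) ≤ centralizer (zpowers (g : G) : Set G) :=
          sup_le (le_centralizer_iff.1 (zpowers_le.2 g.2)) (le_centralizer _)
        intro a ha b hb
        have h6 : K ⊔ zpowers (g : G) ≤ centralizer {a} := sup_le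
          (fun c hc => mem_centralizer_singleton_iff.2 (mem_centralizer_iff.1 (h3 ha) c hc))
          (fun c hc => mem_centralizer_singleton_iff.2 (mem_centralizer_iff.1 (h5 ha) c hc))
        exact (mem_centralizer_singleton_iff.1 (h6 hb)).symm
      have hcm : IsMulCommutative (K ⊔ zpowers (g : G) : Subgroup G) :=
        ⟨⟨fun a b => Subtype.ext (hcomm a a.2 b b.2)⟩⟩
      have hgm : (g : G) ∈ K ⊔ zpowers (g : G) := mem_sup_right (mem_zpowers _)
      rcases h (K ⊔ zpowers (g : G)) (fun S => Subgroup.normal_of_isMulCommutative _) (fun S _ => by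
        have h7 : K.subgroupOf (K ⊔ zpowers (g : G)) ≤ S := by
          have h8 : IsPGroup 2 K := IsPGroup.of_card (n := 2) h4
          obtain ⟨T, hT⟩ := (h8.of_equiv (subgroupOfEquivOfLe
            (le_sup_left : K ≤ K ⊔ zpowers (g : G))).symm).exists_le_sylow
          have := S.unique_of_normal inferInstance
          rwa [Subsingleton.elim T S] at hT
        refine ⟨⟨QuotientGroup.mk ⟨g, hgm⟩, fun q => ?_⟩⟩
        obtain ⟨⟨y, hy⟩, rfl⟩ := QuotientGroup.mk_surjective q
        have h9 : K ⊔ zpowers (g : G) ≤ ((zpowers (QuotientGroup.mk' S.1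
            (⟨g, hgm⟩ : (K ⊔ zpowers (g : G) : Subgroup G)))).comap (QuotientGroup.mk' _)).map
              (K ⊔ zpowers (g : G)).subtype := by
          refine sup_le (fun c hc => ⟨⟨c, mem_sup_left hc⟩, ?_, rfl⟩)
            (zpowers_le.2 ⟨⟨g, hgm⟩, mem_zpowers _, rfl⟩)
          have : QuotientGroup.mk' S.1 ⟨c, mem_sup_left hc⟩ = 1 :=
            (QuotientGroup.eq_one_iff _).2 (h7 hc)
          exact mem_comap.2 (this ▸ one_mem _)
        obtain ⟨z, hz, e⟩ := h9 hy
        obtain rfl : z = ⟨y, hy⟩ := Subtype.ext e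
        exact hz) with h1 | ⟨m, ⟨f⟩⟩ | ⟨⟨f⟩⟩
      · exact absurd h1 (hnc _ le_sup_left)
      · obtain ⟨j, hj⟩ := IsPGroup.iff_orderOf.1 (two_of_dih f) ⟨g, hgm⟩
        rw [orderOf_mk, orderOf_coe] at hj
        rw [hj] at hg
        rcases j with _ | j
        · exact orderOf_eq_one_iff.1 hj
        · exact absurd hg (Nat.not_odd_iff_even.2 (by simp [Nat.even_pow]))
      · obtain ⟨a, ha, b, hb, hab⟩ := H61.exists_sq_not_comm_alt4 f
        exact absurd (hcomm _ (mul_mem ha ha) _ (mul_mem hb hb)) hab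
    rcases key _ hC with h1 | ⟨m, ⟨f⟩⟩
    · exact absurd h1 (hnc _ hKC)
    obtain ⟨r, s, hd, -⟩ := exists_Dih f
    obtain ⟨z, x, -, -, hx, hx', hz⟩ := hd.four_structure hK hKC
    have h5 := hd.refl_conj hx hx' (mem_zpowers r)
    have h6 : x * r = r * x := mem_centralizer_iff.1 hd.r_mem x (by
      rw [hz]; exact subset_closure (by simp))
    rw [h6, mul_inv_cancel_right] at h5
    have h7 : orderOf r ≤ 2 := orderOf_le_of_pow_eq_one two_pos (by
      rw [pow_two]; exact mul_eq_one_iff_eq_inv.2 h5)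
    exact (eq_of_le_of_card_ge hKC (by rw [hd.card, h4]; omega)).symm
  · intro h H hN hc
    have hT : TwoIn (⊤ : Subgroup G) := twoIn_of_sylow P (h.imp id fun ⟨⟨n, hn, ⟨e⟩⟩, _⟩ => by
      obtain ⟨σ, t, s, h1⟩ := exists_setup_of_equiv P
        (by calc 2 = 2 ^ 1 := rfl
          _ ≤ 2 ^ n := Nat.pow_le_pow_right two_pos hn) e
      exact ⟨σ, t, s, h1.dih, h1.ord, h1.mem⟩)
    have hK : ∀ K : Subgroup G, IsKleinFour K → centralizer (K : Set G) ≤ K := fun K hK => by
      obtain ⟨T, hT⟩ := (IsPGroup.of_card (p := 2) (n := 2) hK.card_four).exists_le_sylow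
      obtain ⟨g, rfl⟩ := MulAction.exists_smul_eq G P T
      have h1 : K.map (MulAut.conj g⁻¹).toMonoidHom ≤ P := by
        rintro _ ⟨k, hk, rfl⟩
        have := hT hk
        rw [Sylow.coe_subgroup_smul, Subgroup.mem_pointwise_smul_iff_inv_smul_mem] at this
        simpa using this
      have h2 := H86.isKleinFour_map hK (MulAut.conj g⁻¹).toMonoidHom (MulAut.conj g⁻¹).injective
      rcases h with h | ⟨-, h⟩
      · exact absurd (isCyclic_of_le h1) (IsKleinFour.not_isCyclic (G := K.map _))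
      have h3 := h _ h1 h2.card_four fun k hk => by rw [pow_two]; exact H86.four_sq h2 hk
      intro c hc
      have h4 : g⁻¹ * c * g ∈ K.map (MulAut.conj g⁻¹).toMonoidHom := by
        rw [← h3, mem_centralizer_iff]
        rintro _ ⟨k, hk, rfl⟩
        have := mem_centralizer_iff.1 hc k hk
        simp only [MulEquiv.toMonoidHom_eq_coe, MonoidHom.coe_coe, MulAut.conj_apply, inv_inv]
        calc g⁻¹ * k * g * (g⁻¹ * c * g) = g⁻¹ * (k * c) * g := by group
          _ = _ := by rw [this]; group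
      obtain ⟨k, hk, e⟩ := h4
      have : k = c := by simpa using e
      exact this ▸ hk
    obtain ⟨S⟩ : Nonempty (Sylow 2 H) := inferInstance
    have := hN S
    refine core (hT.mono le_top).to_top (fun K hK4 c hc' => ?_) S (hc S)
    have h1 := hK _ (H86.isKleinFour_map hK4 H.subtype H.subtype_injective) (x := c) (by
      rw [mem_centralizer_iff]
      rintro _ ⟨k, hk, rfl⟩
      exact congrArg Subtype.val (mem_centralizer_iff.1 hc' k hk))
    exact (mem_map_iff_mem H.subtype_injective).1 h1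

end Cfsg.Agent.S4083
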