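import Cfsg.Statements.S4097
import Cfsg.Agent.H5.ThompsonFpf
import Cfsg.Agent.H14.NFBase
import Cfsg.Agent.H10.ModPPrime

set_option autoImplicit false
open Cfsg

namespace Cfsg.Agent.S4097

open Subgroup H98 H26.FP

theorem sol_of {G : Type*} [Group G] {N S : Subgroup G} [N.Normal] (h1 : Group.IsSolvable N)
    (h2 : Group.IsSolvable (S.map (QuotientGroup.mk' N))) : Group.IsSolvable S :=
  have : Group.IsSolvable (S ⊓ N : Subgroup G) :=
    Group.isSolvable_of_isSolvable_injective (inclusion_injective inf_le_right)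
  Group.isSolvable_of_ker_le_range (inclusion (inf_le_left : S ⊓ N ≤ S))
    ((QuotientGroup.mk' N).subgroupMap S) fun x hx =>
      ⟨⟨x, x.2, (QuotientGroup.eq_one_iff _).1 (congrArg Subtype.val hx)⟩, rfl⟩

theorem key {G : Type*} [Group G] [Finite G] (A : Subgroup G) (hA : Group.IsSolvable A)
    (hc : ∀ S : Subgroup G, A ≤ S → Group.IsSolvable S → S ≤ C[A]) : C[A] = ⊤ := by
  induction hn : Nat.card G using Nat.strong_induction_on generalizing G with
  | _ n ih =>
  subst hn
  by_contra ne
  have sub : ∀ K : Subgroup G, A ≤ K → K ≠ ⊤ → K ≤ C[A] := fun K h1 h2 x hx a ha =>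
    congrArg Subtype.val ((ih _ (H10.card_subgroup_lt K h2) (A.subgroupOf K)
      (Group.isSolvable_of_isSolvable_injective (f := (subgroupOfEquivOfLe h1).toMonoidHom)
        (MulEquiv.injective _)) (fun S k1 k2 s hs b hb => Subtype.ext (hc (S.map K.subtype)
          (fun a ha => ⟨⟨a, h1 ha⟩, k1 ha, rfl⟩) (Group.isSolvable_of_surjective
            (K.subtype.subgroupMap_surjective S)) (mem_map_of_mem _ hs) b hb)) rfl).ge
      (mem_top ⟨x, hx⟩) ⟨a, h1 ha⟩ ha)
  have rad : ∀ (N : Subgroup G) [N.Normal], Group.IsSolvable N → N = ⊥ := fun N _ hN => by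
    by_contra e
    set f := QuotientGroup.mk' N
    have hf : Function.Surjective f := QuotientGroup.mk'_surjective N
    have h1 := ih _ (H10.card_quotient_lt N e) (A.map f)
      (Group.isSolvable_of_surjective (f.subgroupMap_surjective A)) (fun S k1 k2 => by
        rw [← map_comap_eq_self_of_surjective hf S] at k2 ⊢
        exact (map_mono (hc _ (map_le_iff_le_comap.1 k1) (sol_of hN k2))).trans
          (map_centralizer_le_centralizer_image _ f)) rfl
    refine ne (eq_top_iff.2 fun g _ => hc (A ⊔ zpowers g) le_sup_left (sol_of hN ?_)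
      (mem_sup_right (mem_zpowers g)))
    have h2 : ∀ X, A.map f ≤ C[X] := fun X => le_centralizer_iff.1 (le_top.trans h1.ge)
    have h3 : (A ⊔ zpowers g).map f ≤ C[(A ⊔ zpowers g).map f] := by
      rw [Subgroup.map_sup, MonoidHom.map_zpowers]
      exact sup_le (h2 _) (le_centralizer_iff.1 (sup_le (h2 _) (le_centralizer _)))
    exact Group.isSolvable_of_comm fun a b => Subtype.ext (h3 b.2 a a.2)
  have A1 : A ≠ ⊥ := fun e => ne (by simp [e])
  have cy : ∀ y ∈ C[A], y ≠ 1 → C1[y] ≤ C[A] := fun y hy h1 => sub _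
    (fun a ha => mem_centralizer_singleton_iff.2 (hy a ha)) fun e => h1 (mem_bot.1
      ((rad (center G) (Group.isSolvable_of_comm fun a b => Subtype.ext (mem_center_iff.1 b.2 a))).le (mem_center_iff.2 fun g =>
        mem_centralizer_singleton_iff.1 (e.ge (mem_top g)))))
  have AC := hc A le_rfl hA
  have fr : IsFrobeniusComplement C[A] := ⟨ne_bot_of_le_ne_bot A1 AC, ne, fun g hg => eq_bot_iff.2
    fun y hy => by_contra fun h1 => hg (by
      have h2 : y ∈ C[cj g A] := cj_centralizer g A ▸ hy.2
      have h3 : cj g C[A] ≤ C[A] := sub _ (by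
        rw [cj_centralizer]
        exact le_centralizer_iff.1 fun a ha => cy y hy.1 h1 (mem_centralizer_singleton_iff.2 (h2 a ha)))
        fun e => ne (eq_top_of_card_eq _ (by rw [← card_cj g, e, card_top]))
      refine sub _ (AC.trans le_normalizer) (fun e => A1 (eq_bot_iff.2 ?_)) (mem_normalizer_of_cj_le h3)
      have := normalizer_eq_top_iff.1 e
      exact (le_inf AC (le_centralizer_iff.1 le_rfl)).trans (rad (C[A] ⊓ C[C[A]])
        (Group.isSolvable_of_comm fun a b => Subtype.ext (b.2.2 a a.2.1))).le)⟩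
  exact H5.frobKer_ne_bot fr (rad _ inferInstance)

/-- Let A be a solvable subgroup of a finite group G such that A lies in the centre of every solvable subgroup of G containing A. Then A lies in the centre of G. -/
theorem result {G : Type*} [Group G] [Finite G]
    (A : Subgroup G) (hA : Group.IsSolvable A)
    (hc : ∀ S : Subgroup G, A ≤ S → Group.IsSolvable S → ∀ a ∈ A, ∀ s ∈ S, a * s = s * a) : A ≤ Subgroup.center G := by
  exact fun a ha => Subgroup.mem_center_iff.2 fun g =>
    ((key A hA fun S h1 h2 s hs a ha => hc S h1 h2 a ha s hs).ge (Subgroup.mem_top g) a ha).symm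

end Cfsg.Agent.S4097
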