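import Cfsg.Statements.S4105
import Cfsg.Agent.H19.PiCls2

set_option autoImplicit false
open Cfsg

namespace Cfsg.Agent.S4105

/-- Let G be a finite group, π a set of primes with least member p, m the π-part of the order of G and k the number of conjugacy classes of G consisting of π-elements. If k > m·(p² + p − 1)/p³, then G has an abelian Hall π-subgroup (an abelian subgroup of order m). -/
theorem result {G : Type*} [Group G] [Finite G]
    (π : Set ℕ) (hπ : ∀ q ∈ π, q.Prime) (p : ℕ) (hp : p ∈ π) (hmin : ∀ q ∈ π, p ≤ q)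
    (m : ℕ) (hm : m ∣ Nat.card G) (hmπ : ∀ q : ℕ, q.Prime → q ∣ m → q ∈ π)
    (hm' : ∀ q ∈ π, ¬ q ∣ Nat.card G / m)
    (k : ℕ) (hk : k = Nat.card {C : ConjClasses G // ∀ q : ℕ, q.Prime → (∃ g : G, ConjClasses.mk g = C ∧ q ∣ orderOf g) → q ∈ π})
    (hmany : m * (p ^ 2 + p - 1) < p ^ 3 * k) :
    ∃ H : Subgroup G, Nat.card H = m ∧ IsMulCommutative H := by
  subst hk
  change _ < p ^ 3 * H19.PC.kp π G at hmany
  obtain ⟨s, rfl⟩ : ∃ s, p = s + 2 := ⟨p - 2, by have := (hπ p hp).two_le; omega⟩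
  have e1 : (s + 2) ^ 2 + (s + 2) - 1 = s ^ 2 + 5 * s + 5 := by
    rw [show (s + 2) ^ 2 + (s + 2) = s ^ 2 + 5 * s + 5 + 1 by ring]; rfl
  have e2 : (s + 2) ^ 2 - 1 = s ^ 2 + 4 * s + 3 := by
    rw [show (s + 2) ^ 2 = s ^ 2 + 4 * s + 3 + 1 by ring]; rfl
  rw [e1] at hmany
  obtain ⟨L, e, -, h1, h2⟩ := H19.PC.final hmin hm hmπ hm'
    (lt_of_mul_lt_mul_left (a := (s + 2) ^ 2) (by nlinarith [Nat.zero_le (m * s)]) (Nat.zero_le _))
  refine ⟨L, e, H19.PC.main.commutator_eq_bot_iff_isMulCommutative' (Subgroup.card_eq_one.1 ?_)⟩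
  by_contra h
  have h3 := h2 _ (Subgroup.card_subgroup_dvd_card _) h
  have h4 := Cfsg.Agent.S4067.kbound h2
  have h5 := (commutator L).card_mul_index
  rw [e2, e] at h4
  rw [e] at h5
  have h6 := Nat.mul_le_mul_right (commutator L).index h3
  rw [h5] at h6
  have h7 := Nat.mul_le_mul_left (s + 2) h4
  have h8 := Nat.mul_le_mul_left ((s + 2) ^ 3) h1
  have h9 := Nat.mul_le_mul_left (s ^ 2 + 4 * s + 3) h6
  nlinarith

end Cfsg.Agent.S4105
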