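import Cfsg.Statements.S4113
import Cfsg.Agent.Base

set_option autoImplicit false
open Cfsg

namespace Cfsg.Agent.S4113

/-- Let G be a finite group, M ≤ N non-trivial proper normal subgroups, and H a subgroup with HM = G and H ∩ M = 1. Then every element of G outside N acts fixed-point-freely on M (C_G(x) ≤ N for every x ∈ M, x ≠ 1) if and only if H ∩ gHg⁻¹ ≤ H ∩ N for every g outside H, with H proper and non-trivial and H ∩ N proper in H. -/
theorem result {G : Type*} [Group G] [Finite G] (N M : Subgroup G) [N.Normal] [M.Normal] (hMN : M ≤ N) (hM1 : M ≠ ⊥) (hN2 : N ≠ ⊤)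
    (H : Subgroup G) (hHM : H ⊔ M = ⊤) (hHM' : H ⊓ M = ⊥) :
    (∀ x ∈ M, x ≠ 1 → Subgroup.centralizer ({x} : Set G) ≤ N) ↔
      (H ≠ ⊥ ∧ H ≠ ⊤ ∧ H ⊓ N < H ∧ ∀ g : G, g ∉ H → H ⊓ H.map (MulAut.conj g).toMonoidHom ≤ N) := by
  have dec : ∀ g : G, ∃ m ∈ M, ∃ h ∈ H, g = m * h := fun g => by
    have : g ∈ ((M ⊔ H : Subgroup G) : Set G) := by rw [sup_comm, hHM]; trivial
    rw [Subgroup.normal_mul] at this
    obtain ⟨m, hm, h, hh, e⟩ := this
    exact ⟨m, hm, h, hh, e.symm⟩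
  have triv : ∀ x ∈ H, x ∈ M → x = 1 := fun x h1 h2 =>
    Subgroup.mem_bot.1 (hHM' ▸ (⟨h1, h2⟩ : x ∈ H ⊓ M))
  have hn : M.Normal := inferInstance
  constructor
  · intro h
    refine ⟨fun e => hN2 ?_, fun e => hM1 ?_, lt_of_le_of_ne inf_le_left fun e => hN2 ?_, ?_⟩
    · rw [e, bot_sup_eq] at hHM
      exact top_le_iff.1 (hHM ▸ hMN)
    · rwa [e, top_inf_eq] at hHM'
    · exact top_le_iff.1 (hHM ▸ sup_le (inf_eq_left.1 e) hMN)
    · rintro g hg y ⟨hy, k, hk, e⟩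
      obtain ⟨m, hm, a, ha, rfl⟩ := dec g
      have e1 : m * (a * k * a⁻¹) * m⁻¹ = y := by
        rw [← e]; simp [mul_assoc]
      have hk' : a * k * a⁻¹ ∈ H := H.mul_mem (H.mul_mem ha hk) (H.inv_mem ha)
      have e2 : y * (a * k * a⁻¹)⁻¹ = 1 := triv _ (H.mul_mem hy (H.inv_mem hk')) (by
        rw [← e1, mul_assoc m, mul_assoc m]
        exact M.mul_mem hm (hn.conj_mem _ (M.inv_mem hm) _))
      rw [← mul_inv_eq_one.1 e2] at e1
      refine h m hm (fun m1 => hg (by rw [m1, one_mul]; exact ha)) ?_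
      rw [Subgroup.mem_centralizer_singleton_iff]
      exact (mul_inv_eq_iff_eq_mul.1 e1).symm
  · rintro ⟨-, -, -, h⟩ x hx x1 c hc
    by_contra hcN
    obtain ⟨m0, hm0, a, ha, rfl⟩ := dec c
    have haN : a ∉ N := fun b => hcN (N.mul_mem (hMN hm0) b)
    have key : ∀ m ∈ M, m * a = a * m → m = 1 := fun m hm e => by
      by_contra m1
      exact haN (h m (fun b => m1 (triv m b hm)) ⟨ha, a, ha, by simp [e]⟩)
    let f : M → M := fun m => ⟨m * (a * (m : G)⁻¹ * a⁻¹), M.mul_mem m.2 (hn.conj_mem _ (M.inv_mem m.2) _)⟩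
    have hf : Function.Injective f := fun m m' e => by
      have e1 : (m : G) * (a * (m : G)⁻¹ * a⁻¹) = m' * (a * (m' : G)⁻¹ * a⁻¹) := congrArg Subtype.val e
      have := key ((m' : G)⁻¹ * m) (M.mul_mem (M.inv_mem m'.2) m.2) (by
        calc (m' : G)⁻¹ * m * a = (m' : G)⁻¹ * (m * (a * (m : G)⁻¹ * a⁻¹)) * a * m := by group
          _ = _ := by rw [e1]; group)
      exact (Subtype.ext (inv_mul_eq_one.1 this)).symm
    obtain ⟨m, e⟩ := (Finite.injective_iff_surjective.1 hf) ⟨m0, hm0⟩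
    have e1 : (m : G) * (a * (m : G)⁻¹ * a⁻¹) = m0 := congrArg Subtype.val e
    rw [Subgroup.mem_centralizer_singleton_iff, ← e1] at hc
    refine x1 ?_
    have := key ((m : G)⁻¹ * x * m) (by simpa using hn.conj_mem x hx (m : G)⁻¹) (by
      calc (m : G)⁻¹ * x * m * a = (m : G)⁻¹ * (x * (m * (a * (m : G)⁻¹ * a⁻¹) * a)) * m := by group
        _ = _ := by rw [← hc]; group)
    calc x = m * ((m : G)⁻¹ * x * m) * (m : G)⁻¹ := by group
      _ = 1 := by rw [this]; group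

end Cfsg.Agent.S4113
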