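import Cfsg.Agent.Base
import Cfsg.Statements.S4115
import Cfsg.Agent.H5.TIHall

set_option autoImplicit false
universe u
open Cfsg

namespace Cfsg.Agent.S4115

/-- Let G be a finite group and H a subgroup that meets each of its conjugates by elements outside N_G(H) trivially and whose order is coprime to its index in N_G(H). Then H has a normal complement in N_G(H) if and only if H has a normal complement in G. Moreover, if H is not normal in G and has a normal complement in N_G(H), then H is isomorphic to a Frobenius complement of some finite Frobenius group. -/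
theorem result {G : Type u} [Group G] [Finite G] (H : Subgroup G)
    (hTI : Cfsg.IsTISubset (H : Set G)) (hHall : (Nat.card H).Coprime (H.subgroupOf (Subgroup.normalizer (H : Set G))).index) :
    ((∃ K : Subgroup (Subgroup.normalizer (H : Set G)), K.Normal ∧ K.IsComplement' (H.subgroupOf (Subgroup.normalizer (H : Set G)))) ↔
      (∃ N : Subgroup G, N.Normal ∧ N.IsComplement' H)) ∧
    (¬ H.Normal → (∃ K : Subgroup (Subgroup.normalizer (H : Set G)), K.Normal ∧ K.IsComplement' (H.subgroupOf (Subgroup.normalizer (H : Set G)))) →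
      ∃ (F : Type u) (_ : Group F) (_ : Finite F) (C : Subgroup F), Cfsg.IsFrobeniusComplement C ∧ Nonempty (H ≃* C)) := by
  have hall := H5.TIH.hall_of_ti hTI hHall
  have cen : ∀ K : Subgroup (Subgroup.normalizer (H : Set G)), K.Normal →
      K.IsComplement' (H.subgroupOf (Subgroup.normalizer (H : Set G))) →
      ∀ k ∈ K, ∀ x ∈ H, (k : G) * x * (k : G)⁻¹ = x := by
    intro K hK hc k hk x hx
    have := Subgroup.commute_of_normal_of_disjoint K _ hK inferInstance hc.disjoint k
      ⟨x, Subgroup.le_normalizer hx⟩ hk hx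
    have e : (k : G) * x = x * k := congrArg Subtype.val this.eq
    rw [e]; group
  have fwd : (∃ K : Subgroup (Subgroup.normalizer (H : Set G)), K.Normal ∧
      K.IsComplement' (H.subgroupOf (Subgroup.normalizer (H : Set G)))) →
      ∃ N : Subgroup G, N.Normal ∧ N.IsComplement' H := by
    rintro ⟨K, hK, hc⟩
    obtain ⟨N, h1, h2, h3⟩ := H33.exists_normal_complement_of_hall H hall (by
      intro x hx y hy hxy
      obtain ⟨g, rfl⟩ := isConj_iff.1 hxy
      by_cases e : x = 1
      · exact ⟨1, one_mem _, by simp [e]⟩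
      obtain ⟨⟨h, k⟩, e2⟩ := hc.symm.2 ⟨g, H5.TIH.mem_nor hTI hx e hy⟩
      have e3 : ((h : Subgroup.normalizer (H : Set G)) : G) * (k : Subgroup.normalizer (H : Set G)) = g :=
        congrArg Subtype.val e2
      refine ⟨((h : Subgroup.normalizer (H : Set G)) : G), h.2, ?_⟩
      conv_lhs => rw [← cen K hK hc k k.2 x hx]
      rw [← e3]; group) (by
      intro E p _ _ hE
      obtain ⟨g, hg⟩ := H5.TIH.exists_le_cj (K := E) hall hTI fun q _ h => h.trans hE
      exact ⟨g⁻¹, H98.le_cj_iff.1 hg⟩)
    exact ⟨N, h1, Subgroup.isComplement'_of_disjoint_and_mul_eq_univ (disjoint_iff.2 h3)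
      (by rw [← Subgroup.normal_mul, h2]; rfl)⟩
  refine ⟨⟨fwd, ?_⟩, fun hn hK => ?_⟩
  · rintro ⟨N, h1, hc⟩
    refine ⟨N.subgroupOf _, inferInstance, Subgroup.isComplement'_of_disjoint_and_mul_eq_univ ?_ ?_⟩
    · exact Subgroup.disjoint_def.2 fun {x} a b => Subtype.ext (Subgroup.disjoint_def.1 hc.disjoint a b)
    · refine Set.eq_univ_of_forall fun g => ?_
      obtain ⟨⟨n, h⟩, e⟩ := hc.2 (g : G)
      have e' : (n : G) * h = g := e
      have hh := Subgroup.le_normalizer h.2
      have hn : (n : G) ∈ Subgroup.normalizer (H : Set G) := by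
        rw [eq_mul_inv_of_mul_eq e']
        exact mul_mem g.2 (inv_mem hh)
      exact ⟨⟨n, hn⟩, n.2, ⟨h, hh⟩, h.2, Subtype.ext e'⟩
  · obtain ⟨N, h1, hc⟩ := fwd hK
    have dis : ∀ y ∈ N, y ∈ Subgroup.normalizer (H : Set G) → y ∈ Subgroup.centralizer (H : Set G) := by
      intro y hy hyn x hx
      have a : y * x * y⁻¹ * x⁻¹ ∈ N ⊓ H := Subgroup.mem_inf.2 ⟨by
        have := mul_mem hy (h1.conj_mem _ (inv_mem hy) x)
        convert this using 1; group,
        H.mul_mem (H98.conj_mem_of_mem_normalizer hyn hx) (H.inv_mem hx)⟩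
      rw [hc.disjoint.eq_bot, Subgroup.mem_bot] at a
      calc x * y = (y * x * y⁻¹ * x⁻¹)⁻¹ * (y * x) := by group
        _ = y * x := by rw [a]; group
    refine H5.TIH.exists_frob_of_same_fixed (N := N) (Subgroup.le_normalizer_of_normal)
      (hc.index_eq_card ▸ hall) (fun x hx e y hy k => dis y hy ?_) fun e => hn ?_
    · refine H5.TIH.mem_nor hTI hx e ?_
      have : y * x * y⁻¹ = x := by
        conv_lhs => rw [← k]
        have k' : x * y = y * x := by
          conv_rhs => rw [← k]
          group
        rw [k, ← k']; group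
      rwa [this]
    · refine H98.normal_of_top_le_normalizer ?_
      rw [← hc.sup_eq_top]
      exact sup_le (H98.le_normalizer_of_le_centralizer e) Subgroup.le_normalizer

end Cfsg.Agent.S4115
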