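import Cfsg.Statements.S4125
import Cfsg.Agent.H25.Baer4

set_option autoImplicit false
open Cfsg

namespace Cfsg.Agent.S4125

/-- Let G be a finite group and q a prime dividing its order such that every element of q-power order has a conjugacy class of prime-power size. Then G is q-solvable of q-length 1: there are normal subgroups K ≤ L of G with K of order prime to q, L/K a q-group and L of index prime to q. Moreover there is a prime p such that every element of q-power order has a class of p-power size (one prime serving for all of them), and for a Sylow q-subgroup Q: if p = q then Q is normal with a normal complement (a direct factor), while if p ≠ q then Q is abelian, the product of Q with the largest normal p-subgroup O_p(G) is normal in G, and G/O_{q'}(G) is solvable, where O_{q'}(G) is the largest normal subgroup of order prime to q. -/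
theorem result {G : Type*} [Group G] [Finite G] (q : ℕ) [Fact q.Prime] (hq : q ∣ Nat.card G)
    (hBaer : ∀ x : G, (∃ k : ℕ, orderOf x = q ^ k) → ∃ (r : ℕ) (a : ℕ), r.Prime ∧ (Subgroup.centralizer ({x} : Set G)).index = r ^ a) (Q : Sylow q G) :
    (∃ K L : Subgroup G, K.Normal ∧ L.Normal ∧ K ≤ L ∧ (Nat.card K).Coprime q ∧ (∃ m : ℕ, K.relIndex L = q ^ m) ∧ L.index.Coprime q) ∧
    ∃ p : ℕ, p.Prime ∧ (∀ x : G, (∃ k : ℕ, orderOf x = q ^ k) → ∃ a : ℕ, (Subgroup.centralizer ({x} : Set G)).index = p ^ a) ∧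
      (p = q → (Q : Subgroup G).Normal ∧ ∃ N : Subgroup G, N.Normal ∧ N.IsComplement' (Q : Subgroup G)) ∧
      (p ≠ q → IsMulCommutative (Q : Subgroup G) ∧ (Cfsg.pCore p G ⊔ (Q : Subgroup G)).Normal ∧
        ∀ _h : (Cfsg.pPrimeCore q G).Normal, Group.IsSolvable (G ⧸ Cfsg.pPrimeCore q G)) := by
    have tr : ∀ x : G, (∃ k : ℕ, orderOf x = q ^ k) → ∃ w ∈ (Q : Subgroup G), H4.ind w = H4.ind x := by
      rintro x ⟨k, hk⟩
      obtain ⟨g, hg⟩ := H18.exists_conj_mem_sylow Q ⟨k, hk ▸ pow_orderOf_eq_one x⟩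
      exact ⟨_, hg, H4.ind_conj g x⟩
    obtain ⟨p, hp, hB⟩ := H25.Baer.exists_prime Q fun w hw => hBaer w (H25.Baer.ord_sylow Q hw)
    have hi : (Q : Subgroup G).index.Coprime q :=
      ((Nat.Prime.coprime_iff_not_dvd Fact.out).2 Q.not_dvd_index).symm
    obtain ⟨n, hn⟩ := IsPGroup.iff_card.1 Q.isPGroup'
    refine ⟨?_, p, hp, fun x hx => ?_, fun e => H25.Baer.case_eq Q (e ▸ hB), fun e => ?_⟩
    · by_cases e : p = q
      · exact ⟨⊥, Q, inferInstance, (H25.Baer.case_eq Q (e ▸ hB)).1, bot_le, by simp,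
          ⟨n, by rw [Subgroup.relIndex_bot_left, hn]⟩, hi⟩
      · haveI := Fact.mk hp
        refine ⟨pCore p G, pCore p G ⊔ Q, inferInstance, (H25.Baer.case_ne Q hp e hB).2.1, le_sup_left,
          (H2.coprime_card_pPrimeCore q G).coprime_dvd_left
            (Subgroup.card_dvd_of_le (H2.pCore_le_pPrimeCore_of_ne e)), ?_,
          hi.coprime_dvd_left (Subgroup.index_dvd_of_le le_sup_right)⟩
        rw [Subgroup.relIndex_sup_left]
        obtain ⟨j, -, hj⟩ := (Nat.dvd_prime_pow Fact.out).1
          (hn ▸ Subgroup.index_dvd_card ((pCore p G).subgroupOf Q))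
        exact ⟨j, hj⟩
    · obtain ⟨w, hw, e⟩ := tr x hx
      exact (hB w hw).imp fun _ h => e.symm.trans h
    · obtain ⟨h1, h2, h3⟩ := H25.Baer.case_ne Q hp e hB
      exact ⟨h1, h2, fun _ => h3⟩

end Cfsg.Agent.S4125
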