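import Cfsg.Agent.Base
import Cfsg.Statements.S4130
import Cfsg.Agent.H5.SqFree

set_option autoImplicit false
open Cfsg

namespace Cfsg.Agent.S4130

open Subgroup H4 H5 in
theorem comm_facts {G : Type*} [Group G] [Finite G] (h : ∀ x : G, Squarefree (ind x)) :
    Squarefree (Nat.card (commutator G)) ∧ ⁅commutator G, commutator G⁆ = ⊥ := by
  have h2 : ∀ p : ℕ, p.Prime → ∀ x : G, ¬ p ^ 2 ∣ ind x := fun p hp x hd =>
    hp.one_lt.ne' (Nat.isUnit_iff.mp (h x p (by rwa [← pow_two])))
  have hs : Group.IsSolvable G := solvable_of_not_four_dvd (h2 2 Nat.prime_two)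
  have key : ∀ p : ℕ, p.Prime →
      Nat.card ((commutator G).map (QuotientGroup.mk' (pPrimeCore p G))) ∣ p := fun p hp => by
    have := Fact.mk hp
    rw [map_commutator_eq, MonoidHom.range_eq_top.mpr (QuotientGroup.mk'_surjective _)]
    refine card_commutator_dvd (fun y hy => ?_) (H2.pPrimeCore_quotient_pPrimeCore p G)
    obtain ⟨x, rfl⟩ := QuotientGroup.mk'_surjective _ y
    exact h2 p hp x (hy.trans (H18.index_centralizer_map_dvd _ (QuotientGroup.mk'_surjective _) x))
  refine ⟨Nat.squarefree_iff_prime_squarefree.mpr fun p hp hd => ?_, ?_⟩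
  · have := Fact.mk hp
    rw [card_eq_card_map_mul_card_inf _ (pPrimeCore p G), mul_comm (Nat.card _), ← pow_two] at hd
    have h3 : ¬ p ∣ Nat.card (pPrimeCore p G ⊓ commutator G : Subgroup G) := fun h4 =>
      H2.not_dvd_card_pPrimeCore p G (h4.trans (card_dvd_of_le inf_le_left))
    have h4 := (Nat.Coprime.pow_left 2 ((Nat.Prime.coprime_iff_not_dvd hp).mpr h3)).dvd_of_dvd_mul_left hd
    have h5 := Nat.le_of_dvd hp.pos (h4.trans (key p hp))
    have := hp.one_lt
    nlinarith
  · by_contra hne
    obtain ⟨p, hp, hd⟩ := Nat.exists_prime_and_dvd (mt card_eq_one.mp hne)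
    have := Fact.mk hp
    refine H2.not_dvd_card_pPrimeCore p G (hd.trans (card_dvd_of_le ?_))
    rw [← QuotientGroup.ker_mk' (pPrimeCore p G), ← Subgroup.map_eq_bot_iff, map_commutator,
      commutator_eq_bot_iff_le_centralizer]
    have : IsCyclic ((commutator G).map (QuotientGroup.mk' (pPrimeCore p G))) :=
      isCyclic_of_card_dvd_prime (key p hp)
    exact fun a ha => mem_centralizer_iff.mpr fun b hb =>
      congrArg Subtype.val (this.isMulCommutative.is_comm.comm ⟨b, hb⟩ ⟨a, ha⟩)

/-- Let G be a finite group all of whose conjugacy class sizes are square-free. Then G is supersolvable, G/F(G) and the derived subgroup G′ are cyclic of square-free order (F(G) the Fitting subgroup, which is normal), F(G) has nilpotency class at most 2, and G is metabelian. -/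
theorem result {G : Type*} [Group G] [Finite G]
    (h : ∀ x : G, Squarefree (Subgroup.centralizer ({x} : Set G)).index) :
    Cfsg.IsSupersolvable G ∧ (Cfsg.fittingSubgroup G).Normal ∧
    (∀ _h : (Cfsg.fittingSubgroup G).Normal, IsCyclic (G ⧸ Cfsg.fittingSubgroup G) ∧ Squarefree (Cfsg.fittingSubgroup G).index) ∧
    IsCyclic (commutator G) ∧ Squarefree (Nat.card (commutator G)) ∧
    Subgroup.upperCentralSeries ↥(Cfsg.fittingSubgroup G) 2 = ⊤ ∧ commutator ↥(commutator G) = ⊥ := by
  obtain ⟨h1, h2⟩ := comm_facts h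
  have hab : commutator G ≤ Subgroup.centralizer (commutator G : Set G) :=
    Subgroup.commutator_eq_bot_iff_le_centralizer.mp h2
  have hcm : IsMulCommutative (commutator G) :=
    ⟨⟨fun a b => Subtype.ext (Subgroup.mem_centralizer_iff.mp (hab b.2) a a.2)⟩⟩
  have cyc : ∀ (A : Type _) [Group A] [Finite A], IsMulCommutative A → Squarefree (Nat.card A) →
      IsCyclic A := fun A _ _ hA hs => by
    have := IsZGroup.of_squarefree hs
    have := H2.isNilpotent_of_isMulCommutative A
    infer_instance
  have hc : IsCyclic (commutator G) := cyc _ hcm h1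
  have hn : ∀ x ∈ commutator G, (Subgroup.zpowers x).Normal := fun x hx => by
    obtain ⟨g, hg⟩ := (Subgroup.isCyclic_iff_exists_zpowers_eq_top _).1 hc
    refine ⟨fun y hy a => ?_⟩
    obtain ⟨n, rfl⟩ := Subgroup.mem_zpowers_iff.mp hy
    rw [← hg] at hx
    obtain ⟨m, rfl⟩ := Subgroup.mem_zpowers_iff.mp hx
    have h3 : a * g * a⁻¹ ∈ Subgroup.zpowers g := by
      rw [hg]
      exact Subgroup.Normal.conj_mem inferInstance g (hg ▸ Subgroup.mem_zpowers g) a
    obtain ⟨k, hk⟩ := Subgroup.mem_zpowers_iff.mp h3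
    rw [← conj_zpow, ← conj_zpow, ← hk, ← zpow_mul g k, mul_comm k, zpow_mul]
    exact Subgroup.zpow_mem _ (Subgroup.zpow_mem _ (Subgroup.mem_zpowers _) _) _
  have cl : ∀ C : Subgroup G, C ≤ Subgroup.centralizer (commutator G : Set G) →
      Subgroup.upperCentralSeries C 2 = ⊤ := fun C hC => by
    rw [eq_top_iff]
    intro x _
    refine Subgroup.mem_upperCentralSeries_succ_iff.mpr fun y => ?_
    rw [Subgroup.upperCentralSeries_one, Subgroup.mem_center_iff]
    intro z
    exact Subtype.ext (Subgroup.mem_centralizer_iff.mp (hC z.2) _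
      (Subgroup.commutator_mem_commutator (Subgroup.mem_top (x : G)) (Subgroup.mem_top (y : G)))).symm
  have hF : Cfsg.fittingSubgroup G = Subgroup.centralizer (commutator G : Set G) := by
    refine le_antisymm (Subgroup.le_centralizer_iff.mp (H98.le_of_forall_prime_pow_mem ?_)) ?_
    · rintro q hq - x hx ⟨k, hk⟩
      have := hn x hx
      have h3 : Nat.card (Subgroup.zpowers x) ∣ q := by
        rw [Nat.card_zpowers]
        exact (h1.squarefree_of_dvd ((commutator G).orderOf_dvd_natCard hx)).isRadical k q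
          (orderOf_dvd_of_pow_eq_one hk)
      refine Subgroup.le_centralizer_iff.mp (H2.fitting_le_centralizer_of_minimal_normal
        (M := Subgroup.zpowers x) fun K _ hK => ?_) (Subgroup.mem_zpowers x)
      rcases H5.inf_eq_bot_or_le hq h3 K with h4 | h4
      · exact Or.inl (by rwa [inf_eq_right.mpr hK] at h4)
      · exact Or.inr (le_antisymm hK h4)
    · have : Group.IsNilpotent (Subgroup.centralizer (commutator G : Set G)) := ⟨2, cl _ le_rfl⟩
      exact H2.le_fitting _
  have hq : ∀ (N : Subgroup G) [N.Normal], commutator G ≤ N → IsMulCommutative (G ⧸ N) :=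
    fun N _ hN => Subgroup.Normal.quotient_commutative_iff_commutator_le.mpr hN
  have hi : Squarefree (Cfsg.fittingSubgroup G).index := by
    obtain ⟨x, hx⟩ := IsCyclic.exists_generator (α := commutator G)
    have e : Subgroup.centralizer (commutator G : Set G) = Subgroup.centralizer ({(x : G)} : Set G) := by
      refine le_antisymm (Subgroup.centralizer_le (by simp)) fun g hg => ?_
      refine Subgroup.mem_centralizer_iff.mpr fun y hy => ?_
      obtain ⟨n, hn⟩ := Subgroup.mem_zpowers_iff.mp (hx ⟨y, hy⟩)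
      have e1 : (x : G) ^ n = y := congrArg Subtype.val hn
      rw [← e1]
      exact (Commute.zpow_right (H4.mem_cent_iff.mp hg) n).symm
    rw [hF, e]
    exact h x
  refine ⟨?_, inferInstance, fun _ => ⟨cyc _ (hq _ (hF ▸ hab)) hi, hi⟩, hc, h1, cl _ hF.le, ?_⟩
  · have := hq _ le_rfl
    have := H2.isNilpotent_of_isMulCommutative (G ⧸ commutator G)
    exact H5.isSupersolvable_of_cyclic_normal (commutator G) H5.isSupersolvable_of_isNilpotent
  · exact (commutator_eq_bot_iff _).mpr hcm

end Cfsg.Agent.S4130
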