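import Cfsg.Statements.S4159
import Cfsg.Agent.S3861
import Cfsg.Agent.S0205
import Cfsg.Agent.H2.MinNormal

set_option autoImplicit false
open Cfsg

namespace Cfsg.Agent.S4159

open Subgroup

theorem index_dvd_card {H : Type*} [Group H] [Finite H] (X T : Subgroup H) [X.Normal]
    (h : T ⊔ X = ⊤) : X.index ∣ Nat.card T ∧ T.index ∣ Nat.card X := by
  have h1 : X.index ∣ Nat.card T := by
    rw [← relIndex_top_right, ← h, relIndex_sup_right]
    exact relIndex_dvd_card X T
  refine ⟨h1, ?_⟩
  obtain ⟨m, hm⟩ := h1
  have h2 := X.index_mul_card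
  have h3 := T.index_mul_card
  refine ⟨m, Nat.eq_of_mul_eq_mul_left (Nat.pos_of_ne_zero X.index_ne_zero_of_finite) ?_⟩
  rw [h2, ← h3, hm]; ring

/-- Let G be a finite group such that in every subgroup H of G, any two conjugacy classes of H of size greater than 1 have non-coprime sizes. Then G is solvable. -/
theorem result {G : Type*} [Group G] [Finite G]
    (h : ∀ (H : Subgroup G) (x y : H), 1 < (Subgroup.centralizer ({x} : Set H)).index → 1 < (Subgroup.centralizer ({y} : Set H)).index →
      ¬ ((Subgroup.centralizer ({x} : Set H)).index).Coprime (Subgroup.centralizer ({y} : Set H)).index) : Group.IsSolvable G := by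
  obtain ⟨P⟩ : Nonempty (Sylow 2 G) := inferInstance
  have hP : (P : Subgroup G).Normal := by
    refine (S3861.result P).1 fun x hx hodd hc => ?_
    obtain ⟨t, ⟨j, hj⟩, ht⟩ := (S3863.result x hc).1
    set H := zpowers t ⊔ zpowers x with hH
    have htH : t ∈ H := mem_sup_left (mem_zpowers t)
    have hxH : x ∈ H := mem_sup_right (mem_zpowers x)
    set t' : H := ⟨t, htH⟩
    set x' : H := ⟨x, hxH⟩
    have e1 : zpowers t' = (zpowers t).subgroupOf H := by
      rw [← Subgroup.map_subtype_inj, MonoidHom.map_zpowers, subgroupOf_map_subtype,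
        inf_eq_left.2 le_sup_left]; rfl
    have e2 : zpowers x' = (zpowers x).subgroupOf H := by
      rw [← Subgroup.map_subtype_inj, MonoidHom.map_zpowers, subgroupOf_map_subtype,
        inf_eq_left.2 le_sup_right]; rfl
    have htop : zpowers t' ⊔ zpowers x' = ⊤ := by
      rw [e1, e2]; exact H18.map_subtype_subgroupOf_sup
    have ht' : t' * x' * t'⁻¹ = x'⁻¹ := Subtype.ext ht
    haveI : (zpowers x').Normal := H18.normal_of_sup htop (by
      rw [zpowers_le]
      exact H98.mem_normalizer_of_cj_le (by
        rw [H98.cj, MonoidHom.map_zpowers, zpowers_le]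
        exact (congrArg (· ∈ _) ht').mpr (inv_mem (mem_zpowers _)))) le_normalizer
    obtain ⟨h1, h2⟩ := index_dvd_card _ _ htop
    have hne : t' * x' ≠ x' * t' := fun e => by
      have : x' = x'⁻¹ := by rw [← ht', e, mul_inv_cancel_right]
      have h3 : x ^ 2 = 1 := by
        rw [sq, mul_eq_one_iff_eq_inv]; exact congrArg Subtype.val this
      exact hx (orderOf_eq_one_iff.1 (Nat.eq_one_of_dvd_coprimes
        (Nat.coprime_two_left.2 hodd) (orderOf_dvd_of_pow_eq_one h3) dvd_rfl))
    have key : ∀ a b : H, a * b ≠ b * a → 1 < (centralizer ({a} : Set H)).index := fun a b hab =>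
      Nat.one_lt_iff_ne_zero_and_ne_one.2 ⟨index_ne_zero_of_finite, fun e => hab (by
        have : b ∈ centralizer ({a} : Set H) := index_eq_one.1 e ▸ mem_top b
        exact (mem_centralizer_singleton_iff.1 this).symm)⟩
    have hle : ∀ a : H, zpowers a ≤ centralizer ({a} : Set H) := fun a => by
      rw [zpowers_le, mem_centralizer_singleton_iff]
    refine h H x' t' (key _ _ hne.symm) (key _ _ hne) ?_
    refine Nat.Coprime.coprime_dvd_left ((index_dvd_of_le (hle x')).trans h1)
      (Nat.Coprime.coprime_dvd_right ((index_dvd_of_le (hle t')).trans h2) ?_)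
    rw [Nat.card_zpowers, Nat.card_zpowers, ← Subgroup.orderOf_coe, ← Subgroup.orderOf_coe, hj]
    exact (Nat.coprime_two_left.2 hodd).pow_left _
  haveI := P.isPGroup'.isNilpotent
  haveI : Group.IsSolvable (G ⧸ (P : Subgroup G)) := S0205.result (by
    rw [← Nat.not_even_iff_odd, even_iff_two_dvd]; exact P.not_dvd_index)
  exact H2.isSolvable_of_normal_of_quotient (P : Subgroup G)

end Cfsg.Agent.S4159
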