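import Cfsg.Statements.S4162
import Cfsg.Agent.H91.AHAsm
import Cfsg.Agent.H14.AHKC
import Cfsg.Agent.H15.AHDA
import Cfsg.Agent.H15.AHDB
import Cfsg.Agent.H15.AHDC
import Cfsg.Agent.H19.AhGU
import Cfsg.Agent.H20.AH1
import Cfsg.Agent.H20.AH2
import Cfsg.Agent.H21.AHK10
import Cfsg.Agent.H24.AHC
import Cfsg.Agent.H24.AHPL
import Cfsg.Agent.H30.AhCB
import Cfsg.Agent.H5.AHDI
import Cfsg.Agent.H5.AHVQ
import Cfsg.Agent.H57.AHOP
import Cfsg.Agent.H57.AHTP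
import Cfsg.Agent.H70.AHAB
import Cfsg.Agent.H70.AHG34
import Cfsg.Agent.H70.AHTP3
import Cfsg.Agent.H73.AHK6
import Cfsg.Agent.H87.AhPP
import Cfsg.Agent.H87.AhQA
import Cfsg.Agent.H87.AhTP
import Cfsg.Agent.H88.AHFRB
import Cfsg.Agent.H88.AHV25
import Cfsg.Agent.H91.AHSm
import Cfsg.Agent.H91.AHTW
import Cfsg.Agent.H92.AhG1
import Cfsg.Agent.H92.AhG2
import Cfsg.Agent.H92.AhG5
import Cfsg.Agent.H92.AhKE
import Cfsg.Agent.H96.AHP2
import Cfsg.Agent.H97.AHLam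

set_option autoImplicit false
open Cfsg

namespace Cfsg.Agent.S4162

/-- Let G be a non-trivial finite solvable group in which distinct conjugacy classes have distinct sizes. Then G is isomorphic to the symmetric group of degree 3. -/
theorem result {G : Type*} [Group G] [Finite G] [Nontrivial G] (hG : Group.IsSolvable G)
    (h : Function.Injective fun C : ConjClasses G => Nat.card C.carrier) : Nonempty (G ≃* Equiv.Perm (Fin 3)) := by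
  exact H91.AHA.wrap (H91.AHA.main
    H20.AH.jobCCQ H20.AH.jobRD H20.AH.jobIDX H20.AH.jobSN
    H20.AH.jobSUM H20.AH.jobT3 H24.AH.jobC2 H24.AH.jobC4
    H20.AH.jobCA H30.AhCB.jobCB H5.AHVQ.jobVQ H15.AHD.jobDA
    H15.AHD.jobDB H15.AHD.jobDC H57.AH.jobTP1 H87.AhTP.jobTP2
    H70.AHTP3.jobTP3 H57.AH.jobOP H91.AHTW.jobTW H97.AH.jobLAM
    H88.AH.jobFRB H91.AHS.jobCQ H70.AHAB.jobAB H92.Ah.jobG1
    H92.Ah.jobG2 H87.AhQA.jobQA H70.AHG.jobG3 H70.AHG.jobG4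
    H92.Ah.jobG5 H5.AHDI.jobDI H91.AHS.jobP1 H96.AH.jobP2
    H87.AhPP.jobPP H19.AhGU.jobGU H20.AH.jobKW H97.AH.jobV5
    H21.AHK.jobK10 H88.AH.jobV25 H20.AH.jobMN H20.AH.jobK3
    H24.AH.jobKA H96.AH.jobKB H14.AH.jobKC H92.Ah.jobKE
    H20.AH.jobKD H73.AHK6.jobK6 H24.AH.jobPL) hG h

end Cfsg.Agent.S4162
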