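import Cfsg.Statements.S4172
import Cfsg.Agent.H14.PElem
import Cfsg.Agent.H14.Local
import Cfsg.Agent.H1.Coprime2
import Cfsg.Agent.H26.FPSpec
import Cfsg.Agent.H18.Misc2
import Cfsg.Agent.H21.MultTransfer
import Cfsg.Agent.H7.Tate
import Cfsg.Agent.H32.McF
import Cfsg.Agent.H98.Sub
import Cfsg.Agent.H98.Block

set_option autoImplicit false
open Cfsg

namespace Cfsg.Agent.S4172

open Subgroup H14 H26.FP H98
open scoped commutatorElement

variable {G : Type*} [Group G] [Finite G] {p : ℕ} [hp : Fact p.Prime]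

theorem tate (P : Sylow p G) (hcore : pPrimeCore p G = ⊥) {X : Subgroup G} (hX : X.IsSubnormal)
    (hn : (P : Subgroup G) ≤ N[X])
    (h : X ⊓ P ≤ (frattini (P : Subgroup G)).map (P : Subgroup G).subtype) : IsPGroup p X := by
  set L : Subgroup G := P ⊔ X
  haveI : (X.subgroupOf L).Normal := normal_subgroupOf_of_le_normalizer (sup_le hn le_normalizer)
  have e : ((P.subtype (le_sup_left : _ ≤ L) : Sylow p L) : Subgroup L).map L.subtype = P :=
    map_subgroupOf_eq_of_le le_sup_left
  have h1 := H7.hasNPC_of_inf_le_frattini (P.subtype (le_sup_left : _ ≤ L)) (X.subgroupOf L) (by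
    rw [← map_le_map_iff_of_injective L.subtype_injective,
      map_frattini_subtype L.subtype_injective, e]
    exact ((map_inf_le _ _ _).trans (inf_le_inf (map_subgroupOf_eq_of_le le_sup_right).le e.le)).trans h)
  obtain ⟨N, hN, h2, h3⟩ := H7.hasNPC_iff_exists.1 ((H7.hasNPC_subgroupOf_iff le_sup_right).1 h1)
  have : N ≤ pPrimeCore p X := H2.le_pPrimeCore_of_not_dvd h2
  rw [opp_eq_bot_iff.1 (by rw [opp_eq_inf_of_subnormal hX, hcore, bot_inf_eq]), le_bot_iff] at this
  subst this
  exact h3.of_equiv QuotientGroup.quotientBot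

theorem gen {P X : Subgroup G} (hgen : (frattini P).index = p ^ 2)
    (h : ¬ X ⊓ P ≤ (frattini P).map P.subtype) : ∃ g ∈ P, P ≤ zpowers g ⊔ X ⊓ P := by
  set A := X.subgroupOf P ⊔ frattini P
  have lt : ∀ {B C : Subgroup P} {k : ℕ}, B < C → B.index ∣ p ^ (k + 1) → C.index ∣ p ^ k :=
    fun {B C k} h1 h2 => by
    obtain ⟨j, hj, e⟩ := (Nat.dvd_prime_pow hp.out).1 ((index_dvd_of_le h1.le).trans h2)
    refine e ▸ pow_dvd_pow p (Nat.lt_succ_iff.1 (lt_of_le_of_ne hj ?_))
    rintro rfl
    refine h1.ne (eq_of_le_of_card_ge h1.le (Nat.le_of_mul_le_mul_right (c := C.index) ?_ index_ne_zero_of_finite.bot_lt))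
    rw [card_mul_index, ← card_mul_index B, e]
    exact Nat.mul_le_mul_left _ (Nat.le_of_dvd (pow_pos hp.out.pos _) h2)
  have h1 : A.index ∣ p ^ 1 := lt (lt_of_le_of_ne le_sup_right fun e => h fun x hx =>
    ⟨⟨x, hx.2⟩, e.ge (mem_sup_left (show (⟨x, hx.2⟩ : P) ∈ X.subgroupOf P from hx.1)), rfl⟩) hgen.dvd
  obtain ⟨g, hg⟩ : ∃ g : P, zpowers g ⊔ A = ⊤ := by
    by_cases h2 : A = ⊤
    · exact ⟨1, by simp [h2]⟩
    · obtain ⟨g, hg⟩ : ∃ g, g ∉ A := by by_contra! h3; exact h2 ((eq_top_iff' A).2 h3)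
      exact ⟨g, index_eq_one.1 (by simpa using lt (lt_of_le_of_ne le_sup_right fun e =>
        hg (e.ge (mem_sup_left (mem_zpowers g)))) h1)⟩
  rw [← sup_assoc] at hg
  refine ⟨g, g.2, ?_⟩
  have := congrArg (map P.subtype) (frattini_nongenerating hg)
  rw [Subgroup.map_sup, MonoidHom.map_zpowers, subgroupOf_map_subtype, ← MonoidHom.range_eq_map,
    range_subtype] at this
  exact this.ge

omit [Finite G] in
theorem dec {P M : Subgroup G} {g x : G} (hg : g ∈ N[M]) (h : P ≤ zpowers g ⊔ M) (hx : x ∈ P) :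
    ∃ i : ℤ, ∃ n ∈ M, x = g ^ i * n := by
  have := h hx
  rw [← SetLike.mem_coe, coe_mul_of_left_le_normalizer_right _ _ (zpowers_le.2 hg)] at this
  obtain ⟨_, ⟨i, rfl⟩, n, hn, e⟩ := this
  exact ⟨i, n, hn, e.symm⟩

omit [Finite G] in
theorem cm {P X : Subgroup G} {g : G} (hn : P ≤ N[X]) (hg : g ∈ P) (h : P ≤ zpowers g ⊔ X ⊓ P) :
    ⁅P, P⁆ ≤ X := by
  refine commutator_le.2 fun x hx y hy => ?_
  have hg' := H1.le_normalizer_inf hn le_normalizer hg
  obtain ⟨i, a, ha, rfl⟩ := dec hg' h hx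
  obtain ⟨j, b, hb, rfl⟩ := dec hg' h hy
  have c := fun (k : ℤ) {x : G} (hx : x ∈ X) => H1.conj_mem_of_le_normalizer hn (zpow_mem hg k) hx
  have := mul_mem (mul_mem (mul_mem (c i ha.1) (c (i + j) hb.1)) (c (i + j) (inv_mem ha.1)))
    (c j (inv_mem hb.1))
  convert this using 1
  rw [commutatorElement_def]
  group

theorem tr {K M R : Subgroup G} [M.Normal] (hR : IsSyl p R K) (h : ⁅R, R⁆ ≤ M) {z : G}
    (hz : z ∈ ⁅K, K⁆) {k : ℕ} (hk : z ^ p ^ k = 1) (hc : ∀ x ∈ K, ⁅x, z⁆ ∈ M) : z ∈ M := by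
  set f := QuotientGroup.mk' M
  have hzK : f z ∈ K.map f := mem_map_of_mem f (commutator_le_self K hz)
  have h1 := H21.pow_index_mem_commutator ((R.map f).subgroupOf (K.map f)) (z := ⟨f z, hzK⟩)
    (mem_center_iff.2 fun ⟨_, x, hx, rfl⟩ => Subtype.ext (by
      have := (QuotientGroup.eq_one_iff _).2 (hc x hx)
      exact commutatorElement_eq_one_iff_mul_comm.1 ((map_commutatorElement f x z).symm.trans this)))
    (by
      rw [← mem_map_iff_mem (K.map f).subtype_injective, _root_.commutator_def, map_commutator,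
        ← MonoidHom.range_eq_map, range_subtype, ← map_commutator]
      exact mem_map_of_mem f hz)
  rw [← mem_map_iff_mem (K.map f).subtype_injective, map_commutator,
    map_subgroupOf_eq_of_le (map_mono hR.le), ← map_commutator,
    (Subgroup.map_eq_bot_iff _).2 (by rwa [QuotientGroup.ker_mk']), mem_bot, map_pow] at h1
  have h2 : f z ^ p ^ k = 1 := by rw [← map_pow, hk, map_one]
  refine (QuotientGroup.eq_one_iff _).1 (orderOf_eq_one_iff.1 (Nat.eq_one_of_dvd_coprimes
    (Nat.Coprime.pow_left k (hp.out.coprime_iff_not_dvd.2 (hR.map f).not_dvd_relIndex))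
    (orderOf_dvd_of_pow_eq_one h2) (orderOf_dvd_of_pow_eq_one h1)))

theorem fstar_le (P : Sylow p G) (hcore : pPrimeCore p G = ⊥) {N : Subgroup G} [N.Normal]
    (hna : ¬ ⁅(P : Subgroup G), (P : Subgroup G)⁆ = ⊥)
    (hN : N ≠ ⊥) (hm : ∀ K : Subgroup G, K.Normal → K ≠ ⊥ → N ≤ K) {g : G} (hg : g ∈ (P : Subgroup G))
    (h : (P : Subgroup G) ≤ zpowers g ⊔ N ⊓ P) : generalizedFittingSubgroup G ≤ N := by
  have hF := H2.fitting_eq_pCore_of_pPrimeCore_eq_bot hcore
  set Q := pCore p G with hQ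
  have hQp : IsPGroup p Q := H2.pCore_isPGroup p G
  have QP : Q ≤ P := hQp.le_sylow_of_normal P
  have sP := isSyl_sylow P
  have QC : Q ≠ ⊥ → Q ≤ C[N] := fun h0 => by
    have h1 : Q ⊓ C[Q] ≠ ⊥ := fun e => by
      haveI := (nontrivial_iff_ne_bot Q).2 h0
      haveI := hQp.center_nontrivial
      obtain ⟨⟨z, hz⟩, h1⟩ := exists_ne (1 : center Q)
      exact h1 (Subtype.ext (Subtype.ext (mem_bot.1 (e.le ⟨z.2, fun y hy =>
        congrArg Subtype.val (mem_center_iff.1 hz ⟨y, hy⟩)⟩))))
    exact le_centralizer_iff.1 ((hm _ inferInstance h1).trans inf_le_right)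
  by_cases hC : C[N] = ⊥
  · refine sup_le (layer_le fun L hL => (comp_le_or_of_normal hL N).resolve_right fun e =>
      comp_ne_bot hL (eq_bot_iff.2 ((commutator_eq_bot_iff_le_centralizer.1 e).trans hC.le))) ?_
    rw [hF]
    by_contra h0
    exact h0 (((QC fun e => h0 (e.le.trans bot_le)).trans hC.le).trans bot_le)
  have NC : N ≤ C[N] := hm _ inferInstance hC
  have NQ : N ≤ Q := hF ▸ @H2.le_fitting_of_isMulCommutative _ _ _ _ (le_centralizer_iff_isMulCommutative.1 NC)
  have NP : N ⊓ P = N := inf_eq_left.2 (NQ.trans QP)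
  rw [NP] at h
  have gN : g ∈ N[N] := le_normalizer_of_normal (mem_top g)
  have pe : ∀ z ∈ Q, ∃ k, z ^ p ^ k = 1 := fun z hz => by
    obtain ⟨k, hk⟩ := hQp ⟨z, hz⟩
    exact ⟨k, congrArg Subtype.val hk⟩
  have CC : ⁅C[N], C[N]⁆ = ⊥ := by
    by_contra h0
    refine hN (eq_bot_iff.2 fun z hz => ?_)
    obtain ⟨k, hk⟩ := pe z (NQ hz)
    refine tr (sP.inf_of_le_normalizer le_top le_normalizer_of_normal) (commutator_le.2 ?_)
      (hm _ inferInstance h0 hz) hk fun x hx =>
        mem_bot.2 (commutatorElement_eq_one_iff_mul_comm.2 (hx z hz).symm)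
    rintro x ⟨hx, hx'⟩ y ⟨hy, hy'⟩
    obtain ⟨i, a, ha, rfl⟩ := dec gN h hx
    obtain ⟨j, b, hb, rfl⟩ := dec gN h hy
    have h1 : g ^ i ∈ C[N] := by simpa using C[N].mul_mem hx' (inv_mem (NC ha))
    have h2 : g ^ j ∈ C[N] := by simpa using C[N].mul_mem hy' (inv_mem (NC hb))
    exact mem_bot.2 (commutatorElement_eq_one_iff_commute.2
      (((Commute.zpow_zpow_self g i j).mul_right (h1 b hb).symm).mul_left
        (Commute.mul_right (h2 a ha) (NC hb a ha))))
  have Q0 : Q ≠ ⊥ := fun e => hN (eq_bot_iff.2 (NQ.trans e.le))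
  have CQ : C[N] ≤ Q := hF ▸ @H2.le_fitting_of_isMulCommutative _ _ _ _
    (le_centralizer_iff_isMulCommutative.1 (commutator_eq_bot_iff_le_centralizer.1 CC))
  have QQ : ⁅Q, Q⁆ = ⊥ := eq_bot_iff.2 ((commutator_mono (QC Q0) (QC Q0)).trans CC.le)
  refine sup_le ?_ (hF ▸ ?_)
  · have : layer G ≤ Q := ((commutator_eq_bot_iff_le_centralizer.1 (layer_commutator_pCore p)).trans
      (centralizer_le NQ)).trans CQ
    rw [← layer_perfect]
    exact ((commutator_mono this this).trans QQ.le).trans bot_le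
  by_contra hQN
  set f := QuotientGroup.mk' N with hf
  have kf : f.ker = N := QuotientGroup.ker_mk' N
  haveI : (Q.map f).Normal := Normal.map inferInstance f (QuotientGroup.mk'_surjective N)
  set K := C[Q.map f].comap f with hK
  have mK : ∀ x, x ∈ K ↔ ∀ z ∈ Q, ⁅x, z⁆ ∈ N := fun x => by
    refine ⟨fun hx z hz => ?_, fun hx _ ⟨z, hz, e⟩ => e ▸ ?_⟩
    · rw [← kf, MonoidHom.mem_ker, map_commutatorElement, commutatorElement_eq_one_iff_mul_comm]
      exact (hx _ ⟨z, hz, rfl⟩).symm
    · have := hx z hz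
      rw [← kf, MonoidHom.mem_ker, map_commutatorElement, commutatorElement_eq_one_iff_mul_comm] at this
      exact this.symm
  have PP : ⁅(P : Subgroup G), (P : Subgroup G)⁆ ≤ N := cm le_normalizer_of_normal hg (NP.symm ▸ h)
  have PK : (P : Subgroup G) ≤ K := fun x hx => (mK x).2 fun z hz =>
    PP (commutator_mem_commutator hx (QP hz))
  set D : Subgroup G := ⁅K, K⁆ with hD
  have ND : N ≤ D := hm _ inferInstance fun e => hna (eq_bot_iff.2 ((commutator_mono PK PK).trans e.le))
  have DQ : D ⊓ Q ≤ N := fun z hz => by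
    obtain ⟨k, hk⟩ := pe z hz.2
    exact tr (isSyl_sylow_of_le P PK) PP hz.1 hk fun x hx => (mK x).1 hx z hz.2
  have up : ∀ {A B : Subgroup G}, N ≤ B → A.map f ≤ B.map f → A ≤ B := fun hB hAB => by
    rwa [Subgroup.map_le_map_iff, kf, sup_eq_left.2 hB] at hAB
  have DP : (P : Subgroup G) ⊓ D ≤ N := by
    have cy : IsCyclic (zpowers (f g)) := inferInstance
    have hz : (P : Subgroup G).map f ≤ zpowers (f g) := by
      refine (map_mono h).trans ?_
      rw [Subgroup.map_sup, MonoidHom.map_zpowers, (Subgroup.map_eq_bot_iff _).2 kf.ge, sup_bot_eq]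
    obtain ⟨a, ha⟩ := ((P.isPGroup'.to_inf_left (K := D)).map f).exists_card_eq
    obtain ⟨b, hb⟩ := (hQp.map f).exists_card_eq
    have h1 := (map_mono (inf_le_left : (P : Subgroup G) ⊓ D ≤ P)).trans hz
    have h2 := (map_mono QP).trans hz
    rcases le_total a b with hab | hab
    · exact (le_inf inf_le_right (up NQ (H18.le_of_isCyclic_of_card_dvd cy h1 h2
        (ha ▸ hb ▸ pow_dvd_pow p hab)))).trans DQ
    · exact absurd ((le_inf ((up (le_inf (NQ.trans QP) ND) (H18.le_of_isCyclic_of_card_dvd cy h2 h1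
        (ha ▸ hb ▸ pow_dvd_pow p hab))).trans inf_le_right) le_rfl).trans DQ) hQN
  have sD : IsSyl p N D := le_antisymm DP (le_inf (NQ.trans QP) ND) ▸
    sP.inf_of_le_normalizer le_top le_normalizer_of_normal
  obtain ⟨H, HD, eD, cH⟩ := H32.exists_compl_of_pGroup ND le_normalizer_of_normal sD.isPGroup
    sD.not_dvd_relIndex
  have e := H1.commutator_sup_centralizer (A := H) (K := Q) le_normalizer_of_normal
    (H1.coprime_card_of_isPGroup hQp (hp.out.coprime_iff_not_dvd.2 cH).symm)
    (Or.inr (H1.isSolvable_of_isPGroup hQp))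
  have QH : ⁅Q, H⁆ ≤ N := by
    rw [commutator_comm]
    exact commutator_le.2 fun x hx z hz => (mK x).1 (commutator_le_self K (HD hx)) z hz
  have QD : Q ⊓ C[H] ≤ Q ⊓ C[D] := le_inf inf_le_left (le_centralizer_iff.1 (eD.le.trans (sup_le
    ((NQ.trans (commutator_eq_bot_iff_le_centralizer.1 QQ)).trans (centralizer_le inf_le_left))
    (le_centralizer_iff.1 inf_le_right))))
  have DN : D ≤ N := by
    have := hm (Q ⊓ C[D]) inferInstance fun e0 => hQN (e.ge.trans (sup_le QH ((QD.trans e0.le).trans bot_le)))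
    exact (le_inf le_rfl ((le_centralizer_iff.1 (this.trans inf_le_right)).trans CQ)).trans DQ
  have : (P : Subgroup G) ≤ Q := by
    refine (le_pCoreOf P.isPGroup' PK (H1.le_normalizer_of_commutator_le
      (((commutator_mono PK le_rfl).trans DN).trans (NQ.trans QP)))).trans ?_
    exact (pCoreOf_le_pCoreOf_of_normal le_top le_normalizer_of_normal).trans pCoreOf_top.le
  exact hna (eq_bot_iff.2 ((commutator_mono this this).trans QQ.le))

/-- Let p be a prime and G a finite group with a non-commutative Sylow p-subgroup P whose Frattini subgroup has index p² in P (P is generated by two elements). Suppose G has no nontrivial normal subgroup of order prime to p and the Frattini subgroup of P contains no nontrivial normal subgroup of G. Then the generalized Fitting subgroup F*(G) is the unique minimal normal subgroup of G, the image of P in G/F*(G) is cyclic, and if F*(G) is not commutative then P permutes the components of G transitively by conjugation. -/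
theorem result {G : Type*} [Group G] [Finite G] (p : ℕ) [Fact p.Prime] (P : Sylow p G) (hna : ¬ IsMulCommutative (P : Subgroup G)) (hgen : (frattini ↥(P : Subgroup G)).index = p ^ 2) (hcore : Cfsg.pPrimeCore p G = ⊥) (hfrat : ((frattini ↥(P : Subgroup G)).map (P : Subgroup G).subtype).normalCore = ⊥) [hFn : (Cfsg.generalizedFittingSubgroup G).Normal] :
    (Cfsg.generalizedFittingSubgroup G ≠ ⊥ ∧ ∀ K : Subgroup G, K.Normal → K ≠ ⊥ → Cfsg.generalizedFittingSubgroup G ≤ K) ∧
      IsCyclic ↥((P : Subgroup G).map (QuotientGroup.mk' (Cfsg.generalizedFittingSubgroup G))) ∧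
      (¬ IsMulCommutative (Cfsg.generalizedFittingSubgroup G) → ∀ K L : Subgroup G, Cfsg.IsComponent K → Cfsg.IsComponent L → ∃ x ∈ (P : Subgroup G), L = K.map (MulAut.conj x).toMonoidHom) := by
  have na : ¬ ⁅(P : Subgroup G), (P : Subgroup G)⁆ = ⊥ := fun e =>
    hna (le_centralizer_iff_isMulCommutative.1 (commutator_eq_bot_iff_le_centralizer.1 e))
  have g1 : ∀ K : Subgroup G, K.Normal → K ≠ ⊥ →
      ∃ g ∈ (P : Subgroup G), (P : Subgroup G) ≤ zpowers g ⊔ K ⊓ P := fun K _ h0 => gen hgen fun h => by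
    have h1 := (tate P hcore (Normal.isSubnormal inferInstance) le_normalizer_of_normal h).le_sylow_of_normal P
    exact h0 (eq_bot_iff.2 ((normal_le_normalCore.2 ((le_inf le_rfl h1).trans h)).trans hfrat.le))
  set N := normalClosure ((⁅(P : Subgroup G), (P : Subgroup G)⁆ : Subgroup G) : Set G)
  have hN : N ≠ ⊥ := fun e => na (eq_bot_iff.2 (le_normalClosure.trans e.le))
  have hm : ∀ K : Subgroup G, K.Normal → K ≠ ⊥ → N ≤ K := fun K _ h0 => by
    obtain ⟨g, hg, h⟩ := g1 K inferInstance h0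
    exact normalClosure_le_normal (cm le_normalizer_of_normal hg h)
  haveI : Nontrivial G := by
    by_contra h
    rw [not_nontrivial_iff_subsingleton] at h
    exact hN (Subsingleton.elim _ _)
  obtain ⟨g, hg, h⟩ := g1 N inferInstance hN
  have hF := fstar_le P hcore na hN hm hg h
  refine ⟨⟨fstar_ne_bot, fun K _ h0 => hF.trans (hm K inferInstance h0)⟩, ?_, fun _ K L hK hL => ?_⟩
  · refine isCyclic_of_le (H' := zpowers (QuotientGroup.mk' _ g)) ((map_mono h).trans ?_)
    rw [Subgroup.map_sup, MonoidHom.map_zpowers, (Subgroup.map_eq_bot_iff _).2 (by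
      rw [QuotientGroup.ker_mk']; exact inf_le_left.trans (hm _ hFn fstar_ne_bot)), sup_bot_eq]
  by_contra! hKL
  set X : Subgroup G → Subgroup G := fun K => ⨆ r : (P : Subgroup G), cj (r : G) K with hX
  have PX : ∀ K, IsComponent K → ⁅(P : Subgroup G), (P : Subgroup G)⁆ ≤ X K := fun K hK => by
    have hn : (P : Subgroup G) ≤ N[X K] := le_normalizer_iSup_cj _ K
    have sn : (X K).IsSubnormal := subnormal_of_le_normalizer (Normal.isSubnormal inferInstance)
      (iSup_le fun r => comp_le_layer (comp_map_conj hK r)) (by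
        refine H1.le_normalizer_of_conj_mem fun a ha x hx => ?_
        refine (iSup_le (fun r y hy => ?_) : X K ≤ (X K).comap (MulAut.conj a).toMonoidHom) hx
        exact mem_iSup_of_mem r (H1.conj_mem_of_le_normalizer
          (layer_le_normalizer_comp (comp_map_conj hK r)) ha hy))
    obtain ⟨g, hg, h⟩ := gen (X := X K) hgen fun h => by
      have h1 := (tate P hcore sn hn h).to_le (le_iSup_of_le 1 (cj_one K).ge : K ≤ X K)
      exact comp_commutator_ne_bot hK (comp_commutator_solvable hK (H1.isSolvable_of_isPGroup h1)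
        le_normalizer)
    exact cm hn hg h
  have hc : ⁅layer G, ⁅(P : Subgroup G), (P : Subgroup G)⁆⁆ = ⊥ := layer_commutator_eq_bot fun M hM => by
    have k : ∀ K, IsComponent K → (∀ r : (P : Subgroup G), M ≠ cj (r : G) K) →
        ⁅M, ⁅(P : Subgroup G), (P : Subgroup G)⁆⁆ = ⊥ := fun K hK h => by
      refine H1.commutator_eq_bot_iff_le_centralizer'.2 ((PX K hK).trans (iSup_le fun r => ?_))
      exact H1.commutator_eq_bot_iff_le_centralizer'.1 (comp_commute_of_ne hM (comp_map_conj hK r) (h r))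
    by_cases h1 : ∀ r : (P : Subgroup G), M ≠ cj (r : G) K
    · exact k K hK h1
    · refine k L hL fun s e => ?_
      obtain ⟨r, e'⟩ := not_forall.1 h1
      refine hKL ((s : G)⁻¹ * r) (mul_mem (inv_mem s.2) r.2) ?_
      change L = cj _ K
      rw [← cj_cj, ← not_not.1 e', e, cj_inv_cj]
  have h2 : layer G ≤ C[layer G] := layer_le_fstar.trans (hF.trans (hm _ inferInstance fun e => na
    (eq_bot_iff.2 ((H1.commutator_eq_bot_iff_le_centralizer'.1 hc).trans e.le))))
  exact comp_not_le_centralizer hK (((comp_le_layer hK).trans h2).trans (centralizer_le (comp_le_layer hK)))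

end Cfsg.Agent.S4172
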