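import Cfsg.Statements.S4182
import Cfsg.Agent.H46.Coprime

set_option autoImplicit false
open Cfsg

namespace Cfsg.Agent.S4182

open Subgroup H46 in
/-- the subgroup generated by the `p`-elements of `L` -/
def O {G : Type*} [Group G] (p : ℕ) (L : Subgroup G) : Subgroup G :=
  closure {g | g ∈ L ∧ IsPiElt {p} g}

section
open Subgroup H46
variable {G : Type*} [Group G] {p : ℕ} {L M : Subgroup G}

theorem O_le : O p L ≤ L := (closure_le _).2 fun _ h => h.1

theorem O_mono (h : L ≤ M) : O p L ≤ O p M := closure_mono fun _ hg => ⟨h hg.1, hg.2⟩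

theorem O_O : O p L ≤ O p (O p L) := closure_mono fun _ hg => ⟨subset_closure hg, hg.2⟩

theorem cj_O (g : G) (h : L ≤ O p L) : cj g L ≤ O p (cj g L) := by
  refine (cj_mono g h).trans (cj_le_iff.2 ((closure_le _).2 fun x hx => ?_))
  rw [SetLike.mem_coe, mem_cj, inv_inv]
  exact subset_closure ⟨conj_mem_cj.2 hx.1, isPiElt_conj.2 hx.2⟩

theorem pgrp [Finite G] (hp : p.Prime) (hL : IsPi {p} L) {ι : Type*} [Fintype ι] (K : ι → Subgroup G)
    (hK : ∀ i, ¬ L ≤ K i) (hcov : ∀ g ∈ L, ∃ i, g ∈ K i) : p + 1 ≤ Fintype.card ι := by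
  classical
  have := Fintype.ofFinite G
  by_contra hlt
  let s : Subgroup G → Finset G := fun H => (Finset.univ.filter fun x => x ∈ H).erase 1
  have hs : ∀ H, (s H).card + 1 = Nat.card H := fun H => by
    rw [Finset.card_erase_add_one (by simp), Nat.card_eq_fintype_card, Fintype.card_subtype]
  have h1 : (s L).card ≤ ∑ i, (s (K i ⊓ L)).card := by
    refine le_trans (Finset.card_le_card fun x hx => ?_) Finset.card_biUnion_le
    simp only [s, Finset.mem_erase, Finset.mem_filter, Finset.mem_univ, true_and,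
      Finset.mem_biUnion] at hx ⊢
    obtain ⟨i, hi⟩ := hcov x hx.2
    exact ⟨i, hx.1, hi, hx.2⟩
  have h2 : ∀ i, p * (s (K i ⊓ L)).card + p ≤ (s L).card + 1 := fun i => by
    have e := card_inf_mul_relIndex (K i) L
    have h3 : (K i).relIndex L ≠ 1 := fun h => hK i (relIndex_eq_one.1 h)
    have h4 : p ≤ (K i).relIndex L := Nat.le_of_dvd (relIndex_pos _ _)
      (hL.relIndex (K i) _ (Nat.minFac_prime h3) (Nat.minFac_dvd _) ▸ Nat.minFac_dvd _)
    rw [hs, ← e, ← hs]
    nlinarith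
  have h3 := Finset.sum_le_sum fun i (_ : i ∈ Finset.univ) => h2 i
  rw [Finset.sum_add_distrib, ← Finset.mul_sum, Finset.sum_const, Finset.sum_const,
    Finset.card_univ, smul_eq_mul, smul_eq_mul] at h3
  obtain ⟨i, -⟩ := hcov 1 L.one_mem
  have h4 := h2 i
  have h5 := hp.two_le
  obtain ⟨d, hd⟩ : ∃ d, p = Fintype.card ι + d := ⟨p - Fintype.card ι, by omega⟩
  obtain ⟨e, he⟩ : ∃ e, (s L).card + 1 = p + e := ⟨(s L).card + 1 - p, by omega⟩
  have h6 := Nat.mul_le_mul_left p h1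
  rw [he] at h3
  nlinarith [Nat.zero_le (d * e)]

theorem aux [Finite G] (hp : p.Prime) (hgen : ⊤ ≤ O p (⊤ : Subgroup G)) {ι : Type*} [Fintype ι]
    (K : ι → Subgroup G) (hK : ∀ i, K i ≠ ⊤) (hcov : ∀ g, IsPiElt {p} g → ∃ i, g ∈ K i) :
    p + 1 ≤ Fintype.card ι := by
  obtain ⟨L, hL⟩ := exists_minimal_of_wellFoundedLT
    (fun L : Subgroup G => L ≤ O p L ∧ ∀ i, ¬ L ≤ K i) ⟨⊤, hgen, fun i h => hK i (top_le_iff.1 h)⟩
  obtain ⟨P, hP⟩ := exists_sylow hp L
  by_cases hPL : P = L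
  · exact pgrp hp (hPL ▸ hP.isPi) K hL.1.2 fun g hg => hcov g ((hPL ▸ hP.isPi).elt hg)
  obtain ⟨M, hPM, hM⟩ := exists_maximal_ge_of_wellFoundedGT (fun M : Subgroup G => M < L ∧ M ≤ O p M) P
    ⟨lt_of_le_of_ne hP.1 hPL, fun x hx => subset_closure ⟨hx, hP.isPi.elt hx⟩⟩
  have key : ∀ g : L, ∃ i, cj (g : G) M = O p (K i ⊓ L) := fun g => by
    have h1 : cj (g : G) M < L := by
      conv_rhs => rw [← cj_of_mem g.2]
      exact cj_lt_cj.2 hM.1.1
    have h2 := cj_O (g : G) hM.1.2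
    obtain ⟨i, hi⟩ : ∃ i, cj (g : G) M ≤ K i := by
      by_contra hc
      push Not at hc
      exact h1.not_ge (hL.2 ⟨h2, hc⟩ h1.le)
    have h3 := h2.trans (O_mono (le_inf hi h1.le))
    refine ⟨i, le_antisymm h3 (le_cj_iff.2 (hM.2 ⟨?_, cj_O _ O_O⟩ (cj_le_iff.1 h3)))⟩
    conv_rhs => rw [← cj_of_mem (L.inv_mem g.2)]
    exact cj_lt_cj.2 (lt_of_le_of_lt O_le (lt_of_le_of_ne inf_le_right fun e =>
      hL.1.2 i (e.ge.trans inf_le_left)))
  choose f hf using key
  by_contra hlt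
  have hn : ∀ x ∈ L, IsPiElt {p} x → x ∈ Nrm M := fun x hx hxp => by
    by_contra hxn
    obtain ⟨g, hg, hle⟩ := sylow_le_cj hp hP ((isPi_zpowers.2 hxp).isPGroup hp) (zpowers_le.2 hx)
    have hxg : zpowers x ≤ Nrm (cj g M) := nrm_of_le (hle.trans (cj_mono g hPM))
    have pw : ∀ a b : ℕ, a < b → b < p → cj (x ^ a) M ≠ cj (x ^ b) M := fun a b hab hb e => by
      obtain ⟨c, rfl⟩ := Nat.exists_eq_add_of_lt hab
      rw [add_assoc, pow_add, cj_mul, cj_inj] at e
      have h1 : (orderOf x).Coprime (c + 1) := PNat.coprime hxp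
        ((pnat_compl_singleton hp).2 fun h => absurd (Nat.le_of_dvd c.succ_pos h) (by omega))
      exact hxn (zpowers_le.2 (mem_nrm_iff_cj.2 e.symm) (mem_zpowers_pow_iff.2 h1.symm))
    have pg : ∀ a : ℕ, cj (x ^ a) M ≠ cj g M := fun a e => by
      have h1 := cj_of_mem_nrm (inv_mem (hxg (npow_mem_zpowers x a)))
      rw [cj_eq_iff, h1] at e
      exact hxn (e ▸ hxg (mem_zpowers x))
    let F : Option (Fin p) → L := fun o => o.elim ⟨g, hg⟩ fun a => ⟨x ^ (a : ℕ), L.pow_mem hx a⟩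
    have hF : Function.Injective (f ∘ F) := fun a b e => by
      have e' : cj (F a : G) M = cj (F b : G) M := by rw [hf, hf]; exact congrArg (fun i => O p (K i ⊓ L)) e
      rcases a with _ | a <;> rcases b with _ | b
      · rfl
      · exact absurd e'.symm (pg b)
      · exact absurd e' (pg a)
      · rcases lt_trichotomy a b with h | h | h
        · exact absurd e' (pw a b h b.2)
        · rw [h]
        · exact absurd e'.symm (pw b a h a.2)
    exact hlt (by simpa using Fintype.card_le_of_injective _ hF)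
  have hn' : L ≤ Nrm M := hL.1.1.trans ((closure_le _).2 fun x hx => hn x hx.1 hx.2)
  refine hM.1.1.not_ge (hL.1.1.trans ((closure_le _).2 fun x hx => ?_))
  obtain ⟨g, hg, hle⟩ := sylow_le_cj hp hP ((isPi_zpowers.2 hx.2).isPGroup hp) (zpowers_le.2 hx.1)
  exact (hle.trans ((cj_mono g hPM).trans (cj_of_mem_nrm (hn' hg)).le)) (mem_zpowers x)

end

/-- Let p be a prime and G a finite group generated by its p-elements. If a finite family of proper subgroups of G covers the set of p-elements of G (every element of p-power order lies in one of them), then the family has at least p + 1 members. -/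
theorem result {G : Type*} [Group G] [Finite G] (p : ℕ) [Fact p.Prime] (hgen : Subgroup.closure {g : G | ∃ k : ℕ, orderOf g = p ^ k} = ⊤)
    {ι : Type*} [Fintype ι] (K : ι → Subgroup G) (hK : ∀ i, K i ≠ ⊤)
    (hcov : ∀ g : G, (∃ k : ℕ, orderOf g = p ^ k) → ∃ i, g ∈ K i) :
    p + 1 ≤ Fintype.card ι := by
  have hp : p.Prime := Fact.out
  have h : ∀ g : G, H46.IsPiElt {p} g ↔ ∃ k : ℕ, orderOf g = p ^ k := fun g =>
    H46.pnat_singleton_iff hp (orderOf_pos g).ne'
  refine aux hp ?_ K hK fun g hg => hcov g ((h g).1 hg)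
  rw [← hgen]
  exact Subgroup.closure_mono fun g hg => ⟨hgen ▸ Subgroup.mem_top g, (h g).2 hg⟩

end Cfsg.Agent.S4182
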