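import Cfsg.Statements.S4184
import Cfsg.Agent.Base
import Cfsg.Agent.H23.ClassSize

set_option autoImplicit false
open Cfsg

namespace Cfsg.Agent.S4184

open H46 Subgroup in
theorem aux {G : Type*} [Group G] [Finite G] {A : Set ℕ} {k n p q : ℕ} (hG : Nat.card G = k * n)
    (hc : ∀ h : G, h ≠ 1 → ∃ c, Nat.card (Cent1 h) = k * c ∧ c ≠ 1 ∧ (PNat A c ∨ PNat Aᶜ c))
    (hp : p.Prime) (hq : q.Prime) (hpA : p ∈ A) (hqA : q ∉ A) (hpk : p ∣ k) (hpn : p ∣ n)
    (hqn : q ∣ n) : False := by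
  have key : ∀ {r c : ℕ} {H : Subgroup G} {h : G}, r.Prime → IsPi {r} H → H ≤ Cent1 h →
      Nat.card (Cent1 h) = k * c → ¬ Nat.card H ∣ k → r ∣ c := fun hr hH hle e hn => by
    by_contra h'
    exact hn ((PNat.coprime hH ((pnat_compl_singleton hr).2 h')).dvd_of_dvd_mul_right
      (e ▸ card_dvd_of_le hle))
  have syl : ∀ {r : ℕ} {H : Subgroup G}, r.Prime → r ∣ n → IsSylowOf r H ⊤ → ¬ Nat.card H ∣ k := by
    rintro r H hr hrn hH ⟨m, rfl⟩
    refine hH.not_dvd hr ?_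
    have := card_mul_relIndex hH.le
    rw [card_top, hG, mul_assoc] at this
    rw [Nat.eq_of_mul_eq_mul_left (card_pos' H) this]
    exact hrn.mul_left m
  have hpq : p ≠ q := fun h => hqA (h ▸ hpA)
  obtain ⟨Q, hQ⟩ := exists_sylow hq (⊤ : Subgroup G)
  have hQ1 : Q ≠ ⊥ := hQ.ne_bot hq rfl (by rw [card_top, hG]; exact hqn.mul_left k)
  obtain ⟨w, hw, hw1⟩ := exists_ne_one_of_ne_bot (zc_ne_bot_of_nil hQ.isPi.nil hQ1)
  obtain ⟨c, hcw, -, hcA⟩ := hc w hw1
  have hcA : PNat Aᶜ c := hcA.resolve_left fun h =>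
    hqA (h q hq (key hq hQ.isPi (le_cent1_iff.2 hw.2) hcw (syl hq hqn hQ)))
  have hpc : ¬ p ∣ c := fun h => hcA p hp h hpA
  obtain ⟨P₁, hP₁⟩ := exists_sylow hp (Cent1 w)
  have hP1 : P₁ ≠ ⊥ := hP₁.ne_bot hp rfl (by rw [hcw]; exact hpk.mul_right c)
  obtain ⟨P, hP, hle⟩ := exists_sylow_ge hp (hP₁.isPGroup hp) le_top
  have hlt : P₁ < P := lt_of_le_of_ne hle fun e =>
    hpc (key hp hP.isPi (e ▸ hP₁.le) hcw (syl hp hpn hP))
  have hlt' := nil_lt_inf_nrm hP.isPi.nil hlt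
  have hN : IsPi {p} (P ⊓ Nrm P₁) := hP.isPi.inf_left
  obtain ⟨y, hy, hy1⟩ := exists_ne_one_of_ne_bot
    (nil_meet_zc hN.nil ⟨hlt'.le, inf_le_right⟩ hP1)
  obtain ⟨d, hdy, -, hdA⟩ := hc y hy1
  have hdA : PNat A d := hdA.resolve_right fun h => h p hp (key hp hN (le_cent1_iff.2 hy.2.2) hdy
    fun h' => hlt'.ne (eq_of_le_of_card_eq hlt'.le (Nat.dvd_antisymm (card_dvd_of_le hlt'.le)
      (hP₁.dvd_card hN (by rw [hcw]; exact h'.mul_right c))))) hpA
  have hyw : Commute y w := mem_cent1.1 (hP₁.le hy.1)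
  have hco : (orderOf y).Coprime (orderOf w) :=
    (hP₁.isPi.elt hy.1).coprime ((hQ.isPi.compl_singleton hpq).elt hw.1)
  have hne : y * w ≠ 1 := fun h => by
    rw [eq_inv_of_mul_eq_one_left h, orderOf_inv, Nat.coprime_self, orderOf_eq_one_iff] at hco
    exact hw1 hco
  obtain ⟨e, he, he1, -⟩ := hc _ hne
  have hk : 0 < k := Nat.pos_of_mul_pos_right (hG ▸ Nat.card_pos)
  have h1 := card_dvd_of_le (H23.cent1_mul_of_coprime hyw hco)
  have h2 := card_dvd_of_le (H23.cent1_mul_of_coprime hyw.symm hco.symm)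
  rw [← hyw.eq] at h2
  rw [he, hdy] at h1
  rw [he, hcw] at h2
  exact he1 ((hdA.of_dvd (Nat.dvd_of_mul_dvd_mul_left hk h1)).eq_one
    (hcA.of_dvd (Nat.dvd_of_mul_dvd_mul_left hk h2)))

open H46 Subgroup in
/-- Let G and M be finite groups with trivial centres and the same set of conjugacy class sizes, and suppose the prime graph of M is disconnected: the prime divisors of #M split into two non-empty parts such that M has no element of order pq with p in one part and q in the other. Then #G = #M. -/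
theorem result {G M : Type*}
    [Group G] [Finite G] [Group M] [Finite M] (hZG : Subgroup.center G = ⊥) (hZM : Subgroup.center M = ⊥)
    (h : Set.range (fun g : G => (Subgroup.centralizer ({g} : Set G)).index) = Set.range (fun g : M => (Subgroup.centralizer ({g} : Set M)).index))
    (hdisc : ∃ A : Set ℕ, (∃ a ∈ A, a.Prime ∧ a ∣ Nat.card M) ∧ (∃ b ∉ A, b.Prime ∧ b ∣ Nat.card M) ∧
      ∀ a ∈ A, ∀ b ∉ A, a.Prime → b.Prime → a ∣ Nat.card M → b ∣ Nat.card M → ¬ ∃ x : M, orderOf x = a * b) :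
    Nat.card G = Nat.card M := by
  obtain ⟨A, ⟨a, haA, ha, haM⟩, ⟨b, hbA, hb, hbM⟩, hA⟩ := hdisc
  have hno : ∀ {x y : M} {r s : ℕ}, r.Prime → s.Prime → orderOf x = r → orderOf y = s → Commute x y →
      r ∈ A → s ∈ A := fun {x y r s} hr hs hx hy hxy hrA => by
    by_contra hsA
    refine hA r hrA s hsA hr hs (hx ▸ orderOf_dvd_natCard x) (hy ▸ orderOf_dvd_natCard y) ⟨x * y, ?_⟩
    rw [hxy.orderOf_mul_eq_mul_orderOf_of_coprime, hx, hy]
    rw [hx, hy]
    exact (Nat.coprime_primes hr hs).2 fun e => hsA (e ▸ hrA)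
  have hM : ∀ {x z : M}, z ∈ zpowers x → (orderOf z).Prime →
      (orderOf z ∈ A → IsPi A (Cent1 x)) ∧ (orderOf z ∉ A → IsPi Aᶜ (Cent1 x)) := fun {x z} hz hp => by
    have : ∀ y ∈ Cent1 x, Commute z y := fun y hy => mem_cent.1 (cent_zpowers x ▸ hy) z hz
    refine ⟨fun h s hs hd => ?_, fun h s hs hd h' => ?_⟩ <;> obtain ⟨y, hy, e⟩ := cauchy hs hd
    · exact hno hp hs rfl e (this y hy) h
    · exact h (hno hs hp e rfl (this y hy).symm h')
  have hdvd : ∀ x : M, (Cent1 x).index ∣ Nat.card G := fun x => by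
    obtain ⟨g, hg⟩ : (Cent1 x).index ∈ Set.range _ := h.ge ⟨x, rfl⟩
    exact hg ▸ index_dvd_card _
  obtain ⟨k, hk⟩ : Nat.card M ∣ Nat.card G := by
    obtain ⟨x, -, hx⟩ := cauchy (H := (⊤ : Subgroup M)) ha (by rwa [card_top])
    obtain ⟨y, -, hy⟩ := cauchy (H := (⊤ : Subgroup M)) hb (by rwa [card_top])
    have h1 := (hM (mem_zpowers x) (hx ▸ ha)).1 (hx ▸ haA)
    have h2 := (hM (mem_zpowers y) (hy ▸ hb)).2 (hy ▸ hbA)
    have e1 : Nat.card M ∣ Nat.card G * Nat.card (Cent1 x) :=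
      index_mul_card (Cent1 x) ▸ Nat.mul_dvd_mul_right (hdvd x) _
    have e2 : Nat.card M ∣ Nat.card G * Nat.card (Cent1 y) :=
      index_mul_card (Cent1 y) ▸ Nat.mul_dvd_mul_right (hdvd y) _
    have := Nat.dvd_gcd e1 e2
    rwa [Nat.gcd_mul_left, h1.coprime h2, mul_one] at this
  have hidx : ∀ g : G, ∃ x : M, (Cent1 x).index = (Cent1 g).index := fun g => h.le ⟨g, rfl⟩
  have hc : ∀ g : G, g ≠ 1 →
      ∃ c, Nat.card (Cent1 g) = k * c ∧ c ≠ 1 ∧ (PNat A c ∨ PNat Aᶜ c) := fun g hg => by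
    obtain ⟨x, hx⟩ := hidx g
    have hx1 : x ≠ 1 := fun e => by
      rw [e, cent1_one, index_top, eq_comm, index_eq_one] at hx
      exact hg (mem_bot.1 (hZG ▸ mem_center_iff.2 fun z => mem_cent1.1 (hx ▸ mem_top z)))
    refine ⟨Nat.card (Cent1 x), ?_, (one_lt_card.2 (ne_bot_of_mem (self_mem_cent1 x) hx1)).ne', ?_⟩
    · have e := index_mul_card (Cent1 g)
      rw [hk, ← index_mul_card (Cent1 x), hx, mul_assoc] at e
      rw [Nat.eq_of_mul_eq_mul_left (Nat.pos_of_ne_zero index_ne_zero_of_finite) e, mul_comm]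
    · obtain ⟨z, hz, hp⟩ := exists_prime_order_mem_zpowers hx1
      exact (em _).imp (hM hz hp).1 (hM hz hp).2
  by_cases hk1 : k = 1
  · rw [hk, hk1, mul_one]
  obtain ⟨p, hp, hpk⟩ := Nat.exists_prime_and_dvd hk1
  rw [mul_comm] at hk
  by_cases hpM : p ∣ Nat.card M
  · by_cases hpA : p ∈ A
    · exact (aux hk hc hp hb hpA hbA hpk hpM hbM).elim
    · exact (aux (A := Aᶜ) hk (fun g hg => (hc g hg).imp fun c h => ⟨h.1, h.2.1,
        h.2.2.symm.imp_right PNat.compl_compl⟩) hp ha hpA (fun h => h haA) hpk hpM haM).elim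
  · obtain ⟨P, hP⟩ := exists_sylow hp (⊤ : Subgroup G)
    refine (hP.ne_bot hp rfl (by rw [card_top, hk]; exact hpk.mul_right _) (eq_bot_iff.2 (hZG ▸
      H23.le_center_of_not_dvd_index hp (fun g hg => hpM ?_) (hP.isPGroup hp)))).elim
    obtain ⟨x, hx⟩ := hidx g
    exact (hx ▸ hg).trans (index_dvd_card _)

end Cfsg.Agent.S4184
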