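import Cfsg.Statements.S4190
import Cfsg.Agent.H10.KgKM

set_option autoImplicit false
open Cfsg

namespace Cfsg.Agent.S4190

/-- Let G be a finite solvable group and p a prime dividing the index of the Fitting subgroup of G. Then the number of conjugacy classes of G is at least p/(3·log₂ p). -/
theorem result {G : Type*} [Group G] [Finite G] (hG : Group.IsSolvable G) (p : ℕ) [Fact p.Prime] (hp : p ∣ (Cfsg.fittingSubgroup G).index) : (p : ℝ) / (3 * Real.logb 2 p) ≤ Nat.card (ConjClasses G) := by
  have h1 := H10.Kg.km_nat hG hp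
  have h2 : (1 : ℝ) < p := Nat.one_lt_cast.2 (Fact.out : p.Prime).one_lt
  have h3 : (Nat.log 2 (p ^ 3) : ℝ) ≤ 3 * Real.logb 2 p := by
    have := Real.natLog_le_logb (p ^ 3) 2
    rwa [Nat.cast_pow, Real.logb_pow] at this
  rw [div_le_iff₀ (mul_pos three_pos (Real.logb_pos one_lt_two h2)), mul_comm]
  exact (Nat.cast_le.2 h1).trans (by push_cast; gcongr)

end Cfsg.Agent.S4190
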