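import Cfsg.Statements.S4192
import Cfsg.Agent.H24.RealCl2

set_option autoImplicit false
open Cfsg

namespace Cfsg.Agent.S4192

/-- Let G be a finite group; call an element real when it is conjugate to its inverse, and say that the real-class-size graph of a group is disconnected when the primes dividing its real class sizes split into two non-empty disjoint parts with no real class size divisible by a prime from each part. If the real-class-size graph of G is disconnected, then some real class size of G is even, and either the Sylow 2-subgroups of G are normal, or the subgroup K generated by the 2-elements of G (the smallest normal subgroup of odd index) again has a disconnected real-class-size graph and every real class size of K is odd or a power of 2. -/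
theorem result {G : Type*} [Group G] [Finite G] (h : (∃ π₁ π₂ : Set ℕ, π₁.Nonempty ∧ π₂.Nonempty ∧ Disjoint π₁ π₂ ∧ (∀ q ∈ π₁ ∪ π₂, q.Prime ∧ ∃ n ∈ {n : ℕ | ∃ x : G, IsConj x x⁻¹ ∧ (Subgroup.centralizer ({x} : Set G)).index = n}, q ∣ n) ∧ (∀ q : ℕ, q.Prime → (∃ n ∈ {n : ℕ | ∃ x : G, IsConj x x⁻¹ ∧ (Subgroup.centralizer ({x} : Set G)).index = n}, q ∣ n) → q ∈ π₁ ∨ q ∈ π₂) ∧ ∀ a ∈ π₁, ∀ b ∈ π₂, ∀ n ∈ {n : ℕ | ∃ x : G, IsConj x x⁻¹ ∧ (Subgroup.centralizer ({x} : Set G)).index = n}, ¬ (a ∣ n ∧ b ∣ n))) : (∃ n ∈ {n : ℕ | ∃ x : G, IsConj x x⁻¹ ∧ (Subgroup.centralizer ({x} : Set G)).index = n}, 2 ∣ n) ∧ ((∀ P : Sylow 2 G, (P : Subgroup G).Normal) ∨ ((∃ π₁ π₂ : Set ℕ, π₁.Nonempty ∧ π₂.Nonempty ∧ Disjoint π₁ π₂ ∧ (∀ q ∈ π₁ ∪ π₂, q.Prime ∧ ∃ n ∈ {n : ℕ | ∃ x : ↥(Subgroup.closure {g : G | ∃ k : ℕ, orderOf g = 2 ^ k}), IsConj x x⁻¹ ∧ (Subgroup.centralizer ({x} : Set ↥(Subgroup.closure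 {g : G | ∃ k : ℕ, orderOf g = 2 ^ k}))).index = n}, q ∣ n) ∧ (∀ q : ℕ, q.Prime → (∃ n ∈ {n : ℕ | ∃ x : ↥(Subgroup.closure {g : G | ∃ k : ℕ, orderOf g = 2 ^ k}), IsConj x x⁻¹ ∧ (Subgroup.centralizer ({x} : Set ↥(Subgroup.closure {g : G | ∃ k : ℕ, orderOf g = 2 ^ k}))).index = n}, q ∣ n) → q ∈ π₁ ∨ q ∈ π₂) ∧ ∀ a ∈ π₁, ∀ b ∈ π₂, ∀ n ∈ {n : ℕ | ∃ x : ↥(Subgroup.closure {g : G | ∃ k : ℕ, orderOf g = 2 ^ k}), IsConj x x⁻¹ ∧ (Subgroup.centralizer ({x} : Set ↥(Subgroup.closure {g : G | ∃ k : ℕ, orderOf g = 2 ^ k}))).index = n}, ¬ (a ∣ n ∧ b ∣ n)) ∧ ∀ n ∈ {n : ℕ | ∃ x : ↥(Subgroup.closure {g : G | ∃ k : ℕ, orderOf g = 2 ^ k}), IsConj x x⁻¹ ∧ (Subgroup.centralizer ({x} : Set ↥(Subgroup.closure {g : G | ∃ k : ℕ, orderOf g = 2 ^ k}))).index = n}, Odd n ∨ ∃ j : ℕ, n = 2 ^ j)) := by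
  obtain ⟨π₁, π₂, h₁, h₂, -, hsub, hcover, hnoedge⟩ := h
  obtain ⟨⟨x, hx, h2⟩, Z, hZ, z, hz, hz1⟩ := H24.RC.exists_hyp (G := G) h₁ h₂
    (fun q hq ⟨x, hx, h⟩ => hcover q hq ⟨_, ⟨x, hx, rfl⟩, h⟩)
    (fun q hq => by
      obtain ⟨h1, _, ⟨x, hx, rfl⟩, h2⟩ := hsub q hq
      exact ⟨h1, x, hx, h2⟩)
    fun a ha b hb x hx h1 h2 => hnoedge a ha b hb _ ⟨x, hx, rfl⟩ ⟨h1, h2⟩
  refine ⟨⟨_, ⟨x, hx, rfl⟩, h2⟩, ?_⟩
  by_cases hP : ∀ P : Sylow 2 G, (P : Subgroup G).Normal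
  · exact Or.inl hP
  right
  push Not at hP
  obtain ⟨P, hP⟩ := hP
  rw [← S3861.result P] at hP
  push Not at hP
  obtain ⟨y, hy1, hyo, hy⟩ := hP
  set N := Subgroup.closure {g : G | ∃ k : ℕ, orderOf g = 2 ^ k} with hN
  haveI : N.Normal := ⟨fun n hn g => by
    have : N ≤ N.comap (MulAut.conj g).toMonoidHom := (Subgroup.closure_le _).2 fun a ⟨k, hk⟩ =>
      Subgroup.subset_closure ⟨k, (H83.orderOf_conj g a).trans hk⟩
    exact this hn⟩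
  have hNo : Odd N.index := by
    rw [← Nat.not_even_iff_odd, even_iff_two_dvd]
    refine fun h => P.not_dvd_index (h.trans (Subgroup.index_dvd_of_le fun g hg => ?_))
    exact Subgroup.subset_closure ((H18.exists_orderOf_eq_pow_iff Nat.prime_two).2
      (H18.exists_pow_eq_one_of_mem P.isPGroup' hg))
  have key := hZ.two_pow hz N fun K hK => (Subgroup.closure_le _).2 fun g hg =>
    hK g ((H18.exists_orderOf_eq_pow_iff Nat.prime_two).1 hg)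
  obtain ⟨hyN, hy'⟩ := (S3863.result y hy).2.2 N hNo
  obtain ⟨hzN, hz'⟩ := (S3863.result z (hZ.real z hz)).2.2 N hNo
  refine ⟨⟨{2}, {q | q.Prime ∧ q ≠ 2 ∧ ∃ x : N, IsConj x x⁻¹ ∧ q ∣ H24.RC.cl x},
    Set.singleton_nonempty 2, ?_, Set.disjoint_singleton_left.2 fun h => h.2.1 rfl, ?_, ?_, ?_⟩, ?_⟩
  · have h1 : H24.RC.cl (⟨z, hzN⟩ : N) ≠ 1 := fun e => by
      rw [Subgroup.index_eq_one] at e
      have hc : ∀ g : N, (g : G) * z = z * g := fun g => congrArg Subtype.val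
        (Subgroup.mem_centralizer_singleton_iff.1 (e.ge (Subgroup.mem_top g)))
      obtain ⟨t, ht⟩ := isConj_iff.1 hy'
      exact hy1 (hZ.f1 hz (hc ⟨y, hyN⟩) (hc t) hyo (congrArg Subtype.val ht))
    obtain ⟨q, hq, hqd⟩ := Nat.exists_prime_and_dvd h1
    refine ⟨q, hq, fun e => ?_, _, hz', hqd⟩
    have := (hZ.odd z hz).of_dvd_nat (hqd.trans (H18.index_centralizer_normal_dvd N ⟨z, hzN⟩))
    rw [e] at this
    exact absurd this (by decide)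
  · rintro q (rfl | ⟨hq, -, x, hx, h⟩)
    · refine ⟨Nat.prime_two, _, ⟨_, hy', rfl⟩, even_iff_two_dvd.1
        (H25.RealCl.even_index_of_real hy' fun e => hy1 ?_)⟩
      have e' : y⁻¹ = y := congrArg Subtype.val e
      exact H24.RC.eq_one_of_odd hyo (k := 1)
        (by rw [pow_one, sq]; nth_rw 1 [← e']; exact inv_mul_cancel y)
    · exact ⟨hq, _, ⟨x, hx, rfl⟩, h⟩
  · rintro q hq ⟨_, ⟨x, hx, rfl⟩, h⟩
    by_cases e : q = 2
    · exact Or.inl e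
    · exact Or.inr ⟨hq, e, x, hx, h⟩
  · rintro a rfl b ⟨hb, hb2, -⟩ _ ⟨x, hx, rfl⟩ ⟨h1, h2⟩
    rcases key x hx with h | ⟨j, h⟩
    · exact absurd (h.of_dvd_nat h1) (by decide)
    · exact hb2 ((Nat.prime_dvd_prime_iff_eq hb Nat.prime_two).1 (hb.dvd_of_dvd_pow (h2.trans h.dvd)))
  · rintro _ ⟨x, hx, rfl⟩
    exact key x hx

end Cfsg.Agent.S4192
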