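import Cfsg.Statements.S4203
import Cfsg.Agent.H43.SylP
import Cfsg.Agent.H24.EppoRows
import Cfsg.Agent.H2.MinNormal
import Cfsg.Agent.H4.HallBasic

set_option autoImplicit false
open Cfsg

namespace Cfsg.Agent.S4203

/-- A finite group in which every maximal subgroup has index a prime or the square of a prime is solvable. -/
theorem result {G : Type*} [Group G] [Finite G] (h : ∀ M : Subgroup G, IsCoatom M → ∃ p : ℕ, p.Prime ∧ (M.index = p ∨ M.index = p ^ 2)) : Group.IsSolvable G := by
  induction hn : Nat.card G using Nat.strong_induction_on generalizing G with | _ n ih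
  subst hn
  by_cases h1 : (Nat.card G).primeFactors.Nonempty
  swap
  · exact H24.solvable_of_card_primeFactors_le (by rw [Finset.not_nonempty_iff_eq_empty.1 h1]; simp)
  obtain ⟨p, hp, hmax⟩ := Finset.exists_max_image _ id h1
  have := Fact.mk (Nat.prime_of_mem_primeFactors hp)
  obtain ⟨P⟩ : Nonempty (Sylow p G) := inferInstance
  rcases eq_top_or_exists_le_coatom (Subgroup.normalizer (P : Set G)) with e | ⟨M, hM, e⟩
  · have : (P : Subgroup G).Normal := Subgroup.normalizer_eq_top_iff.1 e
    have := P.isPGroup'.isNilpotent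
    have : Group.IsSolvable (G ⧸ (P : Subgroup G)) := ih _ (H4.card_quotient_lt _
      (P.ne_bot_of_dvd_card (Nat.dvd_of_mem_primeFactors hp)))
      (fun M hM => by
        simpa only [Subgroup.index_comap_of_surjective _ (QuotientGroup.mk'_surjective _)] using
          h _ (Subgroup.isCoatom_comap_of_surjective (QuotientGroup.mk'_surjective _) hM)) rfl
    exact H2.isSolvable_of_normal_of_quotient (P : Subgroup G)
  · have h2 := H43.index_modEq_one P.isPGroup' P.not_dvd_index e
    obtain ⟨q, hq, h3⟩ := h M hM
    have h4 : q ≤ p := hmax q (Nat.mem_primeFactors.2 ⟨hq, Dvd.dvd.trans (by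
      rcases h3 with h3 | h3 <;> simp [h3]) M.index_dvd_card, Nat.card_pos.ne'⟩)
    have hp' : p.Prime := Fact.out
    have h5 := hq.two_le
    have h6 : ¬ p ∣ q - 1 := fun k => by have := Nat.le_of_dvd (by omega) k; omega
    have h7 : p ∣ q + 1 := by
      rcases h3 with h3 | h3
      · exact absurd ((Nat.modEq_iff_dvd' hq.one_le).1 (h3 ▸ h2).symm) h6
      · have k := (Nat.modEq_iff_dvd' (Nat.one_le_pow _ _ hq.pos)).1 (h3 ▸ h2).symm
        rw [← one_pow 2, Nat.sq_sub_sq, hp'.dvd_mul] at k
        exact k.resolve_right h6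
    have h8 : p = q + 1 := by
      refine le_antisymm (Nat.le_of_dvd (by omega) h7) (lt_of_le_of_ne h4 ?_)
      rintro rfl
      exact hq.one_lt.ne' (Nat.dvd_one.1 ((Nat.dvd_add_right dvd_rfl).1 h7))
    have h9 : p ≤ 3 := by
      rcases hq.eq_two_or_odd with k | k
      · omega
      · rcases hp'.eq_two_or_odd with k' | k' <;> omega
    refine H24.solvable_of_card_primeFactors_le ((Finset.card_le_card fun r hr => ?_).trans
      (Finset.card_le_two (a := 2) (b := 3)))
    have k1 : r ≤ p := hmax r hr
    have k2 := (Nat.prime_of_mem_primeFactors hr).two_le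
    simp only [Finset.mem_insert, Finset.mem_singleton]
    omega

end Cfsg.Agent.S4203
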