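import Cfsg.Statements.S4227
import Cfsg.Agent.S3783
import Cfsg.Agent.S4258
import Cfsg.Agent.H24.EppoRows
import Cfsg.Agent.H18.PSolv

set_option autoImplicit false
open Cfsg

namespace Cfsg.Agent.S4227

/-- A finite group in which every element has order dividing `6` has `2`-length at most `1` and `3`-length at most `1`. -/
theorem result {G : Type*} [Group G] [Finite G] (h : ∀ x : G, x ^ 6 = 1) : Cfsg.PLengthLE 2 1 G ∧ Cfsg.PLengthLE 3 1 G := by
  have key : ∀ (q : ℕ) (Q : Sylow q G), ∀ x ∈ (Q : Subgroup G), ∀ a b : ℕ, a * b = 6 → q.Coprime b →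
      x ^ a = 1 := fun q Q x hx a b e c => by
    obtain ⟨k, hk⟩ := Q.isPGroup' ⟨x, hx⟩
    exact orderOf_dvd_iff_pow_eq_one.1 (Nat.Coprime.dvd_of_dvd_mul_right
      (Nat.Coprime.coprime_dvd_left (orderOf_dvd_of_pow_eq_one (congrArg Subtype.val hk)) (c.pow_left k))
      (e ▸ orderOf_dvd_of_pow_eq_one (h x)))
  have : Group.IsSolvable G := by
    refine H24.solvable_of_card_primeFactors_le ((Finset.card_le_card fun r hr => ?_).trans
      (Finset.card_le_two (a := 2) (b := 3)))
    have hp := Nat.prime_of_mem_primeFactors hr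
    have := Fact.mk hp
    obtain ⟨x, hx⟩ := exists_prime_orderOf_dvd_card' r (Nat.dvd_of_mem_primeFactors hr)
    have h1 : r ∣ 2 * 3 := hx ▸ orderOf_dvd_of_pow_eq_one (h x)
    rw [hp.dvd_mul, Nat.prime_dvd_prime_iff_eq hp Nat.prime_two,
      Nat.prime_dvd_prime_iff_eq hp Nat.prime_three] at h1
    simpa using h1
  have := Fact.mk Nat.prime_three
  refine ⟨Cfsg.Agent.S4258.result (H18.isPSolvable_of_isSolvable 2) 1
    fun P x hx => key 2 P x hx _ 3 rfl (by norm_num),
    Cfsg.Agent.S3783.result (H18.isPSolvable_of_isSolvable 3) (fun q hq h3 Q => ⟨⟨fun a b => ?_⟩⟩) 1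
    fun P x hx => key 3 P x hx _ 2 rfl (by norm_num)⟩
  have h2 : ∀ x : Q, x⁻¹ = x := fun x => inv_eq_of_mul_eq_one_right (Subtype.ext (by
    have := key q Q x x.2 2 3 rfl ((Nat.coprime_primes hq.out Nat.prime_three).2 h3)
    rwa [pow_two] at this))
  rw [← h2 (a * b), mul_inv_rev, h2, h2]

end Cfsg.Agent.S4227
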