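import Cfsg.Statements.S4238
import Cfsg.Agent.Base
import Cfsg.Agent.H7.MinAct
import Cfsg.Agent.H48.Rank2Solv
import Cfsg.Agent.H10.StableNormal
import Cfsg.Agent.H46.Coprime
import Cfsg.Agent.H46.Nil
import Cfsg.Agent.H98.Sylow
import Cfsg.Agent.H2.PrimeCore

set_option autoImplicit false
open Cfsg

namespace Cfsg.Agent.S4238

open Subgroup
open scoped commutatorElement

theorem key {K : Type*} [Group K] [Finite K] {p : ℕ} [hp : Fact p.Prime] {V : Subgroup K} {g : K}
    (hp1 : ∀ v ∈ V, v ^ p = 1) (hc : V ≤ centralizer V) (hne : V ≠ ⊥) (hg : (orderOf g).Coprime p)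
    (dec : ∀ x : K, ∃ v ∈ V, ∃ i : ℕ, x = v * g ^ i) (hn : g ∈ normalizer (V : Set K))
    (hcm : ⁅V, zpowers g⁆ = V) (hf : ∀ i : ℕ, g ^ i ∈ centralizer (V : Set K) → g ^ i = 1) :
    pPrimeCore p K = ⊥ ∧ ∀ k : K, orderOf k ≠ Monoid.exponent K := by
  have nV : V.Normal := H98.normal_of_top_le_normalizer fun x _ => by
    obtain ⟨v, hv, i, rfl⟩ := dec x
    exact mul_mem (le_normalizer hv) (pow_mem hn i)
  have one : ∀ v ∈ V, (orderOf v).Coprime p → v = 1 := fun v hv h =>
    orderOf_eq_one_iff.1 (Nat.eq_one_of_dvd_coprimes h dvd_rfl (orderOf_dvd_of_pow_eq_one (hp1 v hv)))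
  constructor
  · rw [H2.pPrimeCore_eq_bot_iff]
    intro N hN co
    rw [eq_bot_iff]
    intro l hl
    have oN : ∀ x ∈ N, (orderOf x).Coprime p := fun x hx =>
      co.coprime_dvd_left (N.orderOf_dvd_natCard hx)
    obtain ⟨v, hv, i, rfl⟩ := dec l
    have : v * g ^ i ∈ centralizer (V : Set K) := fun u hu =>
      commutatorElement_eq_one_iff_mul_comm.1 (one _
        (commutator_le_left V ⊤ (commutator_mem_commutator hu (mem_top _)))
        (oN _ (commutator_le_right ⊤ N (commutator_mem_commutator (mem_top _) hl))))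
    rw [hf i ((mul_mem_cancel_left (hc hv)).1 this), mul_one] at hl ⊢
    exact one v hv (oN v hl)
  intro k hk
  obtain ⟨⟨v, hv⟩, v1⟩ := ne_bot_iff_exists_ne_one.1 hne
  have ov : orderOf v = p := orderOf_eq_prime (hp1 v hv) fun e => v1 (Subtype.ext e)
  have d : orderOf g * p ∣ orderOf k := hk ▸ hg.mul_dvd_of_dvd_of_dvd (Monoid.order_dvd_exponent g)
    (ov ▸ Monoid.order_dvd_exponent v)
  obtain ⟨u, hu, i, rfl⟩ := dec k
  have pw : ∀ j : ℕ, (u * g ^ i) ^ j * ((g ^ i) ^ j)⁻¹ ∈ V := fun j => by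
    rw [← QuotientGroup.eq_one_iff (N := V)]
    simp [(QuotientGroup.eq_one_iff u).2 hu]
  have pw' : ∀ j : ℕ, (g ^ i) ^ j = 1 → (u * g ^ i) ^ j ∈ V := fun j e => by simpa [e] using pw j
  have p0 := hp.out.pos
  have d2 : orderOf g ∣ orderOf (g ^ i) := Nat.dvd_of_mul_dvd_mul_right p0 (d.trans
    (orderOf_dvd_of_pow_eq_one (by rw [pow_mul, hp1 _ (pw' _ (pow_orderOf_eq_one _))])))
  have ez : zpowers (g ^ i) = zpowers g := eq_of_le_of_card_ge (zpowers_le.2 (pow_mem (mem_zpowers g) i))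
    (by rw [Nat.card_zpowers, Nat.card_zpowers]; exact Nat.le_of_dvd (orderOf_pos _) d2)
  have m := pw' (orderOf g) (by rw [← pow_mul, mul_comm, pow_mul, pow_orderOf_eq_one, one_pow])
  have pV : IsPGroup p V := H98.isPGroup_iff_forall.2 fun v hv => ⟨1, by rw [pow_one, hp1 v hv]⟩
  obtain ⟨n, hn'⟩ := pV.exists_card_eq
  have ti := H46.coprime_abel_cent_TI (V := V) (A := zpowers g)
    (le_centralizer_iff_isMulCommutative.1 hc) (zpowers_le.2 hn)
    (by rw [Nat.card_zpowers, hn']; exact hg.pow_right n)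
  rw [hcm] at ti
  have e : (u * g ^ i) ^ orderOf g = 1 := mem_bot.1 (ti.le ⟨m, by
    rw [← ez, H46.Cent, zpowers_eq_closure, centralizer_closure]
    refine mem_centralizer_singleton_iff.2 (Commute.eq ?_)
    have c1 : Commute ((u * g ^ i) ^ orderOf g) (u * g ^ i) := (Commute.refl _).pow_left _
    have c2 : Commute ((u * g ^ i) ^ orderOf g) u := (hc hu _ m)
    simpa using c2.inv_right.mul_right c1⟩)
  have := Nat.le_of_dvd (orderOf_pos g) (d.trans (orderOf_dvd_of_pow_eq_one e))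
  have := hp.out.two_le
  have := orderOf_pos g
  nlinarith

/-- Let G be a finite group and p a prime. Then G has a normal p-complement if and only if every section K = H/N of G (N a normal subgroup of a subgroup H) whose largest normal subgroup of order prime to p is trivial contains an element whose order equals the exponent of K. -/
theorem result {G : Type*} [Group G] [Finite G] (p : ℕ) [Fact p.Prime] :
    Cfsg.HasNormalPComplement p G ↔
      ∀ (H : Subgroup G) (N : Subgroup H) [N.Normal], Cfsg.pPrimeCore p (H ⧸ N) = ⊥ →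
        ∃ k : H ⧸ N, orderOf k = Monoid.exponent (H ⧸ N) := by
  have hp : p.Prime := Fact.out
  constructor
  · intro h H N _ e
    have h1 := H48.isPGroup_quotient_pPrimeCore_iff.2 (H7.hasNPC_quotient (H7.hasNPC_subgroup h H) N)
    have h2 : IsPGroup p (H ⧸ N) := fun x => by
      obtain ⟨k, hk⟩ := h1 (QuotientGroup.mk x)
      rw [← QuotientGroup.mk_pow, QuotientGroup.eq_one_iff, e, mem_bot] at hk
      exact ⟨k, hk⟩
    obtain ⟨n, hn⟩ := h2.exists_card_eq
    obtain ⟨j, -, hj⟩ := (Nat.dvd_prime_pow hp).1 (hn ▸ Group.exponent_dvd_nat_card (G := H ⧸ N))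
    obtain ⟨k, hk⟩ := hp.exists_orderOf_eq_pow_factorization_exponent (G := H ⧸ N)
    exact ⟨k, by rw [hk, hj, Nat.Prime.factorization_pow hp]; simp⟩
  intro h
  by_contra hn
  obtain ⟨R, -, g, m⟩ := H7.exists_minAct_of_not_hasNPC (Classical.arbitrary (Sylow p G)) hn
  set Φ := (frattini R).map R.subtype
  have ΦR : Φ ≤ R := map_subtype_le _
  have nΦ : normalizer (R : Set G) ≤ normalizer (Φ : Set G) :=
    H98.normalizer_le_normalizer_map_subtype _
  have gR := zpowers_le.2 m.mem_normalizer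
  have HR : R ⊔ zpowers g ≤ normalizer (R : Set G) := sup_le le_normalizer gR
  have cC : R ⊔ zpowers g ≤ centralizer ((zpowers g ⊓ centralizer (R : Set G) : Subgroup G) : Set G) :=
    sup_le (le_centralizer_iff.1 inf_le_right) fun x hx y hy => by
      obtain ⟨i, rfl⟩ := mem_zpowers_iff.1 hx
      obtain ⟨j, rfl⟩ := mem_zpowers_iff.1 hy.1
      exact zpow_mul_comm g j i
  have nN : R ⊔ zpowers g ≤ normalizer ((Φ ⊔ zpowers g ⊓ centralizer (R : Set G) : Subgroup G) : Set G) :=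
    H98.le_normalizer_sup (HR.trans nΦ) (H98.le_normalizer_of_le_centralizer cC)
  have NR : ∀ x ∈ R, x ∈ Φ ⊔ zpowers g ⊓ centralizer (R : Set G) → x ∈ Φ := fun x hx e => by
    obtain ⟨f, hf, c, hc, rfl⟩ := (H98.mem_sup_right_norm (inf_le_left.trans (gR.trans nΦ))).1 e
    obtain ⟨k, hk⟩ := H98.isPGroup_iff_forall.1 m.isPGroup c ((mul_mem_cancel_left (ΦR hf)).1 hx)
    rw [orderOf_eq_one_iff.1 (Nat.eq_one_of_dvd_coprimes (m.coprime.pow_right k)
      (orderOf_dvd_of_mem_zpowers hc.1) (orderOf_dvd_of_pow_eq_one hk)), mul_one]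
    exact hf
  set H := R ⊔ zpowers g
  set N := (Φ ⊔ zpowers g ⊓ centralizer (R : Set G)).subgroupOf H
  have : N.Normal := normal_subgroupOf_of_le_normalizer nN
  have gH : g ∈ H := mem_sup_right (mem_zpowers g)
  have RH : R ≤ H := le_sup_left
  let π := QuotientGroup.mk' N
  have ker : ∀ x : H, (x : G) ∈ Φ → π x = 1 := fun x hx =>
    (QuotientGroup.eq_one_iff x).2 (mem_sup_left hx)
  have := key (p := p) (V := (R.subgroupOf H).map π) (g := π ⟨g, gH⟩) ?_ ?_ ?_ ?_ ?_ ?_ ?_ ?_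
  · obtain ⟨k, hk⟩ := h H N this.1
    exact this.2 k hk
  · rintro _ ⟨x, hx, rfl⟩
    rw [← map_pow]; exact ker _ (m.pow_mem_frattini hx)
  · rintro _ ⟨x, hx, rfl⟩ _ ⟨y, hy, rfl⟩
    rw [← commutatorElement_eq_one_iff_mul_comm, ← map_commutatorElement]
    exact ker _ (H46.der_le_frattiniOf_of_nil m.isPGroup.isNilpotent (commutator_mem_commutator hy hx))
  · intro e
    refine m.frattini_lt.not_ge fun x hx => NR x hx ?_
    exact (QuotientGroup.eq_one_iff (⟨x, RH hx⟩ : H)).1 (mem_bot.1 (e.le ⟨_, hx, rfl⟩))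
  · exact m.coprime.coprime_dvd_left ((orderOf_map_dvd π _).trans (by rw [orderOf_mk]))
  · intro x
    obtain ⟨⟨x, hx⟩, rfl⟩ := QuotientGroup.mk'_surjective N x
    obtain ⟨r, hr, c, hc, rfl⟩ := (H98.mem_sup_right_norm gR).1 hx
    obtain ⟨i, rfl⟩ := (mem_powers_iff_mem_zpowers.2 hc)
    exact ⟨_, ⟨⟨r, RH hr⟩, hr, rfl⟩, i, by rw [← map_pow, ← map_mul]; rfl⟩
  · refine H98.mem_normalizer_of_cj_le ?_
    rintro _ ⟨_, ⟨x, hx, rfl⟩, rfl⟩
    exact ⟨⟨g, gH⟩ * x * ⟨g, gH⟩⁻¹, H98.conj_mem_of_mem_normalizer m.mem_normalizer hx, by simp⟩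
  · rw [← MonoidHom.map_zpowers, ← map_commutator]
    congr 1
    apply map_injective H.subtype_injective
    rw [map_commutator, MonoidHom.map_zpowers, subgroupOf_map_subtype, inf_of_le_left RH]
    exact m.commutator_eq
  · intro i hi
    rw [← map_pow] at hi ⊢
    refine (QuotientGroup.eq_one_iff _).2 (mem_sup_right ⟨pow_mem (mem_zpowers g) i, ?_⟩)
    refine H10.mem_centralizer_of_forall_commutator_mem_frattini m.isPGroup
      (pow_mem m.mem_normalizer i) (m.coprime.coprime_dvd_left (orderOf_pow_dvd i)) fun k hk => NR _ ?_ ?_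
    · exact H98.commutator_le_left' gR (commutator_mem_commutator hk (pow_mem (mem_zpowers g) i))
    · have := hi _ ⟨⟨k, RH hk⟩, hk, rfl⟩
      rw [← commutatorElement_eq_one_iff_mul_comm, ← map_commutatorElement] at this
      exact (QuotientGroup.eq_one_iff (N := N) _).1 this

end Cfsg.Agent.S4238
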