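import Cfsg.Statements.S4240
import Cfsg.Agent.S0205
import Cfsg.Agent.H42.InvSchmidt

set_option autoImplicit false
open Cfsg

namespace Cfsg.Agent.S4240

/-- Let a finite group A act by automorphisms on a finite group G of order coprime to that of A. Suppose every maximal A-invariant proper subgroup of G is nilpotent while G is not. Then G is solvable, the order of G has the form p^a·q^b for two distinct primes p and q, and G has a normal A-invariant Sylow subgroup for some prime dividing its order. -/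
theorem result {A G : Type*} [Group A] [Group G] [Finite A] [Finite G] [MulDistribMulAction A G]
    (hcop : (Nat.card A).Coprime (Nat.card G))
    (hmax : ∀ H : Subgroup G, H ≠ ⊤ → (∀ a : A, ∀ x ∈ H, a • x ∈ H) →
      (∀ K : Subgroup G, H < K → (∀ a : A, ∀ x ∈ K, a • x ∈ K) → K = ⊤) → Group.IsNilpotent H)
    (hG : ¬ Group.IsNilpotent G) :
    Group.IsSolvable G ∧
      (∃ p q a b : ℕ, p.Prime ∧ q.Prime ∧ p ≠ q ∧ Nat.card G = p ^ a * q ^ b) ∧
      ∃ (p : ℕ) (P : Sylow p G), p.Prime ∧ p ∣ Nat.card G ∧ (P : Subgroup G).Normal ∧ (∀ a : A, ∀ x ∈ (P : Subgroup G), a • x ∈ (P : Subgroup G)) := by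
  let φ : A →* MulAut G := MulDistribMulAction.toMulAut A G
  have hsub : ∀ K : Subgroup G, K ≠ ⊤ → (∀ a, ∀ x ∈ K, φ a x ∈ K) → Group.IsNilpotent K := by
    intro K hK hKA
    obtain ⟨H, hKH, hH⟩ := exists_maximal_ge_of_wellFoundedGT
      (fun H : Subgroup G => H ≠ ⊤ ∧ ∀ a : A, ∀ x ∈ H, a • x ∈ H) K ⟨hK, hKA⟩
    have := hmax H hH.prop.1 hH.prop.2 fun L hL hLA => by
      by_contra h
      exact hL.not_ge (hH.le_of_ge ⟨h, hLA⟩ hL.le)
    exact Group.nilpotent_of_mulEquiv (Subgroup.subgroupOfEquivOfLe hKH)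
  have hs : Group.IsSolvable G := by
    rcases Nat.even_or_odd (Nat.card G) with h | h
    · have : Group.IsSolvable A := Cfsg.Agent.S0205.result (Nat.not_even_iff_odd.1 fun h' => by
        simpa using Nat.eq_one_of_dvd_coprimes hcop h'.two_dvd h.two_dvd)
      exact H42.solvable_of_inv_nilpotent _ G φ rfl hcop hsub
    · exact Cfsg.Agent.S0205.result h
  exact ⟨hs, H42.inv_schmidt φ hcop hsub hG⟩

end Cfsg.Agent.S4240
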