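import Cfsg.Statements.S4262
import Cfsg.Agent.Base
import Cfsg.Agent.S3904

set_option autoImplicit false
open Cfsg

namespace Cfsg.Agent.S4262

/-- Let G be a finite group in which the centralizer of every non-central element is a maximal subgroup of G. Then G is solvable. -/
theorem result {G : Type*} [Group G] [Finite G]
    (h : ∀ g : G, g ∉ Subgroup.center G → IsCoatom (Subgroup.centralizer ({g} : Set G))) :
    Group.IsSolvable G := by
  by_cases hna : IsMulCommutative G
  · exact Group.isSolvable_of_comm fun a b => mul_comm' a b
  have hq : Group.IsSolvable (G ⧸ Subgroup.center G) := by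
    rcases Cfsg.Agent.S3904.result hna h with ⟨p, -, hc, -⟩ | ⟨-, hc, p, q, a, hp, hq, -, hcard, hn⟩
    · exact Group.isSolvable_of_comm fun a b =>
        setLike_mul_comm (s := (⊤ : Subgroup _)) (Subgroup.mem_top a) (Subgroup.mem_top b)
    · have : Fact p.Prime := ⟨hp⟩
      obtain ⟨P, hP⟩ := Sylow.exists_subgroup_card_pow_prime (G := G ⧸ Subgroup.center G) p
        (n := a) (hcard ▸ Dvd.intro _ rfl)
      have hi : P.index = q := by
        have := P.card_mul_index
        rw [hP, hcard] at this
        exact Nat.eq_of_mul_eq_mul_left (pow_pos hp.pos a) this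
      have hmax := H3.isCoatom_of_index_prime (hi ▸ hq : P.index.Prime)
      have := hc P hmax.1
      exact H23.isSolvable_of_abelian_isCoatom P hmax
  have : Group.IsSolvable (Subgroup.center G) := Group.isSolvable_of_comm fun a b => mul_comm' a b
  exact Group.isSolvable_of_ker_le_range (Subgroup.center G).subtype
    (QuotientGroup.mk' (Subgroup.center G)) (by simp)

end Cfsg.Agent.S4262
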