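import Cfsg.Statements.S4292
import Cfsg.Agent.Base
import Cfsg.Agent.H23.FlatA

set_option autoImplicit false
open Cfsg

namespace Cfsg.Agent.S4292

/-- Let A and B be nontrivial finite groups. Then the direct product A × B occurs as a Frobenius complement if and only if A and B both occur as Frobenius complements and the orders of A and B are coprime. -/
theorem result {A B : Type*} [Group A] [Finite A] [Nontrivial A] [Group B] [Finite B] [Nontrivial B] :
    (∃ (L : Type) (_ : Group L) (_ : Finite L) (H : Subgroup L), Cfsg.IsFrobeniusComplement H ∧ Nonempty ((A × B) ≃* H)) ↔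
    ((∃ (L : Type) (_ : Group L) (_ : Finite L) (H : Subgroup L), Cfsg.IsFrobeniusComplement H ∧ Nonempty (A ≃* H)) ∧
     (∃ (L : Type) (_ : Group L) (_ : Finite L) (H : Subgroup L), Cfsg.IsFrobeniusComplement H ∧ Nonempty (B ≃* H)) ∧
     (Nat.card A).Coprime (Nat.card B)) := by
  refine ⟨fun h => ?_, fun ⟨a, b, c⟩ =>
    (H23.Fl.free_prod (H90.Free.of_FC a) (H90.Free.of_FC b) c).toFC⟩
  have k := H90.Free.of_FC h
  exact ⟨(k.of_injective (MonoidHom.inl A B) fun _ _ e => congrArg Prod.fst e).toFC,
    (k.of_injective (MonoidHom.inr A B) fun _ _ e => congrArg Prod.snd e).toFC,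
    H23.Fl.coprime_of_free k⟩

end Cfsg.Agent.S4292
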