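import Cfsg.Statements.S4295
import Cfsg.Agent.Base
import Cfsg.Agent.H23.FlatA

set_option autoImplicit false
open Cfsg

namespace Cfsg.Agent.S4295

/-- For a natural number m the following are equivalent: (a) some finite group has a Frobenius complement isomorphic to the quaternion group of order 8 whose Frobenius kernel (the identity together with the elements lying in no conjugate of the complement) has exactly m elements; (b) m is an odd perfect square greater than 1. -/
theorem result (m : ℕ) :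
    (∃ (L : Type) (_ : Group L) (_ : Finite L) (H : Subgroup L), Cfsg.IsFrobeniusComplement H ∧
        Nonempty (H ≃* QuaternionGroup 2) ∧ Nat.card (Cfsg.frobeniusKernel H) = m) ↔
    (Odd m ∧ IsSquare m ∧ 1 < m) := by
  constructor
  · rintro ⟨L, _, _, H, hF, ⟨e⟩, rfl⟩
    obtain ⟨a, b⟩ := H23.Fl.odd_sq_of_quat hF (n := 1) le_rfl e.symm.toMonoidHom e.symm.injective
    exact ⟨a, b, Finite.one_lt_card_iff_nontrivial.2
      ((Subgroup.nontrivial_iff_ne_bot _).2 (H5.frobKer_ne_bot hF))⟩
  · rintro ⟨a, ⟨k, rfl⟩, c⟩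
    obtain ⟨K, _, _, φ, hc, h⟩ := H23.Fl.exists_quat k (Nat.odd_mul.1 a).1
    have : Nontrivial K := Finite.one_lt_card_iff_nontrivial.1 (hc ▸ c)
    obtain ⟨L, i1, i2, H, h1, ⟨e⟩, h3⟩ := H26.exists_frobenius_of_fpf.{0} φ h
    exact ⟨L, i1, i2, H, h1, ⟨e.symm⟩, h3.trans hc⟩

end Cfsg.Agent.S4295
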