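import Cfsg.Statements.S4296
import Cfsg.Agent.Base
import Cfsg.Agent.H23.FlatA

set_option autoImplicit false
open Cfsg

namespace Cfsg.Agent.S4296

/-- Let H be a Frobenius complement in a finite group, and suppose some Sylow subgroup of H is not cyclic. Then the number of elements of the Frobenius kernel (the identity together with the elements lying in no conjugate of H) is an odd perfect square. -/
theorem result {L : Type*} [Group L] [Finite L] (H : Subgroup L) (hF : Cfsg.IsFrobeniusComplement H)
    (hZ : ∃ (p : ℕ) (_ : Fact p.Prime) (P : Sylow p H), ¬ IsCyclic P) :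
    Odd (Nat.card (Cfsg.frobeniusKernel H)) ∧ IsSquare (Nat.card (Cfsg.frobeniusKernel H)) := by
  obtain ⟨p, _, P, hP⟩ := hZ
  have k := H90.Free.of_frobenius hF
  obtain rfl : p = 2 := by_contra fun a => hP (k.isCyclic_of_isPGroup a P.2)
  obtain ⟨n, hn, ⟨e⟩⟩ := (k.isCyclic_or_quaternion_two P.2).resolve_left hP
  exact H23.Fl.odd_sq_of_quat hF hn ((P : Subgroup H).subtype.comp e.symm.toMonoidHom)
    (Subtype.val_injective.comp e.symm.injective)

end Cfsg.Agent.S4296
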