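import Cfsg.Statements.S4298
import Cfsg.Agent.Base
import Cfsg.Agent.H26.FrobConstruct


set_option autoImplicit false
open Cfsg

namespace Cfsg.Agent.S4298

def tbl : List (ZMod 5 × ZMod 5 × ZMod 5 × ZMod 5) :=
  [(0,0,0,0), (0,0,0,0), (0,0,0,0), (0,0,0,0), (0,0,0,0), (0,0,0,0), (0,0,0,0), (0,0,0,0), (0,0,0,0), (0,0,0,0), (0,0,0,0), (0,0,0,0), (0,0,0,0), (0,0,0,0), (0,0,0,0), (2,0,4,3), (4,3,4,2), (4,2,2,0), (0,0,0,0), (0,0,0,0), (0,0,0,0), (3,0,1,2), (1,3,3,0), (1,2,1,3), (0,0,0,0), (0,0,0,0), (0,0,0,0), (0,0,0,0), (1,0,0,1), (0,0,0,0), (0,0,0,0), (0,1,4,4), (0,0,0,0), (0,0,0,0), (4,4,1,0), (0,0,0,0), (0,0,0,0), (2,1,3,2), (0,0,0,0), (0,0,0,0), (0,0,0,0), (3,2,0,2), (0,2,2,1), (0,0,0,0), (0,0,0,0), (0,0,0,0), (2,4,2,2), (0,0,0,0), (2,2,1,4), (0,0,0,0), (0,0,0,0), (0,0,0,0), (0,0,0,0), (1,4,2,4), (0,0,0,0), (0,0,0,0), (4,0,0,4), (0,0,0,0), (0,0,0,0), (1,1,4,0), (0,0,0,0),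 (0,0,0,0), (0,4,1,1), (0,0,0,0), (0,0,0,0), (3,1,3,3), (0,0,0,0), (4,1,3,1), (0,0,0,0), (3,3,4,1), (0,0,0,0), (0,0,0,0), (0,0,0,0), (0,0,0,0), (3,4,2,3), (0,3,3,4), (0,0,0,0), (0,0,0,0), (0,0,0,0), (2,3,0,3), (0,0,0,0)]

def F (a b c d : ZMod 3) : ZMod 5 × ZMod 5 × ZMod 5 × ZMod 5 :=
  tbl.getD (a.val + 3 * b.val + 9 * c.val + 27 * d.val) (0, 0, 0, 0)

def mul4 (x y : ZMod 5 × ZMod 5 × ZMod 5 × ZMod 5) : ZMod 5 × ZMod 5 × ZMod 5 × ZMod 5 :=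
  (x.1 * y.1 + x.2.1 * y.2.2.1, x.1 * y.2.1 + x.2.1 * y.2.2.2,
   x.2.2.1 * y.1 + x.2.2.2 * y.2.2.1, x.2.2.1 * y.2.1 + x.2.2.2 * y.2.2.2)

theorem F_mul : ∀ a b c d : ZMod 3, a * d - b * c = 1 → ∀ e f g h : ZMod 3, e * h - f * g = 1 →
    F (a * e + b * g) (a * f + b * h) (c * e + d * g) (c * f + d * h) = mul4 (F a b c d) (F e f g h) := by
  decide +kernel

set_option synthInstance.maxSize 1000 in
theorem F_fpf : ∀ a b c d : ZMod 3, a * d - b * c = 1 → ∀ u v : ZMod 5,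
    (F a b c d).1 * u + (F a b c d).2.1 * v = u → (F a b c d).2.2.1 * u + (F a b c d).2.2.2 * v = v →
    (a = 1 ∧ b = 0 ∧ c = 0 ∧ d = 1) ∨ (u = 0 ∧ v = 0) := by
  decide +kernel

def toMat (x : ZMod 5 × ZMod 5 × ZMod 5 × ZMod 5) : Matrix (Fin 2) (Fin 2) (ZMod 5) :=
  !![x.1, x.2.1; x.2.2.1, x.2.2.2]

theorem toMat_mul (x y : ZMod 5 × ZMod 5 × ZMod 5 × ZMod 5) : toMat (mul4 x y) = toMat x * toMat y := by
  simp [toMat, mul4]

def mat (A : Matrix.SpecialLinearGroup (Fin 2) (ZMod 3)) : Matrix (Fin 2) (Fin 2) (ZMod 5) :=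
  toMat (F (A 0 0) (A 0 1) (A 1 0) (A 1 1))

theorem det_eq (A : Matrix.SpecialLinearGroup (Fin 2) (ZMod 3)) : A 0 0 * A 1 1 - A 0 1 * A 1 0 = 1 := by
  have := A.det_coe
  rwa [Matrix.det_fin_two] at this

theorem mat_mul (A B : Matrix.SpecialLinearGroup (Fin 2) (ZMod 3)) : mat (A * B) = mat A * mat B := by
  unfold mat
  rw [← toMat_mul, ← F_mul _ _ _ _ (det_eq A) _ _ _ _ (det_eq B)]
  have h : ∀ i j, (A * B) i j = A i 0 * B 0 j + A i 1 * B 1 j := by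
    intro i j
    change ((A : Matrix (Fin 2) (Fin 2) (ZMod 3)) * (B : Matrix (Fin 2) (Fin 2) (ZMod 3))) i j = _
    rw [Matrix.mul_apply, Fin.sum_univ_two]
  rw [h, h, h, h]

noncomputable def rep : Representation (ZMod 5) (Matrix.SpecialLinearGroup (Fin 2) (ZMod 3))
    (Fin 2 → ZMod 5) where
  toFun x := Matrix.toLin' (mat x)
  map_one' := by
    have : mat 1 = 1 := by
      have h : F 1 0 0 1 = (1, 0, 0, 1) := by decide +kernel
      change toMat (F 1 0 0 1) = 1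
      rw [h]
      simp [toMat, Matrix.one_fin_two]
    rw [this, Matrix.toLin'_one]; rfl
  map_mul' x y := by rw [mat_mul, Matrix.toLin'_mul]; rfl


/-- The group SL(2,3) of order 24 (the binary tetrahedral group) occurs as a Frobenius complement of some finite Frobenius group. -/
theorem result :
    ∃ (L : Type) (_ : Group L) (_ : Finite L) (H : Subgroup L), Cfsg.IsFrobeniusComplement H ∧ Nonempty (H ≃* Matrix.SpecialLinearGroup (Fin 2) (ZMod 3)) := by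
  have : Fact (Nat.Prime 5) := ⟨by norm_num⟩
  have : Nontrivial (Matrix.SpecialLinearGroup (Fin 2) (ZMod 3)) :=
    ⟨⟨⟨!![1, 1; 0, 1], by simp⟩, 1, fun h => by
      have := congrArg (fun A : Matrix.SpecialLinearGroup (Fin 2) (ZMod 3) => A 0 1) h
      revert this
      decide⟩⟩
  obtain ⟨L, i1, i2, H, h1, ⟨e⟩⟩ := H26.exists_frobenius_of_fpf_rep.{0} rep (by
    intro q hq v hv
    have hv' : (mat q).mulVec v = v := hv
    have h0 := congrFun hv' 0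
    have h1 := congrFun hv' 1
    simp [mat, toMat, Matrix.mulVec, dotProduct, Fin.sum_univ_two] at h0 h1
    rcases F_fpf _ _ _ _ (det_eq q) (v 0) (v 1) h0 h1 with ⟨a, b, c, d⟩ | ⟨a, b⟩
    · exfalso
      apply hq
      ext i j
      fin_cases i <;> fin_cases j
      · exact a
      · exact b
      · exact c
      · exact d
    · ext k
      fin_cases k
      · exact a
      · exact b)
  exact ⟨L, i1, i2, H, h1, ⟨e.symm⟩⟩

end Cfsg.Agent.S4298
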