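import Cfsg.Statements.S4302
import Cfsg.Agent.H19.Th43A
import Cfsg.Agent.H12.Hol
import Cfsg.Agent.H13.MaxAb
import Cfsg.Agent.H86.OddAut
import Cfsg.Agent.H7.NPC

set_option autoImplicit false
open Cfsg

namespace Cfsg.Agent.S4302

/-- Let `X` be a finite solvable group whose Fitting subgroup is a 2-group (equivalently `F(X) = O₂(X)`), `T` a Sylow 2-subgroup of `X`, `J(T)` the subgroup generated by the abelian subgroups of `T` of largest order, `C` the largest normal subgroup of `X` centralizing the centre `Z(T)`, and `Y` the normal closure of `J(T)` in `X`. Then `X = C · Y · N_X(J(T))`, and either `Y ≤ C`, or `CY/C` is isomorphic to a direct product of at least one copy of the symmetric group of degree 3. -/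
theorem result {X : Type*} [Group X] [Finite X]
    [Group.IsSolvable X] (hF : Cfsg.fittingSubgroup X = Cfsg.pCore 2 X) (T : Sylow 2 X) :
    ((Subgroup.centralizer (((T : Subgroup X) ⊓ Subgroup.centralizer ((T : Subgroup X) : Set X) : Subgroup X) : Set X)).normalCore
        ⊔ Subgroup.normalClosure (Cfsg.thompsonSubgroupAOf (T : Subgroup X) : Set X)
        ⊔ Subgroup.normalizer (Cfsg.thompsonSubgroupAOf (T : Subgroup X) : Set X) = ⊤) ∧
    (Subgroup.normalClosure (Cfsg.thompsonSubgroupAOf (T : Subgroup X) : Set X)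
        ≤ (Subgroup.centralizer (((T : Subgroup X) ⊓ Subgroup.centralizer ((T : Subgroup X) : Set X) : Subgroup X) : Set X)).normalCore
      ∨ ∃ n : ℕ, 1 ≤ n ∧
        Nonempty (↥(Subgroup.normalClosure (Cfsg.thompsonSubgroupAOf (T : Subgroup X) : Set X)) ⧸
            ((Subgroup.centralizer (((T : Subgroup X) ⊓ Subgroup.centralizer ((T : Subgroup X) : Set X) : Subgroup X) : Set X)).normalCore).subgroupOf
              (Subgroup.normalClosure (Cfsg.thompsonSubgroupAOf (T : Subgroup X) : Set X))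
          ≃* (Fin n → Equiv.Perm (Fin 3)))) := by
  rw [H13.thompsonSubgroupAOf_eq]
  set J := sSup (H13.maxAb 0 (T : Subgroup X))
  set Y := Subgroup.normalClosure (J : Set X)
  set Z := (T : Subgroup X) ⊓ Subgroup.centralizer ((T : Subgroup X) : Set X)
  have hJY : J ≤ Y := Subgroup.le_normalClosure
  refine ⟨top_le_iff.1 ((H12.frattini_inf T Y).ge.trans (sup_le (le_sup_of_le_right ?_)
    (le_sup_of_le_left le_sup_right))), ?_⟩
  · have := H13.normalizer_le_normalizer_sSup_maxAb 0 ((T : Subgroup X) ⊓ Y)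
    rwa [H13.maxAb_eq_of_forall_le inf_le_left fun A hA => le_inf hA.1 ((le_sSup hA).trans hJY)] at this
  have hO : Subgroup.centralizer (pCore 2 X : Set X) ≤ pCore 2 X := hF ▸ H2.centralizer_fitting_le X
  have hp := H18.isPGroup_pCore (G := X) 2
  let V := Subgroup.normalClosure (Z : Set X)
  have hV : V ≤ pCore 2 X ⊓ Subgroup.centralizer (pCore 2 X : Set X) := Subgroup.normalClosure_le_normal fun z hz =>
    have : z ∈ Subgroup.centralizer (pCore 2 X : Set X) := H12.centralizer_anti (hp.le_sylow_of_normal T) hz.2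
    ⟨hO this, this⟩
  have cV : ∀ a ∈ V, ∀ b ∈ V, a * b = b * a := fun a ha b hb => (hV hb).2 a (hV ha).1
  have : IsMulCommutative V := ⟨⟨fun a b => Subtype.ext (cV _ a.2 _ b.2)⟩⟩
  have hC : (Subgroup.centralizer (Z : Set X)).normalCore = Subgroup.centralizer (V : Set X) :=
    le_antisymm (Subgroup.le_centralizer_iff.1 (Subgroup.normalClosure_le_normal
      (Subgroup.le_centralizer_iff.1 (Subgroup.normalCore_le _))))
      (Subgroup.normal_le_normalCore.2 (H12.centralizer_anti Subgroup.le_normalClosure))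
  have hgen : V ≤ ⨆ S : Sylow 2 X, V ⊓ Subgroup.centralizer ((S : Subgroup X) : Set X) :=
    (Subgroup.closure_le _).2 fun x hx => by
      obtain ⟨z, hz, hx'⟩ := Group.mem_conjugatesOfSet_iff.1 hx
      obtain ⟨g, rfl⟩ := isConj_iff.1 hx'
      refine Subgroup.mem_iSup_of_mem (g • T) ⟨Subgroup.subset_closure hx, ?_⟩
      rintro _ ⟨t, ht, rfl⟩
      exact (Commute.map (hz.2 t ht) (MulAut.conj g)).eq
  obtain ⟨W, hWn, hW⟩ := H2.exists_normal_pow_eq_one V 2
  have hWV : W ≤ V := fun x hx => ((hW x).1 hx).1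
  have he : IsElementaryAbelian 2 W :=
    ⟨⟨⟨fun a b => Subtype.ext (cV _ (hWV a.2) _ (hWV b.2))⟩⟩, fun a ha => ((hW a).1 ha).2⟩
  have hCW : Subgroup.centralizer (W : Set X) = Subgroup.centralizer (V : Set X) :=
    le_antisymm (H12.le_centralizer_of_generated hgen fun a ha => by
      obtain ⟨k, hk⟩ := H7.exists_pow_coprime (p := 2) a
      exact ⟨k, fun v hv => (mul_inv_eq_iff_eq_mul.1 ((H86.oddAut_conj (X := V) (Subgroup.le_normalizer_of_normal
        (Subgroup.mem_top _)) hk).fix_of_abelian (hp.to_le (hV.trans inf_le_left)) cV (fun w hw w2 =>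
          mul_inv_eq_iff_eq_mul.2 (pow_mem ha _ w ((hW w).2 ⟨hw, (sq w).trans w2⟩)).symm) v hv)).symm⟩)
      (H12.centralizer_anti hWV)
  have h := H12.tr_hol W
  set ψ := (SemidirectProduct.inr : MulAut W →* H12.Hol W).comp MulAut.conjNormal
  have hf := h.ff he (H18.isPSolvable_of_isSolvable 2) (by
    have := H12.pCore_quotient_eq_bot_of_generated hgen
    rwa [H2.pCore_eq_bot_mulEquiv (QuotientGroup.quotientMulEquivOfEq hCW)]) Y
  rw [or_iff_not_imp_left]
  intro h1
  obtain ⟨n, hn, ⟨e⟩⟩ := H19.T43.prod_s3 hf (hf.le_sSup_isTv_of_gen (Subgroup.map_le_iff_le_comap.2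
    ((Subgroup.closure_le _).2 fun x hx => by
      obtain ⟨z, hz, hx'⟩ := Group.mem_conjugatesOfSet_iff.1 hx
      obtain ⟨g, rfl⟩ := isConj_iff.1 hx'
      refine (Subgroup.mem_comap (f := (MulAut.conj g).toMonoidHom)).1 ((sSup_le fun A hA => ?_ : J ≤ _) hz)
      rw [← Subgroup.map_le_iff_le_comap, ← Subgroup.map_le_iff_le_comap]
      have hB := H13.map_mem_maxAb (f := (MulAut.conj g).toMonoidHom) (MulAut.conj g).injective.injOn hA
      have hBY : A.map (MulAut.conj g).toMonoidHom ≤ Y := by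
        rintro _ ⟨a, ha, rfl⟩
        exact (inferInstance : Y.Normal).conj_mem a (hJY (le_sSup hA ha)) g
      generalize A.map (MulAut.conj g).toMonoidHom = B at hB hBY
      have := hB.2.1.1
      have h2 := hB.2.2 (W ⊔ B ⊓ Subgroup.centralizer (W : Set X))
        (sup_le ((H12.ea_isPGroup he).le_sylow_of_normal (g • T)) (inf_le_left.trans hB.1))
        (H12.ea_sup (H13.isEA_zero_iff.2 he.1) (H12.ea_mono hB.2.1 inf_le_left)
          (Subgroup.le_centralizer_iff.1 inf_le_right))
      have h3 := H12.card_mul_card_le W (B ⊓ Subgroup.centralizer (W : Set X))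
      have h4 : Nat.card (W ⊓ (B ⊓ Subgroup.centralizer (W : Set X)) : Subgroup X) ≤
          Nat.card (W ⊓ Subgroup.centralizer (B : Set X) : Subgroup X) :=
        Subgroup.card_le_of_le (inf_le_inf_left _ (inf_le_left.trans fun x hx y hy => setLike_mul_comm hy hx))
      have h5 := (h3.trans (Nat.mul_le_mul h2 h4)).trans (h.offM_map B).ge
      rw [← h.card_range] at h5
      have h6 := Nat.le_of_mul_le_mul_right h5 Nat.card_pos
      exact le_iSup_of_le ⟨B.map ψ, Subgroup.map_mono hBY, hf.best_of_offM (Subgroup.map_mono hBY)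
        ((H19.T43.ne hf _ (Subgroup.map_mono hBY) (((g • T).2.to_le hB.1).map ψ) inferInstance).2 h6) h6⟩ le_rfl)))
    fun e => h1 (by rwa [Subgroup.map_eq_bot_iff, h.ker_eq, hCW, ← hC] at e)
  obtain ⟨_, ⟨f⟩⟩ := H12.exists_quotient_equiv (C := (Subgroup.centralizer (Z : Set X)).normalCore) (ψ.subgroupMap Y)
    (ψ.subgroupMap_surjective Y) fun g => by rw [hC, ← hCW, ← h.eq_one_iff, Subtype.ext_iff]; rfl
  exact ⟨n, hn, ⟨f.trans e⟩⟩

end Cfsg.Agent.S4302
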