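import Cfsg.Statements.S4305
import Cfsg.Agent.Base
import Cfsg.Agent.H22.TwoPrimesD

set_option autoImplicit false
open Cfsg

namespace Cfsg.Agent.S4305

open scoped commutatorElement IsMulCommutative
open H22

theorem d1 : ∀ h y g : Equiv.Perm (Fin 3), h ≠ 1 → h * h = 1 → y ≠ 1 → y ^ 3 = 1 →
    g = 1 ∨ g = h ∨ g = y⁻¹ * h * y ∨ g = h * (y⁻¹ * h * y) ∨ g = (y⁻¹ * h * y) * h ∨
      g = h * (y⁻¹ * h * y) * h := by decide +kernel

theorem d2 : ∀ h g : Equiv.Perm (Fin 3), h ≠ 1 → h * h = 1 → g = 1 ∨ g = h ∨ g = finRotate 3 ∨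
    g = h * finRotate 3 ∨ g = (finRotate 3)⁻¹ ∨ g = h * (finRotate 3)⁻¹ := by decide +kernel

theorem d3 : ∀ h : Equiv.Perm (Fin 3), ¬ h * h = 1 →
    Equiv.swap 0 1 * h * (Equiv.swap 0 1)⁻¹ = h⁻¹ := by decide +kernel

theorem d4 : ∀ h y : Equiv.Perm (Fin 3), ¬ h * h = 1 → y = 1 ∨ y = h ∨ y = h * h ∨
    y = Equiv.swap 0 1 ∨ y = Equiv.swap 0 1 * h ∨ y = Equiv.swap 0 1 * (h * h) := by decide +kernel

theorem der_le {Γ : Type*} [Group Γ] [Finite Γ] (j : Equiv.Perm (Fin 3) →* Γ)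
    (hj : Function.Injective j) {Q K : Subgroup Γ} (hQ : Group.IsSolvable Q)
    (hAQ : j.range ≤ Subgroup.normalizer (Q : Set Γ)) (hcop : Nat.Coprime 6 (Nat.card Q))
    (hfix : Q ⊓ Subgroup.centralizer (j.range : Set Γ) = ⊥)
    (hQK : Q ≤ Subgroup.normalizer (K : Set Γ)) (h : Equiv.Perm (Fin 3)) (h1 : h ≠ 1)
    (h2 : h * h = 1) (hK : j h ∈ Subgroup.normalizer (K : Set Γ)) (hc : ∀ t ∈ Q, ⁅t, j h⁆ ∈ K)
    (n : ℕ) : ∀ P : Subgroup Γ, Nat.card P < n → P ≤ Q →
      j.range ≤ Subgroup.normalizer (P : Set Γ) → ⁅P, P⁆ ≤ K := by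
  have hA : Nat.card j.range = 6 := by
    rw [← Nat.card_congr (MonoidHom.ofInjective hj).toEquiv, Nat.card_perm]; simp; rfl
  have hgen : ∀ P : Subgroup Γ, P ≤ Q → j.range ≤ Subgroup.normalizer (P : Set Γ) →
      ⁅P, j.range⁆ = P := fun P hP hn => by
    have h3 := H1.commutator_sup_centralizer hn
      (hA ▸ hcop.coprime_dvd_right (Subgroup.card_dvd_of_le hP)) (Or.inr (H1.isSolvable_of_le hP hQ))
    rwa [eq_bot_iff.2 ((inf_le_inf_right _ hP).trans hfix.le), sup_bot_eq] at h3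
  induction n with
  | zero => intro _ h; omega
  | succ n ih =>
  intro P hn hP hAP
  rcases eq_or_ne P ⊥ with rfl | hP0
  · simp
  have := H1.isSolvable_of_le hP hQ
  have hlt := commutator_lt_self_of_isSolvable P hP0
  have hAP' := H1.le_normalizer_commutator hAP hAP
  have h3 := ih _ (by have := H46.card_lt_of_lt hlt; omega) (hlt.le.trans hP) hAP'
  have hdec : ∀ y : Equiv.Perm (Fin 3), y ≠ 1 → y ^ 3 = 1 → ∀ a ∈ P, ∃ k ∈ P ⊓ K, ∃ a' ∈ P,
      j y * a' * (j y)⁻¹ ∈ K ∧ a = k * a' := by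
    intro y hy1 hy3 a ha
    let K' := K.comap (MulAut.conj (j y)).toMonoidHom
    have h4 : ∀ g ∈ j.range, (∀ t ∈ P, ⁅t, g⁆ ∈ P ⊓ K ⊔ P ⊓ K') →
        g ∈ commSet P (P ⊓ K ⊔ P ⊓ K') := fun g hg h5 =>
      ⟨Subgroup.mem_normalizer_fintype fun t ht => by
        have h6 := mul_mem (inv_mem (h5 t ((sup_le inf_le_left inf_le_left : _ ⊔ _ ≤ P) ht))) ht
        have h7 : ⁅t, g⁆⁻¹ * t = g * t * g⁻¹ := by simp only [commutatorElement_def]; group
        rwa [h7] at h6, h5⟩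
    have hm : ∀ g, ∀ t ∈ P, ⁅t, j g⁆ ∈ P := fun g t ht =>
      H1.commutator_le_of_le_normalizer hAP (Subgroup.commutator_mem_commutator ht ⟨g, rfl⟩)
    have h5 := h4 (j h) ⟨_, rfl⟩ fun t ht => Subgroup.mem_sup_left ⟨hm _ t ht, hc t (hP ht)⟩
    have h6 := h4 (j (y⁻¹ * h * y)) ⟨_, rfl⟩ fun t ht => Subgroup.mem_sup_right ⟨hm _ t ht, by
      have h7 := hc _ (H1.conj_mem_of_le_normalizer hAQ ⟨y, rfl⟩ (hP ht))
      change j y * _ * (j y)⁻¹ ∈ K
      convert h7 using 1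
      simp only [commutatorElement_def, map_mul, map_inv]; group⟩
    have h7 : j.range ≤ commSet P (P ⊓ K ⊔ P ⊓ K') := by
      rintro _ ⟨g, rfl⟩
      rcases d1 h y g h1 h2 hy1 hy3 with rfl | rfl | rfl | rfl | rfl | rfl
      · rw [map_one]; exact one_mem _
      · exact h5
      · exact h6
      · rw [map_mul]; exact mul_mem h5 h6
      · rw [map_mul]; exact mul_mem h6 h5
      · rw [map_mul, map_mul]; exact mul_mem (mul_mem h5 h6) h5
    have h8 := commutator_le_of_le_commSet h7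
    rw [hgen P hP hAP] at h8
    obtain ⟨k, hk, a', ha', rfl⟩ := (H46.mem_sup_of_nrm (H1.le_normalizer_inf
      (inf_le_left.trans Subgroup.le_normalizer) (inf_le_left.trans (hP.trans hQK)))).1 (h8 ha)
    exact ⟨k, hk, a', ha'.1, ha'.2, rfl⟩
  let f : Equiv.Perm (Fin 3) := finRotate 3
  refine Subgroup.commutator_le.2 fun a ha b hb => ?_
  obtain ⟨k, hk, a', ha', ea, rfl⟩ := hdec f (by decide) (by decide) a ha
  obtain ⟨l, hl, b', hb', eb, rfl⟩ := hdec f⁻¹ (by decide) (by decide) b hb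
  have hc' := Subgroup.commutator_mem_commutator ha' hb'
  have hcQ : ∀ g, ∀ t ∈ P, j g * t * (j g)⁻¹ ∈ Q := fun g t ht =>
    H1.conj_mem_of_le_normalizer hAQ ⟨g, rfl⟩ (hP ht)
  have e1 : j f * ⁅a', b'⁆ * (j f)⁻¹ ∈ K := by
    have := K.mul_mem ea (H1.conj_mem_of_le_normalizer hQK (hcQ f b' hb') (K.inv_mem ea))
    convert this using 1
    simp only [commutatorElement_def]; group
  have e2 : j f⁻¹ * ⁅a', b'⁆ * (j f⁻¹)⁻¹ ∈ K := by
    have := K.mul_mem (H1.conj_mem_of_le_normalizer hQK (hcQ f⁻¹ a' ha') eb) (K.inv_mem eb)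
    convert this using 1
    simp only [commutatorElement_def]; group
  have e3 : ∀ g x, j g * x * (j g)⁻¹ ∈ K → j (h * g) * x * (j (h * g))⁻¹ ∈ K := fun g x hx => by
    have := (Subgroup.mem_normalizer_iff.1 hK _).1 hx
    convert this using 1
    simp only [map_mul]; group
  have hS : Subgroup.zpowers (j h) ≤ j.range := Subgroup.zpowers_le.2 ⟨h, rfl⟩
  have h4 : ⁅a', b'⁆ ∈ ⁅P, P⁆ ⊓ K := by
    refine mem_of_pow_mem_of_coprime hc' ((hA ▸ hcop).coprime_dvd_left
      (Subgroup.card_dvd_of_le hS)|>.coprime_dvd_right (Subgroup.card_dvd_of_le (hlt.le.trans hP)))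
      (pow_card_mem_of_norm (le_inf (H1.commutator_le_of_le_normalizer Subgroup.le_normalizer) h3)
        inf_le_left hAP' hS ?_ (fun y hy => ⟨H1.commutator_le_of_le_normalizer hAP'
          (Subgroup.commutator_mem_commutator hc' (hS hy)), ?_⟩) ?_)
    · rw [hgen _ (hlt.le.trans hP) hAP']; exact Subgroup.mem_sup_left hc'
    · exact ((Subgroup.zpowers_le.2 (show j h ∈ commSet Q K from ⟨hK, hc⟩) :
        Subgroup.zpowers (j h) ≤ _) hy).2 _ (hP (hlt.le hc'))
    · rintro _ ⟨g, rfl⟩ hg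
      refine ⟨H1.conj_mem_of_le_normalizer hAP' ⟨g, rfl⟩ hc', ?_⟩
      rcases d2 h g h1 h2 with rfl | rfl | rfl | rfl | rfl | rfl
      · exact absurd (by rw [map_one]; exact one_mem _) hg
      · exact absurd (Subgroup.mem_zpowers _) hg
      · exact e1
      · exact e3 _ _ e1
      · exact e2
      · exact e3 _ _ e2
  have h5 : ⁅k * a', l * b'⁆ = k * (a' * l * a'⁻¹) * ⁅a', b'⁆ * (b' * k⁻¹ * b'⁻¹) * l⁻¹ := by
    simp only [commutatorElement_def]; group
  rw [h5]
  exact K.mul_mem (K.mul_mem (K.mul_mem (K.mul_mem hk.2 (H1.conj_mem_of_le_normalizer hQK (hP ha')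
    hl.2)) h4.2) (H1.conj_mem_of_le_normalizer hQK (hP hb') (K.inv_mem hk.2))) (K.inv_mem hl.2)

theorem der_eq_bot {Γ K V : Type*} [Group Γ] [Finite Γ] [Field K] [AddCommGroup V] [Module K V]
    [IsAlgClosed K] [FiniteDimensional K V] (ρ : Representation K Γ V)
    (j : Equiv.Perm (Fin 3) →* Γ) (hj : Function.Injective j) (Q : Subgroup Γ) [Q.Normal] {q : ℕ}
    (hq : q.Prime) (hQ : IsPGroup q Q) (hq6 : Nat.Coprime 6 q) (hqK : (q : K) ≠ 0)
    (h6 : ((6 : ℕ) : K) ≠ 0) (hfix : Q ⊓ Subgroup.centralizer (j.range : Set Γ) = ⊥)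
    (hV : fixSp ρ (j.range : Set Γ) = ⊥) (hρ : ∀ t ∈ Q, ρ t = 1 → t = 1) : ⁅Q, Q⁆ = ⊥ := by
  by_contra hne
  have := Fact.mk hq
  have hA : Nat.card j.range = 2 * 3 := by
    rw [← Nat.card_congr (MonoidHom.ofInjective hj).toEquiv, Nat.card_perm]; simp; rfl
  have hcop : Nat.Coprime 6 (Nat.card Q) := H1.coprime_card_of_isPGroup hQ hq6
  have hsolv := H1.isSolvable_of_isPGroup hQ
  have hAn : ∀ (Y N : Subgroup Γ) [N.Normal], Y ≤ Subgroup.normalizer (N : Set Γ) :=
    fun _ _ _ => Subgroup.le_normalizer_of_normal.trans' le_top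
  have hdQ : ⁅Q, Q⁆ ≤ Q := Subgroup.commutator_le_left _ _
  set Z := ⁅Q, Q⁆ ⊓ Q ⊓ Subgroup.centralizer (Q : Set Γ) with hZ
  have hZ0 : Z ≠ ⊥ := H46.nil_meet_cent hQ.isNilpotent (hAn _ _) (by rwa [inf_eq_left.2 hdQ])
  have hZQ : Z ≤ Q := inf_le_left.trans inf_le_right
  have hQK : (Nat.card Q : K) ≠ 0 := by
    obtain ⟨k, hk⟩ := IsPGroup.iff_card.1 hQ
    rw [hk, Nat.cast_pow]; exact pow_ne_zero _ hqK
  obtain ⟨χ, hχ, v, hv, hv0⟩ := exists_nontrivial_wt ρ Z (natCast_card_ne_zero_of_le hZQ hQK)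
    (fun a ha b hb => (show Commute a b from hb.2 a (hZQ ha)).map ρ) (by
      obtain ⟨r, hr, hr1⟩ := (Subgroup.bot_or_exists_ne_one Z).resolve_left hZ0
      exact ⟨r, hr, fun e => hr1 (hρ r (hZQ hr) e)⟩)
  have hAK : (Nat.card j.range : K) ≠ 0 := hA ▸ h6
  obtain ⟨hS0, hSA⟩ := inf_wtStab_ne ρ j.range Z hAK hV (by
    have h3 := H1.commutator_sup_centralizer (hAn j.range Z)
      (hA ▸ hcop.coprime_dvd_right (Subgroup.card_dvd_of_le hZQ))
      (Or.inr (H1.isSolvable_of_le hZQ hsolv))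
    rwa [eq_bot_iff.2 ((inf_le_inf_right _ hZQ).trans hfix.le), sup_bot_eq] at h3) hχ hv hv0
  set S := j.range ⊓ wtStab χ with hSdef
  have hS := (prime_card_of_lt Nat.prime_two Nat.prime_three hA hSA hS0).1
  have hcS : (Nat.card S).Coprime (Nat.card Q) :=
    hcop.coprime_dvd_left ((Subgroup.card_dvd_of_le hSA.le).trans hA.dvd)
  have hQw : Q ≤ wtStab χ := fun g hg => funext fun z => by
    rw [cwt]
    congr 2
    rw [mul_assoc, ← z.2.2 g hg]; group
  have hW : ∀ g ∈ wtStab χ, ∀ w ∈ nwt ρ Z χ, ρ g w ∈ nwt ρ Z χ := fun g hg w hw => by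
    have := map_mem_nwt ρ hw g
    rwa [mem_wtStab.1 hg] at this
  let σ : Representation K (wtStab χ) (nwt ρ Z χ) :=
    { toFun := fun g => (ρ g).restrict (hW g g.2)
      map_one' := by ext w; simp
      map_mul' := fun a b => by ext w; simp }
  let L := σ.ker.map (wtStab χ).subtype
  have hL : wtStab χ ≤ Subgroup.normalizer (L : Set Γ) :=
    H1.le_normalizer_of_conj_mem (by
      rintro a ha _ ⟨g, hg, rfl⟩
      exact ⟨_, σ.normal_ker.conj_mem g hg ⟨a, ha⟩, rfl⟩)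
  suffices h : ⁅Q, Q⁆ ≤ L by
    refine hχ (funext fun z => (mem_vecStab_iff_wt hv hv0 z).1 ?_)
    obtain ⟨g, hg, e⟩ := h z.2.1.1
    rw [← e]
    exact congrArg (fun f : Module.End K (nwt ρ Z χ) => (f ⟨v, hv⟩ : V)) (MonoidHom.mem_ker.1 hg)
  obtain ⟨b, hb, hbo⟩ := exists_zpowers_eq_of_card_prime hS S rfl
  have hbS : b ∈ S := hb ▸ Subgroup.mem_zpowers b
  have := Fact.mk hS
  have hb1 : b ^ Nat.card S = 1 := by rw [← hbo, pow_orderOf_eq_one]
  have hc : ∀ t ∈ Q, ⁅t, b⁆ ∈ L := by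
    intro t ht
    refine ⟨⁅(⟨t, hQw ht⟩ : wtStab χ), (⟨b, hbS.2⟩ : wtStab χ)⁆, ?_, rfl⟩
    rw [SetLike.mem_coe, MonoidHom.mem_ker, ← rep_comm_iff]
    by_contra hcon
    have h1 := (hh_prime_fix (r := Nat.card S) σ (fun e => hq.one_lt.ne' (by
      have h2 := hq6.coprime_dvd_left ((Subgroup.card_dvd_of_le hSA.le).trans hA.dvd)
      rwa [e, Nat.coprime_self] at h2)) hqK (Q.subgroupOf _) hQ.comap_subtype ⟨b, hbS.2⟩
      (Subgroup.le_normalizer_of_normal (Subgroup.mem_top _))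
      (by rw [← map_pow, ← map_one σ]; congr 1; exact Subtype.ext hb1)
      ⟨⟨t, hQw ht⟩, ht, fun e => hcon e.symm⟩ (by
        rw [eq_bot_iff]
        intro w hw
        refine Subtype.ext (eq_zero_of_fixed_wt ρ j.range Z hAK hV w.2 fun a ha => ?_)
        have h1 : b ∈ vecStab ρ (w : V) := congrArg Subtype.val (hw _ rfl)
        exact (Subgroup.zpowers_le.2 h1 : Subgroup.zpowers b ≤ _) (hb ▸ ha))).1
    subst h1
    exact absurd hq6 (by decide)
  obtain ⟨h, rfl⟩ := hbS.1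
  have h1 : h ≠ 1 := by
    rintro rfl
    rw [map_one, orderOf_one] at hbo
    exact hS.one_lt.ne hbo
  by_cases h2 : h * h = 1
  · exact der_le j hj hsolv (hAn _ _) hcop hfix (hQw.trans hL) h h1 h2 (hL hbS.2) hc _ Q
      (Nat.lt_succ_self _) le_rfl (hAn _ _)
  let s : Equiv.Perm (Fin 3) := Equiv.swap 0 1
  have hs : s * h * s⁻¹ = h⁻¹ := d3 h h2
  set C := Q ⊓ Subgroup.centralizer (S : Set Γ) with hC
  have hsS : Subgroup.zpowers (j s) ≤ Subgroup.normalizer (S : Set Γ) := by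
    rw [Subgroup.zpowers_le]
    refine Subgroup.mem_normalizer_fintype fun x hx => ?_
    rw [← hb] at hx ⊢
    obtain ⟨k, rfl⟩ := hx
    simp only
    rw [← conj_zpow, ← map_inv, ← map_mul, ← map_mul, hs, map_inv]
    exact zpow_mem (inv_mem (Subgroup.mem_zpowers _)) _
  have hsC : j s ∈ Subgroup.normalizer (C : Set Γ) := H1.le_normalizer_inf (hAn _ _)
    (H1.le_normalizer_centralizer hsS) (Subgroup.mem_zpowers _)
  have hfpf : MonoidHom.FixedPointFree (C.normalizerMonoidHom ⟨j s, hsC⟩) := by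
    intro g hg
    have h3 : (g : Γ) ∈ Q ⊓ Subgroup.centralizer (j.range : Set Γ) := by
      refine ⟨g.2.1, ?_⟩
      rintro _ ⟨y, rfl⟩
      have h4 : Commute (j s) g := by
        have h5 : j s * g * (j s)⁻¹ = g := congrArg Subtype.val hg
        exact mul_inv_eq_iff_eq_mul.1 h5
      have h5 : Commute (j h) g := g.2.2 _ hbS
      have h8 : y = 1 ∨ y = h ∨ y = h * h ∨ y = s ∨ y = s * h ∨ y = s * (h * h) := d4 h y h2
      change Commute _ _
      rcases h8 with rfl | rfl | rfl | rfl | rfl | rfl <;>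
        simp only [map_mul, map_one, Commute.one_left, h4, h5, Commute.mul_left]
    rw [hfix] at h3
    exact Subtype.ext h3
  have hab := hfpf.commute_all_of_involutive fun g => Subtype.ext (by
    change j s * (j s * g * (j s)⁻¹) * (j s)⁻¹ = g
    rw [← mul_assoc, ← mul_assoc, mul_assoc _ (j s)⁻¹, ← mul_inv_rev, ← map_mul,
      show s * s = 1 by decide]
    simp)
  have hQS : ⁅Q, S⁆ ≤ L := commutator_le_of_le_commSet (hb ▸ Subgroup.zpowers_le.2 ⟨hL hbS.2, hc⟩)
  refine Subgroup.commutator_le.2 fun a ha b hb => ?_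
  obtain ⟨c, hc, n, hn, rfl⟩ := H1.exists_centralizer_mul_commutator (hAn S Q) hcS (Or.inr hsolv) ha
  obtain ⟨d, hd, m, hm, rfl⟩ := H1.exists_centralizer_mul_commutator (hAn S Q) hcS (Or.inr hsolv) hb
  have h3 : d * c = c * d := congrArg Subtype.val (hab ⟨d, hd⟩ ⟨c, hc⟩).eq
  have h4 : ⁅c * n, d * m⁆ = (c * n * c⁻¹) * ((c * d) * (m * n⁻¹) * (c * d)⁻¹) *
      ((c * d * (d * c)⁻¹) * (d * m⁻¹ * d⁻¹)) := by
    simp only [commutatorElement_def]; group
  have hn' := fun x hx y hy => H1.conj_mem_of_le_normalizer (hQw.trans hL) (a := x) (x := y) hx hy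
  rw [h4, h3, mul_inv_cancel, one_mul]
  exact L.mul_mem (L.mul_mem (hn' _ hc.1 _ (hQS hn)) (hn' _ (Q.mul_mem hc.1 hd.1) _
    (L.mul_mem (hQS hm) (L.inv_mem (hQS hn))))) (hn' _ hd.1 _ (L.inv_mem (hQS hm)))

/-- Let the symmetric group of degree 3 act by automorphisms on a finite solvable group `G` of order prime to 6, so that only the identity of `G` is fixed by all of it. Then the derived subgroup of `G` is nilpotent. -/
theorem result {G : Type*} [Group G] [Finite G] [Group.IsSolvable G]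
    [MulDistribMulAction (Equiv.Perm (Fin 3)) G] (hcop : (Nat.card G).Coprime 6)
    (hfpf : ∀ g : G, (∀ a : Equiv.Perm (Fin 3), a • g = g) → g = 1) :
    Group.IsNilpotent ↥(commutator G) := by
  obtain ⟨Γ, _, _, i, j, hi, hj, hn, hij, -⟩ :=
    exists_ambient (MulDistribMulAction.toMulAut (Equiv.Perm (Fin 3)) G)
  let e : G ≃* i.range := MonoidHom.ofInjective hi
  have : Group.IsSolvable i.range := H2.isSolvable_of_mulEquiv e
  have hcard : ∀ {Γ' : Type _} [Group Γ'] (j : Equiv.Perm (Fin 3) →* Γ'), Function.Injective j →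
      Nat.card j.range = 2 * 3 := fun j hj => by
    rw [← Nat.card_congr (MonoidHom.ofInjective hj).toEquiv, Nat.card_perm]; simp; rfl
  have hc : (Nat.card j.range).Coprime (Nat.card i.range) := by
    rw [hcard j hj, ← Nat.card_congr e.toEquiv]; exact hcop.symm
  have h1 : Group.IsNilpotent ↥⁅i.range, i.range⁆ := by
    refine isNilpotent_of_forall_rep i.range _ j.range (Subgroup.commutator_le_left _ _) hc (by
      rw [eq_bot_iff]
      rintro _ ⟨⟨g, rfl⟩, hg⟩
      rw [hfpf g fun a => hi ((hij a g).trans (by rw [hg _ ⟨a, rfl⟩, mul_inv_cancel_right])),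
        map_one]
      exact one_mem _) ?_
    intro Γ' _ _ π hπ hker r _ W _ _ _ ρ hr h1 h2 h3 h4
    have : (i.range.map π).Normal := Subgroup.Normal.map inferInstance π hπ
    have hj' : Function.Injective (π.comp j) := by
      rw [injective_iff_map_eq_one]
      intro a ha
      have h5 : j a ∈ j.range ⊓ i.range := ⟨⟨a, rfl⟩, hker ha⟩
      rw [(Subgroup.disjoint_of_coprime_natCard hc).eq_bot] at h5
      exact hj (h5.trans (map_one j).symm)
    rw [MonoidHom.map_range π j] at h2 h3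
    have hA' := hcard _ hj'
    have hcop' : (2 * 3).Coprime (Nat.card (i.range.map π)) :=
      (hcard j hj ▸ hc).coprime_dvd_right (Subgroup.card_map_dvd _ π)
    have key : ∀ (t : ℕ) (X : Subgroup Γ'), t.Prime → X ≤ i.range.map π → IsPGroup t X → X ≠ ⊥ →
        (2 * 3).Coprime t := fun t X ht hX hXt h0 => by
      have := Fact.mk ht
      obtain ⟨j, hj0, hj⟩ := hXt.nontrivial_iff_card.1 ((Subgroup.nontrivial_iff_ne_bot X).2 h0)
      exact hcop'.coprime_dvd_right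
        ((hj ▸ dvd_pow_self t hj0.ne').trans (Subgroup.card_dvd_of_le hX))
    have h6 : ((2 * 3 : ℕ) : AlgebraicClosure (ZMod r)) ≠ 0 :=
      natCast_ne_zero_algClosure fun h => (Fact.out : r.Prime).one_lt.ne'
        (Nat.eq_one_of_dvd_coprimes (hcard j hj ▸ hc) h hr)
    have hsK : ∀ s, s.Prime → s ≠ r → ((s : ℕ) : AlgebraicClosure (ZMod r)) ≠ 0 := fun s hs hsr =>
      natCast_ne_zero_algClosure (by
        rw [Nat.prime_dvd_prime_iff_eq Fact.out hs]; exact Ne.symm hsr)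
    have hnil : Group.IsNilpotent (i.range.map π) := by
      refine isNilpotent_of_forall_invariant_pgroup _ _ (H2.isSolvable_map _ π)
        (hA' ▸ hcop') fun q s hq hs hqs Q R hQG hQ hAQ hRn hRG hR => ?_
      by_cases hsr : s = r
      · subst hsr
        rw [h4 R hRn hRG hR]; exact bot_le
      rcases eq_or_ne Q ⊥ with rfl | hQ0
      · exact Subgroup.le_centralizer_iff.1 bot_le
      rcases eq_or_ne R ⊥ with rfl | hR0
      · exact bot_le
      exact Subgroup.le_centralizer_iff.1 (le_centralizer_of_two_primes Nat.prime_two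
        Nat.prime_three hq hs hqs (hsK s hs hsr) h6
        (key q Q hq hQG hQ hQ0) (key s R hs hRG hR hR0) _ Γ' ρ _ Q R (Nat.lt_succ_self _) hA' hQ hR
        hAQ (Subgroup.le_normalizer_of_normal.trans' le_top)
        (Subgroup.le_normalizer_of_normal.trans' le_top)
        (eq_bot_iff.2 ((inf_le_inf_right _ (sup_le hQG hRG)).trans h3.le)) h2
        fun x hx => h1 x (hRG hx))
    rw [Subgroup.map_commutator, Subgroup.commutator_eq_bot_iff_le_centralizer]
    refine H46.nil_le_of_forall_Op hnil fun q hq _ => ?_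
    set Q := H46.Op q (i.range.map π) with hQ
    have hQG : Q ≤ i.range.map π := H46.piCoreOf_le _ _
    have hQq : IsPGroup q Q := (H46.isPi_piCoreOf _ _).isPGroup hq
    have : Q.Normal := by
      rw [← Subgroup.normalizer_eq_top_iff, eq_top_iff]
      exact Subgroup.le_normalizer_of_normal.trans (H46.nrm_le_nrm_piCoreOf _ _)
    rcases eq_or_ne Q ⊥ with h0 | hQ0
    · rw [h0]; exact bot_le
    have hdp := H46.nil_isDp_piCoreOf {q} hnil
    rw [Subgroup.le_centralizer_iff, ← hdp.sup]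
    refine sup_le (Subgroup.commutator_eq_bot_iff_le_centralizer.1 ?_) hdp.cent
    exact der_eq_bot ρ _ hj' Q hq hQq (key q Q hq hQG hQq hQ0)
      (hsK q hq fun e => hQ0 (h4 Q this hQG (e ▸ hQq))) h6
      (eq_bot_iff.2 ((inf_le_inf_right _ hQG).trans h3.le)) h2 fun x hx => h1 x (hQG hx)
  rw [MonoidHom.range_eq_map, ← Subgroup.map_commutator] at h1
  have : Group.IsNilpotent ((commutator G).map i) := h1
  exact H2.isNilpotent_of_injective (i.subgroupMap _) fun a b h =>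
    Subtype.ext (hi (congrArg Subtype.val h))

end Cfsg.Agent.S4305
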