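import Cfsg.Statements.S4330
import Cfsg.Agent.H14.RegOrb
import Cfsg.Agent.H2.MinNormal

set_option autoImplicit false
open Pointwise
open Cfsg

namespace Cfsg.Agent.S4330

universe u

theorem aux {p : ℕ} [hp : Fact p.Prime] (hp2 : p ≠ 2) (n : ℕ) : ∀ (G : Type u) [Group G] [Finite G]
    [Group.IsSolvable G], Nat.card G = n → ∀ A : Subgroup G, IsPGroup p A →
    (∀ c : G, ∃ h : G, ∃ Q : Subgroup G, IsPGroup p Q ∧
      ∀ a ∈ A, a ∈ Q ∧ (h * c * h⁻¹) * a * (h * c * h⁻¹)⁻¹ ∈ Q) → A ≤ pCore p G := by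
  induction n using Nat.strong_induction_on with
  | _ n ih =>
  intro G _ _ _ hn A hA h
  rcases subsingleton_or_nontrivial G with h1 | h1
  · exact fun a _ => Subsingleton.elim 1 a ▸ one_mem _
  obtain ⟨q, N, hq, hNn, -, hN0, hNe, hNq, hmin⟩ :=
    H2.exists_elementaryAbelian_normal_le (⊤ : Subgroup G) top_ne_bot
  let π := QuotientGroup.mk' N
  have hlt : Nat.card (G ⧸ N) < n := by
    rw [← hn, Subgroup.card_eq_card_quotient_mul_card_subgroup N]
    exact lt_mul_of_one_lt_right Nat.card_pos (N.one_lt_card_iff_ne_bot.2 hN0)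
  have hq' := ih _ hlt (G ⧸ N) rfl (A.map π) (hA.map π) fun c => by
    obtain ⟨c, rfl⟩ := QuotientGroup.mk'_surjective N c
    obtain ⟨g, Q, hQ, hg⟩ := h c
    refine ⟨π g, Q.map π, hQ.map π, ?_⟩
    rintro _ ⟨a, ha, rfl⟩
    exact ⟨⟨a, (hg a ha).1, rfl⟩, ⟨_, (hg a ha).2, by simp [π]⟩⟩
  have hAL : A ≤ (pCore p (G ⧸ N)).comap π := Subgroup.map_le_iff_le_comap.1 hq'
  set L := (pCore p (G ⧸ N)).comap π
  have hLn : L.Normal := Subgroup.Normal.comap inferInstance π
  by_cases hqp : q = p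
  · subst hqp
    rwa [show L = pCore q G from H2.comap_pCore_quotient N hNq] at hAL
  haveI := Fact.mk hq
  have hcop : ¬ p ∣ Nat.card N := fun hd => by
    obtain ⟨k, hk⟩ := hNq.exists_card_eq
    rw [hk] at hd
    exact hqp ((Nat.prime_dvd_prime_iff_eq hp.out hq).1 (hp.out.dvd_of_dvd_pow hd)).symm
  haveI hc : IsMulCommutative N := H2.isMulCommutative_of_minimal_normal hmin
  have hpow : ∀ x ∈ L, ∃ k : ℕ, x ^ p ^ k ∈ N := fun x hx => by
    obtain ⟨k, hk⟩ := H2.pCore_isPGroup p (G ⧸ N) ⟨π x, hx⟩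
    refine ⟨k, (QuotientGroup.eq_one_iff _).1 ?_⟩
    simpa [π] using congrArg Subtype.val hk
  have hcen : ∀ a ∈ A, ∀ x ∈ N, x * a = a * x := fun a ha => by
    letI : CommGroup N := { (inferInstance : Group N) with mul_comm := hc.is_comm.comm }
    let φ : G →* MulAut N := MulAut.conjNormal
    have hφ : ∀ g (x : N), (φ g x : G) = g * x * g⁻¹ := fun g x => rfl
    by_contra hne
    obtain ⟨v, hv⟩ := H14.RO.mv hp2 _ N rfl hcop G φ L hLn (by
      rintro ⟨_, x, hx, rfl⟩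
      obtain ⟨k, hk⟩ := hpow x hx
      refine ⟨k, Subtype.ext ?_⟩
      change φ x ^ p ^ k = 1
      rw [← map_pow]
      ext y
      rw [hφ, mul_inv_eq_iff_eq_mul]
      exact congrArg Subtype.val (mul_comm (⟨_, hk⟩ : N) y)) a (hAL ha) (fun e => hne fun x hx => by
        have := hφ a ⟨x, hx⟩
        rw [e] at this
        exact (mul_inv_eq_iff_eq_mul.1 this.symm).symm)
    obtain ⟨g, Q, hQ, hg⟩ := h v
    have hw : g * v * g⁻¹ ∈ N := hNn.conj_mem _ v.2 g
    have h1 : (g * v * g⁻¹) * a * (g * v * g⁻¹)⁻¹ * a⁻¹ ∈ N ⊓ Q :=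
      Subgroup.mem_inf.2 ⟨by
        have := mul_mem hw (hNn.conj_mem _ (inv_mem hw) a)
        simpa only [mul_assoc] using this, mul_mem (hg a ha).2 (inv_mem (hg a ha).1)⟩
    rw [(IsPGroup.disjoint_of_ne q p hqp N Q hNq hQ).eq_bot, Subgroup.mem_bot] at h1
    refine hv g⁻¹ (Subtype.ext ?_)
    rw [hφ]
    calc g⁻¹ * a * g⁻¹⁻¹ * v * (g⁻¹ * a * g⁻¹⁻¹)⁻¹
        = g⁻¹ * ((g * v * g⁻¹)⁻¹ * ((g * v * g⁻¹) * a * (g * v * g⁻¹)⁻¹ * a⁻¹) *
          (a * (g * v * g⁻¹) * (g * v * g⁻¹) * a⁻¹)) * g := by group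
      _ = v := by
        have h2 : a * (g * v * g⁻¹) = (g * v * g⁻¹) * a := by
          rw [mul_inv_eq_one, mul_inv_eq_iff_eq_mul] at h1; exact h1.symm
        rw [h1, h2, mul_assoc (g * v * g⁻¹) a, h2]; group
  set K := L ⊓ Subgroup.centralizer (N : Set G)
  haveI hKn : K.Normal := inferInstance
  haveI : Group.IsNilpotent K := by
    have hker : (π.comp K.subtype).rangeRestrict.ker ≤ Subgroup.center K := fun x hx => by
      have hxN : (x : G) ∈ N := (QuotientGroup.eq_one_iff _).1 (congrArg Subtype.val hx)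
      exact Subgroup.mem_center_iff.2 fun y => Subtype.ext (y.2.2 _ hxN).symm
    have hP : IsPGroup p (π.comp K.subtype).range := (H2.pCore_isPGroup p (G ⧸ N)).to_le (by
      rintro _ ⟨x, rfl⟩; exact x.2.1)
    haveI := hP.isNilpotent
    exact Subgroup.isNilpotent_of_ker_le_center _ hker
  exact H2.le_pCore_of_le_fitting hA
    (fun a ha => H2.le_fitting K ⟨hAL ha, fun x hx => hcen a ha x hx⟩)

/-- Let G be a finite solvable group, p an odd prime and A a p-subgroup of G such that every conjugacy class of G contains an element g for which A is subnormal in the subgroup generated by A and its conjugate by g. Then A is contained in O_p(G). (The hypothesis that p is odd is needed.) -/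
theorem result {G : Type*} [Group G] [Finite G]
    (hG : Group.IsSolvable G) (p : ℕ) [Fact p.Prime] (hp : p ≠ 2) (A : Subgroup G) (hA : IsPGroup p A)
    (h : ∀ c : G, ∃ g : G, IsConj c g ∧ (A.subgroupOf (A ⊔ MulAut.conj g • A)).IsSubnormal) :
    A ≤ Cfsg.pCore p G := by
  refine aux hp _ G rfl A hA fun c => ?_
  obtain ⟨g, ⟨u, hu⟩, hs⟩ := h c
  have hg : g = u * c * (u : G)⁻¹ := by rw [hu.eq]; simp
  set J := A ⊔ MulAut.conj g • A
  have hB : IsPGroup p (MulAut.conj g • A : Subgroup G) := hA.map _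
  have h1 : A.subgroupOf J ≤ pCore p J := H2.le_pCore_of_isSubnormal hs hA.comap_subtype
  have h2 : IsPGroup p (pCore p J ⊔ (MulAut.conj g • A).subgroupOf J : Subgroup J) :=
    (H2.pCore_isPGroup p J).to_sup_of_normal_left hB.comap_subtype
  refine ⟨u, _, h2.map J.subtype, fun a ha => ⟨⟨⟨a, Subgroup.mem_sup_left ha⟩,
    Subgroup.mem_sup_left (h1 ha), rfl⟩, ?_⟩⟩
  have h3 : g * a * g⁻¹ ∈ MulAut.conj g • A := Subgroup.smul_mem_pointwise_smul _ _ _ ha
  exact ⟨⟨_, Subgroup.mem_sup_right h3⟩, Subgroup.mem_sup_right h3, by rw [← hg]; rfl⟩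

end Cfsg.Agent.S4330
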