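import Cfsg.Statements.S4348
import Cfsg.Agent.Base

set_option autoImplicit false
open Cfsg

namespace Cfsg.Agent.S4348

/-- Let G be a finite group, p a prime and P a Sylow p-subgroup of G, and let O_p(G) be the largest normal p-subgroup of G. If P/O_p(G) is cyclic, then some element of p-power order of G lies in exactly one Sylow p-subgroup. -/
theorem result {G : Type*} [Group G] [Finite G]
    (p : ℕ) [Fact p.Prime] (P : Sylow p G)
    [hn : ((Cfsg.pCore p G).subgroupOf (P : Subgroup G)).Normal]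
    (hc : IsCyclic ((P : Subgroup G) ⧸ (Cfsg.pCore p G).subgroupOf (P : Subgroup G))) :
    ∃ x : G, (∃ k : ℕ, orderOf x = p ^ k) ∧ ∃! Q : Sylow p G, x ∈ Q := by
  obtain ⟨c, hc⟩ := IsCyclic.exists_generator
    (α := (P : Subgroup G) ⧸ (Cfsg.pCore p G).subgroupOf (P : Subgroup G))
  obtain ⟨x, rfl⟩ := QuotientGroup.mk_surjective c
  have hO : ∀ Q : Sylow p G, Cfsg.pCore p G ≤ Q := fun Q =>
    sSup_le fun N hN => by
      have := hN.1
      exact hN.2.le_sylow_of_normal Q
  refine ⟨x, ?_, P, x.2, fun Q hQ => ?_⟩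
  · obtain ⟨k, hk⟩ := IsPGroup.iff_orderOf.1 P.isPGroup' x
    exact ⟨k, by rw [← hk, Subgroup.orderOf_coe]⟩
  · refine Sylow.ext (P.is_maximal' Q.isPGroup' ?_)
    intro y hy
    obtain ⟨n, hn⟩ := hc ((⟨y, hy⟩ : (P : Subgroup G)) : _ ⧸ _)
    simp only at hn
    rw [← QuotientGroup.mk_zpow, QuotientGroup.eq, Subgroup.mem_subgroupOf] at hn
    have h1 : ((x : G) ^ n)⁻¹ * y ∈ (Q : Subgroup G) := hO Q hn
    have h2 : (x : G) ^ n ∈ (Q : Subgroup G) := (Q : Subgroup G).zpow_mem hQ n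
    simpa using (Q : Subgroup G).mul_mem h2 h1

end Cfsg.Agent.S4348
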