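import Cfsg.Agent.Base
import Cfsg.Statements.S4351
import Cfsg.Agent.H61.Mar3
import Cfsg.Agent.H31.CITSimple
import Cfsg.Agent.H57.SLGen

set_option autoImplicit false
open Cfsg

namespace Cfsg.Agent.S4351



/-- Let G be a finite non-solvable group in which the centralizer of every non-identity element is nilpotent. Then G is a non-abelian simple group; or G has a normal subgroup of index 2 isomorphic to PSL(2, 9); or G has a nontrivial normal elementary abelian 2-subgroup N such that G/N is isomorphic to PSL(2, q) for some q = 2ⁿ ≥ 4 or is a simple group of Suzuki type (simple, of the order of a Suzuki group). -/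
theorem result {G : Type*} [Group G] [Finite G] (hG : ¬ Group.IsSolvable G)
    (hCN : ∀ x : G, x ≠ 1 → Group.IsNilpotent (Subgroup.centralizer ({x} : Set G))) :
    (IsSimpleGroup G ∧ ¬ IsMulCommutative G) ∨
    (∃ (N : Subgroup G), N.Normal ∧ N.index = 2 ∧ ∃ (F : Type) (_ : Field F) (_ : Fintype F), Fintype.card F = 9 ∧
        Nonempty (N ≃* Matrix.ProjectiveSpecialLinearGroup (Fin 2) F)) ∨
    (∃ (N : Subgroup G) (_ : N.Normal), N ≠ ⊥ ∧ IsPGroup 2 N ∧ IsMulCommutative N ∧ (∀ x ∈ N, x * x = 1) ∧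
        ((∃ (F : Type) (_ : Field F) (_ : Fintype F), CharP F 2 ∧ 4 ≤ Fintype.card F ∧
            Nonempty (G ⧸ N ≃* Matrix.ProjectiveSpecialLinearGroup (Fin 2) F)) ∨ Cfsg.IsSuzuki (G ⧸ N))) := by
  have hc := H31.cit_of_cn' hG hCN
  have nc : ¬ IsMulCommutative G := fun h => hG (Group.isSolvable_of_comm h.is_comm.comm)
  have hQ := H2.pCore_isPGroup 2 G
  rcases H31.cit_nonsolvable hG hc with ⟨-, h | h | h | h | h⟩ | ⟨h0, h | h⟩
  · obtain ⟨F, _, _, n, hn, hF, ⟨e⟩⟩ := h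
    have := H57.psl_fin_isSimpleGroup (F := F) (n := 2) le_rfl fun _ => by
      rw [hF]; exact Nat.pow_le_pow_right (n := 2) (by norm_num) hn
    exact Or.inl ⟨e.isSimpleGroup, nc⟩
  · exact Or.inl ⟨h.1, nc⟩
  · obtain ⟨F, _, _, hF, ⟨e⟩⟩ := h
    have := H57.psl_fin_isSimpleGroup (F := F) (n := 2) le_rfl fun _ => by omega
    exact Or.inl ⟨e.isSimpleGroup, nc⟩
  · obtain ⟨F, _, _, hF, ⟨e⟩⟩ := h
    have := H57.psl_fin_isSimpleGroup (F := F) (n := 3) (by norm_num) fun h => by omega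
    exact Or.inl ⟨e.isSimpleGroup, nc⟩
  · exact Or.inr (Or.inl h.1)
  · obtain ⟨F, _, _, n, hn, hF, ⟨e⟩⟩ := h
    have : Fact (Nat.Prime 2) := ⟨Nat.prime_two⟩
    have hp : CharP F 2 := charP_of_card_eq_prime_pow hF
    have h4 : 4 ≤ Fintype.card F := by
      rw [hF]; exact Nat.pow_le_pow_right (n := 2) (by norm_num) hn
    have h2 := H61.Mar.cit_sq_of_l2 hc _ hQ (by rwa [Nat.card_eq_fintype_card]) e
    exact Or.inr (Or.inr ⟨_, inferInstance, h0, hQ,
      ⟨⟨fun a b => Subtype.ext (H31.comm_of_sq h2 a.2 b.2)⟩⟩, h2,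
      Or.inl ⟨F, _, _, hp, h4, ⟨e⟩⟩⟩)
  · have h2 := H61.Mar.cit_sq_of_suzuki hc _ hQ (H30.ztIso _ h)
    exact Or.inr (Or.inr ⟨_, inferInstance, h0, hQ,
      ⟨⟨fun a b => Subtype.ext (H31.comm_of_sq h2 a.2 b.2)⟩⟩, h2, Or.inr (H30.ztOrd _ h)⟩)

end Cfsg.Agent.S4351
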