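import Cfsg.Statements.S4358
import Cfsg.Agent.Base
import Cfsg.Agent.H2.Core

set_option autoImplicit false
open Cfsg

namespace Cfsg.Agent.S4358

open Matrix

section
variable {F : Type*} [Field F] {p : ℕ} [NeZero p]

/-- monomial matrices along a cyclic shift -/
def Mon (s : Fin p) (g : Matrix (Fin p) (Fin p) F) : Prop :=
  ∀ i, (∀ j, j ≠ i + s → g i j = 0) ∧ g i (i + s) ^ p = 1

theorem Mon.mul_apply {s : Fin p} {g : Matrix (Fin p) (Fin p) F} (hg : Mon s g)
    (h : Matrix (Fin p) (Fin p) F) (i k : Fin p) : (g * h) i k = g i (i + s) * h (i + s) k := by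
  rw [Matrix.mul_apply, Finset.sum_eq_single (i + s)]
  · intro j _ hj; rw [(hg i).1 j hj, zero_mul]
  · simp

theorem Mon.ne {s : Fin p} {g : Matrix (Fin p) (Fin p) F} (hg : Mon s g) (i : Fin p) :
    g i (i + s) ≠ 0 := by
  intro h
  have := (hg i).2
  rw [h, zero_pow (NeZero.ne p)] at this
  exact zero_ne_one this

theorem Mon.mul {s t : Fin p} {g h : Matrix (Fin p) (Fin p) F} (hg : Mon s g) (hh : Mon t h) :
    Mon (s + t) (g * h) := by
  intro i
  refine ⟨fun j hj => ?_, ?_⟩
  · rw [hg.mul_apply, (hh _).1 j (by rwa [add_assoc]), mul_zero]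
  · rw [hg.mul_apply, mul_pow, (hg i).2, ← add_assoc, (hh _).2, one_mul]

theorem Mon.one : Mon (0 : Fin p) (1 : Matrix (Fin p) (Fin p) F) := by
  intro i
  refine ⟨fun j hj => ?_, by rw [add_zero, Matrix.one_apply_eq, one_pow]⟩
  rw [add_zero] at hj
  exact Matrix.one_apply_ne hj.symm

theorem Mon.pow {s : Fin p} {g : Matrix (Fin p) (Fin p) F} (hg : Mon s g) (k : ℕ) :
    Mon (k • s) (g ^ k) := by
  induction k with
  | zero => simpa using Mon.one
  | succ k ih => rw [pow_succ, succ_nsmul]; exact ih.mul hg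

theorem Mon.diag {g : Matrix (Fin p) (Fin p) F} (hg : Mon 0 g) :
    g = diagonal (fun i => g i i) := by
  ext i j
  by_cases h : i = j
  · subst h; simp
  · rw [diagonal_apply_ne _ h, (hg i).1 j (by rw [add_zero]; exact Ne.symm h)]

/-- the monomial group -/
def PP (F : Type*) [Field F] [Finite F] (p : ℕ) [NeZero p] : Subgroup (GL (Fin p) F) where
  carrier := {g | ∃ s, Mon s (g : Matrix (Fin p) (Fin p) F)}
  one_mem' := ⟨0, Mon.one⟩
  mul_mem' := fun ⟨s, hs⟩ ⟨t, ht⟩ => ⟨s + t, hs.mul ht⟩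
  inv_mem' := by
    rintro g ⟨s, hs⟩
    refine ⟨(orderOf g - 1) • s, ?_⟩
    have h1 : g⁻¹ = g ^ (orderOf g - 1) := by
      rw [inv_eq_iff_mul_eq_one, ← pow_succ', Nat.sub_add_cancel (orderOf_pos g),
        pow_orderOf_eq_one]
    rw [h1, Units.val_pow_eq_pow_val]
    exact hs.pow _

theorem isPGroup_PP [Finite F] : IsPGroup p (PP F p) := by
  rintro ⟨g, s, hs⟩
  refine ⟨2, Subtype.ext (Units.ext ?_)⟩
  have h1 := hs.pow p
  have h2 : p • s = 0 := by
    have := card_nsmul_eq_zero (x := s)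
    rwa [Fintype.card_fin] at this
  rw [h2] at h1
  change ((g ^ p ^ 2 : GL (Fin p) F) : Matrix (Fin p) (Fin p) F) = 1
  rw [Units.val_pow_eq_pow_val, pow_two, pow_mul, h1.diag, diagonal_pow, ← diagonal_one]
  congr 1
  ext i
  simpa using (h1 i).2

/-- the monomial matrix with given data -/
def mk (s : Fin p) (d : Fin p → F) (hd : ∀ i, d i ≠ 0) : GL (Fin p) F :=
  have h : (Matrix.of fun i j => if j = i + s then d i else 0) *
      (Matrix.of fun i j => if i = j + s then (d j)⁻¹ else 0) = (1 : Matrix (Fin p) (Fin p) F) := by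
    ext i k
    rw [Matrix.mul_apply, Finset.sum_eq_single (i + s)]
    · by_cases h : i = k
      · subst h; simp [hd]
      · simp [h, Matrix.one_apply_ne h]
    · intro j _ hj; simp [hj]
    · simp
  ⟨_, _, h, mul_eq_one_comm.1 h⟩

theorem mk_apply (s : Fin p) (d : Fin p → F) (hd : ∀ i, d i ≠ 0) (i j : Fin p) :
    (mk s d hd : Matrix (Fin p) (Fin p) F) i j = if j = i + s then d i else 0 := rfl

theorem mon_mk (s : Fin p) (d : Fin p → F) (hd : ∀ i, d i ≠ 0) (h : ∀ i, d i ^ p = 1) :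
    Mon s (mk s d hd : Matrix (Fin p) (Fin p) F) := fun i =>
  ⟨fun j hj => by rw [mk_apply, if_neg hj], by rw [mk_apply, if_pos rfl, h]⟩

theorem card_PP [Finite F] {ζ : F} (hζ : IsPrimitiveRoot ζ p) : p ^ (p + 1) ≤ Nat.card (PP F p) := by
  have h0 : ζ ≠ 0 := hζ.ne_zero (NeZero.ne p)
  let f : Fin p × (Fin p → Fin p) → PP F p := fun x =>
    ⟨mk x.1 (fun i => ζ ^ (x.2 i : ℕ)) (fun i => pow_ne_zero _ h0), x.1,
      mon_mk _ _ _ (fun i => by rw [← pow_mul, mul_comm, pow_mul, hζ.pow_eq_one, one_pow])⟩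
  have hf : Function.Injective f := by
    rintro ⟨s, e⟩ ⟨t, e'⟩ h
    have h1 : ∀ i j, (if j = i + s then ζ ^ (e i : ℕ) else 0) =
        if j = i + t then ζ ^ (e' i : ℕ) else 0 := fun i j =>
      congrFun (congrFun (congrArg (fun g : PP F p => ((g : GL (Fin p) F) : Matrix _ _ F)) h) i) j
    have h2 : s = t := by
      by_contra hne
      have := h1 0 s
      simp [hne, h0] at this
    subst h2
    congr 1
    ext i
    have := h1 i (i + s)
    simp only [if_true] at this
    exact hζ.pow_inj (e i).2 (e' i).2 this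
  have := Nat.card_le_card_of_injective f hf
  simpa [pow_succ'] using this

theorem two_ne (hp : p.Prime) (hp2 : p ≠ 2) {s : Fin p} (hs : s ≠ 0) : s + s ≠ 0 := by
  intro h
  apply hs
  have h1 := congrArg Fin.val h
  rw [Fin.val_add, Fin.val_zero, ← two_mul] at h1
  rcases hp.dvd_mul.1 (Nat.dvd_of_mod_eq_zero h1) with h2 | h2
  · exact absurd ((Nat.prime_dvd_prime_iff_eq hp Nat.prime_two).1 h2) hp2
  · exact Fin.ext (Nat.eq_zero_of_dvd_of_lt h2 s.2)

theorem norm_row [Finite F] (hp : p.Prime) (hp2 : p ≠ 2) {ζ : F} (hζ : IsPrimitiveRoot ζ p)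
    (h : GL (Fin p) F) (hh : ∀ u ∈ PP F p, h * u * h⁻¹ ∈ PP F p) (k i j : Fin p) (hij : i ≠ j)
    (hi : (h : Matrix (Fin p) (Fin p) F) k i ≠ 0) : (h : Matrix (Fin p) (Fin p) F) k j = 0 := by
  have h0 : ζ ≠ 0 := hζ.ne_zero (NeZero.ne p)
  have h1 : ζ ≠ 1 := hζ.ne_one hp.one_lt
  let d : Fin p → F := fun l => if l = i then ζ else 1
  have hd : ∀ l, d l ≠ 0 := fun l => by simp only [d]; split_ifs <;> simp [h0]
  have hm : Mon 0 (mk 0 d hd : Matrix (Fin p) (Fin p) F) :=
    mon_mk _ _ _ (fun l => by simp only [d]; split_ifs <;> simp [hζ.pow_eq_one])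
  have hr : (mk 0 d hd : Matrix (Fin p) (Fin p) F) = diagonal d := by
    rw [hm.diag]; congr 1; ext l; simp [mk_apply]
  obtain ⟨s, hs⟩ := hh _ ⟨0, hm⟩
  obtain ⟨b, hb⟩ : ∃ b, b = h * mk 0 d hd * h⁻¹ := ⟨_, rfl⟩
  rw [← hb] at hs
  have hbh : (b : Matrix (Fin p) (Fin p) F) * h = h * diagonal d := by
    rw [← hr, ← Units.val_mul, ← Units.val_mul, hb]; congr 1; group
  have hq : diagonal d * diagonal d = (1 + ζ) • diagonal d - ζ • (1 : Matrix (Fin p) (Fin p) F) := by
    rw [diagonal_mul_diagonal]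
    ext a c
    by_cases hac : a = c
    · subst hac
      simp only [diagonal_apply_eq, Matrix.sub_apply, Matrix.smul_apply, one_apply_eq, d, smul_eq_mul]
      split_ifs <;> ring
    · simp [hac]
  have hbq : (b : Matrix (Fin p) (Fin p) F) * b =
      (1 + ζ) • (b : Matrix (Fin p) (Fin p) F) - ζ • (1 : Matrix (Fin p) (Fin p) F) := by
    rw [← Units.mul_left_inj h, mul_assoc, hbh, ← mul_assoc, hbh, mul_assoc, hq, sub_mul,
      smul_mul_assoc, hbh, mul_sub, mul_smul_comm, mul_smul_comm, smul_mul_assoc, one_mul, mul_one]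
  have hs0 : s = 0 := by
    by_contra hs0
    have e := congrFun (congrFun hbq 0) (0 + (s + s))
    apply (hs.mul hs).ne 0
    rw [e, Matrix.sub_apply, Matrix.smul_apply, Matrix.smul_apply,
      (hs 0).1 _ (by simpa using hs0), one_apply_ne (by simpa using (two_ne hp hp2 hs0).symm)]
    simp
  subst hs0
  have e1 := congrFun (congrFun hbh k) i
  have e2 := congrFun (congrFun hbh k) j
  rw [hs.mul_apply, mul_diagonal, add_zero] at e1 e2
  simp only [d, if_true, if_neg hij.symm, mul_one] at e1 e2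
  rw [mul_comm] at e1
  rw [mul_left_cancel₀ hi e1] at e2
  by_contra hj
  exact h1 (mul_right_cancel₀ hj (by rw [e2, one_mul]))

theorem exists_bad [Fintype F] (hp : p.Prime) (hp2 : p ≠ 2) (hF : p < Fintype.card F)
    (x : GL (Fin p) F) (hx : x ∈ PP F p) :
    ∃ h : GL (Fin p) F, h * x * h⁻¹ ∈ PP F p ∧ ∃ k i j, i ≠ j ∧
      (h : Matrix (Fin p) (Fin p) F) k i ≠ 0 ∧ (h : Matrix (Fin p) (Fin p) F) k j ≠ 0 := by
  classical
  obtain ⟨s, hs⟩ := id hx
  have hcomm : ∀ h : GL (Fin p) F, (h : Matrix (Fin p) (Fin p) F) * x = x * h →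
      h * x * h⁻¹ ∈ PP F p := fun h hc => by
    have : h * x = x * h := Units.ext hc
    rwa [this, mul_inv_cancel_right]
  by_cases hs0 : s = 0
  · subst hs0
    obtain ⟨a, ha⟩ : ∃ a, a = fun i => (x : Matrix (Fin p) (Fin p) F) i i := ⟨_, rfl⟩
    have hxa := hs.diag
    rw [← ha] at hxa
    have hap : ∀ i, a i ^ p = 1 := fun i => by simpa [ha] using (hs i).2
    have ha0 : ∀ i, a i ≠ 0 := fun i => by simpa [ha] using hs.ne i
    by_cases hinj : Function.Injective a
    · have hdet : ((vandermonde a)ᵀ).det ≠ 0 := by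
        rw [det_transpose]; exact det_vandermonde_ne_zero_iff.2 hinj
      have hc := mon_mk (F := F) (1 : Fin p) (fun _ => 1) (fun _ => one_ne_zero) (fun _ => one_pow _)
      refine ⟨GeneralLinearGroup.mkOfDetNeZero _ hdet, ?_, 0, 0, 1, ?_, ?_, ?_⟩
      · have : GeneralLinearGroup.mkOfDetNeZero _ hdet * x =
            mk (1 : Fin p) (fun _ => (1 : F)) (fun _ => one_ne_zero) *
              GeneralLinearGroup.mkOfDetNeZero _ hdet := by
          apply Units.ext
          ext i j
          rw [Units.val_mul, Units.val_mul, hc.mul_apply, mk_apply, if_pos rfl, one_mul, hxa,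
            mul_diagonal]
          change a j ^ (i : ℕ) * a j = a j ^ ((i + 1 : Fin p) : ℕ)
          rw [Fin.val_add, ← pow_eq_pow_mod _ (hap j), pow_add, Fin.val_one',
            ← pow_eq_pow_mod _ (hap j), pow_one]
        rw [this, mul_inv_cancel_right]
        exact ⟨1, hc⟩
      · intro h
        have := congrArg Fin.val h
        rw [Fin.val_one', Nat.mod_eq_of_lt hp.one_lt] at this
        simp at this
      · exact pow_ne_zero _ (ha0 _)
      · exact pow_ne_zero _ (ha0 _)
    · obtain ⟨i, j, hij, hne⟩ : ∃ i j, a i = a j ∧ i ≠ j := by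
        by_contra hc
        push Not at hc
        exact hinj hc
      have hdet : (transvection i j (1 : F)).det ≠ 0 := by
        rw [det_transvection_of_ne i j hne]; exact one_ne_zero
      refine ⟨GeneralLinearGroup.mkOfDetNeZero _ hdet, hcomm _ ?_, i, i, j, hne, ?_, ?_⟩
      · change transvection i j (1 : F) * _ = _ * transvection i j (1 : F)
        rw [hxa]
        ext k l
        rw [mul_diagonal, diagonal_mul, mul_comm, transvection, Matrix.add_apply]
        by_cases h1 : k = l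
        · rw [h1]
        · by_cases h2 : i = k ∧ j = l
          · rw [← h2.1, ← h2.2, hij]
          · simp [h1, h2]
      · change transvection i j (1 : F) i i ≠ 0
        simp [transvection, hne.symm]
      · change transvection i j (1 : F) i j ≠ 0
        simp [transvection, hne]
  · obtain ⟨y, hy⟩ : ∃ y : Matrix (Fin p) (Fin p) F, y = x + x * x := ⟨_, rfl⟩
    obtain ⟨α, hα⟩ := Polynomial.exists_eval_ne_zero_of_natDegree_lt_card (-y).charpoly
      (charpoly_monic _).ne_zero (by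
        rw [charpoly_natDegree_eq_dim, Fintype.card_fin, Cardinal.mk_fintype]
        exact_mod_cast hF)
    rw [eval_charpoly, sub_neg_eq_add] at hα
    have h2 := two_ne hp hp2 hs0
    refine ⟨GeneralLinearGroup.mkOfDetNeZero _ hα, hcomm _ ?_, 0, s, s + s, by simpa using hs0,
      ?_, ?_⟩
    · change (scalar (Fin p) α + y) * _ = _ * (scalar (Fin p) α + y)
      rw [hy, add_mul, mul_add, (scalar_commute α (fun _ => Commute.all _ _) _).eq, add_mul,
        mul_add, mul_assoc]
    · change (scalar (Fin p) α + y) 0 s ≠ 0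
      rw [hy, Matrix.add_apply, Matrix.add_apply, scalar_apply, diagonal_apply_ne _ (Ne.symm hs0),
        ((hs.mul hs) 0).1 s (by simpa using hs0), zero_add, add_zero]
      simpa using hs.ne 0
    · change (scalar (Fin p) α + y) 0 (s + s) ≠ 0
      rw [hy, Matrix.add_apply, Matrix.add_apply, scalar_apply, diagonal_apply_ne _ (Ne.symm h2),
        (hs 0).1 (s + s) (by simpa using hs0), zero_add, zero_add]
      simpa using (hs.mul hs).ne 0

end

theorem val_GL {q p : ℕ} [hp : Fact p.Prime] (hp2 : p ≠ 2) (hq : 1 < q) (h1 : p ∣ q - 1)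
    (h2 : ¬ p ^ 2 ∣ q - 1) : (∏ i : Fin p, (q ^ p - q ^ (i : ℕ))).factorization p = p + 1 := by
  have hpq : ¬ p ∣ q := fun h => hp.out.not_dvd_one (by
    have := Nat.dvd_sub h h1
    rwa [Nat.sub_sub_self hq.le] at this)
  have hv : padicValNat p (q - 1) = 1 := by
    have h3 : q - 1 ≠ 0 := by omega
    have h4 := (padicValNat_dvd_iff_le h3 (p := p) (n := 1)).1 (by simpa using h1)
    have h5 : ¬ 2 ≤ padicValNat p (q - 1) := fun h => h2 ((padicValNat_dvd_iff_le h3).2 h)
    omega
  have hne : ∀ i : Fin p, q ^ p - q ^ (i : ℕ) ≠ 0 := fun i =>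
    Nat.sub_ne_zero_of_lt (Nat.pow_lt_pow_right hq i.2)
  rw [Nat.factorization_prod (fun i _ => hne i), Finsupp.finsetSum_apply]
  have key : ∀ i : Fin p, (q ^ p - q ^ (i : ℕ)).factorization p =
      1 + if (i : ℕ) = 0 then 1 else 0 := by
    intro i
    have e : q ^ p - q ^ (i : ℕ) = q ^ (i : ℕ) * (q ^ (p - i) - 1 ^ (p - i)) := by
      rw [one_pow, Nat.mul_sub, ← pow_add, Nat.add_sub_cancel' i.2.le, mul_one]
    have hi : p - i ≠ 0 := by have := i.2; omega
    rw [Nat.factorization_def _ hp.out, e, padicValNat.mul (pow_ne_zero _ (by omega))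
      (by rw [one_pow]; exact Nat.sub_ne_zero_of_lt (Nat.one_lt_pow hi hq)),
      padicValNat.pow_sub_pow (hp.out.odd_of_ne_two hp2) hq h1 hpq hi, hv,
      padicValNat.eq_zero_of_not_dvd (fun h => hpq (hp.out.dvd_of_dvd_pow h)), zero_add]
    split_ifs with h
    · rw [h, Nat.sub_zero, padicValNat_self]
    · rw [padicValNat.eq_zero_of_not_dvd (fun h' => ?_)]
      have := Nat.le_of_dvd (Nat.pos_of_ne_zero hi) h'
      omega
  have : NeZero p := ⟨hp.out.ne_zero⟩
  simp only [key, Finset.sum_add_distrib, Fin.val_eq_zero_iff]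
  simp

/-- Let p be an odd prime and F a finite field with q elements such that p divides q - 1 but p² does not. Then GL(p, F) has a Sylow p-subgroup Q such that every element of p-power order lies in some Sylow p-subgroup other than Q (a redundant Sylow p-subgroup). -/
theorem result {F : Type*} [Field F] [Fintype F] (p : ℕ) [Fact p.Prime]
    (hp : p ≠ 2) (h1 : p ∣ Fintype.card F - 1) (h2 : ¬ p ^ 2 ∣ Fintype.card F - 1) :
    ∃ Q : Sylow p (Matrix.GeneralLinearGroup (Fin p) F), ∀ x : Matrix.GeneralLinearGroup (Fin p) F,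
      (∃ k : ℕ, orderOf x = p ^ k) → ∃ P : Sylow p (Matrix.GeneralLinearGroup (Fin p) F), P ≠ Q ∧ x ∈ P := by
  classical
  have hpp : p.Prime := Fact.out
  have : NeZero p := ⟨hpp.ne_zero⟩
  have hq : 1 < Fintype.card F := Fintype.one_lt_card
  obtain ⟨u, hu⟩ := exists_prime_orderOf_dvd_card (G := Fˣ) p (by rwa [Fintype.card_units])
  have hζ : IsPrimitiveRoot (u : F) p := by
    rw [IsPrimitiveRoot.coe_units_iff, ← hu]; exact IsPrimitiveRoot.orderOf u
  obtain ⟨Q, hQ⟩ := (isPGroup_PP (F := F) (p := p)).exists_le_sylow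
  have hPQ : PP F p = Q := Subgroup.eq_of_le_of_card_ge hQ (by
    rw [Q.card_eq_multiplicity, Matrix.card_GL_field, val_GL hp hq h1 h2]
    exact card_PP hζ)
  refine ⟨Q, fun x ⟨k, hk⟩ => ?_⟩
  by_contra hc
  push Not at hc
  have hu : ∀ P : Sylow p (Matrix.GeneralLinearGroup (Fin p) F), x ∈ P → P = Q := fun P hP => by
    by_contra h; exact hc P h hP
  have hx : x ∈ PP F p := by
    have h3 : IsPGroup p (Subgroup.zpowers x) := IsPGroup.of_card (by rw [Nat.card_zpowers, hk])
    obtain ⟨P, hP⟩ := h3.exists_le_sylow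
    rw [hPQ, ← hu P (hP (Subgroup.mem_zpowers x))]
    exact hP (Subgroup.mem_zpowers x)
  obtain ⟨h, hh, k, i, j, hij, hi, hj⟩ := exists_bad hpp hp
    (by have := Nat.le_of_dvd (by omega) h1; omega) x hx
  have key : ∀ v, v ∈ h⁻¹ • Q ↔ h * v * h⁻¹ ∈ PP F p := fun v => by
    rw [hPQ]
    change v ∈ ((h⁻¹ • Q : Sylow p _) : Subgroup _) ↔ _
    rw [Sylow.coe_subgroup_smul, Subgroup.mem_pointwise_smul_iff_inv_smul_mem, map_inv, inv_inv]
    rfl
  have h3 := hu _ ((key x).2 hh)
  refine hj (norm_row hpp hp hζ h (fun v hv => (key v).1 ?_) k i j hij hi)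
  rw [h3]
  rw [hPQ] at hv
  exact hv

end Cfsg.Agent.S4358
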