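import Cfsg.Statements.S4361
import Cfsg.Agent.H11.FL3

set_option autoImplicit false
open Cfsg

namespace Cfsg.Agent.S4361

/-- Inside a finite group let R be a subgroup of prime order r, where r - 1 is not a power of 2, normalizing an extraspecial s-subgroup F (for some prime s) with [F, R] = F, and let X be a subgroup normalized by R and F, meeting RF trivially, of order prime to r, on which F acts without non-identity fixed points. Then X and the fixed-point subgroup C_X(R) have the same Fitting height: for every n, X has a chain of normal subgroups 1 = X₀ ≤ ⋯ ≤ Xₙ = X with nilpotent factors if and only if C_X(R) has such a chain. -/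
theorem result {Γ : Type*} [Group Γ] [Finite Γ]
    (R F X : Subgroup Γ) (r s : ℕ) (hr : r.Prime) (hnF : ¬ ∃ k : ℕ, r = 2 ^ k + 1) (hs : s.Prime) (hR : Nat.card R = r)
    (hF : Cfsg.IsExtraspecial s F) (hRF : R ≤ Subgroup.normalizer (F : Set Γ)) (hcomm : ⁅F, R⁆ = F)
    (hRX : R ≤ Subgroup.normalizer (X : Set Γ)) (hFX : F ≤ Subgroup.normalizer (X : Set Γ)) (hdisj : (R ⊔ F) ⊓ X = ⊥)
    (hcop : ¬ r ∣ Nat.card X) (hCF : X ⊓ Subgroup.centralizer (F : Set Γ) = ⊥) (n : ℕ) :
    (∃ F : Fin (n + 1) → Subgroup ↥X, F 0 = ⊥ ∧ F (Fin.last n) = ⊤ ∧ Monotone F ∧ (∀ i, (F i).Normal) ∧ ∀ i : Fin n, ∃ k : ℕ, (F i.succ).lowerCentralSeries k ≤ F i.castSucc) ↔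
      (∃ F : Fin (n + 1) → Subgroup ↥(X ⊓ Subgroup.centralizer (R : Set Γ)), F 0 = ⊥ ∧ F (Fin.last n) = ⊤ ∧ Monotone F ∧ (∀ i, (F i).Normal) ∧ ∀ i : Fin n, ∃ k : ℕ, (F i.succ).lowerCentralSeries k ≤ F i.castSucc) := by
  exact (H48.fh_subgroup_iff n).trans (Iff.trans
    ⟨fun h => le_bot_iff.1 (h ▸ H48.nresI_mono n inf_le_left),
      H11.FL.height n (H11.FL.top hr hs hR hF hRF hcomm hRX hFX hcop hCF) (hR ▸ hnF)⟩
    (H48.fh_subgroup_iff n).symm)

end Cfsg.Agent.S4361
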