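import Cfsg.Statements.S4367
import Cfsg.Agent.H11.FPRows
import Cfsg.Agent.H26.FPThm
import Cfsg.Agent.H23.CSDiv

set_option autoImplicit false
open Cfsg

namespace Cfsg.Agent.S4367

/-- Let N be a non-solvable normal subgroup of a finite group G and m a natural number dividing the size of the conjugacy class in G of every element of N of prime-power order lying outside the center of N. Then m divides the order of the center of N. -/
theorem result {G : Type*} [Group G] [Finite G]
    (N : Subgroup G) [N.Normal] (hN : ¬ Group.IsSolvable N) (m : ℕ)
    (h : ∀ x : G, x ∈ N → (∃ y ∈ N, x * y ≠ y * x) → IsPrimePow (orderOf x) → m ∣ (Subgroup.centralizer ({x} : Set G)).index) :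
    m ∣ Nat.card (Subgroup.center N) := by
  exact H23.CSD.S4367_of (fun hc h => H11.FP.s4319_of H26.FP.thm hc h) N hN m h

end Cfsg.Agent.S4367
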