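import Cfsg.Statements.S4369
import Cfsg.Agent.H47.CA4

set_option autoImplicit false
open Cfsg

namespace Cfsg.Agent.S4369

/-- Call a group a CA-group when the centralizer of every non-central element is abelian. A finite group G is non-solvable, is not a CA-group, and has all its proper subgroups CA-groups, if and only if G is isomorphic to PSL(2, q) where q > 5 is a prime with 16 not dividing q² - 1, or q = 3ᵖ or q = 5ᵖ for an odd prime p. -/
theorem result {G : Type*} [Group G] [Finite G] :
    (¬ Group.IsSolvable G ∧ ¬ (∀ x : G, x ∉ Subgroup.center G → IsMulCommutative (Subgroup.centralizer ({x} : Set G))) ∧ ∀ H : Subgroup G, H ≠ ⊤ → (∀ x : H, x ∉ Subgroup.center H → IsMulCommutative (Subgroup.centralizer ({x} : Set H)))) ↔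
      ∃ (F : Type) (_ : Field F) (_ : Fintype F), Nonempty (G ≃* Matrix.ProjectiveSpecialLinearGroup (Fin 2) F) ∧
        (((Fintype.card F).Prime ∧ 5 < Fintype.card F ∧ ¬ 16 ∣ Fintype.card F ^ 2 - 1) ∨
         (∃ p : ℕ, p.Prime ∧ p ≠ 2 ∧ (Fintype.card F = 3 ^ p ∨ Fintype.card F = 5 ^ p))) := by
  have h : (∀ x : G, x ∉ Subgroup.center G → IsMulCommutative (Subgroup.centralizer ({x} : Set G))) ↔
      H47.CA.CAs (⊤ : Subgroup G) := by
    refine ⟨fun h x _ g _ a _ b _ h1 h2 h3 => ?_, fun h x hx => ⟨⟨fun a b => ?_⟩⟩⟩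
    · exact congrArg Subtype.val ((h x fun e => h1 (Subgroup.mem_center_iff.1 e g).symm).is_comm.comm
        ⟨a, Subgroup.mem_centralizer_singleton_iff.2 h2.symm⟩
        ⟨b, Subgroup.mem_centralizer_singleton_iff.2 h3.symm⟩)
    · obtain ⟨g, hg⟩ := not_forall.1 (mt Subgroup.mem_center_iff.2 hx)
      exact Subtype.ext (h x trivial g trivial a trivial b trivial (fun e => hg e.symm)
        (Subgroup.mem_centralizer_singleton_iff.1 a.2).symm
        (Subgroup.mem_centralizer_singleton_iff.1 b.2).symm)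
  simp only [h, H47.CA.cas_iff]
  exact H47.CA.s4369

end Cfsg.Agent.S4369
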