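import Cfsg.Statements.S4383
import Cfsg.Agent.H19.TwoMax

set_option autoImplicit false
open Pointwise
open Cfsg

namespace Cfsg.Agent.S4383

open Subgroup H46 in
theorem aux {G : Type*} [Group G] [Finite G] {M N : Subgroup G} (h1 : IsCoatom M) (h2 : IsCoatom N)
    (hne : N ≠ M) (hall : ∀ K : Subgroup G, K ≠ ⊤ → ∃ g, K ≤ cj g M ∨ K ≤ cj g N) (p : ℕ)
    (hp : p.Prime) : ¬ IsPi {p} (⊤ : Subgroup G) := by
  intro h
  have hn : ∀ {M : Subgroup G}, IsCoatom M → ∀ g, cj g M = M := fun hM g => cj_of_mem_nrm (by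
    have := nil_lt_inf_nrm h.nil hM.lt_top
    rw [top_inf_eq] at this
    rw [hM.2 _ this]; exact mem_top g)
  have n1 : ¬ M ≤ N := fun e => hne ((h1.le_iff.1 e).resolve_left h2.1)
  have n2 : ¬ N ≤ M := fun e => hne ((h2.le_iff.1 e).resolve_left h1.1).symm
  obtain ⟨x, hx, hx'⟩ := SetLike.not_le_iff_exists.1 n1
  obtain ⟨y, hy, hy'⟩ := SetLike.not_le_iff_exists.1 n2
  have hc : IsCyclic (⊤ : Subgroup G) := cyclic_iff_exists_zpowers.2 ⟨x * y, by_contra fun e => by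
    obtain ⟨g, hg | hg⟩ := hall _ e
    · rw [hn h1] at hg
      exact hy' ((mul_mem_cancel_left hx).1 (zpowers_le.1 hg))
    · rw [hn h2] at hg
      exact hx' ((mul_mem_cancel_right hy).1 (zpowers_le.1 hg))⟩
  obtain ⟨i, hi⟩ := (h.of_le (le_top (a := M))).exists_pow hp
  obtain ⟨j, hj⟩ := (h.of_le (le_top (a := N))).exists_pow hp
  rcases le_total i j with e | e
  · exact n1 (le_of_cyclic_of_card_dvd hc le_top le_top (hi ▸ hj ▸ pow_dvd_pow p e))
  · exact n2 (le_of_cyclic_of_card_dvd hc le_top le_top (hi ▸ hj ▸ pow_dvd_pow p e))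

/-- A finite group with exactly two conjugacy classes of maximal subgroups is solvable and its order has exactly two prime divisors. -/
theorem result {G : Type*} [Group G] [Finite G]
    (M₁ M₂ : Subgroup G) (h1 : IsCoatom M₁) (h2 : IsCoatom M₂) (hne : ∀ g : G, M₂ ≠ MulAut.conj g • M₁)
    (hall : ∀ M : Subgroup G, IsCoatom M → ∃ g : G, M = MulAut.conj g • M₁ ∨ M = MulAut.conj g • M₂) :
    Group.IsSolvable G ∧ (Nat.card G).primeFactors.card = 2 := by
  have hall' : ∀ K : Subgroup G, K ≠ ⊤ → ∃ g, K ≤ H46.cj g M₁ ∨ K ≤ H46.cj g M₂ := fun K hK => by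
    obtain ⟨M, hM, hle⟩ := (eq_top_or_exists_le_coatom K).resolve_left hK
    obtain ⟨g, rfl | rfl⟩ := hall M hM
    · exact ⟨g, Or.inl hle⟩
    · exact ⟨g, Or.inr hle⟩
  have hG := aux h1 h2 (by simpa using hne 1) hall'
  obtain ⟨p, q, X, Q, hp, hq, hX, hQ, hn, e⟩ := H19.TM.two_classes h1.1 h2.1 hall' hG
  have hn' : Q ≤ H46.Nrm X := hn ▸ le_top
  have hs := H46.sol_sup hn' hX.sol hQ.sol
  have hπ := (hX.mono (ρ := {p, q}) (by simp)).sup (hQ.mono (by simp)) hn'
  rw [e] at hs hπ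
  have hc : Nat.card (⊤ : Subgroup G) = Nat.card G := Subgroup.card_top
  refine ⟨Group.isSolvable_of_surjective (f := (⊤ : Subgroup G).subtype)
    fun x => ⟨⟨x, trivial⟩, rfl⟩, Finset.card_eq_two.2 ⟨p, q, ?_, Finset.ext fun r => ?_⟩⟩
  · rintro rfl
    exact hG p hp (by simpa using hπ)
  · rw [Nat.mem_primeFactors_of_ne_zero Nat.card_pos.ne', Finset.mem_insert, Finset.mem_singleton, ← hc]
    refine ⟨fun h => hπ r h.1 h.2, ?_⟩
    rintro (rfl | rfl)
    · exact ⟨hp, by_contra fun h => hG q hq fun s hs hd =>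
        (hπ s hs hd).resolve_left fun e => h (e ▸ hd)⟩
    · exact ⟨hq, by_contra fun h => hG p hp fun s hs hd =>
        (hπ s hs hd).resolve_right fun e => h (Set.mem_singleton_iff.1 e ▸ hd)⟩

end Cfsg.Agent.S4383
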