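import Cfsg.Statements.S4390
import Cfsg.Agent.H14.NFTop
import Cfsg.Agent.H66.NFMod
import Cfsg.Agent.H26.NFKey
import Cfsg.Agent.H92.NFCore

set_option autoImplicit false
open Cfsg

namespace Cfsg.Agent.S4390

/-- Let the finite group A act faithfully on the finite group G by automorphisms, and suppose A is a Frobenius group with kernel F (a normal subgroup) and complement H such that F fixes only the identity of G; write C for the fixed-point subgroup C_G(H) (the orders of G and A need not be coprime). Then for every set of primes π the π-core of C is the intersection of C with the π-core of G: O_π(C_G(H)) = O_π(G) ∩ C_G(H). -/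
theorem result {G A : Type*} [Group G] [Finite G] [Group A] [Finite A] [MulDistribMulAction A G] [FaithfulSMul A G]
    (Fk Hc : Subgroup A) [Fk.Normal] (hHc : Cfsg.IsFrobeniusComplement Hc) (hker : Cfsg.frobeniusKernel Hc = (Fk : Set A))
    (hCF : ∀ g : G, (∀ f ∈ Fk, f • g = g) → g = 1)
    (C : Subgroup G) (hC : ∀ g : G, g ∈ C ↔ ∀ h ∈ Hc, h • g = g) (π : Set ℕ) :
    Cfsg.piCore π ↥C = (Cfsg.piCore π G).subgroupOf C := by
  exact H92.NF.row4390 H14.NF.thm (H92.NF.jobCore H66.NF.jobH1 H66.NF.jobCard H26.NF.jobKey) hHc hker hCF C hC π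

end Cfsg.Agent.S4390
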