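import Cfsg.Statements.S4402
import Cfsg.Agent.H9.DW8b
import Cfsg.Agent.H40.GH5a
import Cfsg.Agent.H14.BBal

set_option autoImplicit false
open Cfsg

namespace Cfsg.Agent.S4402

open Subgroup H9.DW8

set_option maxRecDepth 100000

attribute [local irreducible] H9.DW8.mk mulN iT

theorem sw {α : MulAut M} (h : α a ∉ V1) : α b ∈ V1 ∧ α a ∈ V2 :=
  have := (nf α).2.resolve_left fun ⟨p, k, _⟩ => h ((by decide +kernel : ∀ p x : M,
    p * x * p⁻¹ * a⁻¹ ∈ Z0 → x ∈ V1) p _ k)
  ⟨this.2.1, this.2.2.2⟩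

theorem map_V1 {α : MulAut M} (h : α a ∈ V1) {u : M} (hu : u ∈ V1) : α u ∈ V1 := by
  obtain ⟨i, j, k, l, rfl⟩ := (by decide +kernel : ∀ u ∈ V1, ∃ i j k l : Fin 2,
    u = H9.DW8.mk 2 ^ i.1 * H9.DW8.mk 16 ^ j.1 * a ^ k.1 * (t * a * t⁻¹) ^ l.1) _ hu
  have zq : ∀ x ∈ Z0, x ∈ V1 := by decide +kernel
  rw [map_mul, map_mul, map_mul, map_pow, map_pow, map_pow, map_pow, map_mul, map_mul, map_inv]
  exact mul_mem (mul_mem (mul_mem (pow_mem (zq _ (z1_mem α).1) _)
    (pow_mem (zq _ (z1_mem α).2) _)) (pow_mem h _)) (pow_mem (nV1.conj_mem _ h _) _)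

abbrev Zm : Subgroup M := sg 0x40001 (by decide +kernel)

variable {S : Type*} [Group S] [Finite S] {f : M →* S}

theorem key (hr : SectionalPRankLE 2 4 S) (hf : Function.Injective f) {x : S} {α : MulAut M}
    (hx : ∀ m, f (α m) = x * f m * x⁻¹) (h2 : x * x ∈ f.range) (h : α a ∈ V1 ∨ α b ∈ V2) :
    x ∈ f.range := by
  obtain ⟨p, hp⟩ := triv h
  by_contra c
  obtain ⟨q, hq⟩ := h2
  have e : ∀ m, f ((MulAut.conj p * α : MulAut M) m) = f p * x * f m * (f p * x)⁻¹ := fun m => by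
    rw [MulAut.mul_apply, MulAut.conj_apply, map_mul, map_mul, map_inv, hx]; group
  have e2 : f (p * α p * q) = f p * x * (f p * x) := by rw [map_mul, map_mul, hx, hq]; group
  have c2 : f p * x ∉ f.range := fun k => c ((mul_mem_cancel_left (MonoidHom.mem_range.2 ⟨p, rfl⟩)).1 k)
  generalize (MulAut.conj p * α : MulAut M) = β at hp e
  generalize f p * x = y at e e2 c2
  generalize p * α p * q = w at e2
  have zj : Z0 ≤ J := (by decide +kernel : ∀ x ∈ Z0, x ∈ J)
  have hw : w ∈ Z0 := (by decide +kernel : ∀ w : M, (∀ j ∈ J, w * j * w⁻¹ = j) → w ∈ Z0) w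
    fun j hj => hf (by
      rw [map_mul, map_mul, map_inv, e2]
      nth_rewrite 2 [← triv_sq hp hj]
      rw [e, e]; group)
  have := H40.GH.sec_ext hr (H := J.map f) (K := Z0.map f) (t := y) (map_mono zj)
    (mem_normalizer_fintype (by
      rintro _ ⟨j, hj, rfl⟩
      exact ⟨β j, (mul_mem_cancel_right (inv_mem hj)).1 (zj (hp j hj)), e j⟩))
    ⟨w, zj hw, e2⟩ (fun k => c2 (map_le_range _ _ k)) (by
      rintro _ ⟨j, hj, rfl⟩
      exact ⟨j * j, (by decide +kernel : ∀ j ∈ J, j * j ∈ Z0) j hj, map_mul _ _ _⟩) (by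
      rintro _ ⟨j, hj, rfl⟩
      refine ⟨j * (β j * j⁻¹ * j) * w, mul_mem ((by decide +kernel : ∀ j ∈ J, ∀ d ∈ Z0,
        j * (d * j) ∈ Z0) j hj _ (hp j hj)) hw, ?_⟩
      rw [inv_mul_cancel_right, map_mul, map_mul, e, e2]; group)
  rw [relIndex_map_map_of_injective _ _ hf] at this
  have k := card_mul_index (Z0.subgroupOf J)
  rw [Nat.card_congr (subgroupOfEquivOfLe zj).toEquiv, card_Z0, card_J] at k
  rw [relIndex] at this
  omega

/-- Let S be a finite 2-group of sectional 2-rank at most 4 and P a proper subgroup isomorphic to the wreath product of the dihedral group of order 8 by a group of order 2 (equivalently, to a Sylow 2-subgroup of the symmetric group of degree 8; order 128). Then Z(S) = Z(P) has order 2, P has index 2 in its normalizer N_S(P), N_S(P)/Z(S) is again isomorphic to that wreath product, and every elementary abelian subgroup V of order 16 that is normal in P satisfies N_S(V) = P. -/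
theorem result {S : Type*} [Group S] [Finite S] (h2 : IsPGroup 2 S) (hr : Cfsg.SectionalPRankLE 2 4 S)
    (P : Subgroup S) (hPlt : P ≠ ⊤) (hP : ∃ T : Sylow 2 (Equiv.Perm (Fin 8)), Nonempty (↥P ≃* ↥(T : Subgroup (Equiv.Perm (Fin 8))))) :
    Subgroup.center S = (Subgroup.center ↥P).map P.subtype ∧ Nat.card ↥(Subgroup.center S) = 2 ∧
    P.relIndex (Subgroup.normalizer (P : Set S)) = 2 ∧
    (∃ (_ : ((Subgroup.center S).subgroupOf (Subgroup.normalizer (P : Set S))).Normal) (T : Sylow 2 (Equiv.Perm (Fin 8))),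
      Nonempty (↥(Subgroup.normalizer (P : Set S)) ⧸ (Subgroup.center S).subgroupOf (Subgroup.normalizer (P : Set S)) ≃*
        ↥(T : Subgroup (Equiv.Perm (Fin 8))))) ∧
    ∀ V : Subgroup S, V ≤ P → (∀ g ∈ P, ∀ v ∈ V, g * v * g⁻¹ ∈ V) → Cfsg.IsElementaryAbelian 2 V → Nat.card ↥V = 16 →
      Subgroup.normalizer (V : Set S) = P := by
  have : Fact (Nat.Prime 2) := ⟨Nat.prime_two⟩
  obtain ⟨T, ⟨e0⟩⟩ := hP
  obtain ⟨e1⟩ := iso T
  let e := e0.trans e1
  let f : M →* S := P.subtype.comp e.symm.toMonoidHom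
  have hf : Function.Injective f := Subtype.val_injective.comp e.symm.injective
  have fe : ∀ p : P, f (e p) = p := fun p => by simp [f]
  have hR : f.range = P := le_antisymm (by rintro _ ⟨m, rfl⟩; exact (e.symm m).2)
    fun s hs => ⟨_, fe ⟨s, hs⟩⟩
  let ρ : normalizer (P : Set S) →* MulAut M :=
    (MulAut.congr e).toMonoidHom.comp P.normalizerMonoidHom
  have hρ : ∀ n m, f (ρ n m) = n * f m * (n : S)⁻¹ := fun n m => fe _
  have cP : Nat.card P = 128 := (Nat.card_congr e.toEquiv).trans card_M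
  clear_value ρ f
  have B : ∀ L : Subgroup S, P ≤ L → (∀ x : normalizer (P : Set S), x.1 ∈ L →
      ρ x a ∈ V1 ∨ ρ x b ∈ V2) → L = P := fun L h1 h3 => by
    by_contra c
    obtain ⟨x, x1, x2, x3, x4⟩ := H14.exists_step_of_lt (h2.to_subgroup L) (h1.lt_of_ne' c)
    exact x2 (hR ▸ key hr hf (hρ ⟨x, x3⟩) (by rw [hR, ← pow_two]; exact x4) (h3 _ x1))
  have nm : ∀ {W : Subgroup M} {x : normalizer (P : Set S)} {m : M},
      x.1 ∈ normalizer (W.map f : Set S) → m ∈ W → ρ x m ∈ W := fun {W x m} h k =>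
    (mem_map_iff_mem hf).1 (by rw [hρ]; exact (mem_normalizer_iff.1 h _).1 (mem_map_of_mem _ k))
  have B1 : ∀ x : normalizer (P : Set S), ρ x a ∈ V1 → x.1 ∈ P := fun x h => by
    refine (B (normalizer (V1.map f : Set S)) (hR.ge.trans (by
      rintro _ ⟨p, rfl⟩
      refine mem_normalizer_fintype ?_
      rintro _ ⟨v, hv, rfl⟩
      exact ⟨_, nV1.conj_mem v hv p, by simp⟩)) fun y hy => .inl (nm hy (by decide +kernel))).le
      (mem_normalizer_fintype ?_)
    rintro _ ⟨v, hv, rfl⟩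
    exact ⟨_, map_V1 h hv, hρ x v⟩
  have idx : P.relIndex (normalizer (P : Set S)) = 2 := by
    obtain ⟨y, -, y2, y3, -⟩ := H14.exists_step_of_lt (h2.to_subgroup ⊤) hPlt.lt_top
    refine index_eq_two_iff_exists_notMem_and.2 ⟨⟨y, y3⟩, y2, fun g => or_iff_not_imp_right.2
      fun c => mem_subgroupOf.2 (B1 _ ?_)⟩
    rw [map_mul]
    exact sw_mul (sw (mt (B1 g) c)).1 (sw (mt (B1 ⟨y, y3⟩) y2)).2
  have r1 : ∀ n : normalizer (P : Set S), n.1 ∈ center S → ρ n = 1 := fun n h =>
    MulEquiv.ext fun m => hf (by rw [hρ, ← mem_center_iff.1 h, mul_inv_cancel_right]; rfl)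
  have c1 : center S ≤ (center P).map P.subtype := fun c hc => by
    have : c ∈ P := B1 ⟨c, center_le_normalizer _ hc⟩ (by rw [r1 _ hc]; decide +kernel)
    exact ⟨⟨c, this⟩, mem_center_iff.2 fun g => Subtype.ext (mem_center_iff.1 hc g), rfl⟩
  have c2 : (center P).map P.subtype ≤ Zm.map f := by
    rintro _ ⟨p, hp, rfl⟩
    refine ⟨e p, (by decide +kernel : ∀ m : M, (∀ g, g * m = m * g) → m ∈ Zm) _ fun g => ?_, fe p⟩
    obtain ⟨g, rfl⟩ := e.surjective g
    rw [← map_mul, mem_center_iff.1 hp g, map_mul]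
  have cZ : Nat.card (Zm.map f) = 2 := by
    rw [card_map_of_injective hf, Nat.card_eq_fintype_card]; decide +kernel
  have c3 : center S = Zm.map f := by
    have : Nontrivial S := hf.nontrivial (α := Fin 128)
    have := h2.center_nontrivial
    exact eq_of_le_of_card_ge (c1.trans c2) (cZ ▸ Finite.one_lt_card)
  refine ⟨le_antisymm c1 (c3 ▸ c2), c3 ▸ cZ, idx, ⟨inferInstance, ?_⟩, fun V h3 h4 h5 h6 => ?_⟩
  · obtain ⟨ψ, hψ⟩ := exists_psi
    have k : (center S).subgroupOf (normalizer (P : Set S)) = (ψ.comp ρ).ker :=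
      le_antisymm (fun n h => by rw [MonoidHom.mem_ker, MonoidHom.comp_apply, r1 n h, map_one])
        fun n h => by
          obtain ⟨k1, k2⟩ := hψ _ h
          obtain ⟨m, hm⟩ := hR.ge (B1 n k1)
          have := k2 m (MulEquiv.ext fun j => hf (by rw [hρ, ← hm, MulAut.conj_apply, map_mul, map_mul, map_inv]))
          rw [mem_subgroupOf, c3]
          exact ⟨m, (by decide +kernel : ∀ m : M, m = 1 ∨ m = z → m ∈ Zm) m this, hm⟩
    have k1 := card_mul_index (P.subgroupOf (normalizer (P : Set S)))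
    have k2 := card_mul_index (ψ.comp ρ).ker
    rw [Nat.card_congr (subgroupOfEquivOfLe le_normalizer).toEquiv, cP, ← relIndex, idx] at k1
    rw [index_ker, ← k, Nat.card_congr (subgroupOfEquivOfLe (center_le_normalizer _)).toEquiv, c3,
      cZ] at k2
    obtain ⟨T', hT⟩ := syl (K := (ψ.comp ρ).range) (by omega)
    exact ⟨T', ⟨((QuotientGroup.quotientMulEquivOfEq k).trans
      (QuotientGroup.quotientKerEquivRange _)).trans (MulEquiv.subgroupCongr hT.symm)⟩⟩
  · have k : (V.comap f).map f = V := map_comap_eq_self (hR ▸ h3)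
    have := e16 (V := V.comap f) (fun g v hv => by
        rw [mem_comap, map_mul, map_mul, map_inv]; exact h4 _ (hR.le ⟨g, rfl⟩) _ hv)
      (fun v hv => hf (by rw [map_mul, map_one, ← pow_two]; exact h5.2 _ hv))
      (fun u hu v hv => hf (by
        have := h5.1
        rw [map_mul, map_mul]; exact setLike_mul_comm (s := V) hu hv))
      (by rw [← card_map_of_injective hf, k, h6])
    refine B _ (fun g hg => mem_normalizer_fintype (h4 g hg)) fun x hx => ?_
    rw [← k] at hx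
    rcases this with c | c <;> rw [c] at hx
    exacts [.inl (nm hx (by decide +kernel)), .inr (nm hx (by decide +kernel))]

end Cfsg.Agent.S4402
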