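import Cfsg.Statements.S4403
import Cfsg.Agent.H84.GWC2
import Cfsg.Agent.H89.AlmostSimple
import Cfsg.Agent.H3.AutP
import Cfsg.Agent.H3.NonCyclic
import Cfsg.Agent.H49.PStable
import Cfsg.Agent.H98.Norm
import Cfsg.Agent.H2.PrimeCore

set_option autoImplicit false
open Cfsg

namespace Cfsg.Agent.S4403

open Subgroup H98

theorem aut_cyc {V : Type*} [Group V] [Finite V] {p : ℕ} [hp : Fact p.Prime] [IsCyclic V]
    (h : ∀ x : V, x ^ p = 1) : IsCyclic (MulAut V) ∧ Nat.card (MulAut V) ∣ p - 1 := by
  have hd : Nat.card V ∣ p := by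
    rw [← IsCyclic.exponent_eq_card]
    exact Monoid.exponent_dvd_of_forall_pow_eq_one h
  rw [IsCyclic.card_mulAut]
  have e := IsCyclic.mulAutMulEquiv V
  rcases (Nat.dvd_prime hp.out).1 hd with h1 | h1 <;> rw [h1] at e ⊢
  · exact ⟨isCyclic_of_surjective e.symm.toMonoidHom e.symm.surjective, by simp⟩
  · haveI := ZMod.isCyclic_units_prime hp.out
    exact ⟨isCyclic_of_surjective e.symm.toMonoidHom e.symm.surjective, by rw [Nat.totient_prime hp.out]⟩

theorem normal_case {K : Type*} [Group K] [Finite K] (p : ℕ) [hp : Fact p.Prime] (hO : Cfsg.pPrimeCore p K = ⊥)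
    (P : Sylow p K) (hP : IsCyclic ↥(P : Subgroup K)) [hn : (P : Subgroup K).Normal] :
    Subgroup.centralizer ((P : Subgroup K) : Set K) = (P : Subgroup K) ∧
      IsCyclic (K ⧸ (P : Subgroup K)) ∧ (P : Subgroup K).index ∣ p - 1 := by
  have hPC : (P : Subgroup K) ≤ centralizer ((P : Subgroup K) : Set K) := by
    haveI : IsMulCommutative (P : Subgroup K) := inferInstance
    exact le_centralizer _
  have hC : centralizer ((P : Subgroup K) : Set K) = (P : Subgroup K) := by
    set C := centralizer ((P : Subgroup K) : Set K) with hC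
    obtain ⟨R, hR⟩ := (isSyl_sylow_of_le P hPC).exists_sylow
    have hcop : (Nat.card ((P : Subgroup K).subgroupOf C)).Coprime ((P : Subgroup K).subgroupOf C).index := by
      rw [← hR]; exact R.card_coprime_index
    obtain ⟨H, hH⟩ := exists_right_complement'_of_coprime hcop
    haveI : H.Normal := H3.normal_of_isComplement'_of_le_centralizer hH fun x hx y _ =>
      Subtype.ext (y.2 x.1 hx).symm
    have h1 : H ≤ pPrimeCore p C := H2.le_pPrimeCore_of_not_dvd (by
      rw [← hH.symm.index_eq_card, ← hR]
      exact R.not_dvd_index)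
    rw [H2.pPrimeCore_eq_subgroupOf, hO, bot_subgroupOf, le_bot_iff] at h1
    rw [h1, isComplement'_bot_right, subgroupOf_eq_top] at hH
    exact le_antisymm hH hPC
  let f : K →* MulAut ((P : Subgroup K) ⧸ frattini (P : Subgroup K)) :=
    (H3.frattiniAut (P : Subgroup K)).comp MulAut.conjNormal
  have cn : ∀ g : K, (MulAut.conjNormal g : MulAut (P : Subgroup K)) = 1 ↔ g ∈ (P : Subgroup K) := fun g => by
    conv_rhs => rw [← hC]
    constructor
    · intro h x hx
      have := congrArg (fun σ : MulAut (P : Subgroup K) => (σ ⟨x, hx⟩ : K)) h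
      simp only [MulAut.conjNormal_apply, MulAut.one_apply] at this
      rw [mul_inv_eq_iff_eq_mul] at this
      exact this.symm
    · intro h
      ext x
      simp only [MulAut.conjNormal_apply, MulAut.one_apply]
      rw [mul_inv_eq_iff_eq_mul]
      exact (h x x.2).symm
  have hk : f.ker = (P : Subgroup K) := by
    ext g
    constructor
    · intro h
      obtain ⟨k, hk⟩ := isPGroup_iff_forall.1 (H3.isPGroup_ker_frattiniAut P.isPGroup') (MulAut.conjNormal g) h
      rw [← map_pow, cn] at hk
      obtain ⟨j, hj⟩ := isPGroup_iff_forall.1 P.isPGroup' _ hk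
      rw [← pow_mul, ← pow_add] at hj
      exact zpowers_le.1 ((isSyl_sylow P).le_of_le_normalizer' (isPGroup_zpowers hj) le_top
        le_normalizer_of_normal)
    · intro h
      show H3.frattiniAut _ (MulAut.conjNormal g) = 1
      rw [(cn g).2 h, map_one]
  haveI : IsCyclic ((P : Subgroup K) ⧸ frattini (P : Subgroup K)) :=
    isCyclic_of_surjective _ (QuotientGroup.mk'_surjective _)
  obtain ⟨h1, h2⟩ := aut_cyc (H49.isEA_quotient_frattini P.isPGroup').pow
  have e := (QuotientGroup.quotientMulEquivOfEq hk.symm).trans (QuotientGroup.quotientKerEquivRange f)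
  refine ⟨hC, isCyclic_of_surjective e.symm.toMonoidHom e.symm.surjective, ?_⟩
  rw [index, Nat.card_congr e.toEquiv]
  exact (card_subgroup_dvd_card _).trans h2

/-- Let K be a finite group, p a prime dividing its order with O_{p'}(K) = 1 (no nontrivial normal subgroup of order prime to p), and P a cyclic Sylow p-subgroup of K. Then either P is normal and self-centralizing in K with K/P cyclic of order dividing p − 1 (so K is the semidirect product of P by a group of automorphisms of P of order dividing p − 1), or the generalized Fitting subgroup F*(K) is a non-abelian simple group and p does not divide the index of F*(K) in K. -/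
theorem result {K : Type*} [Group K] [Finite K] (p : ℕ) [Fact p.Prime] (hp : p ∣ Nat.card K) (hO : Cfsg.pPrimeCore p K = ⊥)
    (P : Sylow p K) (hP : IsCyclic ↥(P : Subgroup K)) :
    ((P : Subgroup K).Normal ∧ Subgroup.centralizer ((P : Subgroup K) : Set K) = (P : Subgroup K) ∧
      (∀ (_ : (P : Subgroup K).Normal), IsCyclic (K ⧸ (P : Subgroup K))) ∧ (P : Subgroup K).index ∣ p - 1) ∨
    (IsSimpleGroup ↥(Cfsg.generalizedFittingSubgroup K) ∧ ¬ IsMulCommutative ↥(Cfsg.generalizedFittingSubgroup K) ∧
      ¬ p ∣ (Cfsg.generalizedFittingSubgroup K).index) := by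
  set L := pElementClosure p (⊤ : Subgroup K) with hL
  haveI hLn : L.Normal := normal_of_top_le_normalizer (le_normalizer_pcl le_normalizer)
  have hPL : (P : Subgroup K) ≤ L := le_pcl P.isPGroup' le_top
  obtain ⟨R, hR⟩ := (isSyl_sylow_of_le P hPL).exists_sylow
  have hRc : IsCyclic (R : Subgroup L) := by
    rw [hR]
    exact isCyclic_of_surjective (subgroupOfEquivOfLe hPL).symm.toMonoidHom (subgroupOfEquivOfLe hPL).symm.surjective
  have h1 : pElementClosure p (⊤ : Subgroup L) = ⊤ := by
    apply map_injective L.subtype_injective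
    rw [map_subtype_top]
    refine le_antisymm (map_subtype_le _) (pcl_le_of_forall fun x _ k hk => ?_)
    have hx : x ∈ L := mem_pcl Fact.out (mem_top x) hk
    exact ⟨⟨x, hx⟩, mem_pcl Fact.out (mem_top _) (k := k) (Subtype.ext hk), rfl⟩
  have h2 : pPrimeCore p L = ⊥ := by rw [H2.pPrimeCore_eq_subgroupOf, hO, bot_subgroupOf]
  rcases H84.GWC.cyclic_dichotomy h1 h2 R hRc with h | ⟨-, -, hs, hc⟩
  · have e : L = P := (isSyl_sylow P).eq_of_le h hPL le_top
    haveI hn : (P : Subgroup K).Normal := e ▸ hLn
    obtain ⟨a, b, c⟩ := normal_case p hO P hP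
    exact Or.inl ⟨hn, a, fun _ => b, c⟩
  · right
    have hZ : L ⊓ centralizer (L : Set K) = ⊥ := by
      rw [← map_subtype_center, map_eq_bot_iff_of_injective _ L.subtype_injective]
      refine (hs.eq_bot_or_eq_top_of_normal _ inferInstance).resolve_right fun e => hc ⟨⟨fun a b => ?_⟩⟩
      exact mem_center_iff.1 (e ▸ mem_top b) a
    have hC : centralizer (L : Set K) = ⊥ := by
      rw [eq_bot_iff, ← hO]
      refine H2.le_pPrimeCore_of_not_dvd fun hd => ?_
      obtain ⟨⟨x, hx⟩, ox⟩ := exists_prime_orderOf_dvd_card' p hd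
      rw [orderOf_mk] at ox
      have : x ∈ L ⊓ centralizer (L : Set K) :=
        ⟨mem_pcl Fact.out (mem_top x) (k := 1) (by rw [pow_one, ← ox, pow_orderOf_eq_one]), hx⟩
      rw [hZ, mem_bot] at this
      rw [this, orderOf_one] at ox
      exact (Fact.out : p.Prime).one_lt.ne ox
    rw [H89.fstar_eq_of_simple L hc hC]
    exact ⟨hs, hc, fun hd => P.not_dvd_index (hd.trans (index_dvd_of_le hPL))⟩

end Cfsg.Agent.S4403
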