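import Cfsg.Statements.S4405
import Cfsg.Agent.Base
import Cfsg.Agent.H83.XS32
import Cfsg.Agent.H2.MinNormal
import Cfsg.Agent.H29.Burnside

set_option autoImplicit false
open Cfsg

namespace Cfsg.Agent.S4405

open H83.W2

/-- Let G be a finite group of order 320 = 64·5 whose largest normal 2-subgroup H = O₂(G) equals the Fitting subgroup F(G) and is extraspecial of order 32 containing no elementary abelian subgroup of order 8 (so H is the central product of a quaternion group and a dihedral group of order 8). If T is an involution of G outside H whose centralizer in H contains an elementary abelian subgroup of order 4, then C_H(T) itself is elementary abelian of order 4. -/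
theorem result {G : Type*} [Group G] [Finite G]
    (hG : Nat.card G = 320) (hHF : Cfsg.pCore 2 G = Cfsg.fittingSubgroup G)
    (hex : Cfsg.IsExtraspecial 2 ↥(Cfsg.pCore 2 G)) (h32 : Nat.card ↥(Cfsg.pCore 2 G) = 32)
    (hminus : ∀ A : Subgroup G, A ≤ Cfsg.pCore 2 G → Cfsg.IsElementaryAbelian 2 A → Nat.card ↥A ≤ 4)
    (T : G) (hT : orderOf T = 2) (hTH : T ∉ Cfsg.pCore 2 G)
    (V : Subgroup G) (hV : V ≤ Cfsg.pCore 2 G ⊓ Subgroup.centralizer ({T} : Set G)) (hV4 : Nat.card ↥V = 4) (hVe : Cfsg.IsElementaryAbelian 2 V) :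
    Nat.card ↥(Cfsg.pCore 2 G ⊓ Subgroup.centralizer ({T} : Set G)) = 4 ∧
      Cfsg.IsElementaryAbelian 2 (Cfsg.pCore 2 G ⊓ Subgroup.centralizer ({T} : Set G)) := by
  have : Fact (Nat.Prime 5) := ⟨Nat.prime_five⟩
  have : Group.IsSolvable G := H29.isSolvable_of_card_dvd_pow_mul_pow Nat.prime_two Nat.prime_five
    (a := 6) (b := 1) (by rw [hG]; norm_num)
  obtain ⟨z, h⟩ := H78.exists_XS hex
  obtain ⟨ε, ⟨M⟩⟩ := exists_cd h h32
  cases ε
  · exact (M.not_plus hminus).elim
  have hn : (pCore 2 G).Normal := inferInstance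
  obtain ⟨ρ, hρ⟩ := M.exists_hom (MulAut.conj : G →* MulAut G) fun a x hx => hn.conj_mem x hx a
  simp only [MulAut.conj_apply] at hρ
  have hk : ∀ g, ρ g = 1 ↔ g ∈ pCore 2 G := fun g => ⟨fun e => by
      obtain ⟨c, hc, k⟩ := M.inner_of (MulAut.conj g) (fun x hx => hn.conj_mem x hx g)
        fun x hx => by rw [MulAut.conj_apply, ← hρ g x hx, e, act_one]
      refine (mul_mem_cancel_left (inv_mem hc)).1 (hHF ▸ H2.centralizer_fitting_le G ?_)
      intro x hx
      have := k x (hHF ▸ hx)
      rw [MulAut.conj_apply] at this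
      calc x * (c⁻¹ * g) = c⁻¹ * (c * x * c⁻¹) * g := by group
        _ = _ := by rw [← this]; group,
    fun hg => M.X_ext fun x hx => by rw [hρ g x hx, act_one, M.π_conj hg hx]⟩
  have T2 : T * T = 1 := H78.mul_self_of_orderOf_two hT
  have hty : ty (ρ T) = 2 ∨ ty (ρ T) = 3 := by
    rcases (ty_inv (ρ T)).1 (by rw [← map_mul, T2, map_one]) with e | e | e
    · exact absurd ((hk T).1 ((ty_zero _).1 e)) hTH
    · obtain ⟨g, hg⟩ := exists_prime_orderOf_dvd_card' (G := G) 5 (by rw [hG]; norm_num)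
      have hi : (pCore 2 G).index = 10 := by
        have := (pCore 2 G).card_mul_index
        rw [h32, hG] at this
        omega
      refine (tv_five _ e (ρ g) ?_ (fun e => ?_) _ rfl ?_).elim
      · have := congrArg ρ (hg ▸ pow_orderOf_eq_one g)
        simpa only [map_pow, map_one, pow_succ, pow_zero, one_mul, mul_assoc, map_mul] using this
      · have := Subgroup.orderOf_dvd_natCard _ ((hk g).1 e)
        rw [hg, h32] at this
        omega
      · have := (hk _).2 (hi ▸ (pCore 2 G).pow_index_mem (T * g))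
        simpa only [map_pow, map_one, pow_succ, pow_zero, one_mul, mul_assoc, map_mul] using this
    · exact e
  have sq1 : ∀ y ∈ pCore 2 G ⊓ Subgroup.centralizer ({T} : Set G), y * y = 1 := fun y hy => by
    have c := Subgroup.mem_centralizer_singleton_iff.1 hy.2
    have c' : T * y * T⁻¹ = y := mul_inv_eq_iff_eq_mul.2 c.symm
    obtain ⟨v, hv⟩ := ac_fix _ hty (M.π y) (by rw [hρ T y hy.1, c'])
    obtain ⟨x, hx, rfl⟩ := M.surj v
    have m := hn.conj_mem x hx T
    rw [hρ T x hx, ← M.π_inv hx, ← M.π_mul m (inv_mem hx)] at hv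
    have i := H78.inv_eq_of_mul_self T2
    have k : ∀ w, T * w = w * T → w * w = 1 → w * y = y * w → T * x * T⁻¹ * x⁻¹ = y * w →
        y * y = 1 := fun w h1 h2 h3 e => by
      have e1 : T * (y * w) * T⁻¹ = y * w := by
        rw [← mul_assoc, ← c, mul_assoc y, h1, ← mul_assoc, mul_inv_cancel_right]
      have e2 : y * w * (y * w) = 1 := by
        nth_rw 1 [← e1]
        rw [← e, i]
        calc _ = T * T * x * (T * x⁻¹ * (T * T) * x * T) * x⁻¹ := by simp only [mul_assoc]
          _ = 1 := by rw [T2]; simp [T2]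
      rwa [mul_assoc, ← mul_assoc w, h3, mul_assoc, h2, mul_one] at e2
    rcases M.π_eq (mul_mem m (inv_mem hx)) hy.1 hv with e | e
    · exact k 1 (by simp) (by simp) (by simp) (by rw [e, mul_one])
    · refine k z ?_ h.z_sq (h.z_comm y hy.1) e
      have := (M.π_eq_zero (hn.conj_mem z h.z_mem T)).1 (by rw [← hρ T z h.z_mem, M.π_z, act_zero])
      exact mul_inv_eq_iff_eq_mul.1 (this.resolve_left (by simpa using h.z_ne))
  have he : IsElementaryAbelian 2 (pCore 2 G ⊓ Subgroup.centralizer ({T} : Set G)) :=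
    ⟨⟨⟨fun x y => Subtype.ext (by
      have := H78.inv_eq_of_mul_self (sq1 _ (mul_mem x.2 y.2))
      rw [mul_inv_rev, H78.inv_eq_of_mul_self (sq1 _ x.2), H78.inv_eq_of_mul_self (sq1 _ y.2)]
        at this
      exact this.symm)⟩⟩, fun a ha => by rw [sq, sq1 a ha]⟩
  exact ⟨le_antisymm (hminus _ inf_le_left he) (hV4 ▸ Subgroup.card_le_of_le hV), he⟩

end Cfsg.Agent.S4405
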