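import Cfsg.Statements.S4413
import Cfsg.Agent.Base
import Cfsg.Agent.H83.XS32

set_option autoImplicit false
open Cfsg

namespace Cfsg.Agent.S4413

open H83.W2

/-- Let P be an extraspecial 2-group of order 32 with no elementary abelian subgroup of order 8 (the central product of a dihedral and a quaternion group of order 8). Then the inner automorphism group of P has order 16 and the outer automorphism group Aut(P)/Inn(P) is isomorphic to the symmetric group of degree 5; in particular Aut(P) has order 1920. -/
theorem result {P : Type*} [Group P] [Finite P]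
    (hex : Cfsg.IsExtraspecial 2 P) (h32 : Nat.card P = 32)
    (hminus : ∀ A : Subgroup P, Cfsg.IsElementaryAbelian 2 A → Nat.card ↥A ≤ 4)
    [(MulAut.conj : P →* MulAut P).range.Normal] :
    Nat.card ↥(MulAut.conj : P →* MulAut P).range = 16 ∧ Nat.card (MulAut P) = 1920 ∧
      Nonempty ((MulAut P ⧸ (MulAut.conj : P →* MulAut P).range) ≃* Equiv.Perm (Fin 5)) := by
  obtain ⟨z, h⟩ := H78.exists_XS_top hex
  obtain ⟨ε, ⟨M⟩⟩ := exists_cd h (by rw [Subgroup.card_top, h32])
  cases ε
  · exact (M.not_plus fun A _ => hminus A).elim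
  obtain ⟨ρ, hρ⟩ := M.exists_hom (MonoidHom.id (MulAut P)) fun _ _ _ => trivial
  have hs := M.surj_aut fun a x => hρ a x trivial
  have hk : (MulAut.conj : P →* MulAut P).range = ρ.ker := by
    ext φ
    constructor
    · rintro ⟨c, rfl⟩
      exact M.X_ext fun x hx => by
        rw [hρ _ x hx, act_one]
        exact M.π_conj trivial hx
    · intro hφ
      obtain ⟨c, -, hc⟩ := M.inner_of φ (fun _ _ => trivial) fun x hx => by
        have := hρ φ x hx
        rwa [MonoidHom.mem_ker.1 hφ, act_one, eq_comm] at this
      exact ⟨c, MulEquiv.ext fun x => (hc x trivial).symm⟩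
  have h16 : Nat.card ↥(MulAut.conj : P →* MulAut P).range = 16 := by
    have h1 := (MulAut.conj : P →* MulAut P).ker.card_mul_index
    have h2 : (MulAut.conj : P →* MulAut P).ker = Subgroup.zpowers z := by
      ext x
      rw [H78.mem_zpowers_invol h.z_sq, MonoidHom.mem_ker]
      constructor
      · intro e
        exact h.center x trivial fun y _ => mul_inv_eq_iff_eq_mul.1 (MulEquiv.ext_iff.1 e y)
      · rintro (rfl | rfl)
        · exact map_one _
        · exact MulEquiv.ext fun y => mul_inv_eq_iff_eq_mul.2 (h.z_comm y trivial)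
    rw [Subgroup.index_ker, h2, Nat.card_zpowers, h.orderOf_z, h32] at h1
    omega
  refine ⟨h16, ?_, ⟨(QuotientGroup.quotientMulEquivOfEq hk).trans
    ((QuotientGroup.quotientKerEquivOfSurjective ρ (MonoidHom.range_eq_top.1 hs)).trans
      (MulEquiv.ofBijective pm pm_bijective))⟩⟩
  rw [← ρ.ker.card_mul_index, Subgroup.index_ker, hs, Subgroup.card_top, X.card, ← hk, h16]
  rfl

end Cfsg.Agent.S4413
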