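import Cfsg.Statements.S4419
import Cfsg.Agent.H8.AutRank
import Cfsg.Agent.H2.PrimeCore

set_option autoImplicit false
open Cfsg

namespace Cfsg.Agent.S4419

/-- Let p be a prime and G a finite group whose Sylow p-subgroups are metacyclic (a cyclic normal subgroup with cyclic quotient). Then G has a normal p-complement if and only if the order of G/O_{p′,p}(G) is coprime to p² − 1. -/
theorem result {G : Type*} [Group G] [Finite G] (p : ℕ) [Fact p.Prime] (S : Sylow p G) (hS : Cfsg.IsMetacyclic ↥(S : Subgroup G)) : Cfsg.HasNormalPComplement p G ↔ Nat.Coprime (Nat.card (G ⧸ Cfsg.pPrimePCore p G)) (p ^ 2 - 1) := by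
  have hp : p.Prime := Fact.out
  have hidx : Nat.card (G ⧸ Cfsg.pPrimePCore p G) =
      (Cfsg.pCore p (G ⧸ Cfsg.pPrimeCore p G)).index :=
    Subgroup.index_comap_of_surjective _ (QuotientGroup.mk'_surjective _)
  rw [hidx]
  constructor
  · intro h
    obtain ⟨N, hN, h1, h2⟩ := H7.hasNPC_iff_exists.mp h
    have h3 : N ≤ Cfsg.pPrimeCore p G := H2.le_pPrimeCore_of_not_dvd h1
    have h4 : IsPGroup p (G ⧸ Cfsg.pPrimeCore p G) :=
      H7.isPGroup_quotient_of_pResidual_le ((H7.pResidual_le_of_isPGroup_quotient h2).trans h3)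
    have h5 : Cfsg.pCore p (G ⧸ Cfsg.pPrimeCore p G) = ⊤ :=
      top_le_iff.mp (H2.le_pCore (h4.to_subgroup ⊤))
    rw [h5, Subgroup.index_top]
    exact Nat.coprime_one_left _
  · intro h
    apply H7.hasNPC_of_quotient_not_dvd _ (H2.not_dvd_card_pPrimeCore p G)
    let f := QuotientGroup.mk' (Cfsg.pPrimeCore p G)
    refine H8.hasNPC_of_isMetacyclic (S.mapSurjective (QuotientGroup.mk'_surjective _)) ?_ ?_
    · exact H19.isMetacyclic_of_surjective hS (f.subgroupMap S) (f.subgroupMap_surjective S)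
    · rw [← (Cfsg.pCore p (G ⧸ Cfsg.pPrimeCore p G)).card_mul_index]
      refine Nat.Coprime.mul_left ?_ h
      obtain ⟨k, hk⟩ := IsPGroup.iff_card.mp (H2.pCore_isPGroup p (G ⧸ Cfsg.pPrimeCore p G))
      rw [hk]
      apply Nat.Coprime.pow_left
      have h1 : 1 ≤ p ^ 2 := Nat.one_le_pow _ _ hp.pos
      rw [hp.coprime_iff_not_dvd]
      intro h2
      have h3 : p ∣ p ^ 2 := dvd_pow_self p two_ne_zero
      have := (Nat.dvd_sub h3 h2)
      rw [Nat.sub_sub_self h1] at this
      exact hp.not_dvd_one this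

end Cfsg.Agent.S4419
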