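import Cfsg.Statements.S4535
import Cfsg.Agent.H40.AnBlock
import Cfsg.Agent.S4733
import Cfsg.Agent.S4698
import Cfsg.Agent.S4528

set_option autoImplicit false
open Cfsg

namespace Cfsg.Agent.S4535

theorem sq_four : ∀ x : Multiplicative (ZMod 2 × ZMod 2), x ^ 2 = 1 := by decide

/-- Let B be a p-block of a finite alternating group (relative to a maximal ideal M of the algebraic integers containing p) with a nontrivial defect group D all of whose sections have p-rank at most s. Then the p-regular rank of B is less than p ^ s. -/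
theorem result (n : ℕ) (p : ℕ) [Fact p.Prime] (M : Ideal Cfsg.AlgInt) (hM : Cfsg.IsPModular p M) (B : Set (Cfsg.IrrCharacter (alternatingGroup (Fin n)))) (hB : Cfsg.IsPBlock M B) (D : Subgroup (alternatingGroup (Fin n))) (hD : Cfsg.IsDefectGroup p M B D) (hD1 : D ≠ ⊥) (s : ℕ) (hs : Cfsg.SectionalPRankLE p s D) : Cfsg.blockRank p B < p ^ s := by
  classical
  have := hM.2.1
  have hp : p.Prime := Fact.out
  obtain ⟨B', χ, r, δ, m, w, γ, P, hB', hc, hχ, h, hγ, ⟨e⟩⟩ := H40.An.setup hM hB hD le_rfl
  have hcard := H36.card_of_isDefectGroup hM hB hD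
  have hd0 : blockDefect p B ≠ 0 := fun h0 => hD1 (Subgroup.card_eq_one.1 (by rw [hcard, h0, pow_zero]))
  have hw : 1 ≤ w := by
    by_contra hw
    obtain rfl : w = 0 := by omega
    have : Subsingleton (Equiv.Perm (Fin (p * 0))) := inferInstanceAs (Subsingleton (Equiv.Perm (Fin 0)))
    have : Subsingleton D := e.injective.subsingleton
    exact hD1 (Subgroup.eq_bot_of_subsingleton D)
  have hpw : 2 ≤ p * w := hp.two_le.trans (Nat.le_mul_of_pos_right _ hw)
  have : Nontrivial (Fin n) := Fin.nontrivial_iff_two_le.2 (by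
    have := h.card; rw [Fintype.card_fin] at this; omega)
  have : Nontrivial (Fin (p * w)) := Fin.nontrivial_iff_two_le.2 hpw
  have h1 := (H40.An.blockRank_le_two_mul hM alternatingGroup.index_eq_two hB' hB hc).trans
    (Nat.mul_le_mul_left 2 (h.blockRank_le hM hB' hχ hγ 0))
  have hC : (Finset.univ.erase (0 : Fin p)).card + 1 = p := by
    rw [Finset.card_erase_add_one (Finset.mem_univ _), Finset.card_univ, Fintype.card_fin]
  have h2 : blockDefect p B ≤ 2 → blockRank p B < p ^ blockDefect p B := fun hd => by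
    obtain ⟨a1, -, a2⟩ := Cfsg.Agent.S4733.result p M hM B hB
    exact (lt_of_le_of_ne a1 fun e => hd0 (a2.2 e.symm)).trans_le
      ((Cfsg.Agent.S4698.result p M hM B hB _ rfl).1 hd)
  have h3 : ∀ {A : Type} [CommGroup A] (g : A →* _), Function.Injective g → (∀ a : A, a ^ p = 1) →
      Nat.card A ≤ p ^ s := fun g hg hA => by
    simpa using H3.pRankLE_of_sectionalPRankLE (H3.sectionalPRankLE_of_injective hs
      (e.symm.toMonoidHom.comp g) (e.symm.injective.comp hg)) ⊤ inferInstance fun a _ => hA a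
  rw [Nat.card_congr e.toEquiv] at hcard
  by_cases hp2 : p = 2
  · subst hp2
    obtain ⟨g, hg⟩ := H40.An.exists_emb_two P
    have h4 := h3 g hg fun a => funext fun i => sq_four (a i)
    rw [Nat.card_fun, Nat.card_eq_fintype_card, Nat.card_eq_fintype_card, Fintype.card_fin,
      show Fintype.card (Multiplicative (ZMod 2 × ZMod 2)) = 2 ^ 2 from rfl, ← pow_mul] at h4
    refine lt_of_lt_of_le ?_ h4
    have h5 := H40.An.card_inf_dvd P
    rw [hcard, Fintype.card_fin, ← pow_succ'] at h5
    rcases (by omega : w = 1 ∨ w = 2 ∨ w = 3 ∨ w = 4 ∨ 5 ≤ w) with rfl | rfl | rfl | rfl | h6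
    · exact absurd ((pow_dvd_pow 2 (by omega : 2 ≤ _)).trans h5) (by decide)
    · have h7 : blockDefect 2 B ≤ 2 := by
        by_contra h7
        exact absurd ((pow_dvd_pow 2 (by omega : 4 ≤ _)).trans h5) (by decide)
      exact (h2 h7).trans_le (Nat.pow_le_pow_right two_pos h7)
    · obtain ⟨e'⟩ := H40.An.equiv_dih P
      exact Nat.lt_succ_of_le (Cfsg.Agent.S4528.result M hM B hB D hD 3 le_rfl ⟨e.trans e'⟩).2.2.1
    · have := H40.Sn.two_mul_ncard_CP_lt (Finset.univ.erase (0 : Fin 2)) (w := 4) (by omega)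
      rw [hC] at this
      exact h1.trans_lt this
    · have h7 := H40.An.four_mul_ncard_CP_lt (C := Finset.univ.erase (0 : Fin 2)) (by omega) h6
      have h8 := Nat.pow_le_pow_right two_pos (by omega : w ≤ 2 * (w / 2) + 1)
      rw [pow_succ] at h8
      omega
  obtain ⟨g, hg⟩ := H40.An.exists_emb_odd hp2 P
  have h4 := h3 g hg fun a => funext fun i => by
    rw [Pi.pow_apply, ← ofAdd_toAdd (a i), ← ofAdd_nsmul]; simp
  rw [Nat.card_fun, Nat.card_eq_fintype_card, Nat.card_eq_fintype_card, Fintype.card_fin,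
    Fintype.card_multiplicative, ZMod.card] at h4
  refine lt_of_lt_of_le ?_ h4
  by_cases h6 : 3 ≤ w
  · have := H40.Sn.two_mul_ncard_CP_lt (Finset.univ.erase (0 : Fin p)) h6
    rw [hC] at this
    exact h1.trans_lt this
  · have h7 := hp.two_le
    rw [H40.An.inf_eq_of_odd hp2, H40.An.card_sylow, H40.An.nu_factorial_of_lt (by omega),
      zero_add] at hcard
    rw [hcard]
    exact h2 (by have := Nat.pow_right_injective h7 hcard; omega)

end Cfsg.Agent.S4535
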