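import Cfsg.Statements.S4562
import Cfsg.Agent.H68.Gag2
import Cfsg.Agent.H68.Gag3
import Cfsg.Agent.H11.QTC0
import Cfsg.Agent.H24.KT
import Cfsg.Agent.H24.J1Ord
import Cfsg.Agent.H30.ReeInst
import Cfsg.Agent.H30.ReeCent
import Cfsg.Agent.H52.ReeBr
import Cfsg.Agent.H61.DicksonField
import Cfsg.Agent.S0262
import Cfsg.Agent.S0483
import Cfsg.Agent.S0516
import Cfsg.Agent.S1248

set_option autoImplicit false
open Cfsg

namespace Cfsg.Agent.S4562

open H68.Gag

/-- the numerical condition for primes with cyclic Sylow subgroups -/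
def Num (S : Type*) [Group S] : Prop := ∀ (p : ℕ) [Fact p.Prime], Cyc p S → p ∣ Nat.card S →
  Nat.card S ∣ p * ((p - 1) * (p ^ 2 - 1) * (p ^ 3 - 1))

theorem mod_eq_one {n m : ℕ} (hm : m ≠ 0) (h : ∀ s, s.Prime → s ∣ m → s ≡ 1 [MOD n]) : m ≡ 1 [MOD n] := by
  induction m using Nat.recOnMul with
  | zero => exact absurd rfl hm
  | one => rfl
  | prime p hp => exact h p hp dvd_rfl
  | mul a b ha hb =>
    exact (ha (left_ne_zero_of_mul hm) fun s hs h' => h s hs (h'.mul_right b)).mul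
      (hb (right_ne_zero_of_mul hm) fun s hs h' => h s hs (h'.mul_left a))

theorem three_dvd {f k : ℕ} (h : 3 ^ f ∣ (k + 1) * ((k + 1 - 1) * ((k + 1) ^ 2 - 1) * ((k + 1) ^ 3 - 1))) :
    3 ^ f ∣ (k + 1) * k ^ 3 * (k ^ 2 + 3 * k + 3) * (k + 2) := by
  rw [show (k + 1) ^ 2 - 1 = k * (k + 2) by rw [Nat.sub_eq_iff_eq_add (Nat.one_le_pow _ _ (by omega))]; ring,
    show (k + 1) ^ 3 - 1 = k * (k ^ 2 + 3 * k + 3) by
      rw [Nat.sub_eq_iff_eq_add (Nat.one_le_pow _ _ (by omega))]; ring, Nat.add_sub_cancel] at h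
  exact h.trans (Dvd.intro 1 (by ring))

theorem not_l2 {S F : Type*} [Group S] [Finite S] [Field F] [Fintype F] (h3 : 3 < Fintype.card F)
    (e : S ≃* Matrix.ProjectiveSpecialLinearGroup (Fin 2) F) (h : Num S) : False := by
  obtain ⟨r, hr, f, hr', hq⟩ := FiniteField.card' F
  have := Fact.mk hr'
  have hc := H61.gcd_mul_card_psl_two (k := F)
  rw [← Nat.card_congr e.toEquiv, Nat.card_eq_fintype_card (α := F)] at hc
  have hd : ∀ {a : ℕ}, Odd a → a ∣ Fintype.card F * (Fintype.card F ^ 2 - 1) → a ∣ Nat.card S :=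
    fun ha h => ((Nat.coprime_two_right.2 ha).coprime_dvd_right (Nat.gcd_dvd_left _ _)).dvd_of_dvd_mul_left
      (hc ▸ h)
  have key : ∀ s : ℕ, s.Prime → s ≠ 2 → s ≠ r → s ∣ Fintype.card F * (Fintype.card F ^ 2 - 1) →
      Nat.card S ∣ s * ((s - 1) * (s ^ 2 - 1) * (s ^ 3 - 1)) := fun s hs h2 hsr hsd =>
    have := Fact.mk hs
    h s (((Cyc.of_sylow (S0262.result r s h2 hsr)).of_surj (QuotientGroup.mk'_surjective _)).of_surj
      (f := e.symm.toMonoidHom) e.symm.surjective) (hd (hs.odd_of_ne_two h2) hsd)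
  have hsq : Fintype.card F ^ 2 - 1 = (Fintype.card F + 1) * (Fintype.card F - 1) :=
    Nat.sq_sub_sq _ 1
  by_cases h33 : r = 3
  swap
  · have h1 := key 3 Nat.prime_three (by omega) (Ne.symm h33) (by
      rw [hsq]
      obtain h | h | h : 3 ∣ Fintype.card F ∨ 3 ∣ Fintype.card F + 1 ∨ 3 ∣ Fintype.card F - 1 := by omega
      exacts [h.mul_right _, (h.mul_right _).mul_left _, (h.mul_left _).mul_left _])
    obtain ⟨c, hc'⟩ : ∃ c, Nat.card S = c := ⟨_, rfl⟩
    obtain ⟨q, hq'⟩ : ∃ q, Fintype.card F = q := ⟨_, rfl⟩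
    rw [hc'] at h1 hc
    rw [hq'] at hc h3 hsq
    norm_num at h1
    have h2 := Nat.mul_le_mul (Nat.gcd_le_left (q - 1) two_pos) (Nat.le_of_dvd (by norm_num) h1)
    have h5 : q ≤ 13 := by
      by_contra h5
      obtain ⟨t, rfl⟩ : ∃ t, q = t + 14 := ⟨q - 14, by omega⟩
      rw [hc, hsq, show t + 14 - 1 = t + 13 from rfl] at h2
      have : 14 * (15 * 13) ≤ (t + 14) * ((t + 14 + 1) * (t + 13)) := by gcongr <;> omega
      omega
    have h6 := mul_dvd_mul_left (Nat.gcd 2 (q - 1)) h1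
    rw [hc] at h6
    clear hq' hsq hc h2
    interval_cases q <;> norm_num at h6
  subst h33
  have hodd : Odd (Fintype.card F) := hq ▸ Odd.pow (by decide)
  have h1 : ∀ s, s.Prime → s ≠ 2 → s ∣ 3 ^ (f : ℕ) + 1 → s ≡ 1 [MOD 3] ∧ (5 ≤ (f : ℕ) → s ≡ 1 [MOD 9]) := by
    intro s hs h2 hsd
    have h0 : (3 : ℕ) ∣ 3 ^ (f : ℕ) := dvd_pow_self 3 f.ne_zero
    have hs3 : ¬ 3 ∣ s := fun h => by have := h.trans hsd; omega
    have h4 := (hd hodd (Dvd.intro _ rfl)).trans (key s hs h2 (fun h => hs3 (h ▸ dvd_rfl))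
      (by rw [hsq, hq]; exact (hsd.mul_right _).mul_left _))
    obtain ⟨k, rfl⟩ : ∃ k, s = k + 1 := ⟨s - 1, by have := hs.pos; omega⟩
    rw [hq] at h4 h3 hodd
    replace h4 := three_dvd h4
    have P := Nat.prime_three
    obtain ⟨j, rfl | rfl⟩ : ∃ j, k = 3 * j ∨ k = 3 * j + 1 := ⟨k / 3, by omega⟩
    · refine ⟨by unfold Nat.ModEq; omega, fun h5 => ?_⟩
      have h6 := (pow_dvd_pow 3 h5).trans h4
      rw [show (3 * j + 1) * (3 * j) ^ 3 * ((3 * j) ^ 2 + 3 * (3 * j) + 3) * (3 * j + 2) =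
        3 ^ 4 * ((3 * j + 1) * (3 * (j ^ 2 + j) + 1) * (3 * j + 2) * j ^ 3) by ring, pow_succ 3 4,
        Nat.mul_dvd_mul_iff_left (by norm_num), P.dvd_mul, P.dvd_mul, P.dvd_mul] at h6
      have := P.dvd_of_dvd_pow (h6.resolve_left (by omega))
      unfold Nat.ModEq
      omega
    · exfalso
      have h6 := Nat.le_of_dvd (by omega) (Nat.Coprime.dvd_of_dvd_mul_left (Nat.Coprime.pow_left _
        (P.coprime_iff_not_dvd.2 (by
          rw [P.dvd_mul, P.dvd_mul, show (3 * j + 1) ^ 2 + 3 * (3 * j + 1) + 3 = 3 * (3 * j ^ 2 + 5 * j + 2) + 1 by ring]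
          rintro ((h | h) | h)
          · omega
          · have := P.dvd_of_dvd_pow h; omega
          · omega))) h4)
      have h7 := Nat.le_of_dvd (by omega) (((Nat.coprime_primes Nat.prime_two hs).2 h2.symm).mul_dvd_of_dvd_of_dvd
        hodd.add_one.two_dvd hsd)
      omega
  have h9 : ∀ k, (3 ^ 2) ^ k % 8 = 1 := fun k => by simp [Nat.pow_mod]
  have h2 : ∀ b m, Odd m → 3 ^ (f : ℕ) + 1 = b * m → m ≡ 1 [MOD 3] ∧ (5 ≤ (f : ℕ) → m ≡ 1 [MOD 9]) :=
    fun b m hm e =>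
      have := fun s (hs : s.Prime) (h : s ∣ m) => h1 s hs
        (fun h2 => (Nat.not_even_iff_odd.2 hm) (even_iff_two_dvd.2 (h2 ▸ h))) (e ▸ h.mul_left b)
      ⟨mod_eq_one hm.pos.ne' fun s hs h => (this s hs h).1,
        fun h5 => mod_eq_one hm.pos.ne' fun s hs h => (this s hs h).2 h5⟩
  have h0 : (3 : ℕ) ∣ 3 ^ (f : ℕ) := dvd_pow_self 3 f.ne_zero
  obtain ⟨k, hk | hk⟩ := Nat.even_or_odd' (f : ℕ)
  · have h4 : 3 ^ (f : ℕ) % 8 = 1 := by rw [hk, pow_mul]; exact h9 k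
    have := (h2 2 ((3 ^ (f : ℕ) + 1) / 2) (Nat.odd_iff.2 (by omega)) (by omega)).1
    unfold Nat.ModEq at this
    omega
  have h4 : 3 ^ (f : ℕ) % 8 = 3 := by rw [hk, pow_succ, pow_mul, Nat.mul_mod, h9 k]
  by_cases h5 : 5 ≤ (f : ℕ)
  · have := (h2 4 ((3 ^ (f : ℕ) + 1) / 4) (Nat.odd_iff.2 (by omega)) (by omega)).2 h5
    have h6 : 3 ^ 2 ∣ 3 ^ (f : ℕ) := pow_dvd_pow 3 (by omega)
    unfold Nat.ModEq at this
    omega
  obtain h6 | h6 : (f : ℕ) = 1 ∨ (f : ℕ) = 3 := by omega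
  · rw [hq, h6] at h3; omega
  have := key 7 (by norm_num) (by omega) (by omega) (by rw [hq, h6]; norm_num)
  replace this := mul_dvd_mul_left (Nat.gcd 2 (Fintype.card F - 1)) this
  rw [hc, hq, h6] at this
  norm_num at this

theorem abP_of_one {G : Type*} [Group G] [Finite G] {p : ℕ} [Fact p.Prime] (P : Sylow p G)
    (h : IsMulCommutative P) : AbP p G := AbP.of_sylow fun Q =>
  ⟨⟨fun a b => (Q.equiv P).injective (by rw [map_mul, map_mul, h.is_comm.comm])⟩⟩

theorem false_of_num {S : Type*} [Group S] [Finite S] [IsSimpleGroup S] [Group.IsPerfect S] (h : Num S)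
    (h3 : AbP 3 S ∨ ¬ 3 ^ 5 ∣ Nat.card S)
    (h2 : AbP 2 S ∨ ¬ 2 ^ 5 ∣ Nat.card S ∧ ∀ x : S, orderOf x ≠ 8) : False := by
  have hna := Group.IsPerfect.not_isMulCommutative S
  by_cases hA : H10.W.Ab2 S
  · rcases H52.RB.walter S hna hA with ⟨n, hn, F, _, _, hF, ⟨e⟩⟩ | ⟨q, hq, -, F, _, _, hF, ⟨e⟩⟩ | hJ |
      ⟨K, _, _, m, hm, hK, ⟨e⟩⟩
    · exact not_l2 (hF ▸ (Nat.pow_le_pow_right two_pos hn : 2 ^ 2 ≤ _)) e h
    · exact not_l2 (hF ▸ hq) e h
    · have := h 3 (cyc_of_not_dvd (by rw [hJ.2]; norm_num)) (by rw [hJ.2]; norm_num)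
      rw [hJ.2] at this
      norm_num at this
    · have R := H30.reeG2 hK
      rcases h3 with h3 | h3
      · have := (h3.of_surj (f := e.toMonoidHom) e.surjective) _ R.isPGroup_U _ (R.x_mem 1 0 0) _
          (R.x_mem 0 1 0)
        rw [R.x_mul, R.x_mul] at this
        simpa using (R.x_inj this).2.2
      · refine h3 ?_
        rw [Nat.card_congr e.toEquiv, R.card_G, ← pow_mul]
        exact ((pow_dvd_pow 3 (by omega)).mul_right _).mul_right _
  obtain ⟨h5, h8⟩ := h2.resolve_left fun h => hA fun P => ⟨⟨fun a b => Subtype.ext (h P P.2 a a.2 b b.2)⟩⟩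
  have hT : ∀ (T : Sylow 2 S) k, Nat.card T = 2 ^ k → k < 5 := fun T k hk => by
    by_contra h
    exact h5 ((pow_dvd_pow 2 (by omega)).trans (hk ▸ T.1.card_subgroup_dvd_card))
  by_cases hr : PRankLE 2 2 S
  · obtain ⟨T⟩ : Nonempty (Sylow 2 S) := inferInstance
    have := Fintype.ofFinite (GaloisField 2 4)
    have hF : Fintype.card (GaloisField 2 4) = 16 := by
      rw [← Nat.card_eq_fintype_card, GaloisField.card 2 4 (by omega)]; rfl
    obtain ⟨P⟩ : Nonempty (Sylow 2 (Cfsg.PSU 3 (GaloisField 2 4) 4)) := inferInstance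
    rcases S0516.result hna hr T hF P with ⟨n, hn, e⟩ | ⟨n, hn, hc, x, y, hx, -⟩ | ⟨n, hn, hc, -⟩ | ⟨⟨e⟩⟩
    · have e0 : S ≃* S ⧸ oddCore S := (QuotientGroup.quotientBot.symm.trans
        (QuotientGroup.quotientMulEquivOfEq (H24.oddCore_eq_bot_of_nonab hna).symm))
      rcases S0483.result T n hn e with ⟨F, _, _, -, hF, ⟨e⟩⟩ | ⟨⟨e⟩⟩
      · exact not_l2 hF (e0.trans e) h
      · have hc : Nat.card S = 2520 := by
          have := two_mul_nat_card_alternatingGroup (α := Fin 7)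
          rw [Nat.card_perm, Nat.card_fin, ← Nat.card_congr (e0.trans e).toEquiv] at this
          exact Nat.eq_of_mul_eq_mul_left two_pos this
        have := Fact.mk Nat.prime_five
        have := h 5 (cyc_of_not_dvd (by rw [hc]; norm_num)) (by rw [hc]; norm_num)
        rw [hc] at this
        norm_num at this
    · obtain rfl : n = 3 := by have := hT T _ hc; omega
      exact h8 x (by rw [Subgroup.orderOf_coe, hx]; rfl)
    · have := hT T _ hc; omega
    · have := hT T 6 (by rw [Nat.card_congr e.toEquiv, (S1248.result hF P).1]; rfl); omega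
  simp only [PRankLE, not_forall, not_le] at hr
  obtain ⟨A, hA1, hA2, hA3⟩ := hr
  have hA4 : IsPGroup 2 A := fun a => ⟨1, Subtype.ext (by simpa using hA2 a a.2)⟩
  obtain ⟨T, hAT⟩ := hA4.exists_le_sylow
  have hTn : ¬ IsMulCommutative T := fun h => hA fun P =>
    ⟨⟨fun a b => Subtype.ext (abP_of_one T h P P.2 a a.2 b b.2)⟩⟩
  obtain ⟨x, hx, hx'⟩ : ∃ x ∈ (T : Subgroup S), x ∉ A := by
    by_contra h
    push Not at h
    exact hTn (le_antisymm hAT h ▸ hA1)
  have b1 := two_mul_card_le hAT hx hx'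
  obtain ⟨j, hj⟩ := hA4.exists_card_eq
  obtain ⟨k, hk⟩ := T.2.exists_card_eq
  have b2 := hT T k hk
  rw [hj, hk, ← pow_succ', Nat.pow_le_pow_iff_right one_lt_two] at b1
  rw [hj, Nat.pow_lt_pow_iff_right one_lt_two] at hA3
  obtain rfl : j = 3 := by omega
  obtain rfl : k = 4 := by omega
  refine r3 (fun N hN h => ?_) T hk hTn hAT hj fun a ha => by rw [← pow_two, hA2 a ha]
  rcases hN.eq_bot_or_eq_top with rfl | rfl
  · rw [Subgroup.index_bot] at h
    have := isCyclic_of_prime_card h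
    exact hna inferInstance
  · simp at h

theorem solv {G : Type*} [Group G] [Finite G] (B : Form G)
    (hA : ∀ (p : ℕ) [Fact p.Prime], AbP p G ∨ ¬ p ^ 5 ∣ Nat.card G) : Group.IsSolvable G := by
  by_contra hG
  obtain ⟨X, hX, -⟩ := H11.QT.C.exists_le (K := (⊤ : Subgroup G)) .top fun h =>
    hG (Group.isSolvable_of_surjective (f := (⊤ : Subgroup G).subtype) fun g => ⟨⟨g, trivial⟩, rfl⟩)
  obtain ⟨h0, hp, hs, hN⟩ := H11.QT.calC_iff.1 hX
  have : Group.IsPerfect X := Subgroup.isPerfect_iff.2 hp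
  have := (Subgroup.nontrivial_iff_ne_bot X).2 h0
  obtain ⟨M, _, hM, hS⟩ := H24.exists_normal_simple_quot X
  have hπ := QuotientGroup.mk'_surjective M
  have hc : Nat.card (X ⧸ M) ∣ Nat.card G :=
    (Subgroup.card_quotient_dvd_card M).trans X.card_subgroup_dvd_card
  have hAX : ∀ (p : ℕ) [Fact p.Prime], AbP p X ∨ ¬ p ^ 5 ∣ Nat.card X := fun p _ =>
    (hA p).imp (fun h => h.of_inj X.subtype_injective) fun h h' => h (h'.trans X.card_subgroup_dvd_card)
  have hs' : Group.IsSolvable (QuotientGroup.mk' M).ker := by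
    rw [QuotientGroup.ker_mk']
    have := hN (M.map X.subtype) (lt_of_le_of_ne (Subgroup.map_subtype_le M) fun e => hM
      (Subgroup.map_injective X.subtype_injective
        (by rw [e, ← MonoidHom.range_eq_map, Subgroup.range_subtype]))) fun x hx =>
      Subgroup.le_normalizer_map _ ⟨⟨x, hx⟩, by simp [Subgroup.normalizer_eq_top], rfl⟩
    exact Group.isSolvable_of_isSolvable_injective (f := X.subtype.subgroupMap M)
      fun a b hab => Subtype.ext (Subtype.ext (congrArg (fun x : M.map X.subtype => (x : G)) hab))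
  refine false_of_num (S := X ⧸ M) (fun p _ h1 h2 => ?_)
    ((hAX 3).imp (fun h => h.of_surj hπ) fun h h' => h (h'.trans (Subgroup.card_quotient_dvd_card M))) ?_
  · by_cases hk : p ∣ Nat.card (QuotientGroup.mk' M).ker
    · exact card_dvd h1 h2 _ X _ rfl hπ hs' hk (hAX p)
    · exact (B.false_of_cyc hs (h2.trans (Subgroup.card_quotient_dvd_card M)) (h1.of_ker hk)).elim
  by_cases h2 : AbP 2 G
  · exact Or.inl ((h2.of_inj X.subtype_injective).of_surj hπ)
  have h5 := (hA 2).resolve_left h2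
  refine Or.inr ⟨fun h => h5 (h.trans hc), fun x hx => ?_⟩
  obtain ⟨y, rfl⟩ := hπ x
  have h8 : orderOf ((y : G) ^ (orderOf (y : G) / 8)) = 8 := orderOf_pow_orderOf_div (orderOf_pos _).ne'
    (by rw [Subgroup.orderOf_coe, ← hx]; exact orderOf_map_dvd _ y)
  generalize (y : G) ^ (orderOf (y : G) / 8) = z at h8
  obtain ⟨w, hw, hb⟩ := B.nondeg z (by rintro rfl; simp at h8)
  refine hb (B.eq_one_of_pgroup (p := 2) (K := ⊤) (k := 3) (h8 ▸ pow_orderOf_eq_one z :) trivial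
    (fun A _ hz hA2 hA3 => ?_) trivial hw)
  obtain ⟨P, hP⟩ := hA2.exists_le_sylow
  obtain ⟨k, hk⟩ := P.2.exists_card_eq
  have b1 : k < 5 := by
    by_contra h
    exact h5 ((pow_dvd_pow 2 (by omega)).trans (hk ▸ P.1.card_subgroup_dvd_card))
  obtain ⟨x, hx, hx'⟩ : ∃ x ∈ (P : Subgroup G), x ∉ A := by
    by_contra h
    push Not at h
    exact h2 (abP_of_one P ⟨⟨fun a b => Subtype.ext (hA3 a (h a a.2) b (h b b.2))⟩⟩)
  have b2 := two_mul_card_le hP hx hx'
  have b3 : 2 ^ k ≤ 2 ^ 4 := Nat.pow_le_pow_right two_pos (by omega)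
  have b4 := Nat.le_of_dvd Nat.card_pos (A.orderOf_dvd_natCard hz)
  exact isCyclic_of_orderOf_eq_card (⟨z, hz⟩ : A) (by rw [Subgroup.orderOf_mk]; omega)

/-- Let χ be an irreducible character of the finite group H that is fully ramified over the normal subgroup Z: the restriction of χ to Z is e times an irreducible character of Z with e ^ 2 equal to the index of Z. If for every prime p with p ^ 6 dividing the index of Z the Sylow p-subgroups of H/Z are commutative, then H/Z is solvable. -/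
theorem result {H : Type*} [Group H] [Finite H] (Z : Subgroup H) [Z.Normal] (χ : Cfsg.IrrCharacter H) (hfr : ∃ (θ : Cfsg.IrrCharacter ↥Z) (e : ℕ), e ^ 2 = Z.index ∧ ∀ z : ↥Z, (χ : H → ℂ) z = (e : ℂ) * (θ : ↥Z → ℂ) z) (hab : ∀ p : ℕ, p.Prime → p ^ 6 ∣ Z.index → ∀ P : Sylow p (H ⧸ Z), IsMulCommutative P) : Group.IsSolvable (H ⧸ Z) := by
  obtain ⟨θ, e, he, hres⟩ := hfr
  obtain ⟨Q, _, _, ρ, lam, β, hρ, hc, hβ⟩ :=
    (⟨θ.2, χ.2, he, funext hres⟩ : H32.FullyRam Z θ.1 χ.1 e).exists_central_type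
  obtain ⟨B⟩ := exists_form ρ hρ hc hβ
  exact solv B fun p hp =>
    (em _).symm.imp_left fun h => AbP.of_sylow (hab p hp.out (by
      have h0 : e ≠ 0 := hβ.ne_zero
      rw [not_not, ← Z.index_eq_card, ← he, hp.out.pow_dvd_iff_le_factorization (pow_ne_zero 2 h0),
        Nat.factorization_pow] at h
      rw [← he, hp.out.pow_dvd_iff_le_factorization (pow_ne_zero 2 h0), Nat.factorization_pow]
      simp only [Finsupp.smul_apply, smul_eq_mul] at h ⊢
      omega))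

end Cfsg.Agent.S4562
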