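import Cfsg.Statements.S4578
import Cfsg.Agent.H2.SpKit
import Cfsg.Agent.H2.SpMain
import Cfsg.Agent.H84.SpPin
import Cfsg.Agent.H44.SPa
import Cfsg.Agent.H31.SpWG
import Cfsg.Agent.H31.SpCL
import Cfsg.Agent.H30.SpDegB
import Cfsg.Agent.H93.SpLift
import Cfsg.Agent.H74.SpCar
import Cfsg.Agent.H29.SpSum
import Cfsg.Agent.H38.SpStr
import Cfsg.Agent.H56.SpSC
import Cfsg.Agent.H49.SpTwoP
import Cfsg.Agent.H99.SpG
import Cfsg.Agent.H17.SpSmall
import Cfsg.Agent.H34.SpSpan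
import Cfsg.Agent.H55.SpLag
import Cfsg.Agent.H43.SpNorm
import Cfsg.Agent.H60.SpTwoA
import Cfsg.Agent.H81.SpTh
import Cfsg.Agent.H41.SpComp
import Cfsg.Agent.H41.SpIdn

set_option autoImplicit false
open Cfsg

namespace Cfsg.Agent.S4578

/-- Let H be a finite quasisimple group whose central quotient H/Z(H) is isomorphic to the alternating group on n ≥ 5 letters, p any prime, M a maximal ideal of the algebraic integers containing p, and B a p-block of H with defect group D. For every irreducible character χ in B, p raised to the height of χ is at most the index of Z(D) in D, with equality exactly when D is abelian. -/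
theorem result {H : Type*} [Group H] [Finite H] (hq : Cfsg.IsQuasisimple H) (n : ℕ) (hn : 5 ≤ n) (e : H ⧸ Subgroup.center H ≃* alternatingGroup (Fin n)) (p : ℕ) [Fact p.Prime] (M : Ideal Cfsg.AlgInt) (hM : Cfsg.IsPModular p M) (B : Set (Cfsg.IrrCharacter H)) (hB : Cfsg.IsPBlock M B) (D : Subgroup H) (hD : Cfsg.IsDefectGroup p M B D) (χ : Cfsg.IrrCharacter H) (hχ : χ ∈ B) :
    Cfsg.blockHeight p B (χ : H → ℂ) ≤ ((Subgroup.center D).index).factorization p ∧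
      (Cfsg.blockHeight p B (χ : H → ℂ) = ((Subgroup.center D).index).factorization p ↔ IsMulCommutative D) := by
  have K := H2.Sp.jobKit
  have C : H2.Sp.Com := H74.Sp.jobCom K (H74.Sp.jobCAR K)
  have St : H2.Sp.Str := H38.SpStr.jobStr K C
  have Wt : H2.Sp.Wt := H38.SpStr.jobWt K St
  have Vq : H2.Sp.Vq := H29.Sp.jobVq K
  have T2 : H2.Sp.T2 := @H56.SpSC.jobT2 @H56.SpSC.jobSC
  have T1 : H2.Sp.T1 := @H56.SpSC.jobT1
  have Cp : H2.Sp.Comp := @H41.Sp.jobComp (H34.SpSpan.jobSpan K St) Vq @T1 @T2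
  have Nr : H2.Sp.Nrm := @H41.Sp.jobNrm H29.Sp.jobGSum (H43.SpN.jobNorm K C) Wt @T1 @T2
  have Gn : H2.Sp.Gen :=
    @H41.Sp.jobGen (H34.SpSpan.jobIntg K) Vq (@H81.SpTh.jobTheta H31.SpCL.jobCL) @T2
  have WG : H2.Sp.WG := @H31.SpWG.jobWG (@H41.Sp.jobIdn @Cp @Nr @Gn @T2) (H38.SpStr.jobNV K St) Wt
    (H55.SpLag.jobDegA K C H55.SpLag.jobLag) H30.Spn.jobDegB H30.Spn.jobWS
  have Su : H2.Sp.Struct := H93.Sp.jobStruct H44.Sp.jobPZ
  exact H2.Sp.main (H84.SpPin.jobHasPin H84.SpPin.jobCliff) @H56.SpSC.jobSC @WG H44.Sp.jobW2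
    H30.Spn.jobWS
    (H99.SpG.jobGOdd H93.Sp.jobLift Su (H93.Sp.jobOddP H44.Sp.jobPZ H44.Sp.jobPE))
    (H99.SpG.jobGTwo H93.Sp.jobLift Su H49.SpTwoP.jobTwoP)
    (H60.Sp.gAn (H60.Sp.twoA H44.Sp.jobPZ H44.Sp.jobPE)) H17.SpSmall.jobGSmall
    hq n hn e p M hM B hB D hD χ hχ

end Cfsg.Agent.S4578
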