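import Cfsg.Statements.S4584
import Cfsg.Agent.H9.MaxClass
import Cfsg.Agent.H40.Cl2
import Cfsg.Agent.H49.Puig
import Cfsg.Agent.S0112

set_option autoImplicit false
open Cfsg

namespace Cfsg.Agent.S4584

/-- Let p be a prime and P a group of order p^4. Then the derived subgroup P' has order p if and only if the centre Z(P) has index p^2 in P. -/
theorem result {P : Type*} [Group P] [Finite P] (p : ℕ) [Fact p.Prime] (hP : Nat.card P = p ^ 4) :
    Nat.card (commutator P) = p ↔ (Subgroup.center P).index = p ^ 2 := by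
  have hp : p.Prime := Fact.out
  have hG : IsPGroup p P := IsPGroup.of_card hP
  have hpow : ∀ {a b : ℕ}, p ^ a = p ^ b → a = b := fun h => Nat.pow_right_injective hp.two_le h
  refine ⟨fun h => ?_, fun h => (H40.Cl2.card_comm hG (fun hc => ?_) h.dvd).1⟩
  · have := hG.isNilpotent
    obtain ⟨A, -, hn, hc, hA⟩ := H49.exists_scn_ge (⊥ : Subgroup P) inferInstance inferInstance
    have hZ : Subgroup.center P ≤ A := hA ▸ Subgroup.center_le_centralizer _
    obtain ⟨k, hk, e⟩ := (Nat.dvd_prime_pow hp).1 (hP ▸ A.card_subgroup_dvd_card)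
    have h1 := (commutator P).card_mul_index
    rw [h, hP] at h1
    have : Nontrivial P := Finite.one_lt_card_iff_nontrivial.1
      (by rw [hP]; exact Nat.one_lt_pow (by norm_num) hp.one_lt)
    have htop : A ≠ ⊤ := fun e => by
      have h2 : commutator P = ⊥ := by
        rw [commutator_eq_bot_iff_center_eq_top, eq_top_iff]
        exact fun x _ => Subgroup.mem_center_iff.2 fun g => congrArg Subtype.val
          (hc.is_comm.comm (⟨g, e ▸ trivial⟩ : A) ⟨x, e ▸ trivial⟩)
      rw [h2, Subgroup.card_bot] at h
      exact hp.one_lt.ne h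
    have h3 : 2 ≤ k := by
      by_contra h4
      have h5 := hG.center_nontrivial
      obtain ⟨j, hj, e'⟩ := (hG.to_subgroup (Subgroup.center P)).nontrivial_iff_card.1 h5
      have h6 : Subgroup.center P = A := Subgroup.eq_of_le_of_card_ge hZ (by
        rw [e, e']; exact Nat.pow_le_pow_right hp.pos (by omega))
      refine htop ?_
      rw [← hA, ← h6, eq_top_iff]
      exact fun x _ => Subgroup.mem_centralizer_iff.2 fun z hz => (Subgroup.mem_center_iff.1 hz x).symm
    have h4 : k ≠ 4 := fun e' => htop (Subgroup.eq_top_of_card_eq _ (by rw [e, e', hP]))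
    have h5 : k ≠ 2 := fun e' => by
      have h6 := Cfsg.Agent.S0112.result 4 hP A (e' ▸ e) hA
      rw [(H9.index_commutator_of_maximal_class (by norm_num) hP h6).1, ← pow_succ'] at h1
      exact absurd (hpow h1) (by norm_num)
    obtain rfl : k = 3 := by omega
    obtain ⟨x, -, hx⟩ := SetLike.exists_of_lt (lt_top_iff_ne_top.2 htop)
    have h6 : A.index = p := by
      have := A.card_mul_index
      rw [e, hP, pow_succ p 3] at this
      exact Nat.eq_of_mul_eq_mul_left (pow_pos hp.pos 3) this
    have h7 : A ⊔ Subgroup.zpowers x = ⊤ := by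
      have h8 := Subgroup.index_dvd_of_le (le_sup_left : A ≤ A ⊔ Subgroup.zpowers x)
      rw [h6] at h8
      rcases (Nat.dvd_prime hp).1 h8 with h9 | h9
      · exact Subgroup.index_eq_one.1 h9
      · have h10 := Subgroup.relIndex_mul_index (le_sup_left : A ≤ A ⊔ Subgroup.zpowers x)
        rw [h9, h6] at h10
        have h11 := Subgroup.relIndex_eq_one.1
          (Nat.eq_of_mul_eq_mul_right hp.pos (h10.trans (one_mul p).symm))
        exact absurd (h11 (Subgroup.mem_sup_right (Subgroup.mem_zpowers x))) hx
    have h8 := (H9.card_commutator_mul_card_inf_center hc h7).1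
    rw [h, inf_eq_right.2 hZ, e, pow_succ' p 2] at h8
    have h9 := (Subgroup.center P).card_mul_index
    rw [Nat.eq_of_mul_eq_mul_left hp.pos h8, hP, show 4 = 2 + 2 from rfl, pow_add] at h9
    exact Nat.eq_of_mul_eq_mul_left (pow_pos hp.pos 2) h9
  · have : Subgroup.center P = ⊤ :=
      eq_top_iff.2 fun x _ => Subgroup.mem_center_iff.2 fun g => hc.is_comm.comm g x
    rw [this, Subgroup.index_top, ← pow_zero p] at h
    exact absurd (hpow h) (by norm_num)

end Cfsg.Agent.S4584
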