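import Cfsg.Statements.S4585
import Cfsg.Agent.H9.MaxClass
import Cfsg.Agent.H40.Cl2
import Cfsg.Agent.H2.Misc1

set_option autoImplicit false
open Cfsg

namespace Cfsg.Agent.S4585

/-- Let p be a prime and P a group of order p^4. Then P' has index p^2 in P if and only if P has maximal nilpotency class, that is, nilpotency class exactly 3. -/
theorem result {P : Type*} [Group P] [Finite P] (p : ℕ) [Fact p.Prime] (hP : Nat.card P = p ^ 4) :
    (commutator P).index = p ^ 2 ↔ Group.nilpotencyClass P = 3 := by
  have hp : p.Prime := Fact.out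
  have hG : IsPGroup p P := IsPGroup.of_card hP
  have := hG.isNilpotent
  refine ⟨fun h => ?_, fun h => (H9.index_commutator_of_maximal_class (n := 4) (by norm_num) hP h).1⟩
  have h1 := H2.nilpotencyClass_le_of_card_eq p 4 hP (by norm_num)
  by_contra h2
  have h3 : commutator P ≤ Subgroup.center P := by
    have h4 : Group.nilpotencyClass P ≤ 2 := by omega
    rw [← Subgroup.lowerCentralSeries_eq_bot_iff_nilpotencyClass_le] at h4
    have h5 : ⁅commutator P, (⊤ : Subgroup P)⁆ = ⊥ := h4
    rwa [Subgroup.commutator_eq_bot_iff_le_centralizer, Subgroup.coe_top,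
      Subgroup.centralizer_univ] at h5
  have h4 := (commutator P).card_mul_index
  rw [h, hP, show 4 = 2 + 2 from rfl, pow_add] at h4
  have h5 := Nat.eq_of_mul_eq_mul_right (pow_pos hp.pos 2) h4
  have h6 : ¬ IsMulCommutative P := fun hc => by
    have : Subgroup.center P = ⊤ :=
      eq_top_iff.2 fun x _ => Subgroup.mem_center_iff.2 fun g => hc.is_comm.comm g x
    rw [(commutator_eq_bot_iff_center_eq_top P).2 this, Subgroup.card_bot, ← pow_zero p] at h5
    exact absurd (Nat.pow_right_injective hp.two_le h5) (by norm_num)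
  rw [(H40.Cl2.card_comm hG h6 (h ▸ Subgroup.index_dvd_of_le h3)).1] at h5
  exact absurd (Nat.pow_right_injective hp.two_le ((pow_one p).trans h5)) (by norm_num)

end Cfsg.Agent.S4585
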