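import Cfsg.Statements.S4602
import Cfsg.Agent.H18.PSolv
import Cfsg.Agent.H2.PrimeCore

set_option autoImplicit false
open Cfsg

namespace Cfsg.Agent.S4602

/-- Let G be a finite p-solvable group and q a prime different from p. Some Sylow p-subgroup of G normalizes some Sylow q-subgroup of G if and only if q does not divide the order of G/O_{p'}(G), the quotient by the largest normal subgroup of order prime to p. -/
theorem result {G : Type*} [Group G] [Finite G] (p q : ℕ) [Fact p.Prime] [Fact q.Prime] (hpq : p ≠ q) (hsolv : Cfsg.IsPSolvable p G) :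
    (∃ (P : Sylow p G) (Q : Sylow q G), (P : Subgroup G) ≤ Subgroup.normalizer ((Q : Subgroup G) : Set G)) ↔ ¬ q ∣ (Cfsg.pPrimeCore p G).index := by
  have hp : p.Prime := Fact.out
  have hq : q.Prime := Fact.out
  constructor
  · rintro ⟨P, Q, hPQ⟩ hdv
    set N := Cfsg.pPrimeCore p G with hN
    let f := QuotientGroup.mk' N
    have hf : Function.Surjective f := QuotientGroup.mk'_surjective N
    have hC := H18.centralizer_pCore_le (H18.isPSolvable_quotient hsolv N)
      (H2.pPrimeCore_quotient_pPrimeCore p G)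
    have hOP : Cfsg.pCore p (G ⧸ N) ≤ (P : Subgroup G).map f := H2.pCore_le_sylow (P.mapSurjective hf)
    have hdis : Disjoint (Cfsg.pCore p (G ⧸ N)) ((Q : Subgroup G).map f) :=
      IsPGroup.disjoint_of_ne p q hpq _ _ (H2.pCore_isPGroup p _) (Q.2.map f)
    have h1 : (Q : Subgroup G).map f ≤ Subgroup.centralizer (Cfsg.pCore p (G ⧸ N) : Set (G ⧸ N)) := by
      rintro _ ⟨y, hy, rfl⟩
      rw [Subgroup.mem_centralizer_iff]
      intro a ha
      obtain ⟨x, hx, rfl⟩ := hOP ha
      have h2 : f x * f y * (f x)⁻¹ * (f y)⁻¹ ∈ Cfsg.pCore p (G ⧸ N) := by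
        have := (inferInstance : (Cfsg.pCore p (G ⧸ N)).Normal).conj_mem _ (Subgroup.inv_mem _ ha) (f y)
        have h3 := Subgroup.mul_mem _ ha this
        simpa only [mul_assoc] using h3
      have h3 : f x * f y * (f x)⁻¹ * (f y)⁻¹ ∈ (Q : Subgroup G).map f := by
        refine ⟨x * y * x⁻¹ * y⁻¹, ?_, by simp⟩
        exact Subgroup.mul_mem _ (((Subgroup.mem_normalizer_iff.1 (hPQ hx)) y).1 hy) (Subgroup.inv_mem _ hy)
      have h4 := Subgroup.disjoint_def.1 hdis h2 h3
      rw [mul_inv_eq_one, mul_inv_eq_iff_eq_mul] at h4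
      exact h4
    have h2 : (Q : Subgroup G).map f = ⊥ := by
      rw [eq_bot_iff]
      intro y hy
      exact Subgroup.disjoint_def.1 hdis (hC (h1 hy)) hy
    have hQ : (Q : Subgroup G) ≤ N := by
      rw [Subgroup.map_eq_bot_iff, QuotientGroup.ker_mk'] at h2
      exact h2
    exact Q.not_dvd_index (hdv.trans (Subgroup.index_dvd_of_le hQ))
  · intro hdv
    set N := Cfsg.pPrimeCore p G with hN
    obtain ⟨Q⟩ : Nonempty (Sylow q G) := inferInstance
    have hQ : (Q : Subgroup G) ≤ N := by
      intro y hy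
      obtain ⟨k, hk⟩ := Q.2 ⟨y, hy⟩
      have hk' : y ^ q ^ k = 1 := by simpa using congrArg Subtype.val hk
      rw [← QuotientGroup.eq_one_iff]
      have h1 : orderOf (y : G ⧸ N) ∣ q ^ k := by
        apply orderOf_dvd_of_pow_eq_one
        rw [← QuotientGroup.mk_pow, hk', QuotientGroup.mk_one]
      have h2 : orderOf (y : G ⧸ N) ∣ N.index := orderOf_dvd_natCard _
      have h3 : (q ^ k).Coprime N.index := Nat.Coprime.pow_left _ ((Nat.Prime.coprime_iff_not_dvd hq).2 hdv)
      exact orderOf_eq_one_iff.1 (Nat.eq_one_of_dvd_coprimes h3 h1 h2)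
    have hF := Sylow.normalizer_sup_eq_top' Q hQ
    set M := Subgroup.normalizer ((Q : Subgroup G) : Set G) with hM
    have hidx : M.index ∣ Nat.card N := by
      have h1 : N.relIndex M = N.index := by
        rw [← Subgroup.relIndex_sup_right, ← Subgroup.relIndex_top_right]
        congr 1
      have h2 : M.relIndex N * N.index = N.relIndex M * M.index := by
        rw [← Subgroup.inf_relIndex_right M N, ← Subgroup.inf_relIndex_right N M,
          Subgroup.relIndex_mul_index inf_le_right, Subgroup.relIndex_mul_index inf_le_right, inf_comm]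
      rw [h1, mul_comm N.index] at h2
      have h3 := Nat.eq_of_mul_eq_mul_right (Nat.pos_of_ne_zero Subgroup.index_ne_zero_of_finite) h2
      rw [← h3]
      exact Subgroup.relIndex_dvd_card _ _
    have hpM : ¬ p ∣ M.index := fun h =>
      (Nat.Prime.coprime_iff_not_dvd hp).1 (H2.coprime_card_pPrimeCore p G).symm (h.trans hidx)
    obtain ⟨R⟩ : Nonempty (Sylow p M) := inferInstance
    have hR : ¬ p ∣ ((R : Subgroup M).map M.subtype).index := by
      rw [Subgroup.index_map_subtype]
      intro h
      rcases (Nat.Prime.dvd_mul hp).1 h with h | h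
      · exact R.not_dvd_index h
      · exact hpM h
    refine ⟨(R.2.map M.subtype).toSylow hR, Q, ?_⟩
    rw [IsPGroup.toSylow_coe]
    exact Subgroup.map_subtype_le _

end Cfsg.Agent.S4602
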