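import Cfsg.Statements.S4621
import Cfsg.Agent.Base
import Cfsg.Agent.H33.SolvCop

set_option autoImplicit false
open Cfsg

namespace Cfsg.Agent.S4621

/-- Let F be a finite field of odd characteristic, V a finite-dimensional vector space over F, and G a finite solvable group acting faithfully and linearly on V with the order of G coprime to the number of vectors of V. Then there are two vectors x, y ∈ V such that the only element of G fixing both x and y is the identity. -/
theorem result {F : Type*} [Field F] [Fintype F] (hF : ringChar F ≠ 2) {V : Type*} [AddCommGroup V] [Module F V] [FiniteDimensional F V] [Finite V]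
    {G : Type*} [Group G] [Finite G] [Group.IsSolvable G] (ρ : Representation F G V) (hfaith : Function.Injective ρ) (hcop : (Nat.card G).Coprime (Nat.card V)) :
    ∃ x y : V, ∀ g : G, ρ g x = x → ρ g y = y → g = 1 := by
  let _ : MulDistribMulAction G (Multiplicative V) :=
    { smul := fun g v => Multiplicative.ofAdd (ρ g v.toAdd)
      one_smul := fun v => congrArg Multiplicative.ofAdd (LinearMap.congr_fun (map_one ρ) _)
      mul_smul := fun g k v => congrArg Multiplicative.ofAdd (LinearMap.congr_fun (map_mul ρ g k) _)
      smul_mul := fun g v w => congrArg Multiplicative.ofAdd (map_add (ρ g) _ _)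
      smul_one := fun g => congrArg Multiplicative.ofAdd (map_zero (ρ g)) }
  obtain ⟨x, y, h⟩ := H33.Solv.two_points (A := G) (K := Multiplicative V) inferInstance hcop
  exact ⟨x.toAdd, y.toAdd, fun g e1 e2 => hfaith (LinearMap.ext fun v => by
    rw [map_one]
    exact congrArg Multiplicative.toAdd (h g (congrArg Multiplicative.ofAdd e1)
      (congrArg Multiplicative.ofAdd e2) (Multiplicative.ofAdd v)))⟩

end Cfsg.Agent.S4621
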