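import Cfsg.Statements.S4748
import Cfsg.Agent.H22.MinAction
import Cfsg.Agent.H18.PSolv
import Cfsg.Agent.H28.Support
import Cfsg.Agent.H28.CharCenter
import Cfsg.Agent.H46.Coprime

set_option autoImplicit false
open scoped Pointwise
open Cfsg

namespace Cfsg.Agent.S4748

open H28 in
theorem core {A Q : Type*} [Group A] [Finite A] [Group Q] [Finite Q] [Nontrivial A]
    [Group.IsSolvable A] (φ : A →* MulAut Q) (hc : (Nat.card A).Coprime (Nat.card Q))
    (hfix : ∀ x, x ≠ 1 → ∀ y, φ x y = y → y ∈ commutator Q)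
    (hZ : commutator Q ≤ Subgroup.center Q) {ψ : Q → ℂ} (hψ : IsCharacter Q ψ)
    (hinv : ∀ x y, ψ (φ x y) = ψ y) {y₀ : Q} (hy₀ : ψ y₀ ≠ ψ 1) :
    Nat.card A < charDegree ψ ^ 2 := by
  classical
  have := Fintype.ofFinite Q
  obtain ⟨θ, hθ, h0, hy⟩ : ∃ θ, IsIrrCharacter Q θ ∧ classInner ψ θ ≠ 0 ∧ y₀ ∉ charKer θ := by
    by_contra! h
    exact hy₀ (hψ.mem_charKer.1 (hψ.mem_charKer_iff_constituents.2 h))
  let _ : MulAction A Q := MulAction.compHom Q φ
  let _ : MulAction A (Q → ℂ) := arrowAction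
  have hsm : ∀ x : A, x • θ = fun y => θ (φ x⁻¹ y) := fun _ => rfl
  set T := MulAction.stabilizer A θ
  have hT : ∀ x ∈ T, ∀ y, θ (φ x y) = θ y := fun x hx y => by
    have := congrFun (MulAction.mem_stabilizer_iff.1 (inv_mem hx)) y
    rwa [hsm, inv_inv] at this
  obtain ⟨d, hd0, hd⟩ := hθ.exists_degree_pos
  have hfin : (MulAction.orbit A θ).Finite := Set.finite_range _
  have h1 := hψ.sum_charDegree_le hfin.toFinset fun f hf => by
    obtain ⟨x, rfl⟩ := (Set.Finite.mem_toFinset _).1 hf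
    refine ⟨hθ.comp_mulEquiv (φ x⁻¹), ?_⟩
    rw [← classInner_comp_equiv (φ x⁻¹).toEquiv ψ θ] at h0
    exact (show ψ = fun y => ψ (φ x⁻¹ y) from funext fun y => (hinv _ _).symm) ▸ h0
  rw [Finset.sum_congr rfl (g := fun _ => d) fun f hf => by
    obtain ⟨x, rfl⟩ := (Set.Finite.mem_toFinset _).1 hf
    exact charDegree_eq ((congrArg θ (map_one (φ x⁻¹))).trans hd),
    Finset.sum_const, smul_eq_mul, ← Set.ncard_eq_toFinset_card _ hfin, ← MulAction.index_stabilizer] at h1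
  have h2 := T.index_mul_card
  have h3 : 0 < T.index := Nat.pos_of_ne_zero Subgroup.index_ne_zero_of_finite
  have key : ∀ N : Subgroup Q, commutator Q ≤ N → (∀ x ∈ T, ∀ y ∈ N, φ x y ∈ N) → ∀ y ∉ N,
      ∀ x ∈ T, y⁻¹ * φ x y ∈ N → x = 1 := fun N hN hTN y hy x hx hxy => by
    let U : Subgroup A :=
      { carrier := {a | a ∈ T ∧ y⁻¹ * φ a y ∈ N}
        one_mem' := ⟨one_mem _, by simp⟩
        mul_mem' := fun {a b} ha hb => ⟨mul_mem ha.1 hb.1, by
          simpa [mul_assoc] using mul_mem ha.2 (hTN a ha.1 _ hb.2)⟩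
        inv_mem' := fun {a} ha => ⟨inv_mem ha.1, by
          simpa using inv_mem (hTN _ (inv_mem ha.1) _ ha.2)⟩ }
    obtain ⟨n, hn, hn'⟩ := H1.exists_fixed_mem_coset (φ.comp U.subtype) N
      (fun a => hTN a a.2.1) ((hc.coprime_dvd_left U.card_subgroup_dvd_card).coprime_dvd_right
        N.card_subgroup_dvd_card) (Or.inl inferInstance) y fun a => a.2.2
    by_contra hx1
    exact hy ((mul_mem_cancel_right hn).1 (hN (hfix x hx1 _ (hn' ⟨x, hx, hxy⟩))))
  refine lt_of_lt_of_le ?_ (Nat.pow_le_pow_left h1 2)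
  rw [← h2]
  by_cases hd1 : d = 1
  · rw [hd1, Nat.cast_one] at hd
    have h4 : T = ⊥ := eq_bot_iff.2 fun x hx => key _ (hθ.degree_one_iff.1 hd)
      (fun x hx y hy => hθ.mem_charKer.2 ((hT x hx y).trans (hθ.mem_charKer.1 hy))) _ hy x hx
      (hθ.mem_charKer.2 (by
        rw [hθ.isCharacter.map_mul_of_degree_one hd, hT x hx,
          ← hθ.isCharacter.map_mul_of_degree_one hd, inv_mul_cancel]))
    have h5 : 1 < Nat.card A := Finite.one_lt_card
    generalize T.index = n at h2 ⊢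
    rw [h4, Subgroup.card_bot] at h2 ⊢
    rw [hd1]
    nlinarith
  · have h4 := hZ.trans hθ.center_le_charCenter
    have h5 := hθ.degree_sq_eq_index_of_commutator_le h4 hd
    obtain ⟨y, hy⟩ : ∃ y, y ∉ charCenter θ := by
      by_contra! h
      rw [(Subgroup.eq_top_iff' _).2 h, Subgroup.index_top] at h5
      exact hd1 (by nlinarith)
    have hN : ∀ x ∈ T, ∀ y ∈ charCenter θ, φ x y ∈ charCenter θ := fun x hx y hy =>
      hθ.mem_charCenter.2 (hT x hx y ▸ hθ.mem_charCenter.1 hy)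
    have h6 : Nat.card T < (charCenter θ).index := by
      have := Fintype.ofFinite T
      have := Fintype.ofFinite (Q ⧸ charCenter θ)
      rw [Subgroup.index, Nat.card_eq_fintype_card, Nat.card_eq_fintype_card]
      refine Fintype.card_lt_of_injective_of_notMem (fun x : T => (φ x y : Q ⧸ charCenter θ))
        (fun a b e => ?_) (b := ((1 : Q) : Q ⧸ charCenter θ)) ?_
      · refine inv_mul_eq_one.1 (Subtype.ext (key _ h4 hN y hy _ (a⁻¹ * b).2 ?_))
        simpa using hN _ (inv_mem a.2) _ (QuotientGroup.eq.1 e)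
      · rintro ⟨x, e⟩
        exact hy (by simpa using inv_mem (hN _ (inv_mem x.2) _ (QuotientGroup.eq.1 e)))
    rw [← h5] at h6
    calc _ < T.index * d ^ 2 := by gcongr
      _ ≤ _ := by rw [mul_pow]; gcongr; nlinarith

/-- Let G be a finite p-solvable group whose Sylow p-subgroup P meets each conjugate g P g⁻¹ with g outside N_G(P) trivially, and let χ be a faithful character of G (χ g = χ 1 only for g = 1) whose degree d satisfies d² ≤ |P|. Then P is normal in G. -/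
theorem result {G : Type*} [Group G] [Finite G] (p : ℕ) [Fact p.Prime] (hsolv : Cfsg.IsPSolvable p G) (P : Sylow p G) (hTI : ∀ g : G, g ∉ Subgroup.normalizer ((P : Subgroup G) : Set G) → (P : Subgroup G) ⊓ (MulAut.conj g • (P : Subgroup G)) = ⊥) (χ : G → ℂ) (hχ : Cfsg.IsCharacter G χ) (hfaith : ∀ g : G, χ g = χ 1 → g = 1) (hdeg : Cfsg.charDegree χ ^ 2 ≤ Nat.card ↥(P : Subgroup G)) : (P : Subgroup G).Normal := by
  classical
  by_contra hn
  have hp : p.Prime := Fact.out
  have hO : pCore p G = ⊥ := by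
    obtain ⟨g, hg⟩ : ∃ g, g ∉ Subgroup.normalizer ((P : Subgroup G) : Set G) := by
      by_contra! h
      exact hn (Subgroup.normalizer_eq_top_iff.1 ((Subgroup.eq_top_iff' _).2 h))
    exact eq_bot_iff.2 (hTI g hg ▸ le_inf (H2.pCore_le_sylow P) (H2.pCore_le_sylow (g • P)))
  set K := pPrimeCore p G
  have hK : (Nat.card (P : Subgroup G)).Coprime (Nat.card K) := by
    obtain ⟨k, hk⟩ := P.isPGroup'.exists_card_eq
    exact hk ▸ ((Nat.Prime.coprime_iff_not_dvd hp).2 (H2.not_dvd_card_pPrimeCore p G)).pow_left k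
  have hPK : (P : Subgroup G) ⊓ K = ⊥ := H46.inf_eq_bot_of_coprime' hK
  have hPs : Group.IsSolvable (P : Subgroup G) := have := P.isPGroup'.isNilpotent; inferInstance
  have h1 : ⁅K, (P : Subgroup G)⁆ ≠ ⊥ := fun e => hn (by
    rw [← inf_eq_left.2 ((Subgroup.le_centralizer_iff.1
      (Subgroup.commutator_eq_bot_iff_le_centralizer.1 e)).trans
      (H18.centralizer_pPrimeCore_le hsolv hO)), hPK]
    infer_instance)
  have hC : ∀ x ∈ (P : Subgroup G), x ≠ 1 → ∀ y ∈ K, x * y * x⁻¹ = y → y ∈ H46.Cent (P : Subgroup G) := by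
    intro x hx hx1 y hy e z hz
    have h2 : y ∈ Subgroup.normalizer ((P : Subgroup G) : Set G) := by_contra fun h => hx1
      (Subgroup.mem_bot.1 (hTI y h ▸ ⟨hx, x, hx, mul_inv_eq_of_eq_mul
        (mul_inv_eq_iff_eq_mul.1 e).symm⟩))
    have h3 : z⁻¹ * (y * z * y⁻¹) ∈ (P : Subgroup G) ⊓ K :=
      ⟨(P : Subgroup G).mul_mem (inv_mem hz) ((Subgroup.mem_normalizer_iff.1 h2 z).1 hz), by
        simpa [mul_assoc] using mul_mem ((inferInstance : K.Normal).conj_mem y hy z⁻¹) (inv_mem hy)⟩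
    rw [hPK, Subgroup.mem_bot, inv_mul_eq_one, eq_mul_inv_iff_mul_eq] at h3
    exact h3
  obtain ⟨Q, ⟨hQK, hQn, hQ⟩, hmin⟩ := WellFounded.has_min (wellFounded_lt (α := Subgroup G))
    {Q | Q ≤ K ∧ (P : Subgroup G) ≤ H46.Nrm Q ∧ ⁅Q, (P : Subgroup G)⁆ ≠ ⊥}
    ⟨K, le_rfl, Subgroup.le_normalizer_of_normal, h1⟩
  have hmin' : ∀ U < Q, (P : Subgroup G) ≤ H46.Nrm U → ⁅U, (P : Subgroup G)⁆ = ⊥ :=
    fun U hU hn => by_contra fun h => hmin U ⟨hU.le.trans hQK, hn, h⟩ hU
  have hc := H46.coprime_of_le hK le_rfl hQK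
  have hQs : Group.IsSolvable Q := by
    obtain ⟨q, hq, hqd⟩ := Nat.exists_prime_and_dvd
      (n := (H46.Cent (P : Subgroup G)).relIndex Q) fun e =>
      hQ (Subgroup.commutator_eq_bot_iff_le_centralizer.2 (Subgroup.relIndex_eq_one.1 e))
    obtain ⟨R, hR, hRn⟩ := H46.coprime_Sylow_exists hq hQn hc (Or.inl hPs)
    rcases hR.1.eq_or_lt with rfl | h
    · have := Fact.mk hq
      have := ((H46.isPi_singleton hq).1 hR.2.1).isNilpotent
      infer_instance
    · exact (hR.2.2 q hq rfl (hqd.trans (Subgroup.relIndex_dvd_of_le_left Q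
        (Subgroup.commutator_eq_bot_iff_le_centralizer.1 (hmin' R h hRn))))).elim
  obtain ⟨h2, -, h3, -⟩ := H22.minAction_facts hQs hQn le_rfl Subgroup.le_normalizer hc hQ hmin'
  have h4 := H22.centralizer_le_commutator_of_commutator_eq hQn hc h2
  have : Nontrivial (P : Subgroup G) := (Subgroup.nontrivial_iff_ne_bot _).2 fun e =>
    hQ (by rw [e, Subgroup.commutator_bot_right])
  obtain ⟨y, hy⟩ := Subgroup.ne_bot_iff_exists_ne_one.1 (show Q ≠ ⊥ from fun e =>
    hQ (by rw [e, Subgroup.commutator_bot_left]))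
  have h5 := core (Q.normalizerMonoidHom.comp (Subgroup.inclusion hQn)) hc
    (fun x hx z e => by
      have := h4 ⟨z.2, hC x x.2 (fun e => hx (Subtype.ext e)) z (hQK z.2) (congrArg Subtype.val e)⟩
      rw [← Subgroup.map_subtype_commutator] at this
      obtain ⟨w, hw, e⟩ := this
      exact Subtype.ext e ▸ hw)
    (fun z hz => Subgroup.mem_center_iff.2 fun w => Subtype.ext (h3
      (Subgroup.map_subtype_commutator Q ▸ Subgroup.mem_map_of_mem _ hz) w w.2))
    (H28.Cfsg.IsCharacter.restrict hχ Q)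
    (fun x z => H28.Cfsg.IsCharacter.isClassFunction hχ z x) (y₀ := y)
    fun e => hy (Subtype.ext (hfaith y e))
  exact absurd hdeg (not_le.2 h5)

end Cfsg.Agent.S4748
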