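import Cfsg.Statements.S4752
import Cfsg.Agent.H34.X3A
import Cfsg.Agent.H19.X3St
import Cfsg.Agent.H19.X3B
import Cfsg.Agent.H36.X3E2
import Cfsg.Agent.H36.X3G48
import Cfsg.Agent.H36.X3Cd
import Cfsg.Agent.H70.X3A
import Cfsg.Agent.H73.X3Cc
import Cfsg.Agent.H7.X3Ca
import Cfsg.Agent.H98.X3Q
import Cfsg.Agent.H94.X3FA
import Cfsg.Agent.H94.X3FB

set_option autoImplicit false
open Cfsg

namespace Cfsg.Agent.S4752

/-- Let G be a finite group whose Sylow 3-subgroup P is extraspecial of order 27 and exponent 3, with N_G(P) ≤ C_G(Z(P)), and let M be a maximal ideal of the algebraic integers containing 3, B the principal 3-block of G, k its number of irreducible characters, k₀ the number of those of height zero, l its 3-regular rank (number of irreducible Brauer characters), and e the index of P·C_G(P) in N_G(P) (the order of the inertial quotient). Then e = 1 gives (k, k₀, l) = (11, 9, 1); e = 2 gives (10, 6, 2); e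 = 4 gives (14, 6, 4); e = 8 gives (16, 6, 5). -/
theorem result {G : Type*} [Group G] [Finite G] (P : Sylow 3 G) (hE : Cfsg.IsExtraspecial 3 ↥(P : Subgroup G)) (h27 : Nat.card ↥(P : Subgroup G) = 27) (hexp : ∀ x ∈ (P : Subgroup G), x ^ 3 = 1) (hNC : ∀ g ∈ Subgroup.normalizer ((P : Subgroup G) : Set G), ∀ z ∈ (P : Subgroup G), (∀ y ∈ (P : Subgroup G), z * y = y * z) → g * z = z * g) (M : Ideal Cfsg.AlgInt) (hM : Cfsg.IsPModular 3 M) (k k₀ l e : ℕ) (hk : Nat.card ↥(Cfsg.principalBlock M G) = k) (hk₀ : Nat.card {χ : Cfsg.IrrCharacter G // χ ∈ Cfsg.principalBlock M G ∧ Cfsg.blockHeight 3 (Cfsg.principalBlock M G) (χ : G → ℂ) = 0} = k₀) (hl : Cfsg.blockRank 3 (Cfsg.principalBlock M G) = l) (he : ((P : Subgroup G) ⊔ Subgroup.centralizer ((P : Subgroup G) : Set G)).relIndex (Subgroup.normalizer ((P : Subgroup G) : Set G)) = e) : (e = 1 → k = 11 ∧ k₀ = 9 ∧ l = 1) ∧ (e = 2 → k = 10 ∧ k₀ = 6 ∧ l = 2) ∧ (e = 4 → k = 14 ∧ k₀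 = 6 ∧ l = 4) ∧ (e = 8 → k = 16 ∧ k₀ = 6 ∧ l = 5) := by
  obtain ⟨z, hx⟩ := H94.X3.jobF0.1 G P hE h27 hexp hNC
  subst hk hk₀ hl
  have main := @H34.X3.main H94.X3.jobF1 H94.X3.jobF2 H94.X3.jobF0 H94.X3.jobF3 H94.X3.jobF4
    H19.X3.jobB H19.X3.jobV H98.X3Q.jobQ H7.X3Ca.jobCa H19.X3.jobCb H73.X3Cc.jobCc H36.X3.jobCd
    H70.X3.jobN G _ _ P z hx M hM
  have st := H19.X3.jobSt
  have pr := H19.X3.jobPr st
  refine ⟨fun h => ?_, fun h => ?_, fun h => ?_, fun h => ?_⟩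
  · obtain ⟨h1, h2, h3⟩ := main (e := 1) H70.X3.jobE1.1 H70.X3.jobE1.2 rfl (by decide) (by decide)
      (by decide) (he.trans h)
    exact ⟨h1, h2, by omega⟩
  · obtain ⟨h1, h2, h3⟩ := main (e := 2) (H36.X3.jobE2 st).1 (H36.X3.jobE2 st).2 rfl (by decide)
      (by decide) (by decide) (he.trans h)
    exact ⟨h1, h2, by omega⟩
  · obtain ⟨h1, h2, h3⟩ := main (e := 4) H70.X3.jobL4 (H36.X3.jobG4 pr) rfl (by decide)
      (by decide) (by decide) (he.trans h)
    exact ⟨h1, h2, by omega⟩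
  · obtain ⟨h1, h2, h3⟩ := main (e := 8) (H70.X3.jobL8 st) (H36.X3.jobG8 pr) rfl (by decide)
      (by decide) (by decide) (he.trans h)
    exact ⟨h1, h2, by omega⟩

end Cfsg.Agent.S4752
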