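import Cfsg.Statements.S4780
import Cfsg.Agent.H23.NDAsm
import Cfsg.Agent.H23.NDLie1
import Cfsg.Agent.H96.NDAb2
import Cfsg.Agent.H33.NdFP
import Cfsg.Agent.H45.NDAb1
import Cfsg.Agent.H19.NdLie0
import Cfsg.Agent.H35.NDExt
import Cfsg.Agent.H60.NdA
import Cfsg.Agent.H83.NDAb4
import Cfsg.Agent.H51.NDTop
import Cfsg.Agent.H5.NDBase
import Cfsg.Agent.H5.NDLP
import Cfsg.Agent.H18.NDJ
import Cfsg.Agent.H91.NDStep
import Cfsg.Agent.H8.NDAb3
import Cfsg.Agent.H98.NdFq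
import Cfsg.Agent.H99.NdAX
import Cfsg.Agent.H89.NDT2
import Cfsg.Agent.H70.NDG1
import Cfsg.Agent.H17.NDAc1
import Cfsg.Agent.H80.NDAc2
import Cfsg.Agent.H1.NDFld
import Cfsg.Agent.H42.NDQ
import Cfsg.Agent.H97.NDG2
import Cfsg.Agent.H88.NDAc4
import Cfsg.Agent.H46.NDC4
import Cfsg.Agent.H46.NDCW
import Cfsg.Agent.H93.NdAc3
import Cfsg.Agent.H93.NdBr
import Cfsg.Agent.H79.NDII
import Cfsg.Agent.H76.NDLev
import Cfsg.Agent.H76.NDC2

set_option autoImplicit false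
open Cfsg

namespace Cfsg.Agent.S4780

/-- Let G be a finite solvable group in which no irreducible complex character degree a with 1 < a divides a larger irreducible character degree. Then G has at most four distinct irreducible character degrees and the third derived subgroup of G is trivial. -/
theorem result {G : Type*} [Group G] [Finite G] [Group.IsSolvable G] (hnd : ∀ a ∈ Cfsg.charDegrees G, ∀ b ∈ Cfsg.charDegrees G, 1 < a → a < b → ¬ a ∣ b) : Nat.card ↥(Cfsg.charDegrees G) ≤ 4 ∧ derivedSeries G 3 = ⊥ := by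
  have lp := H5.NDLP.jobLP H93.NDA.jobBr
  have st := H91.NDStep.jobStep lp
  exact H23.ND.main H60.NdA.jobA H51.ND.jobTop (H5.NDBase.jobBase lp) H42.NDQ.jobQ
    (H23.ND.jobP H70.NDG1.jobG1 H97.ND.jobG2 H89.ND.jobT2 H76.NDC2.jobC2 H76.NDLev.jobLev st
      H99.NdAX.jobAX H18.NDJ.jobJ (H46.NDC4.jobC4 H19.NdLie0.jobLie0
        (H23.NDL.jobLie1 H46.NDCW.jobCW H1.NDFld.jobFld)))
    (H79.NDII.jobII st H33.NdFP.jobFP H35.NDExt.jobExt H35.NDExt.jobAl) H45.ND.jobAb1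
    (H96.NDAb2.jobAb2 H98.NdFq.jobFq) H8.NDAb3.jobAb3 (H83.ND.jobAb4 H46.NDCW.jobCW)
    H17.NDAc1.jobAc1 (H93.NDA.jobAc3 H80.NDA.jobAc2) H88.ND.jobAc4 hnd

end Cfsg.Agent.S4780
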