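import Cfsg.Statements.S4781
import Cfsg.Agent.H55.NdC
import Cfsg.Agent.S4811

set_option autoImplicit false
open Cfsg

namespace Cfsg.Agent.S4781

open H44 H55.Nd Cfsg.Agent.S4811

/-- Let G be a finite solvable group in which no irreducible complex character degree a with 1 < a divides a larger irreducible character degree, and suppose the character degree graph of G (primes dividing some degree, distinct primes adjacent when their product divides a degree) has exactly two connected components. Then G has exactly three distinct irreducible character degrees. -/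
theorem result {G : Type*} [Group G] [Finite G] [Group.IsSolvable G] (hnd : ∀ a ∈ Cfsg.charDegrees G, ∀ b ∈ Cfsg.charDegrees G, 1 < a → a < b → ¬ a ∣ b) (htwo : Nat.card ((Cfsg.degreeGraph G).induce (Cfsg.degreePrimes G)).ConnectedComponent = 2) : Nat.card ↥(Cfsg.charDegrees G) = 3 := by
  have nd : ND G := hnd
  obtain ⟨x, y, hxy, -⟩ := Nat.card_eq_two_iff.1 htwo
  have dis : ∀ p (hp : p ∈ degreePrimes G), ¬ ∀ q (hq : q ∈ degreePrimes G),
      ((degreeGraph G).induce (degreePrimes G)).connectedComponentMk ⟨q, hq⟩ =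
        ((degreeGraph G).induce (degreePrimes G)).connectedComponentMk ⟨p, hp⟩ := fun p hp h => by
    have k : ∀ c : ((degreeGraph G).induce (degreePrimes G)).ConnectedComponent,
        c = ((degreeGraph G).induce (degreePrimes G)).connectedComponentMk ⟨p, hp⟩ :=
      fun c => c.ind fun ⟨q, hq⟩ => h q hq
    exact hxy ((k x).trans (k y).symm)
  have ne : ∀ {q d : ℕ}, q.Prime → q ∣ d → d ≠ 1 := fun hq h e => hq.ne_one (Nat.dvd_one.1 (e ▸ h))
  obtain ⟨q0, hq0, d0, hd0, h0⟩ : degreePrimes G := x.out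
  obtain ⟨r, K, N, _, _, hr, -, -, -, gK, -, -, ⟨a, hA⟩ | hB⟩ :=
    top_cases _ le_rfl (not_le_commutator_of_isSolvable hd0 (ne hq0 h0))
  · refine absurd (fun q ⟨hq, d, hd, h1⟩ => reach hq hr hd h1 ?_) (dis r ⟨hr, _, hA.mem_cd, hA.dvd⟩)
    by_contra h2
    obtain ⟨z, hz, h3⟩ := hA.of_not_dvd hr hd h2
    exact (hA.one_lt hr).ne' (nd.mul hd hz (ne hq h1) (mul_comm _ d ▸ h3))
  have hf := hB.mem_cd hr
  have c : St r K N := ⟨nd, hB, hr, fun d hd h => by
    by_contra k
    obtain ⟨p, hp, p1, p2⟩ := Nat.Prime.not_coprime_iff_dvd.1 k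
    refine dis r ⟨hr, d, hd, h⟩ fun q ⟨hq, e, he, h1⟩ => ?_
    obtain ⟨k, e, hk, he', rfl⟩ := cd_under N he
    rcases (Nat.Prime.dvd_mul hq).1 h1 with h2 | h2
    · exact (reach hq hp hf (h2.trans hk) p2).trans (reach hp hr hd p1 h)
    · exact reach hq hr he h1 ((nd.dvd hB hr he' (ne hq h2)).mul_left _)⟩
  have cs : ∀ d ∈ charDegrees G, d = 1 ∨ d = N.index ∨ (d ∈ charDegrees N ∧ d ≠ 1) := by
    intro d hd
    obtain ⟨k, e, hk, he, rfl⟩ := cd_under N hd
    by_cases e1 : e = 1
    · subst e1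
      exact (em _).imp_right fun h => .inl (nd.eq hd hf h (by rwa [mul_one]))
    · obtain rfl : k = 1 := Nat.eq_one_of_dvd_coprimes
        (c.co _ hd ((nd.dvd hB hr he e1).mul_left k)) (dvd_mul_right _ _) hk
      exact .inr (.inr (by rw [one_mul]; exact ⟨he, e1⟩))
  obtain ⟨e, he, e1⟩ : ∃ e ∈ charDegrees N, e ≠ 1 := by
    by_contra k
    push Not at k
    obtain ⟨p, hp, p1⟩ := Nat.exists_prime_and_dvd hB.one_lt.ne'
    refine dis p ⟨hp, _, hf, p1⟩ fun q ⟨hq, d, hd, h1⟩ => ?_
    rcases cs d hd with h | rfl | h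
    · exact absurd h (ne hq h1)
    · exact reach hq hp hf h1 p1
    · exact absurd (k d h.1) h.2
  rw [Nat.card_coe_set_eq, Set.ncard_eq_three]
  refine ⟨1, N.index, e, hB.one_lt.ne, e1.symm, fun h => hB.not_dvd (h ▸ nd.dvd hB hr he e1),
    Set.ext fun d => ⟨fun hd => ?_, ?_⟩⟩
  · exact (cs d hd).imp_right (Or.imp_right fun h => c.uniq gK d h.1 e he h.2 e1)
  · rintro (rfl | rfl | rfl)
    exacts [one_mem_cd, hf, c.sub he e1]

end Cfsg.Agent.S4781
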