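import Cfsg.Statements.S4793
import Cfsg.Agent.H34.WuA2
import Cfsg.Agent.H29.WUZ
import Cfsg.Agent.H43.WUNW
import Cfsg.Agent.H55.WUHom
import Cfsg.Agent.H23.WUSp
import Cfsg.Agent.H4.WUP3
import Cfsg.Agent.H57.WU3c
import Cfsg.Agent.H57.WU3b
import Cfsg.Agent.H34.WuE3
import Cfsg.Agent.H41.WUb
import Cfsg.Agent.H41.WUa
import Cfsg.Agent.H34.WuZa
import Cfsg.Agent.H55.WUEv
import Cfsg.Agent.H53.WUGs
import Cfsg.Agent.H53.WUIrr
import Cfsg.Agent.H53.WUAsm

set_option autoImplicit false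
open Cfsg

namespace Cfsg.Agent.S4793

/-- Let F be a finite field with q² elements, n ≥ 3 with n coprime to 2(q + 1), and G a finite group isomorphic to the projective special unitary group PSU(n, q). Then G has exactly one irreducible complex character of degree (qⁿ − q)/(q + 1), and an irreducible character χ of G has nonzero inner product with the conjugation character g ↦ #C_G(g) (is a constituent of the permutation character of G on itself by conjugation) if and only if its degree is not (qⁿ − q)/(q + 1). -/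
theorem result {G : Type*} [Group G] [Fintype G] (n q : ℕ) (F : Type*) [Field F] [Fintype F] (hF : Fintype.card F = q ^ 2) (hn : 3 ≤ n) (hcop : Nat.Coprime n (2 * (q + 1))) (hG : Nonempty (G ≃* Cfsg.PSU n F q)) : Nat.card {χ : Cfsg.IrrCharacter G // Cfsg.charDegree (χ : G → ℂ) = (q ^ n - q) / (q + 1)} = 1 ∧ ∀ χ : Cfsg.IrrCharacter G, Cfsg.classInner (χ : G → ℂ) (fun g : G => (Nat.card ↥(Subgroup.centralizer ({g} : Set G)) : ℂ)) ≠ 0 ↔ Cfsg.charDegree (χ : G → ℂ) ≠ (q ^ n - q) / (q + 1) := by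
  open H53.WU in
  have z : JobZ := H29.WUZ.jobZ jobGs
  have za : JobZa := H34.WuA.jobZa z
  exact asm za (H41.WU.jobWZ za) (jobA z H34.WuA.jobA2) jobIrr (H43.WUNW.jobNW jobIrr)
    (H41.WU.jobBd (H41.WU.jobKey (H23.WUSp.jobSp H55.WUEv.jobEv)) (H55.WUHom.jobHom H55.WUEv.jobEv jobGE))
    (H4.WUP3.jobP3 jobGE) (H57.WU3.jobS3 za jobGE) (H57.WU3.jobD3 za jobGE) (H34.WuA.jobE3 za) n q F hF hn hcop hG

end Cfsg.Agent.S4793
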