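import Cfsg.Statements.S4803
import Cfsg.Agent.H52.NCCos
import Cfsg.Agent.H40.ClassProd
import Cfsg.Agent.H28.CharKer

set_option autoImplicit false
open Cfsg

namespace Cfsg.Agent.S4803

/-- If a finite group G has an element at which every irreducible complex character of degree greater than one vanishes, then G is solvable. -/
theorem result {G : Type*} [Group G] [Finite G] (g : G) (hg : ∀ χ : Cfsg.IrrCharacter G, Cfsg.charDegree (χ : G → ℂ) ≠ 1 → (χ : G → ℂ) g = 0) : Group.IsSolvable G := by
  have h : H52.NC.Co (commutator G) g := fun n hn => H40.isConj_of_forall_irr_zero_or fun χ => by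
    by_cases e : Cfsg.charDegree (χ : G → ℂ) = 1
    · obtain ⟨f, hf⟩ := H28.Cfsg.IsCharacter.exists_hom (H28.Cfsg.IsIrrCharacter.isCharacter χ.2)
        (by rw [← H28.Cfsg.IsIrrCharacter.cast_charDegree χ.2, e, Nat.cast_one])
      right
      rw [hf]
      simp only [map_mul, show f n = 1 from Abelianization.commutator_subset_ker f hn, one_mul]
    · exact .inl (hg χ e)
  have := h.solvable
  exact Group.isSolvable_of_ker_le_range (commutator G).subtype Abelianization.of (by
    rw [Abelianization.ker_of, Subgroup.range_subtype])

end Cfsg.Agent.S4803
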