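import Cfsg.Statements.S4886
import Cfsg.Agent.H29.NW2
import Cfsg.Agent.S4602

set_option autoImplicit false
open Cfsg

namespace Cfsg.Agent.S4886

/-- Let p ≠ q be primes and G a finite group that is p-solvable and q-solvable. Fix maximal ideals of the algebraic integers containing p and q, defining the principal p-block and the principal q-block. Then every irreducible character of degree prime to p in the principal p-block has degree prime to q and every irreducible character of degree prime to q in the principal q-block has degree prime to p, if and only if some Sylow p-subgroup of G commutes elementwise with some Sylow q-subgroup. -/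
theorem result {G : Type*} [Group G] [Finite G] (p q : ℕ) [Fact p.Prime] [Fact q.Prime] (hpq : p ≠ q) (Mp Mq : Ideal Cfsg.AlgInt) (hMp : Cfsg.IsPModular p Mp) (hMq : Cfsg.IsPModular q Mq) (hps : Cfsg.IsPSolvable p G) (hqs : Cfsg.IsPSolvable q G) : ((∀ χ : Cfsg.IrrCharacter G, χ ∈ Cfsg.principalBlock Mp G → ¬ p ∣ Cfsg.charDegree (χ : G → ℂ) → ¬ q ∣ Cfsg.charDegree (χ : G → ℂ)) ∧ (∀ χ : Cfsg.IrrCharacter G, χ ∈ Cfsg.principalBlock Mq G → ¬ q ∣ Cfsg.charDegree (χ : G → ℂ) → ¬ p ∣ Cfsg.charDegree (χ : G → ℂ))) ↔ ∃ (P : Sylow p G) (Q : Sylow q G), ∀ x ∈ (P : Subgroup G), ∀ y ∈ (Q : Subgroup G), x * y = y * x := by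
  have aux : ∀ (p q : ℕ) [Fact p.Prime] [Fact q.Prime], p ≠ q → ∀ M : Ideal AlgInt,
      IsPModular p M → IsPSolvable p G → ∀ (P : Sylow p G) (Q : Sylow q G),
      (P : Subgroup G) ≤ Subgroup.centralizer (Q : Subgroup G) → ∀ χ : IrrCharacter G,
      χ ∈ principalBlock M G → ¬ q ∣ charDegree (χ : G → ℂ) :=
    fun p q _ _ hpq M hM hs P Q h χ hχ hd => (Cfsg.Agent.S4602.result p q hpq hs).1
      ⟨P, Q, h.trans (Subgroup.centralizer_le_normalizer _)⟩
      (hd.trans (H29.charDegree_dvd_index_of_le_charKer χ.2 _ 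
        (haveI := hM.2.1; H37.pPrimeCore_le_charKer hM hχ)))
  constructor
  · rintro ⟨h1, h2⟩
    obtain ⟨P, Q, h3⟩ := (Cfsg.Agent.S4602.result p q hpq hps).2
      (H29.NW.low_of_block hpq hMp hps hqs h1)
    have h4 := H29.NW.le_of_not_dvd_index P.isPGroup' (H29.NW.low_of_block hpq.symm hMq hqs hps h2)
    have h5 : ⁅(Q : Subgroup G), (P : Subgroup G)⁆ = ⊥ :=
      le_bot_iff.1 (H2.disjoint_pPrimeCore_of_isPGroup Q.isPGroup'
        (H1.commutator_le_of_le_normalizer h3)
        ((Subgroup.commutator_mono le_rfl h4).trans (Subgroup.commutator_le_right _ _)))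
    exact ⟨P, Q, fun x hx y hy => (H1.commutator_eq_bot_iff_le_centralizer'.1 h5 hx y hy).symm⟩
  · rintro ⟨P, Q, h⟩
    exact ⟨fun χ h1 _ => aux p q hpq Mp hMp hps P Q (fun x hx y hy => (h x hx y hy).symm) χ h1,
      fun χ h1 _ => aux q p hpq.symm Mq hMq hqs Q P (fun y hy x hx => h x hx y hy) χ h1⟩

end Cfsg.Agent.S4886
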