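import Cfsg.Statements.S4957
import Cfsg.Agent.H34.TL81
import Cfsg.Agent.H34.KgvA

set_option autoImplicit false
open Cfsg

namespace Cfsg.Agent.S4957

/-- Let X be a finite group and V a normal subgroup of X in which every element has order dividing the prime p, whose index in X is prime to p and which is its own centralizer in X; so V is an elementary abelian normal Sylow p-subgroup, and any complement G to V in X is a group of order prime to p acting faithfully on the vector space V by conjugation (the coprime linear setting of the k(GV) problem). Suppose a complement G to V in X is transitive by conjugation on the nonidentity elements of V. Then X has at most (order of V) conjugacy classes, and if equality holds then G is cyclic (hence, being transitive, a Singer cycle), or V has order 8 and G has order 21 (the nonabelian group of order 21 inside the simple group of order 168), or V has order 9 and G has order 16 (a semidihedral Sylow 2-subgroup of the 2-dimensional general linear group over the field with 3 elements). -/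
theorem result {X : Type*} [Group X] [Finite X] (p : ℕ) [Fact p.Prime] (V : Subgroup X) [V.Normal] (hVexp : ∀ v ∈ V, v ^ p = 1) (hidx : ¬ p ∣ V.index) (hself : Subgroup.centralizer (V : Set X) = V) (G : Subgroup X) (hGV : Subgroup.IsComplement' V G) (htrans : ∀ v ∈ V, ∀ w ∈ V, v ≠ 1 → w ≠ 1 → ∃ g ∈ G, g * v * g⁻¹ = w) : Nat.card (ConjClasses X) ≤ Nat.card V ∧ (Nat.card (ConjClasses X) = Nat.card V → (IsCyclic G ∨ (Nat.card V = 8 ∧ Nat.card G = 21) ∨ (Nat.card V = 9 ∧ Nat.card G = 16))) := by
  classical
  have hp : p.Prime := Fact.out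
  have hab : ∀ a ∈ V, ∀ b ∈ V, a * b = b * a := fun a ha b hb => hself.ge hb a ha
  have hVp : IsPGroup p V := fun v => ⟨1, Subtype.ext (by simpa using hVexp v v.2)⟩
  obtain ⟨n, hn⟩ := hVp.exists_card_eq
  have hG : ¬ p ∣ Nat.card G := hGV.symm.index_eq_card ▸ hidx
  rcases Nat.eq_zero_or_pos n with rfl | hn0
  · have h1 : V = ⊥ := Subgroup.card_eq_one.1 hn
    have : Subsingleton X := ⟨fun a b => by
      have h2 : ∀ x : X, x = 1 := fun x => Subgroup.mem_bot.1 (h1 ▸ hself.le fun y hy => by
        rw [h1] at hy
        rw [Subgroup.mem_bot.1 hy, one_mul, mul_one])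
      rw [h2 a, h2 b]⟩
    refine ⟨(Nat.card_le_card_of_surjective _ ConjClasses.mk_surjective).trans ?_,
      fun _ => .inl inferInstance⟩
    rw [hn]
    exact Finite.card_le_one_iff_subsingleton.2 this
  let _ : CommGroup V := { (inferInstance : Group V) with
    mul_comm := fun a b => Subtype.ext (hab a a.2 b b.2) }
  let _ : DistribMulAction G (Additive V) :=
    { smul := fun g v => Additive.ofMul (MulAut.conjNormal (g : X) v.toMul)
      one_smul := fun v => congrArg Additive.ofMul (Subtype.ext (by simp; rfl))
      mul_smul := fun g h v => congrArg Additive.ofMul (Subtype.ext (by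
        change ((g : X) * h) * _ * ((g : X) * h)⁻¹ = g * (h * _ * (h : X)⁻¹) * (g : X)⁻¹
        group))
      smul_zero := fun g => congrArg Additive.ofMul (map_one _)
      smul_add := fun g v w => congrArg Additive.ofMul (map_mul _ _ _) }
  have sm : ∀ (g : G) (v w : Additive V),
      g • v = w ↔ (g : X) * v.toMul * (g : X)⁻¹ = w.toMul := fun g v w =>
    ⟨fun h => congrArg (fun u : Additive V => (u.toMul : X)) h,
      fun h => congrArg Additive.ofMul (Subtype.ext h)⟩
  have : FaithfulSMul G (Additive V) := ⟨fun {g h} e => by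
    have h1 : (h : X)⁻¹ * g ∈ V := hself.le fun y hy => by
      have h2 : (g : X) * y * (g : X)⁻¹ = h * y * (h : X)⁻¹ :=
        (sm g _ _).1 (e (Additive.ofMul ⟨y, hy⟩))
      calc y * ((h : X)⁻¹ * g) = (h : X)⁻¹ * (h * y * (h : X)⁻¹) * g := by group
        _ = _ := by rw [← h2]; group
    exact Subtype.ext (inv_mul_eq_one.1 (Subgroup.disjoint_def.1 hGV.disjoint h1
      (h⁻¹ * g).2)).symm⟩
  have h : H34.TL.Ctx G (Additive V) p n := ⟨hp, hn0, hn, hG, fun v w hv hw => by
    obtain ⟨g, hg, e⟩ := htrans v.toMul v.toMul.2 w.toMul w.toMul.2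
      (fun e => hv (congrArg Additive.ofMul (Subtype.ext e)))
      fun e => hw (congrArg Additive.ofMul (Subtype.ext e))
    exact ⟨⟨g, hg⟩, (sm _ _ _).2 e⟩⟩
  have := h.nontrivial
  obtain ⟨v, hv⟩ := exists_ne (0 : Additive V)
  have hv1 : (v.toMul : X) ≠ 1 := fun e => hv (congrArg Additive.ofMul (Subtype.ext e))
  have h1 := H34.card_conj_eq_sum hab hGV
    (hn ▸ ((Nat.Prime.coprime_iff_not_dvd hp).2 hG).pow_left n) {1, (v.toMul : X)}
    (by simp) fun w hw => by
      by_cases e : w = 1
      · subst e
        exact ⟨1, ⟨by simp, 1, G.one_mem, by simp⟩, fun s ⟨_, g, _, e⟩ => by simpa using e.symm⟩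
      · refine ⟨v.toMul, ⟨by simp, htrans w hw _ v.toMul.2 e hv1⟩, fun s ⟨h1, g, _, h2⟩ => ?_⟩
        rcases Finset.mem_insert.1 h1 with rfl | h1
        · exact absurd (by simpa using h2) e
        · exact Finset.mem_singleton.1 h1
  rw [Finset.sum_pair hv1.symm, show G ⊓ Subgroup.centralizer ({1} : Set X) = G from
    inf_eq_left.2 fun g _ => Subgroup.mem_centralizer_singleton_iff.2 (by simp)] at h1
  have h2 : Nat.card (ConjClasses ↥(G ⊓ Subgroup.centralizer ({(v.toMul : X)} : Set X))) ≤
      Nat.card (MulAction.stabilizer G v) :=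
    (Nat.card_le_card_of_surjective _ ConjClasses.mk_surjective).trans
      (Nat.card_le_card_of_injective (fun g => (⟨⟨g, g.2.1⟩, (sm _ _ _).2 (mul_inv_eq_iff_eq_mul.2
        (Subgroup.mem_centralizer_singleton_iff.1 g.2.2))⟩ : MulAction.stabilizer G v))
        fun a b e => Subtype.ext (congrArg (fun u : MulAction.stabilizer G v => (u : X)) e))
  obtain ⟨h3, h4⟩ := h.good hv
  change _ ≤ Nat.card V at h3
  exact ⟨by omega, fun e => h4 (by change _ = Nat.card V; omega)⟩

end Cfsg.Agent.S4957
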