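import Cfsg.Statements.S4976
import Cfsg.Agent.H34.Real3

set_option autoImplicit false
open Cfsg

namespace Cfsg.Agent.S4976

/-- Let G be a finite group of order divisible by 3 that is generated by its 2-elements (G has no proper normal subgroup of odd index). Then no element of order 3 in G is conjugate to its inverse if and only if the quotient of G by its largest normal subgroup of order prime to 3 is isomorphic to a direct product of groups PSL₂ over fields with 3^{2f+1} elements, f ≥ 1 (the exponents may differ between factors). -/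
theorem result {G : Type*} [Group G] [Finite G] (h3 : 3 ∣ Nat.card G) (hgen : Subgroup.closure {g : G | ∃ k : ℕ, orderOf g = 2 ^ k} = ⊤) : (∀ x : G, orderOf x = 3 → ¬ IsConj x x⁻¹) ↔ ∃ (k : ℕ) (f : Fin k → ℕ), (∀ i, 1 ≤ f i) ∧ Nonempty (G ⧸ Cfsg.pPrimeCore 3 G ≃* ((i : Fin k) → Matrix.ProjectiveSpecialLinearGroup (Fin 2) (GaloisField 3 (2 * f i + 1)))) := by
  constructor
  · intro h
    refine H34.Real3.main (fun e => ?_) (H2.pPrimeCore_quotient_pPrimeCore 3 G) ?_
    · obtain ⟨a, x, h3, h1, e⟩ := H13.exists_inverts_of_s3 (H94.involves_trans e (H94.involves_quotient _))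
      exact h x (orderOf_eq_prime h3 h1) (isConj_iff.2 ⟨a, e⟩)
    · rw [eq_top_iff, ← Subgroup.map_top_of_surjective _ (QuotientGroup.mk'_surjective _), ← hgen,
        MonoidHom.map_closure]
      refine Subgroup.closure_mono ?_
      rintro _ ⟨g, ⟨k, hk⟩, rfl⟩
      exact ⟨k, by rw [← map_pow, ← hk, pow_orderOf_eq_one, map_one]⟩
  · rintro ⟨k, f, -, ⟨e⟩⟩ x hx hc
    obtain ⟨a, ha⟩ := isConj_iff.1 hc
    let φ := e.toMonoidHom.comp (QuotientGroup.mk' (pPrimeCore 3 G))
    have h1 : φ x ≠ 1 := fun h => by
      have := H2.coprime_orderOf_of_mem_pPrimeCore ((QuotientGroup.eq_one_iff x).1 (e.map_eq_one_iff.1 h))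
      rw [hx] at this
      exact absurd this (by decide)
    obtain ⟨i, hi⟩ := Function.ne_iff.1 h1
    have := Fintype.ofFinite (GaloisField 3 (2 * f i + 1))
    refine (H13.psl_three (g := φ a i) ?_ hi ?_).2 ?_
    · have := H13.three_pow_mod (f i)
      rw [← Nat.card_eq_fintype_card, GaloisField.card _ _ (by omega)]
      omega
    · rw [← Pi.pow_apply, ← map_pow, show x ^ 3 = 1 from hx ▸ pow_orderOf_eq_one x, map_one, Pi.one_apply]
    · have := congrFun (congrArg φ ha) i
      rwa [map_mul, map_mul, map_inv, map_inv] at this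

end Cfsg.Agent.S4976
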