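import Cfsg.Statements.S4984
import Cfsg.Agent.H53.DGAll
import Cfsg.Agent.H53.DGAsm
import Cfsg.Agent.H12.DGE6
import Cfsg.Agent.H12.DGE8
import Cfsg.Agent.H96.DGFm
import Cfsg.Agent.H5.DGFC
import Cfsg.Agent.H55.DGFP
import Cfsg.Agent.H62.DGBo
import Cfsg.Agent.H7.DGE7

set_option autoImplicit false
open Cfsg

namespace Cfsg.Agent.S4984

/-- Let G be a finite simple symplectic group PSp_{2m}(q) (m ≥ 2, excluding PSp₄(2)) or a finite simple orthogonal group PΩ_{2m+1}(q) (m ≥ 3, q odd), PΩ⁺_{2m}(q) or PΩ⁻_{2m}(q) (m ≥ 4). Then the character degree graph of G is complete: for any two distinct primes each dividing some irreducible complex character degree of G, their product divides some irreducible character degree of G. -/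
theorem result {G : Type*} [Group G] [Finite G] (h : Cfsg.IsPSp G ∨ Cfsg.IsPOmegaOdd G ∨ Cfsg.IsPOmegaPlus G ∨ Cfsg.IsPOmegaMinus G) (r s : ℕ) (hr : r ∈ Cfsg.degreePrimes G) (hs : s ∈ Cfsg.degreePrimes G) (hrs : r ≠ s) : (Cfsg.degreeGraph G).Adj r s := by
  open H53.DG in
  exact asm H62.DGBo.jobBS H62.DGBo.jobBO (H5.DGFC.jobFC aGen aR2 aPS aTS)
    (H5.DGFC.jobFB aGen aR2 aRes H62.DGBo.jobBO) (H55.DGFP.jobFP aGen aPS aRes H62.DGBo.jobBO)
    (H96.DGF.jobFM aGen aR2 aPS aRes H62.DGBo.jobBO)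
    (H96.DGF.jobFS aGen aR2 aPS aRes H62.DGBo.jobBO
      (H12.DGE.jobE6 aHol H8.DG.jobSC aPS H62.DGIso.jobIso)
      (H7.DGE7.jobE7 aHol H8.DG.jobSC aPS aIdx H62.DGIso.jobIso) (H12.DGE.jobE8 aHol aIdx H62.DGIso.jobIso))
    h r s hr hs hrs

end Cfsg.Agent.S4984
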