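import Cfsg.Statements.S4993
import Cfsg.Agent.Base
import Cfsg.Agent.H33.PrimDeg
import Cfsg.Agent.H42.OddOrder

set_option autoImplicit false
open Cfsg

namespace Cfsg.Agent.S4993

/-- Let G be a group of odd order whose order has exactly two prime divisors and whose quotient by its Fitting subgroup is nilpotent (G is metanilpotent), and let χ be a primitive irreducible complex character of G (not induced from a character of any proper subgroup). Then χ(1) divides the size of some conjugacy class of G. -/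
theorem result {G : Type*} [Group G] [Fintype G] (hodd : Odd (Nat.card G)) (h2 : (Nat.card G).primeFactors.card = 2) [hF : (Cfsg.fittingSubgroup G).Normal] (hmeta : Group.IsNilpotent (G ⧸ Cfsg.fittingSubgroup G)) (χ : Cfsg.IrrCharacter G) (hprim : ¬ ∃ (H : Subgroup G), H ≠ ⊤ ∧ ∃ θ : ↥H → ℂ, Cfsg.IsCharacter ↥H θ ∧ Cfsg.indFun H θ = (χ : G → ℂ)) : ∃ g : G, Cfsg.charDegree (χ : G → ℂ) ∣ (Subgroup.centralizer ({g} : Set G)).index := by
  obtain ⟨p, q, hpq, he⟩ := Finset.card_eq_two.1 h2
  have hm : ∀ r, r.Prime → r ∣ Nat.card G → r = p ∨ r = q := fun r h1 h2 => by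
    simpa using he.le (Nat.mem_primeFactors.2 ⟨h1, h2, Nat.card_pos.ne'⟩)
  have hp : p.Prime := Nat.prime_of_mem_primeFactors (he.ge (by simp))
  have hq : q.Prime := Nat.prime_of_mem_primeFactors (he.ge (by simp))
  have := Fact.mk hp
  let f := QuotientGroup.mk' (fittingSubgroup G)
  obtain ⟨x, hx⟩ := H33.Solv.exists_class (H42.odd_order hodd) χ.2 hprim hp
    (R := (pCore p _).comap f) inferInstance fun y hy => by
      obtain ⟨k, hk⟩ := H2.pCore_isPGroup p _ ⟨_, hy⟩
      exact ⟨k, (QuotientGroup.eq_one_iff _).1 ((map_pow f y _).trans (congrArg Subtype.val hk))⟩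
  obtain ⟨z, hz⟩ := H33.Solv.exists_class (H42.odd_order hodd) χ.2 hprim hq
    (R := (pPrimeCore p _).comap f) inferInstance fun y hy => by
      have := Nat.eq_prime_pow_of_unique_prime_dvd (orderOf_pos (f y)).ne' fun {d} h1 h2 =>
        (hm d h1 (h2.trans ((orderOf_map_dvd f y).trans (orderOf_dvd_natCard y)))).resolve_left
          fun e => hp.one_lt.ne' (Nat.eq_one_of_dvd_coprimes
            (H2.coprime_orderOf_of_mem_pPrimeCore hy) (e ▸ h2) dvd_rfl)
      exact ⟨_, (QuotientGroup.eq_one_iff _).1 ((map_pow f y _).trans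
        (by rw [← this, pow_orderOf_eq_one]))⟩
  obtain ⟨a, ha, b, hb, e⟩ := Subgroup.mem_sup_of_normal_right.1
    ((H2.pCore_sup_pPrimeCore_eq_top p).ge (Subgroup.mem_top (f (x⁻¹ * z))))
  obtain ⟨a, rfl⟩ := QuotientGroup.mk'_surjective _ a
  have h3 := hz (z⁻¹ * (x * a)) (by
    rw [Subgroup.mem_comap, show f (z⁻¹ * (x * a)) = ((f a)⁻¹ * (f a * b))⁻¹ by
      rw [show f a * b = _ from e]; simp only [map_mul, map_inv]; group, inv_mul_cancel_left]
    exact inv_mem hb)
  rw [mul_inv_cancel_left] at h3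
  refine ⟨x * a, (Nat.factorization_prime_le_iff_dvd (H28.Cfsg.IsIrrCharacter.charDegree_pos χ.2).ne'
    Subgroup.index_ne_zero_of_finite).1 fun r hr => ?_⟩
  by_cases h : r ∣ Nat.card G
  · rcases hm r hr h with rfl | rfl
    exacts [hx a ha, h3]
  · rw [Nat.factorization_eq_zero_of_not_dvd fun e => h (e.trans (H28.Cfsg.IsIrrCharacter.charDegree_dvd_card χ.2))]
    exact Nat.zero_le _

end Cfsg.Agent.S4993
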