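import Cfsg.Statements.S5010
import Cfsg.Agent.H44.CD4
import Cfsg.Agent.H38.Ito
import Cfsg.Agent.H98.Sylow
import Cfsg.Agent.H5.CK
import Cfsg.Agent.H1.Coprime2
import Cfsg.Agent.H3.FrattiniP
import Cfsg.Agent.H4.HallBasic

set_option autoImplicit false
open Cfsg

namespace Cfsg.Agent.S5010

open Subgroup H44

theorem dvd_of_sqf {s d : ℕ} (hd : Squarefree d) {i : ℕ} (h : s ^ i ∣ d) : s ^ i ∣ s :=
  (hd.squarefree_of_dvd h).isRadical i s dvd_rfl

theorem cyc_of_orbits {S A : Type*} [Group S] [Finite S] [CommGroup A] [MulDistribMulAction S A]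
    {s : ℕ} [hs : Fact s.Prime] (hS : IsPGroup s S) (h1 : ∀ g : S, (∀ a : A, g • a = a) → g = 1)
    (h2 : ∀ a : A, (MulAction.stabilizer S a).index ∣ s) (h3 : ∀ a : A, a ^ s = 1 → a = 1) :
    IsCyclic S := by
  have idx : ∀ a : A, MulAction.stabilizer S a ≠ ⊤ → (MulAction.stabilizer S a).index = s :=
    fun a e => ((Nat.dvd_prime hs.out).1 (h2 a)).resolve_left fun e1 => e (index_eq_one.1 e1)
  have le : ∀ a b : A, MulAction.stabilizer S b ≠ ⊤ →
      MulAction.stabilizer S a ≤ MulAction.stabilizer S b →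
      MulAction.stabilizer S b ≤ MulAction.stabilizer S a := fun a b e e1 => by
    have := relIndex_mul_index e1
    rw [idx b e, idx a fun e2 => e (top_le_iff.1 (e2 ▸ e1))] at this
    exact relIndex_eq_one.1 ((Nat.mul_eq_right hs.out.ne_zero).1 this)
  have nm : ∀ a : A, (MulAction.stabilizer S a).Normal := fun a => by
    by_cases e : MulAction.stabilizer S a = ⊤
    · rw [e]; infer_instance
    obtain ⟨n, hn⟩ := IsPGroup.iff_card.1 hS
    refine normal_of_index_eq_minFac_card ?_
    rw [idx a e, hn, hs.out.pow_minFac]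
    rintro rfl
    have := (MulAction.stabilizer S a).index_dvd_card
    rw [idx a e, hn, pow_zero] at this
    exact hs.out.one_lt.ne' (Nat.dvd_one.1 this)
  have fx : ∀ (a : A) (t : S), MulAction.stabilizer S a ≤ MulAction.stabilizer S (t • a * a⁻¹) :=
    fun a t g hg => by
    have e : (t⁻¹ * g * t⁻¹⁻¹) • a = a := (nm a).conj_mem g hg t⁻¹
    rw [MulAction.mem_stabilizer_iff, smul_mul', smul_inv', hg, ← mul_smul,
      show g * t = t * (t⁻¹ * g * t⁻¹⁻¹) by group, mul_smul, e]
  by_cases e : ∀ a : A, MulAction.stabilizer S a = ⊤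
  · have : Subsingleton S := ⟨fun a b => (h1 a fun x => (e x).ge (mem_top a)).trans
      (h1 b fun x => (e x).ge (mem_top b)).symm⟩
    infer_instance
  obtain ⟨a, ha⟩ := not_forall.1 e
  refine isCyclic_of_prime_card (p := s) ?_
  rw [← idx a ha, ← index_bot]
  congr 1
  refine ((eq_bot_iff_forall _).2 fun u hu => h1 u fun b => by_contra fun hb => ?_).symm
  have hb' : MulAction.stabilizer S b ≠ ⊤ := fun e1 => hb (e1.ge (mem_top u))
  obtain ⟨t, t1, t2⟩ : ∃ t ∈ MulAction.stabilizer S (a * b), t ∉ MulAction.stabilizer S a :=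
    SetLike.not_le_iff_exists.1 fun e1 => hb (by
      have e2 : u • (a * b) = a * b := le _ _ ha e1 hu
      rwa [smul_mul', hu, mul_right_inj] at e2)
  have e1 : t • a * a⁻¹ = (t • b * b⁻¹)⁻¹ := by
    have e2 : t • (a * b) = a * b := t1
    rw [eq_inv_iff_mul_eq_one, mul_mul_mul_comm, ← smul_mul', e2, ← mul_inv, mul_inv_cancel]
  have e2 : MulAction.stabilizer S (t • a * a⁻¹) = ⊤ := by
    by_contra e2
    refine hb (le b _ e2 (fun g hg => ?_) (fx a t hu))
    rw [e1, MulAction.mem_stabilizer_iff, smul_inv', fx b t hg]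
  have e3 : ∀ n : ℕ, t ^ n • a = (t • a * a⁻¹) ^ n * a := fun n => by
    induction n with
    | zero => simp
    | succ n ih =>
      rw [pow_succ', mul_smul, ih, smul_mul', smul_pow', e2.ge (mem_top t), pow_succ, mul_assoc,
        inv_mul_cancel_right]
  have := nm a
  have e4 := (MulAction.stabilizer S a).pow_index_mem t
  rw [idx a ha, MulAction.mem_stabilizer_iff, e3, mul_eq_right] at e4
  exact t2 (mul_inv_eq_one.1 (h3 _ e4))

variable {G : Type*} [Group G] [Finite G]

theorem fit_two (h : ∀ d ∈ charDegrees G, Squarefree d) :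
    derivedSeries (fittingSubgroup G) 2 = ⊥ := by
  refine (eq_bot_iff_forall _).2 fun x hx => by_contra fun x1 => ?_
  obtain ⟨p, hp, hd⟩ := Nat.exists_prime_and_dvd (mt orderOf_eq_one_iff.1 x1)
  have := Fact.mk hp
  let π := QuotientGroup.mk' (pPrimeCore p (fittingSubgroup G))
  have hP : IsPGroup p (fittingSubgroup G ⧸ pPrimeCore p (fittingSubgroup G)) := by
    have := (H2.pCore_isPGroup p (fittingSubgroup G)).map π
    have e := congrArg (map π) (H2.pCore_sup_pPrimeCore_eq_top (G := fittingSubgroup G) p)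
    rw [Subgroup.map_sup, QuotientGroup.map_mk'_self, sup_bot_eq,
      map_top_of_surjective _ (QuotientGroup.mk'_surjective _)] at e
    exact H98.isPGroup_top_iff.1 (e ▸ this)
  have e := derived_two (m := p) (G := fittingSubgroup G ⧸ pPrimeCore p (fittingSubgroup G))
    fun d hd => by
      obtain ⟨n, hn⟩ := IsPGroup.iff_card.1 hP
      obtain ⟨i, -, rfl⟩ := (Nat.dvd_prime_pow hp).1 (hn ▸ dvd_card_of_mem_cd hd)
      obtain ⟨k, -, hk⟩ := cd_over _ (cd_quot _ hd)
      exact (Nat.dvd_prime hp).1 (dvd_of_sqf (h _ hk) (dvd_mul_left _ _))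
  have e1 := map_derivedSeries_le_derivedSeries π 2 (mem_map_of_mem π hx)
  rw [e, mem_bot, QuotientGroup.mk'_apply, QuotientGroup.eq_one_iff] at e1
  exact H2.not_dvd_card_pPrimeCore p _ (hd.trans (orderOf_dvd_natCard _ e1))

theorem cyc_core (h : ∀ d ∈ charDegrees G, Squarefree d) (s : ℕ) [hs : Fact s.Prime] :
    IsCyclic (pCore s (G ⧸ fittingSubgroup G)) := by
  let F := fittingSubgroup G
  let π := QuotientGroup.mk' F
  let L := pPrimeCore s G ⊓ F
  have cL : ¬ s ∣ Nat.card L := fun e =>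
    H2.not_dvd_card_pPrimeCore s G (e.trans (card_dvd_of_le inf_le_left))
  have dec : ∀ f ∈ F, ∃ a ∈ pCore s G, ∃ b ∈ L, a * b = f := fun f hf => by
    obtain ⟨a, ha, b, hb, rfl⟩ := mem_sup_of_normal_right.1 (H2.fitting_le_pCore_sup_pPrimeCore s G hf)
    exact ⟨a, ha, b, ⟨hb, (mul_mem_cancel_left (H2.pCore_le_fitting s G ha)).1 hf⟩, rfl⟩
  have cen : ∀ K : Subgroup G, IsPGroup s K → (∀ g ∈ K, ∀ l : L →* ℂˣ, cjh g l = l) →
      K ≤ centralizer (L : Set G) := fun K hK hf => by
    obtain ⟨n, hn⟩ := IsPGroup.iff_card.1 hK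
    have := H2.isNilpotent_of_le_fitting (inf_le_right : L ≤ F)
    refine H1.le_centralizer_of_commutator_le_frattini (le_normalizer_of_normal)
      (hn ▸ ((Nat.Prime.coprime_iff_not_dvd hs.out).2 cL).pow_left n)
      (commutator_le.2 fun x hx g hg => ?_)
    have m : g * x⁻¹ * g⁻¹ ∈ L := Normal.conj_mem inferInstance _ (inv_mem hx) g
    refine ⟨⟨x, hx⟩ * ⟨_, m⟩, H3.commutator_le_frattini_of_nilpotent (by_contra fun e => ?_), by
      simp [commutatorElement_def, mul_assoc]⟩
    obtain ⟨l, -, e1⟩ := exists_hom_ne_one_of_commutator_le _ le_rfl e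
    have e2 : l ⟨_, m⟩ = l ⟨x, hx⟩⁻¹ := DFunLike.congr_fun (hf g hg l) ⟨x, hx⟩⁻¹
    exact e1 (by rw [map_mul, e2, ← map_mul, mul_inv_cancel, map_one])
  let _ : MulDistribMulAction G (L →* ℂˣ) :=
    { smul g l := cjh g⁻¹ l
      one_smul l := by show cjh 1⁻¹ l = l; rw [inv_one, cjh_one]
      mul_smul g k l := by show cjh (g * k)⁻¹ l = cjh g⁻¹ (cjh k⁻¹ l); rw [mul_inv_rev, cjh_mul]
      smul_mul g := map_mul (cjh g⁻¹)
      smul_one g := map_one (cjh g⁻¹) }
  have hF : F ≤ (MulDistribMulAction.toMulAut G (L →* ℂˣ)).ker := fun f hf => by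
    obtain ⟨a, ha, b, hb, e⟩ := dec _ (inv_mem hf)
    ext l x
    have e1 : a * (b * x * b⁻¹) = b * x * b⁻¹ * a := (commute_of_normal_of_disjoint _ _ inferInstance
      inferInstance (H2.disjoint_pCore_pPrimeCore s G) a _ ha
      (mul_mem (mul_mem hb.1 x.2.1) (inv_mem hb.1))).eq
    have e2 : cjh f⁻¹ l x = l (⟨b, hb⟩ * x * ⟨b, hb⟩⁻¹) := by
      rw [cjh_apply]; congr 1
      exact Subtype.ext (by
        show f⁻¹ * x * f⁻¹⁻¹ = b * x * b⁻¹
        rw [← e, ← mul_inv_cancel_right (b * x * b⁻¹) a, ← e1]; group)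
    exact congrArg Units.val (e2.trans (by simp [mul_comm]))
  let ψ := QuotientGroup.lift F _ hF
  let _ : MulDistribMulAction (G ⧸ F) (L →* ℂˣ) := MulDistribMulAction.compHom _ ψ
  have sm : ∀ (g : G) (l : L →* ℂˣ), π g • l = cjh g⁻¹ l := fun _ _ => rfl
  refine cyc_of_orbits (A := L →* ℂˣ) (H2.pCore_isPGroup s _) (fun x hx => ?_) (fun l => ?_)
    fun l e => ?_
  · let K := (pCore s (G ⧸ F)).comap π ⊓ (MulDistribMulAction.toMulAut G (L →* ℂˣ)).ker
    obtain ⟨T, hT⟩ := H98.exists_isSyl s K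
    have h1 := cen T hT.isPGroup fun g hg l => by
      have : cjh g⁻¹⁻¹ l = l := DFunLike.congr_fun (MonoidHom.mem_ker.1 (inv_mem (hT.le hg)).2) l
      rwa [inv_inv] at this
    have FK : F ≤ K := le_inf (fun f hf => by
      simp [π, (QuotientGroup.eq_one_iff f).2 hf]) hF
    have h2 : K ≤ T ⊔ F := by
      have := (hT.map π).eq_of_isPGroup ((H2.pCore_isPGroup s _).to_le
        (map_le_iff_le_comap.2 inf_le_left))
      rw [← QuotientGroup.ker_mk' F, ← comap_map_eq, this]
      exact le_comap_map _ _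
    have h3 : K ≤ normalizer (T : Set G) := h2.trans (sup_le le_normalizer fun f hf => by
      obtain ⟨a, ha, b, hb, rfl⟩ := dec f hf
      exact mul_mem (le_normalizer (hT.le_of_le_normalizer (H2.pCore_isPGroup s G)
        ((H2.pCore_le_fitting s G).trans FK) le_normalizer_of_normal ha))
        (centralizer_le_normalizer _ (le_centralizer_iff.1 h1 hb)))
    have : T.Normal := normalizer_eq_top_iff.1 (eq_top_iff.2 fun g _ => by
      obtain ⟨a, ha, n, hn, rfl⟩ := hT.frattini_mem (g := g) (le_normalizer_of_normal (mem_top g))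
      exact mul_mem ha (h3 hn))
    obtain ⟨x, hx'⟩ := x
    obtain ⟨g, rfl⟩ := QuotientGroup.mk'_surjective F x
    exact Subtype.ext ((QuotientGroup.eq_one_iff g).2 (sup_le (H2.le_fitting_of_isPGroup
      hT.isPGroup) le_rfl (h2 ⟨hx', MulEquiv.ext hx⟩)))
  · have := Fintype.ofFinite L
    obtain ⟨i, hi⟩ := (H2.pCore_isPGroup s (G ⧸ F)).index (MulAction.stabilizer _ l)
    obtain ⟨χ, hχ⟩ := H38.exists_over L.subtype_injective ⟨_, H28.isIrrCharacter_of_hom l⟩
    have e1 := H38.charDegree_dvd_of_over χ.2 (H28.isIrrCharacter_of_hom l) hχ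
    have e2 : (MulAction.stabilizer (G ⧸ F) l).comap π = H32.inertia (H32.homToFun L l) := by
      ext g
      rw [← Subgroup.inv_mem_iff (H32.inertia _), H32.mem_inertia, cj_homToFun,
        H32.homToFun_injective.eq_iff]
      rfl
    have e3 := H4.relIndex_dvd_index_of_normal_right (MulAction.stabilizer (G ⧸ F) l) (pCore s _)
    rw [← index_comap_of_surjective _ (QuotientGroup.mk'_surjective F), e2] at e3
    rw [hi]
    exact dvd_of_sqf (h _ (mem_cd χ.2)) (hi ▸ e3.trans ((dvd_mul_right _ _).trans e1))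
  · have e1 : l ^ Nat.card L = 1 := by ext x; simp [← map_pow]
    have := pow_gcd_eq_one.2 ⟨e, e1⟩
    rwa [(Nat.Prime.coprime_iff_not_dvd hs.out).2 cL, pow_one] at this

/-- Let `G` be a finite solvable group. If every irreducible complex character degree of `G` is squarefree (1 included), then the derived length of `G` is at most 4. -/
theorem result {G : Type*} [Group G] [Finite G] [Group.IsSolvable G]
    (h : ∀ χ : Cfsg.IrrCharacter G, Squarefree (Cfsg.charDegree (χ : G → ℂ))) : derivedSeries G 4 = ⊥ := by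
  have h' : ∀ d ∈ charDegrees G, Squarefree d := by rintro _ ⟨χ, rfl⟩; exact h χ
  have e1 : commutator (G ⧸ fittingSubgroup G) ≤
      centralizer (fittingSubgroup (G ⧸ fittingSubgroup G) : Set (G ⧸ fittingSubgroup G)) := by
    rw [le_centralizer_iff, H2.fitting_eq_iSup_pCore (G ⧸ _)]
    refine iSup_le fun s => le_centralizer_iff.1 ?_
    have := Fact.mk s.2
    have := cyc_core h' s
    exact H5.commutator_le_centralizer_of_cyclic _
  have e2 : derivedSeries (G ⧸ fittingSubgroup G) 2 = ⊥ := eq_bot_iff.2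
    ((commutator_mono e1 (e1.trans (H2.centralizer_fitting_le _))).trans
      (commutator_eq_bot_iff_le_centralizer.2 le_rfl).le)
  have e3 := derived_le_map (N := fittingSubgroup G) (i := 0) (j := 2) (fun x hx => by
    have := map_derivedSeries_le_derivedSeries (QuotientGroup.mk' (fittingSubgroup G)) 2
      (mem_map_of_mem _ hx)
    rw [e2, mem_bot, QuotientGroup.mk'_apply, QuotientGroup.eq_one_iff] at this
    exact ⟨⟨x, this⟩, mem_top _, rfl⟩) 2
  rwa [fit_two h', Subgroup.map_bot, le_bot_iff] at e3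

end Cfsg.Agent.S5010
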