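import Cfsg.Statements.S5056
import Cfsg.Agent.S5044
import Cfsg.Agent.H66.RIT3
import Cfsg.Agent.H33.RitHyp
import Cfsg.Agent.H25.RitAS
import Cfsg.Agent.H43.RITGood
import Cfsg.Agent.H21.RitDeg
import Cfsg.Agent.H37.RitP2
import Cfsg.Agent.H93.RitComm
import Cfsg.Agent.H58.RitP3
import Cfsg.Agent.H26.RITNP
import Cfsg.Agent.H88.RITP1

set_option autoImplicit false
open Cfsg

namespace Cfsg.Agent.S5056

/-- The Root Involution Theorem. Let G be a finite group with O₂(G) = 1 and trivial centre, generated by a class D of root involutions, and suppose some product of two different commuting members of D lies in D. Then one of the following holds. (1) The commuting graph of D is disconnected and G is isomorphic to L₂(q), Sz(q) or U₃(q) for a power q > 2 of 2. (2) The commuting graph of D is connected; for every d ∈ D the members of D with the same commuting members as d form, together with 1, a subgroup E(d); and either for every d the conjugates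 of E(d) form a class of abstract k-root subgroups of G, k a field with as many elements as E(d), or D is non-degenerate, every E(d) has order 2, and for every d the members of D commuting with d generate a subgroup of order at most 2¹⁰. -/
theorem result {G : Type*} [Group G] [Finite G] {D : Set G} (hcl : Cfsg.IsRootInvolutionClass D)
    (hO : Cfsg.pCore 2 G = ⊥) (hZ : Subgroup.center G = ⊥) (hDD : (D ∩ Cfsg.commutingProducts D).Nonempty) :
    (¬ Cfsg.IsConnectedSet (Cfsg.CommAdj D) D ∧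
      ((∃ (F : Type) (_ : Field F) (_ : Fintype F), CharP F 2 ∧ 4 ≤ Fintype.card F ∧
          Nonempty (G ≃* Matrix.ProjectiveSpecialLinearGroup (Fin 2) F)) ∨
        Cfsg.Lie.IsoSuzuki G ∨
        (∃ (F : Type) (_ : Field F) (_ : Fintype F) (q : ℕ), CharP F 2 ∧ Fintype.card F = q ^ 2 ∧ 4 ≤ q ∧
          Nonempty (G ≃* Cfsg.PSU 3 F q)))) ∨
    (Cfsg.IsConnectedSet (Cfsg.CommAdj D) D ∧
      (∀ d ∈ D, (Cfsg.sameCommutingSubgroup D d : Set G) = Cfsg.sameCommutingClass D d ∪ {1}) ∧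
      ((∀ d ∈ D, ∃ (F : Type) (_ : Field F) (_ : Fintype F),
          Fintype.card F = Nat.card ↥(Cfsg.sameCommutingSubgroup D d) ∧
          Cfsg.IsKRootSubgroupSet F {A : Subgroup G | ∃ g : G, A = Cfsg.conjBy (Cfsg.sameCommutingSubgroup D d) g} ∧
          Cfsg.IsConjClassOfSubgroups {A : Subgroup G | ∃ g : G, A = Cfsg.conjBy (Cfsg.sameCommutingSubgroup D d) g}) ∨
       (Cfsg.IsNondegenerateRootInvolutionSet D ∧ ∀ d ∈ D, Nat.card ↥(Cfsg.sameCommutingSubgroup D d) = 2 ∧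
          Nat.card ↥(Subgroup.closure (Cfsg.commutingMembers D d)) ≤ 2 ^ 10))) := by
  have hD := hcl.1
  have AS := H25.RIT.jobAS H93.RitComm.jobComm G D
  by_cases hc : IsConnectedSet (CommAdj D) D
  swap
  · have hT : twoZCore G = ⊥ := eq_bot_iff.2 fun x hx => hZ ▸ Subgroup.mem_center_iff.2 fun g => by
      have := H66.RI.mem_twoZCore.1 hx g
      rwa [hO, Subgroup.mem_bot, mul_inv_eq_one, mul_inv_eq_iff_eq_mul] at this
    have e : G ⧸ twoZCore G ≃* G := (QuotientGroup.quotientMulEquivOfEq hT).trans QuotientGroup.quotientBot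
    refine .inl ⟨hc, ?_⟩
    rcases Cfsg.Agent.S5044.result hD hDD with k | ⟨F, _, _, h1, h2, ⟨f⟩⟩ | ⟨F, _, _, m, h1, h2, ⟨f⟩⟩ |
      ⟨F, _, _, q, h1, h2, h3, ⟨f⟩⟩
    · exact absurd k hc
    · exact .inl ⟨F, _, _, h1, h2, ⟨e.symm.trans f⟩⟩
    · exact .inr (.inl ⟨F, _, _, m, h1, h2, ⟨e.symm.trans f⟩⟩)
    · exact .inr (.inr ⟨F, _, _, q, h1, h2, h3, ⟨e.symm.trans f⟩⟩)
  refine .inr ⟨hc, ?_⟩
  by_cases h4 : ∃ a ∈ D, ∃ b ∈ D, orderOf (a * b) = 4
  swap
  · obtain ⟨h1, h2⟩ := H21.RitDeg.jobDeg G D ⟨hD, fun a ha b hb k => h4 ⟨a, ha, b, hb, k⟩⟩ hcl hO hZ hDD hc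
    exact ⟨h1.sub, .inl (AS h1 h2)⟩
  have nd : IsNondegenerateRootInvolutionSet D := by
    refine ⟨hD, ?_, ?_, h4⟩
    · obtain ⟨a, ha, c, hc, k, m⟩ := H66.RI.exists_line hDD
      exact ⟨a, ha, c, hc, H66.RI.ne_of_line hD hc m, k⟩
    · by_contra hn
      have := H70.ri_pgroup_closure hD subset_rfl (fun s hs t ht => H70.ri_conj' hD ht (H70.ri_sq hD hs))
        fun s hs t ht o => hn ⟨s, hs, t, ht, o⟩
      rw [hD.generates] at this
      obtain ⟨a, ha⟩ := hcl.2.1
      refine H70.ri_ne_one hD ha (Subgroup.mem_bot.1 (hO ▸ ?_))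
      exact (le_sSup (s := {N : Subgroup G | N.Normal ∧ IsPGroup 2 N}) ⟨inferInstance, this⟩ :) (Subgroup.mem_top a)
  have n := H70.ndc_of_nd nd hcl
  have h := H66.RIT.jobHE G D n hO hZ
  refine ⟨h.sub, ?_⟩
  have good : (∀ a ∈ D, ∀ b ∈ D, H70.IOpp a b → H66.RIT.Good D a b) → H66.RIT.AltA D := fun k =>
    AS h fun a ha b hb o => H43.RITGood.jobGood H66.RIT.jobPart G D h a ha b hb o (k a ha b hb o)
  by_cases k : ∃ a ∈ D, ∃ b ∈ D, H70.IOpp a b ∧ ¬ H66.RIT.Good D a b
  · exact (H58.RitP3.jobP3 H88.RITP1.jobP1 H37.RitP2.jobP2 G D (H33.RitHyp.jobHyp G D h n hcl.2.1 hO hZ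
      (H26.RITNP.jobNP H66.RIT.jobPart G D h n hZ k))).imp good fun s => ⟨nd, s⟩
  · exact .inl (good fun a ha b hb o => by_contra fun k' => k ⟨a, ha, b, hb, o, k'⟩)

end Cfsg.Agent.S5056
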