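import Cfsg.Statements.S5107
import Cfsg.Agent.H94.Solv2

set_option autoImplicit false
open Cfsg

namespace Cfsg.Agent.S5107

/-- If a Sylow p-subgroup S of a finite group G has nilpotency class at most two and its centre is strongly closed in S with respect to G, then every map of the fusion system of G on S is conjugation by an element of N_G(S), and S is the largest subgroup normal in that fusion system. -/
theorem result {G : Type*} [Group G] [Finite G] (p : ℕ) [Fact p.Prime] (S : Sylow p G) (hcl : ⁅(S : Subgroup G), (S : Subgroup G)⁆ ≤ (S : Subgroup G) ⊓ Subgroup.centralizer ((S : Subgroup G) : Set G)) (hZ : Cfsg.IsStronglyClosed ((S : Subgroup G) ⊓ Subgroup.centralizer ((S : Subgroup G) : Set G)) (S : Subgroup G)) : (∀ (P : Subgroup G) (φ : P →* G), φ ∈ (Cfsg.groupFusionSystem (S : Subgroup G)).Hom P → ∃ g ∈ Subgroup.normalizer ((S : Subgroup G) : Set G), ∀ x : P, φ x = g * (x : G) * g⁻¹) ∧ (Cfsg.groupFusionSystem (S : Subgroup G)).core = S := by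
  have h := H94.isNormal_top_of_class_two S.isPGroup' (H94.isSaturated_group S) hcl
    (H92.stronglyClosed_iff.2 ⟨hZ.1, fun P f hf x hx hx' => by
      obtain ⟨-, hm, g, e⟩ := H92.mor_group_iff.1 hf
      have := hm x hx
      rw [e x hx] at this ⊢
      exact hZ.2 x hx' g this⟩)
  refine ⟨fun P φ hφ => ?_, le_antisymm (H93.isNormal_core _).1 (H93.le_core h)⟩
  obtain ⟨k, hk, e⟩ := H92.isNormal_top_iff.1 h P _ (H92.mor_ext1 hφ)
  obtain ⟨-, hm, g, e2⟩ := H92.mor_group_iff.1 hk
  refine ⟨g, Subgroup.mem_normalizer_fintype fun x hx => e2 x hx ▸ hm x hx, fun x => ?_⟩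
  rw [← H92.ext1_coe φ x, ← e x x.2, e2 x ((H92.mor_ext1 hφ).le x.2)]

end Cfsg.Agent.S5107
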