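import Cfsg.Statements.S5121
import Cfsg.Agent.H92.NModel
import Cfsg.Agent.H94.ModelUniq

set_option autoImplicit false
open Cfsg

namespace Cfsg.Agent.S5121
open H92 H93 Cfsg.FusionSystem

/-- Let G be a finite group with Sylow p-subgroup S and C_G(O_p(G)) ≤ O_p(G). For every subgroup T ≤ S and every normal subsystem E over T of the fusion system of G on S there is exactly one normal subgroup H of G containing T as a Sylow p-subgroup whose fusion system on T is E. -/
theorem result {G : Type*} [Group G] [Finite G] (p : ℕ) [Fact p.Prime] (S : Sylow p G) (hG : Subgroup.centralizer ((Cfsg.pCore p G : Subgroup G) : Set G) ≤ Cfsg.pCore p G) (T : Subgroup G) (hTS : T ≤ S) (E : Cfsg.FusionSystem T) (hE : E.IsNormalIn (Cfsg.groupFusionSystem (S : Subgroup G)) p) : ∃ H : Subgroup G, (∃ hTH : T ≤ H, H.Normal ∧ (∃ R : Sylow p H, (R : Subgroup H) = T.subgroupOf H) ∧ ∀ P : Subgroup G, E.Hom P = (Cfsg.fusionSystemOfSubgroup H T hTH).Hom P) ∧ ∀ H' : Subgroup G, (∃ hTH'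 : T ≤ H', H'.Normal ∧ (∃ R : Sylow p H', (R : Subgroup H') = T.subgroupOf H') ∧ ∀ P : Subgroup G, E.Hom P = (Cfsg.fusionSystemOfSubgroup H' T hTH').Hom P) → H' = H := by
  obtain ⟨a, b, G', h, hA⟩ := exists_good (⊤ : Subgroup G)
  have hn : ∀ {H : Subgroup G}, H.Normal ↔ ⊤ ≤ Nm H := by
    intro H; rw [top_le_iff, Subgroup.normalizer_eq_top_iff]
  have d : MData p G' (img S a) (img (pCore p G) a) :=
    { amb := hA.mono (h.img_le le_top)
      pg := (h.restrict le_top).isPGroup S.isPGroup'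
      pp := ⟨h.img_le le_top, by
        rw [← h.img_top, relIndex_img h le_rfl le_top, Subgroup.relIndex_top_right]
        exact S.not_dvd_index⟩
      le := (h.img_le_img_iff le_top le_top).2 (H94.pCore_le_sylow S)
      nm := le_Nm_img h le_top (hn.1 (pCore_normal' p G))
      ct := by
        rw [← centralizerIn_eq, ← h.img_centralizerIn' le_top, h.img_le_img_iff le_top le_top]
        exact inf_le_right.trans hG
      max := fun K h1 h2 h3 => by
        have := hn.2 (le_Nm_img h.symm h1 h2)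
        rw [← h.symm.img_img h1, h.img_le_img_iff le_top le_top]
        exact le_pCore' ((h.symm.restrict h1).isPGroup h3) }
  have t := tr_fos h le_rfl (le_top : (S : Subgroup G) ≤ ⊤) h.img_top rfl d.pp.le
  rw [← H94.groupFusionSystem_eq] at t
  obtain ⟨E', k⟩ := exists_tr_sub t hTS E
  have hN := nrA_of ⟨d.amb, d.pg, H94.isSaturated_fos ⟨d.pp.le, d.pg, d.pp.2⟩⟩ (t.isNormalIn k hE)
  have hTp : IsPGroup p T := S.isPGroup'.to_le hTS
  have key : ∀ H : Subgroup G, (∃ hTH : T ≤ H, H.Normal ∧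
      (∃ R : Sylow p H, (R : Subgroup H) = T.subgroupOf H) ∧
        ∀ P : Subgroup G, E.Hom P = (fusionSystemOfSubgroup H T hTH).Hom P) ↔ NMod p ⊤ H E :=
    fun H => exists_congr fun hT => ⟨fun ⟨h1, h2, h3⟩ => ⟨le_top, hn.1 h1,
      ((H94.sylIn_iff_exists_sylow hT).2 h2).2.2, H94.fs_ext h3⟩, fun ⟨_, h1, h2, h3⟩ =>
        ⟨hn.2 h1, (H94.sylIn_iff_exists_sylow hT).1 ⟨hT, hTp, h2⟩, fun P => by rw [← h3]⟩⟩
  obtain ⟨H, hH⟩ := d.exists_nMod hN
  refine ⟨img H b, (key _).2 (hH.tr h.symm k.symm), fun H' hH' => ?_⟩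
  rw [d.unique hN hH, ← d.unique hN (((key _).1 hH').tr h k), h.img_img le_top]

end Cfsg.Agent.S5121
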