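import Cfsg.Statements.S5150
import Cfsg.Agent.H92.Layer

set_option autoImplicit false
open Cfsg

namespace Cfsg.Agent.S5150
open H92 H93 Cfsg.FusionSystem

/-- Let F be a saturated fusion system over a finite p-group S and E its layer (over T). Then O_p(F), the largest subgroup normal in F, centralizes E: every map of E extends to a map of F on the subgroup generated by its source and O_p(F) that fixes O_p(F) elementwise (so E is a subsystem of the centralizer system of O_p(F), and T commutes with O_p(F)). -/
theorem result {Ω : Type*} [Group Ω] {S : Subgroup Ω} [Finite S] (p : ℕ) [Fact p.Prime] (hS : IsPGroup p S) (F : Cfsg.FusionSystem S) (hF : F.IsSaturated p) {T : Subgroup Ω} (E : Cfsg.FusionSystem T) (hE : E.IsLayerOf F p) (P : Subgroup Ω) : E.Hom P ⊆ F.centralizerHom F.core P := by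
  obtain ⟨a, b, S', F', h, hA⟩ := exists_satA hS hF
  have hT := H94.le_of_isNormalIn hE.1
  obtain ⟨E', k⟩ := exists_tr_sub h hT E
  have h1 := layer_cz hA (h.isLayerOf k hE) (h.isNormal (isNormal_core F))
  have h2 := tr_czHom h.symm k.symm (h.iso.img_le (isNormal_core F).1)
    ((cz_iff_hom hA.amb (h.iso.img_le hT)).1 h1).2 P
  rwa [h.iso.img_img (isNormal_core F).1] at h2

end Cfsg.Agent.S5150
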