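import Cfsg.Statements.S5187
import Cfsg.Agent.H9.Homocyc
import Cfsg.Agent.H9.EssAgemo

set_option autoImplicit false
universe u
open Cfsg

namespace Cfsg.Agent.S5187

/-- Let F be a saturated fusion system over a finite p-group S and H an abelian essential subgroup that can be generated by two elements (its Frattini quotient has order at most p²). Then H is elementary abelian of order p², or p ≤ 3 and H is homocyclic of rank two, that is isomorphic to C_{pᵏ} × C_{pᵏ} for some k. -/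
theorem result {Ω : Type u} [Group Ω] {S : Subgroup Ω} [Finite S] (p : ℕ) [Fact p.Prime] (hS : IsPGroup p S)
    (F : Cfsg.FusionSystem S) (hF : F.IsSaturated p) (H : Subgroup Ω) (hH : F.IsEssential p H) (hab : IsMulCommutative ↥H) (hrk : (frattini ↥H).index ≤ p ^ 2) :
    (Cfsg.IsElementaryAbelian p H ∧ Nat.card H = p ^ 2) ∨
      (p ≤ 3 ∧ ∃ k : ℕ, Nonempty (↥H ≃* Multiplicative (ZMod (p ^ k) × ZMod (p ^ k)))) := by
  open H9 H92 Cfsg.FusionSystem Subgroup in
  have := finite_of_le hH.1.1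
  have hHp := hS.to_le hH.1.1
  have hp0 := (Fact.out : p.Prime)
  have hc : ∀ a b : H, Commute a b := fun a b => hab.is_comm.comm a b
  have hc' : ∀ a ∈ H, ∀ b ∈ H, Commute a b := fun a ha b hb =>
    congrArg Subtype.val (hc ⟨a, ha⟩ ⟨b, hb⟩).eq
  obtain ⟨h1, h2⟩ := exists_aut_trans_frattini hS hF hH hrk
  obtain ⟨k, h3, h4, e⟩ := homocyclic_of_trans hHp hc h1 h2
  rcases k with _ | k
  · refine Or.inl ⟨⟨hab, fun a ha => by simpa using congrArg Subtype.val (h3 ⟨a, ha⟩)⟩, ?_⟩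
    obtain ⟨e⟩ := e
    rw [Nat.card_congr e.toEquiv]
    simp [pow_two]
  refine Or.inr ⟨not_lt.mp fun hp3 => ?_, _, e⟩
  obtain ⟨x, hx, hxE, hxp⟩ := exists_normalizes_pow_mem_top hS (essential_lt hS hF hH)
  obtain ⟨π, D⟩ := exists_sl2_phi hS (centralizerIn_le_of_centric hH.1) (essential_radical hS hF hH)
    le_rfl (fun α _ y hy => af_mem α hy) hrk hx hxE
    fun y hy => H.mul_mem (H.inv_mem hy) (conj_mem_of_normalizerIn hx hy)
  obtain ⟨δ, hδ⟩ : ∃ δ : Ω → Ω, δ = fun v => v⁻¹ * (x * v * x⁻¹) := ⟨_, rfl⟩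
  have m1 : ∀ v ∈ H, δ v ∈ H := fun v hv => by
    rw [hδ]; exact H.mul_mem (H.inv_mem hv) (conj_mem_of_normalizerIn hx hv)
  have m2 : ∀ v ∈ H, ∀ n : ℕ, δ (v ^ n) = δ v ^ n := fun v hv n => by
    simp only [hδ]
    rw [(hc' _ (H.inv_mem hv) _ (conj_mem_of_normalizerIn hx hv)).mul_pow, conj_pow, inv_pow]
  have m3 : ∀ v ∈ H, π (δ v) = ![π v 1, 0] := fun v hv => by
    simp only [hδ]
    rw [D.coord.inv_mul hv (conj_mem_of_normalizerIn hx hv), D.conj v hv]
    ext i; fin_cases i <;> simp [Matrix.vecHead, Matrix.vecTail]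
  have m4 : ∀ j : ℕ, ∀ v ∈ H, ∃ w ∈ H, δ^[2 * j] v = w ^ p ^ j := by
    intro j
    induction j with
    | zero => exact fun v hv => ⟨v, hv, by simp⟩
    | succ j ih =>
      intro v hv
      obtain ⟨w, hw, e⟩ := ih v hv
      have h5 := m1 _ (m1 w hw)
      obtain ⟨z, hz⟩ := exists_pow_eq_of_mem_frattini (p := p) hc ((mem_phi h5).mp
        ((D.coord.ker _ h5).mp (by rw [m3 _ (m1 w hw), m3 _ hw]; ext i; fin_cases i <;> simp)))
      refine ⟨z, z.2, ?_⟩
      rw [mul_add, mul_one, Function.iterate_succ_apply', Function.iterate_succ_apply', e,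
        m2 w hw, m2 _ (m1 w hw), pow_succ', pow_mul]
      exact congrArg (fun y : H => (y : Ω) ^ p ^ j) hz.symm
  obtain ⟨y, hy, hy'⟩ := D.coord.surj ![0, 1]
  have h5 := conj_pow_eq_of_iterate hp0 hab (x := x) (fun v hv => conj_mem_of_normalizerIn hx hv)
    (fun v hv => by rw [(hc' _ hxp _ hv).eq, mul_inv_cancel_right]) (n := k + 1) (fun v hv => by
      obtain ⟨l, hl⟩ : ∃ l, (k + 1) * (p - 1) + 1 = l + 2 * (k + 1 + 1) := by
        have : (k + 1) * 3 ≤ (k + 1) * (p - 1) := Nat.mul_le_mul_left _ (by omega)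
        exact ⟨(k + 1) * (p - 1) + 1 - 2 * (k + 1 + 1), by omega⟩
      obtain ⟨w, hw, e⟩ := m4 (k + 1 + 1) v hv
      rw [← hδ, hl, Function.iterate_add_apply, e,
        show w ^ p ^ (k + 1 + 1) = 1 from congrArg Subtype.val (h3 ⟨w, hw⟩)]
      exact Function.iterate_fixed (by simp [hδ]) l) hy
  refine h4 ⟨_, m1 y hy⟩ (fun h => ?_) (Subtype.ext ?_)
  · have := (D.coord.ker _ (m1 y hy)).mpr ((mem_phi _).mpr h)
    rw [m3 y hy, hy'] at this
    simpa using congrFun this 0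
  · change δ y ^ _ = 1
    rw [← m2 y hy, hδ]
    simp only
    rw [h5, inv_mul_cancel]

end Cfsg.Agent.S5187
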