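import Cfsg.Statements.S5188
import Cfsg.Agent.H9.GenExtra
import Cfsg.Agent.S5187
import Cfsg.Agent.H48.Omega
import Cfsg.Agent.H9.Critical
import Cfsg.Agent.H27.Extra

set_option autoImplicit false
universe u
open Cfsg

namespace Cfsg.Agent.S5188

open H9 Subgroup
open scoped commutatorElement

theorem eq_top_of_trans {G : Type*} [Group G] {B M : Subgroup G} [hM : M.Characteristic]
    (ht : ∀ y ∉ B, ∀ w ∉ B, ∃ g : MulAut G, (g y)⁻¹ * w ∈ B) (h : B < M) : M = ⊤ := by
  obtain ⟨y, hy, hy'⟩ := SetLike.exists_of_lt h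
  refine (eq_top_iff' _).mpr fun w => by_contra fun hw => hw ?_
  obtain ⟨g, hg⟩ := ht y hy' w fun h' => hw (h.le h')
  simpa using mul_mem (apply_mem_of_characteristic g hy) (h.le hg)

theorem comm_of_trans {G : Type*} [Group G] [Finite G] {p : ℕ} [hp : Fact p.Prime]
    (hG : Nat.card G = p ^ 4) (hi : (frattini G).index = p ^ 2)
    (ht : ∀ y ∉ frattini G, ∀ w ∉ frattini G, ∃ g : MulAut G, (g y)⁻¹ * w ∈ frattini G) :
    IsMulCommutative G := by
  have hp0 := hp.out
  have hGp := IsPGroup.of_card hG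
  have h1 : Nat.card (frattini G) = p ^ 2 := by
    have := (frattini G).card_mul_index
    rw [hi, hG, show 4 = 2 + 2 from rfl, pow_add] at this
    exact Nat.eq_of_mul_eq_mul_right (pow_pos hp0.pos 2) this
  have hlt : ∀ M : Subgroup G, frattini G ≤ M → M.index ∣ p → frattini G < M := fun M h h' =>
    lt_of_le_of_ne h fun e => by
      rw [← e, hi] at h'
      exact absurd (Nat.le_of_dvd hp0.pos h') (not_le.mpr (lt_self_pow₀ hp0.one_lt one_lt_two))
  have h2 := eq_top_of_trans ht (hlt (centralizer (frattini G : Set G))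
    (le_centralizer_iff_isMulCommutative.mpr (IsPGroup.isMulCommutative_of_card_eq_prime_sq h1))
    (H48.index_centralizer_dvd hGp _ h1.le))
  have h3 : frattini G ≤ center G := centralizer_eq_top_iff_subset.mp h2
  have h4 : ∀ x y : G, ⁅x, y⁆ ∈ center G := fun x y => h3 (commutatorElement_mem_frattini hGp x y)
  by_contra hna
  obtain ⟨a, ha⟩ : ∃ a, a ∉ frattini G := by
    by_contra h
    push Not at h
    exact hna (center_eq_top_iff.mp (eq_top_iff.mpr fun x _ => h3 (h x)))
  obtain ⟨b, hab⟩ := H3.exists_sup_zpowers_eq_top hGp hi.le ha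
  have := normal_of_le_center' (zpowers_le.mpr (h4 a b))
  have h5 := H19.commutator_eq_zpowers_of_pair (x := a) (y := b) (by
    rw [← hab, zpowers_eq_closure, zpowers_eq_closure, ← Subgroup.closure_union]; rfl)
  have h6 : Nat.card (commutator G) ∣ p := by
    rw [h5, Nat.card_zpowers, orderOf_dvd_iff_pow_eq_one,
      ← commutatorElement_pow_left (commute_of_mem_center (h4 _ _) _),
      commutatorElement_eq_one_iff_commute]
    exact (commute_of_mem_center (h3 (pow_mem_frattini hGp a)) b).symm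
  let f : G →* G ⧸ commutator G := MonoidHom.mk' (fun y => (y : G ⧸ commutator G) ^ p) fun x y => by
    rw [QuotientGroup.mk_mul, Commute.mul_pow]
    exact commutatorElement_eq_one_iff_commute.mp ((QuotientGroup.eq_one_iff ⁅x, y⁆).mpr
      (commutatorElement_mem_commutator x y))
  have hf : ∀ y, y ∈ f.ker ↔ y ^ p ∈ commutator G := fun y => QuotientGroup.eq_one_iff (y ^ p)
  have : f.ker.Characteristic := characteristic_of_forall_mem fun φ x hx => by
    rw [hf, ← map_pow]
    exact apply_mem_of_characteristic φ ((hf x).mp hx)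
  have h7 : Nat.card (commutator G) = p := ((Nat.dvd_prime hp0).mp h6).resolve_left fun h =>
    hna ((commutator_eq_bot_iff G).mp (card_eq_one.mp h))
  have h8 : (commutator G).relIndex (frattini G) = p := by
    have := relIndex_mul_card_le (commutator_le_frattini hGp)
    rw [h7, h1, pow_two] at this
    exact Nat.eq_of_mul_eq_mul_right hp0.pos this
  have h9 := eq_top_of_trans ht (hlt f.ker (fun y hy => (hf y).mpr
    (h8 ▸ pow_index_mem (H := (commutator G).subgroupOf (frattini G)) ⟨y, hy⟩)) (by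
      have e := relIndex_ker (K := frattini G) (QuotientGroup.mk' (commutator G))
      rw [QuotientGroup.ker_mk', h8] at e
      rw [index_ker, e]
      refine card_dvd_of_le ?_
      rintro _ ⟨y, rfl⟩
      exact ⟨y ^ p, pow_mem_frattini hGp y, rfl⟩))
  have h10 := frattini_le_of_forall (p := p) commutatorElement_mem_commutator
    fun y => (hf y).mp (h9 ▸ mem_top y)
  rw [relIndex_eq_one.mpr h10] at h8
  exact hp0.one_lt.ne h8

/-- Let F be a saturated fusion system over a finite p-group S and H an essential subgroup of order p⁴. Then H is isomorphic to one of: C_p⁴ or C_{p²} × C_p × C_p (any p); C_{p²} × C_{p²} with p ∈ {2, 3}; p^{1+2}_+ × C_p with p odd (the direct product of an extraspecial group of order p³ and exponent p with a group of order p); Q₈ × C₂ (p = 2); or the non-abelian group of order p⁴ of exponent p² whose centre is cyclic of order p² (the central product of an extraspecial group of order p³ with a cyclic group of order p²; for p = 2 this is D₈ ∘ C₄). -/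
theorem result {Ω : Type u} [Group Ω] {S : Subgroup Ω} [Finite S] (p : ℕ) [Fact p.Prime] (hS : IsPGroup p S)
    (F : Cfsg.FusionSystem S) (hF : F.IsSaturated p) (H : Subgroup Ω) (hH : F.IsEssential p H) (hcard : Nat.card H = p ^ 4) :
    Cfsg.IsElementaryAbelian p H ∨
      Nonempty (↥H ≃* Multiplicative (ZMod (p ^ 2) × ZMod p × ZMod p)) ∨
      ((p = 2 ∨ p = 3) ∧ Nonempty (↥H ≃* Multiplicative (ZMod (p ^ 2) × ZMod (p ^ 2)))) ∨
      (Odd p ∧ ∃ (E : Type) (_ : Group E) (_ : Finite E), Cfsg.IsExtraspecial p E ∧ Nat.card E = p ^ 3 ∧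
        (∀ x : E, x ^ p = 1) ∧ Nonempty (↥H ≃* E × Multiplicative (ZMod p))) ∨
      (p = 2 ∧ Nonempty (↥H ≃* QuaternionGroup 2 × Multiplicative (ZMod 2))) ∨
      (¬ IsMulCommutative ↥H ∧ (∀ x ∈ H, x ^ (p ^ 2) = 1) ∧ IsCyclic ↥(Subgroup.center ↥H) ∧
        Nat.card (Subgroup.center ↥H) = p ^ 2) := by
  open H92 in
  have := finite_of_le hH.1.1
  have hHp := hS.to_le hH.1.1
  have hp0 := (Fact.out : p.Prime)
  by_cases hΦ : frattini H = ⊥
  · obtain ⟨h1, h2⟩ := (H3.frattini_eq_bot_iff_pgroup hHp).mp hΦ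
    exact Or.inl ⟨h1, fun a ha => congrArg Subtype.val (h2 ⟨a, ha⟩)⟩
  right
  by_cases hi : (frattini H).index ≤ p ^ 2
  · obtain ⟨h1, h2⟩ := exists_aut_trans_frattini hS hF hH hi
    rcases Cfsg.Agent.S5187.result p hS F hF H hH (comm_of_trans hcard h1 h2) hi with
      ⟨-, h⟩ | ⟨h, k, ⟨e⟩⟩
    · exact absurd (Nat.pow_right_injective hp0.two_le (hcard.symm.trans h)) (by norm_num)
    · have h3 := Nat.card_congr e.toEquiv
      rw [hcard, Nat.card_congr Multiplicative.toAdd, Nat.card_prod, Nat.card_zmod,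
        ← pow_add] at h3
      obtain rfl : k = 2 := by have := Nat.pow_right_injective hp0.two_le h3; omega
      exact Or.inr (Or.inl ⟨by have := hp0.two_le; omega, ⟨e⟩⟩)
  have h1 : Nat.card (frattini H) = p := by
    obtain ⟨k, hk⟩ := IsPGroup.iff_card.mp (hHp.to_subgroup (frattini H))
    obtain ⟨l, hl⟩ := hHp.index (frattini H)
    have h2 := (frattini H).card_mul_index
    rw [hk, hl, hcard, ← pow_add] at h2
    have h3 := Nat.pow_right_injective hp0.two_le h2
    rw [hl, Nat.pow_le_pow_iff_right hp0.one_lt] at hi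
    have h4 : k ≠ 0 := fun h => hΦ (card_eq_one.mp (by rw [hk, h, pow_zero]))
    rw [hk, show k = 1 by omega, pow_one]
  have h2 := le_center_of_card_le hHp h1.le
  have h3 : ∀ y : H, (y ^ p) ^ p = 1 := fun y => pow_eq_one_of_card_eq h1 (pow_mem_frattini hHp y)
  by_cases hc : IsMulCommutative H
  · left
    have hc' : ∀ a b : H, Commute a b := hc.is_comm.comm
    obtain ⟨a, ha⟩ : ∃ a : H, a ^ p ≠ 1 := by
      by_contra h
      push Not at h
      exact hΦ (H3.frattini_eq_bot_of_elementary hc h)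
    have h4 := H3.eq_zpowers_of_card_eq_prime hp0 h1 (pow_mem_frattini hHp a) ha
    have h5 : orderOf a = p ^ 2 := orderOf_eq_prime_pow (by rwa [pow_one]) (by
      rw [pow_succ, pow_one, pow_mul, h3])
    let V : Subgroup H :=
      { carrier := {y | y ^ p = 1}
        one_mem' := one_pow p
        mul_mem' := fun {a b} ha hb => by
          change (a * b) ^ p = 1
          rw [(hc' a b).mul_pow, ha, hb, one_mul]
        inv_mem' := fun {a} ha => by
          change a⁻¹ ^ p = 1
          rw [inv_pow, ha, inv_one] }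
    obtain ⟨K, hK1, hK2⟩ := exists_compl_of_elementary (V := V) (U := zpowers (a ^ p))
      ⟨inferInstance, fun _ h => h⟩ (zpowers_le.mpr (h3 a))
    have hK : K ≤ V := hK2 ▸ le_sup_right
    obtain ⟨e⟩ := nonempty_equiv_prod (H := zpowers a) (K := K) (fun x _ y _ => hc' x y)
      (eq_bot_iff.mpr fun y hy => hK1 ▸ mem_inf.mpr ⟨H3.mem_zpowers_of_isCyclic_subgroup
        (H := zpowers a) inferInstance hy.1 (pow_mem (mem_zpowers a) p) (hK hy.2)
        (orderOf_eq_prime (h3 a) ha), hy.2⟩) ((eq_top_iff' _).mpr fun g => by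
          obtain ⟨k, hk⟩ := h4.le (pow_mem_frattini hHp g)
          have h6 : (a ^ k)⁻¹ * g ∈ V := by
            change _ ^ p = 1
            rw [(hc' _ _).mul_pow, ← hk, inv_pow, ← zpow_natCast, ← zpow_mul, mul_comm, zpow_mul,
              zpow_natCast, inv_mul_cancel]
          have h7 := sup_le_sup_right (zpowers_le.mpr (pow_mem (mem_zpowers a) p)) K (hK2.ge h6)
          simpa using mul_mem (mem_sup_left (zpow_mem (mem_zpowers a) k)) h7)
    have h6 := Nat.card_congr e.toEquiv
    rw [hcard, Nat.card_prod, Nat.card_zpowers, h5, show 4 = 2 + 2 from rfl, pow_add] at h6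
    obtain ⟨e1⟩ := nonempty_zpowers_equiv h5
    obtain ⟨e2⟩ := nonempty_equiv_zmod_sq (G := K) (fun a b => Subtype.ext (hc' a.1 b.1).eq)
      (fun y => Subtype.ext (hK y.2)) (Nat.eq_of_mul_eq_mul_left (pow_pos hp0.pos 2) h6).symm
    exact ⟨(e.trans (e1.prodCongr e2)).trans (MulEquiv.prodMultiplicative _ _).symm⟩
  right; right
  have h4 : frattini H = commutator H := (eq_of_le_of_card_ge (commutator_le_frattini hHp) (by
    simpa [h1] using mul_card_le_of_lt hHp
      (bot_lt_iff_ne_bot.mpr fun h => hc ((commutator_eq_bot_iff H).mp h)))).symm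
  have h5 := sq_le_index_center hHp hc
  have h6 : Nat.card (center H) = p ^ 2 := by
    have h7 := (center H).card_mul_index
    refine le_antisymm (Nat.le_of_mul_le_mul_right (by
      rw [← pow_add, ← hcard, ← h7]; exact Nat.mul_le_mul_left _ h5) (pow_pos hp0.pos 2))
      (not_lt.mp fun h => ?_)
    have h8 : frattini H = center H := eq_of_le_of_card_ge h2 (not_lt.mp fun h' => by
      have := mul_card_le_of_lt hHp (lt_of_le_of_ne h2 fun e => h'.ne (e ▸ rfl))
      rw [h1, ← pow_two] at this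
      omega)
    obtain ⟨m, -, -, hm, -⟩ := H27.exists_cform_of_isExtraspecial (G := H) ⟨⟨hHp, h8, h4 ▸ h8⟩, h8 ▸ h1⟩
    have := Nat.pow_right_injective hp0.two_le (hcard.symm.trans hm)
    omega
  have h7 : (center H).index = p ^ 2 := by
    have := (center H).card_mul_index
    rw [h6, hcard, show 4 = 2 + 2 from rfl, pow_add] at this
    exact Nat.eq_of_mul_eq_mul_left (pow_pos hp0.pos 2) this
  by_cases hZ : IsCyclic (center H)
  · exact Or.inr (Or.inr ⟨hc, fun x hx => by
      rw [pow_two, pow_mul]; exact congrArg Subtype.val (h3 ⟨x, hx⟩), hZ, h6⟩)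
  have h8 : ∀ z ∈ center H, z ^ p = 1 := fun z hz => by
    by_contra h
    refine hZ (isCyclic_of_orderOf_eq_card ⟨z, hz⟩ ?_)
    rw [h6, ← orderOf_coe]
    exact orderOf_eq_prime_pow (by rwa [pow_one]) (pow_eq_one_of_card_eq h6 hz)
  obtain ⟨a, b, hab⟩ : ∃ a b : H, ¬ Commute a b := by
    by_contra h
    push Not at h
    exact hc ⟨⟨h⟩⟩
  obtain ⟨E, A, hE, e1, e2, hA, ⟨e⟩⟩ := exists_prod_of_center hHp h4 (h4 ▸ h1) h8 h7 hab
  have hEc : ¬ IsMulCommutative E := fun h => hab (isMulCommutative_iff_forall.mp h a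
    (hE ▸ mem_sup_left (mem_sup_right (mem_zpowers a))) b (hE ▸ mem_sup_right (mem_zpowers b)))
  obtain ⟨eA⟩ : Nonempty (A ≃* Multiplicative (ZMod p)) := by
    have h9 := Nat.card_congr e.toEquiv
    rw [hcard, Nat.card_prod, e1, pow_succ] at h9
    exact ⟨mulEquivOfPrimeCardEq (Nat.eq_of_mul_eq_mul_left (pow_pos hp0.pos 3) h9).symm (by simp)⟩
  obtain ⟨-, ht⟩ := exists_aut_trans_of_char hS hF hH h2 (by
    have := relIndex_mul_card_le h2
    rw [h1, h6, pow_two] at this
    exact (Nat.eq_of_mul_eq_mul_right hp0.pos this).le) h7.le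
  by_cases h : ∃ y ∉ center H, y ^ p = 1
  · obtain ⟨y, hy, hy'⟩ := h
    have h9 : ∀ w : H, w ^ p = 1 := fun w => by
      by_cases hw : w ∈ center H
      · exact h8 w hw
      obtain ⟨g, hg⟩ := ht y hy w hw
      rw [← mul_inv_cancel_left (g y) w, (commute_of_mem_center hg _).mul_pow, h8 _ hg,
        ← map_pow, hy', map_one, one_mul]
    obtain ⟨E', _, _, ⟨e'⟩⟩ := exists_small_model E
    refine Or.inl ⟨hp0.odd_of_ne_two ?_, E', inferInstance, inferInstance,
      H78.isExtraspecial_of_equiv e' (isExtraspecial_of_card_cube e1 hEc),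
      (Nat.card_congr e'.toEquiv).symm.trans e1, fun x => ?_, ⟨e.trans (e'.prodCongr eA)⟩⟩
    · rintro rfl
      exact hc ⟨⟨fun a b => (Commute.of_orderOf_dvd_two
        (fun g => orderOf_dvd_of_pow_eq_one (h9 g)) a b).eq⟩⟩
    · obtain ⟨x, rfl⟩ := e'.surjective x
      rw [← map_pow, show x ^ p = 1 from Subtype.ext (h9 x), map_one]
  · push Not at h
    obtain ⟨h9, ⟨e'⟩⟩ := quaternion_of_unique e1 (fun h => hEc inferInstance)
      (N := (commutator H).subgroupOf E) ((Nat.card_congr
        (subgroupOfEquivOfLe (e2 ▸ inf_le_left)).toEquiv).trans (h4 ▸ h1))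
      fun y hy => e2.le ⟨y.2, by_contra fun hy' => h y hy' (congrArg Subtype.val hy)⟩
    subst h9
    exact Or.inr (Or.inl ⟨rfl, ⟨e.trans (e'.prodCongr eA)⟩⟩)

end Cfsg.Agent.S5188
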