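import Cfsg.Statements.S5195
import Cfsg.Agent.H94.Sparse

set_option autoImplicit false
open Cfsg

namespace Cfsg.Agent.S5195

/-- A strengthened Frobenius normal p-complement criterion for fusion systems. Let F be a saturated fusion system over a finite p-group S such that p is odd or F is S₄-free (the symmetric group of degree 4 is not involved in any model of the normalizer system of a fully normalized F-centric subgroup). If Aut_F(Q) is a p-group for every nontrivial characteristic subgroup Q of S, then F is the inner fusion system of S. -/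
theorem result {Ω : Type*} [Group Ω] {S : Subgroup Ω} [Finite S] (p : ℕ) [Fact p.Prime] (hS : IsPGroup p S) (F : Cfsg.FusionSystem S) (hF : F.IsSaturated p) (hp : p ≠ 2 ∨ F.IsSectionFree p (Equiv.Perm (Fin 4))) (h : ∀ Q : Subgroup Ω, Q ≤ S → Q ≠ ⊥ → (Q.subgroupOf S).Characteristic → IsPGroup p (F.autGroup Q)) : ∀ P : Subgroup Ω, F.Hom P = (Cfsg.innerFusionSystem S).Hom P := by
  refine H94.inner_iff.1 ?_
  by_contra hne
  obtain ⟨E, h1, h2, h3, h4, h5⟩ := H94.exists_sparse hS hF hp hne
  obtain ⟨hX, hXc⟩ := H93.sSup_closed (S := S)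
    {V | E.IsNormal V ∧ (V.subgroupOf S).Characteristic} (fun Q hQ => hQ.1.1)
    ⟨H93.isNormal_bot E, by rw [Subgroup.bot_subgroupOf]; infer_instance⟩
    (fun Q hQ R hR => ⟨H93.isNormal_sup hQ.1 hR.1, H92.char_of_af fun α x _ hx => by
      have : H92.img (Q ⊔ R) (H92.af α) ≤ Q ⊔ R := by
        rw [((H92.mulOn_af α).mono (sup_le hQ.1.1 hR.1.1)).img_sup]
        exact sup_le_sup (H92.img_le_iff.2 fun y hy => H92.af_mem_of_char hQ.2 α (hQ.1.1 hy) hy)
          (H92.img_le_iff.2 fun y hy => H92.af_mem_of_char hR.2 α (hR.1.1 hy) hy)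
      exact this (H92.mem_img_of_mem _ hx)⟩)
  set X := sSup {V | E.IsNormal V ∧ (V.subgroupOf S).Characteristic} with hXdef
  have hA : IsPGroup p (E.autGroup X) := by
    by_cases hX1 : X = ⊥
    · refine H92.isPGroup_iff_forall.2 fun α _ => ⟨0, ?_⟩
      rw [pow_zero, pow_one]
      refine H92.aut_eq_one fun x hx => ?_
      rw [Subgroup.mem_bot.1 (hX1.le (H92.af_mem α hx)), Subgroup.mem_bot.1 (hX1.le hx)]
    · exact (h X hX.1 hX1 hXc).to_le (H92.autGroup_mono h1 X)
  refine h4 (H94.inner_of_autGroup_isPGroup hS h2.1 h3 hX hA ?_)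
  intro Ω' _ S' θ V hr hk hV hc hle hn
  have hk' : ∀ x ∈ S, H92.ext1 θ x = 1 ↔ x ∈ X := fun x hx => by
    rw [H92.ext1_of_mem θ hx, hk]
  have hch : ((FusionSystem.preimageAlong θ V).subgroupOf S).Characteristic := by
    refine H92.char_of_af fun α x hxS hx => ?_
    obtain ⟨c, d, hcd, e⟩ := (H94.pIso_af α).exists_quot θ θ fun y hy => by
      rw [hk' y hy, hk' _ (H92.af_mem α hy)]
      refine ⟨H92.af_mem_of_char hXc α hy, fun k => ?_⟩
      have := H92.af_mem_of_char hXc α⁻¹ (H92.af_mem α hy) k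
      rwa [H92.af_inv_af] at this
    rw [hr] at hcd
    obtain ⟨β, hβ⟩ := hcd.mul.exists_aut hcd.injOn hcd.img_top
    have hx' := (H94.mem_preimageAlong.1 hx).2
    refine H94.mem_preimageAlong.2 ⟨H92.af_mem α hxS, ?_⟩
    rw [e x hxS, ← hβ _ (hV hx')]
    exact H92.af_mem_of_char hc β (hV hx') hx'
  refine H94.nsub_of_sub_nSys (hV := H94.preimageAlong_le θ V) (hn := hn)
    ((h5 _ (H94.isSaturated_nSys hS h2.1)
      (h3.imp_right fun k => H94.sectionFree_nSys hS h2.1 k) H94.nSys_sub).resolve_left fun k => ?_)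
  exact hle (le_sSup ⟨H94.isNormal_iff_sub_nSys.2 k, hch⟩)

end Cfsg.Agent.S5195
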