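import Cfsg.Statements.S5200
import Cfsg.Agent.H92.CentOdd

set_option autoImplicit false
open Cfsg

namespace Cfsg.Agent.S5200
open H92 H93 Cfsg.FusionSystem

/-- Let F be a saturated fusion system over a finite p-group S and E a normal subsystem of F over T whose centralizer in S lies in T: every subgroup Y of C_S(T) such that E is contained in the centralizer fusion system of Y in F satisfies Y ≤ T. Then T·C_S(T)/T is abelian (the commutator subgroup of T·C_S(T) lies in T), and if p is odd then C_S(T) ≤ T. -/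
theorem result {Ω : Type*} [Group Ω] {S : Subgroup Ω} [Finite S] (p : ℕ) [Fact p.Prime] (hS : IsPGroup p S) (F : Cfsg.FusionSystem S) (hF : F.IsSaturated p) {T : Subgroup Ω} (E : Cfsg.FusionSystem T) (hE : E.IsNormalIn F p) (hCE : ∀ Y : Subgroup Ω, Y ≤ Cfsg.FusionSystem.centralizerIn S T → (∀ C : Cfsg.FusionSystem (Cfsg.FusionSystem.centralizerIn S Y), F.IsCentralizerSystem Y C → E.IsSubsystemOf C) → Y ≤ T) : ⁅T ⊔ Cfsg.FusionSystem.centralizerIn S T, T ⊔ Cfsg.FusionSystem.centralizerIn S T⁆ ≤ T ∧ (p ≠ 2 → Cfsg.FusionSystem.centralizerIn S T ≤ T) := by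
  obtain ⟨a, b, S', F', h, hA⟩ := exists_satA hS hF
  have hT := H94.le_of_isNormalIn hE
  obtain ⟨E', k⟩ := exists_tr_sub h hT E
  have hN := nrA_of hA (h.isNormalIn k hE)
  have hT' := hN.inv.le
  have h2 := tr_cz h.symm k.symm hT' ((cz_iff_hom hA.amb hT').1 hN.cz_CE)
  have h3 := hCE _ h2.1 fun C hC P => hC P ▸ h2.2 P
  have h4 : CE p E' F' ≤ img T a := by
    rw [← h.iso.symm.img_le_img_iff hN.sc_CE.1 hT', h.iso.img_img hT]; exact h3
  have h5 : centralizerIn S T ≤ S := inf_le_left
  have h6 : T ⊔ centralizerIn S T ≤ S := sup_le hT h5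
  refine ⟨?_, fun hp => ?_⟩
  · rw [← h.iso.img_le_img_iff ((Subgroup.commutator_mono h6 h6).trans
      (Subgroup.commutator_le.2 fun x hx y hy => mul_mem (mul_mem (mul_mem hx hy) (inv_mem hx))
        (inv_mem hy))) hT, h.iso.img_commutator h6 h6, h.iso.img_sup hT h5,
      h.iso.img_centralizerIn' hT]
    exact hN.comm_le h4
  · rw [← h.iso.img_le_img_iff h5 hT, h.iso.img_centralizerIn' hT]
    exact hN.Ct_le_of_odd h4 hp

end Cfsg.Agent.S5200
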