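import Cfsg.Statements.S5201
import Cfsg.Agent.H92.RLim

set_option autoImplicit false
open Cfsg

namespace Cfsg.Agent.S5201
open H92 H93 Cfsg.FusionSystem

/-- A reduction to normal subsystems. Let F be a saturated fusion system over a finite p-group S and E a normal subsystem of F over T whose centralizer in S lies in T (every subgroup Y of C_S(T) with E contained in the centralizer fusion system of Y in F satisfies Y ≤ T), and suppose Aut_F(T)/Aut_E(T) is p-solvable. Then F and E have the same residual limit: if F∞ is the residual limit of F (reached by alternately passing to the p-residual and the p'-residual subsystem until nothing changes) and E∞ that of E, then F∞ and E∞ have the same maps. -/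
theorem result {Ω : Type*} [Group Ω] {S : Subgroup Ω} [Finite S] (p : ℕ) [Fact p.Prime] (hS : IsPGroup p S) (F : Cfsg.FusionSystem S) (hF : F.IsSaturated p) {T : Subgroup Ω} (E : Cfsg.FusionSystem T) (hE : E.IsNormalIn F p) (hCE : ∀ Y : Subgroup Ω, Y ≤ Cfsg.FusionSystem.centralizerIn S T → (∀ C : Cfsg.FusionSystem (Cfsg.FusionSystem.centralizerIn S Y), F.IsCentralizerSystem Y C → E.IsSubsystemOf C) → Y ≤ T) [hn : ((E.autGroup T).subgroupOf (F.autGroup T)).Normal] (hsolv : Cfsg.IsPSolvable p (↥(F.autGroup T) ⧸ (E.autGroup T).subgroupOf (F.autGroup T))) {U V : Subgroup Ω} (Finf : Cfsg.FusionSystem U) (hFinf : Finf.IsResidualLimitOf F p) (Einf : Cfsg.FusionSystem V) (hEinf : Einf.IsResidualLimitOf E p) : ∀ P : Subgroup Ω, Finf.Hom P = Einf.Hom P := by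
  obtain ⟨a, b, S', F', h, hA⟩ := exists_satA hS hF
  have hT := H94.le_of_isNormalIn hE
  obtain ⟨E', k⟩ := exists_tr_sub h hT E
  have hN := nrA_of hA (h.isNormalIn k hE)
  have hT' := hN.inv.le
  obtain ⟨D', d⟩ := exists_tr_sub h (le_of_isSubsystemOf (sub_of_limit hFinf)) Finf
  obtain ⟨C', c⟩ := exists_tr_sub k (le_of_isSubsystemOf (sub_of_limit hEinf)) Einf
  have h1 := h.isResidualLimitOf d hFinf
  obtain ⟨G, hG, -, e, hD⟩ := hN.exists_red (desc_of_tr h k hN.inv hT hsolv)
  have h2 := tr_cz h.symm k.symm hT' ((cz_iff_hom hA.amb hT').1 hN.cz_CE)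
  have h3 := hCE _ h2.1 fun C hC P => hC P ▸ h2.2 P
  have h4 : CE p E' F' ≤ img T a := by
    rw [← h.iso.symm.img_le_img_iff hN.sc_CE.1 hT', h.iso.img_img hT]; exact h3
  have hs := stable_of_limit h1
  have hw := ((SatA.nrA_self hA).limit h1).toWnA
  exact hom_eq_of_tr d c (hN.limit_eq h1 (k.isResidualLimitOf c hEinf)
    ((hs.le (hw.sub_of_le hs.2 hG (hD _ _ hw hs))).trans
      ((H94.hyperfocal_le_focal G p).trans (hN.foc_red h4 hG e.le))))

end Cfsg.Agent.S5201
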