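import Cfsg.Statements.S5202
import Cfsg.Agent.H92.RLim

set_option autoImplicit false
open Cfsg

namespace Cfsg.Agent.S5202
open H92 H93 Cfsg.FusionSystem

/-- Let F be a saturated fusion system over a finite p-group S and E a normal subsystem of F over T such that Aut_F(T)/Aut_E(T) is p-solvable. Then there is a normal subsystem F₀ of F over T·C_S(T) containing E, with Aut_{F₀}(T) = Aut_E(T), containing every residual limit of F, and whose residual limits have the same maps as those of F. -/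
theorem result {Ω : Type*} [Group Ω] {S : Subgroup Ω} [Finite S] (p : ℕ) [Fact p.Prime] (hS : IsPGroup p S) (F : Cfsg.FusionSystem S) (hF : F.IsSaturated p) {T : Subgroup Ω} (E : Cfsg.FusionSystem T) (hE : E.IsNormalIn F p) [hn : ((E.autGroup T).subgroupOf (F.autGroup T)).Normal] (hsolv : Cfsg.IsPSolvable p (↥(F.autGroup T) ⧸ (E.autGroup T).subgroupOf (F.autGroup T))) : ∃ F₀ : Cfsg.FusionSystem (T ⊔ Cfsg.FusionSystem.centralizerIn S T), F₀.IsNormalIn F p ∧ E.IsSubsystemOf F₀ ∧ F₀.autGroup T = E.autGroup T ∧ ∀ {U : Subgroup Ω} (Finf : Cfsg.FusionSystem U), Finf.IsResidualLimitOf F p → Finf.IsSubsystemOf F₀ ∧ ∀ {V : Subgroup Ω} (L : Cfsg.FusionSystem V), L.IsResidualLimitOf F₀ p → ∀ P : Subgroup Ω, L.Hom P = Finf.Hom P := by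
  obtain ⟨a, b, S', F', h, hA⟩ := exists_satA hS hF
  have hT := H94.le_of_isNormalIn hE
  obtain ⟨E', k⟩ := exists_tr_sub h hT E
  have hN := nrA_of hA (h.isNormalIn k hE)
  have hT' := hN.inv.le
  obtain ⟨G, hG, h1, e, hD⟩ := hN.exists_red (desc_of_tr h k hN.inv hT hsolv)
  have e1 : img (img T a ⊔ (S' ⊓ Ct (img T a))) b = T ⊔ centralizerIn S T := by
    rw [h.iso.symm.img_sup hT' inf_le_left, ← centralizerIn_eq, h.iso.symm.img_centralizerIn' hT',
      h.iso.img_img hT]
  obtain ⟨F₀, t⟩ := h.iso.symm.exists_tr_sub hG.inv.le e1 G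
  refine ⟨F₀, h.symm.isNormalIn t hG.isNormalIn, t.isSubsystemOf k.symm h1, ?_, fun D hD' => ?_⟩
  · have e2 : G.autGroup (img T a) = E'.autGroup (img T a) := by
      rw [← hA.amb.lift_inj hT', lift_autGroup le_sup_left, lift_autGroup le_rfl, e]
    ext α
    rw [← t.symm.tr_mem_autGroup_iff le_sup_left rfl, ← k.tr_mem_autGroup_iff le_rfl rfl, e2]
    rfl
  · obtain ⟨D', d⟩ := exists_tr_sub h (le_of_isSubsystemOf (sub_of_limit hD')) D
    have h2 := h.isResidualLimitOf d hD'
    have hs := stable_of_limit h2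
    have hw := ((SatA.nrA_self hA).limit h2).toWnA
    refine ⟨t.isSubsystemOf d.symm (hw.sub_of_le hs.2 hG (hD _ _ hw hs)), fun L hL P => ?_⟩
    obtain ⟨L', l⟩ := exists_tr_sub t.symm (le_of_isSubsystemOf (sub_of_limit hL)) L
    exact (hom_eq_of_tr d l (hG.limit_eq h2 (t.symm.isResidualLimitOf l hL) (hD _ _ hw hs)) P).symm

end Cfsg.Agent.S5202
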