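import Cfsg.Statements.S5206
import Cfsg.Agent.H11.QdLocal
import Cfsg.Agent.H11.LocalModel
import Cfsg.Agent.S5096

set_option autoImplicit false
universe u
open Cfsg

namespace Cfsg.Agent.S5206

/-- Let p be an odd prime, G a finite group and P a Sylow p-subgroup of G. Then the fusion system of G on P is Qd(p)-free (Qd(p), the natural semidirect product of an elementary abelian group of order p² by SL₂(p), is not involved in any model of the normalizer system of a fully normalized centric subgroup) if and only if Qd(p) is not involved in G. -/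
theorem result {G : Type u} [Group G] [Finite G] {p : ℕ} [Fact p.Prime] (hp : p ≠ 2) (P : Sylow p G) : (Cfsg.groupFusionSystem (P : Subgroup G)).IsSectionFree p ↥(Cfsg.qd p) ↔ ¬ Cfsg.Involves ↥(Cfsg.qd p) G := by
  constructor
  · intro hF h
    obtain ⟨T, hT, hc, hi⟩ := H11.exists_centric_of_involves_qd hp h
    obtain ⟨g, -, hle, hsyl⟩ := H94.exists_cj_sylIn_normalizer (H94.sylIn_top P) le_top hT
    have hfn : (Cfsg.groupFusionSystem (P : Subgroup G)).IsFullyNormalized (H94.cj g T) := by
      rw [H94.groupFusionSystem_eq]
      exact (H94.isFullyNormalized_fos (H94.sylIn_top P) hle).mpr hsyl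
    have hcen : (Cfsg.groupFusionSystem (P : Subgroup G)).IsCentric (H94.cj g T) := by
      refine ⟨hle, fun R hR => ?_⟩
      rw [H94.groupFusionSystem_eq, H94.isConj_fos] at hR
      obtain ⟨-, -, k, -, rfl⟩ := hR
      rw [H94.cj_cj]
      have h1 := hc (H94.cj (k * g)⁻¹ (FusionSystem.centralizerIn P (H94.cj (k * g) T)))
        (P.isPGroup'.to_inf_left.map _) (by
          conv_rhs => rw [← H94.cj_inv_cj (k * g) T, ← H94.cj_centralizer]
          exact H94.cj_mono inf_le_right)
      have h2 := H94.cj_mono (g := k * g) h1
      rwa [H94.cj_cj_inv] at h2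
    obtain ⟨E, hE⟩ := Cfsg.Agent.S5096.result (Cfsg.groupFusionSystem (P : Subgroup G)) _ hle
    refine hF _ hfn hcen E hE _ _ (H11.isModel_normalizer_quotient P hfn
      (hcen.2 _ (H92.isConj_refl _ hle)) hE) ?_
    refine H11.involves_qd_of_coprime_ker (QuotientGroup.mk' _)
      (by rw [QuotientGroup.ker_mk']; exact H2.coprime_card_pPrimeCore p _) ?_
    rw [← H94.cj_normalizer]
    exact H94.involves_trans hi (H94.involves_of_injective
      ((Subgroup.normalizer (T : Set G)).equivMapOfInjective _ (MulAut.conj g).injective).toMonoidHom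
      (MulEquiv.injective _))
  · intro h Q h1 h2 E hE L _ ι hL hi
    exact h (H94.involves_trans hi (H94.involves_trans
      (H11.involves_of_isModel_normalizer P h1 (h2.2 _ (H92.isConj_refl _ h1.1)) hE hL)
      (H94.involves_subgroup _)))

end Cfsg.Agent.S5206
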