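import Cfsg.Statements.S5215
import Cfsg.Agent.H9.R2Top
import Cfsg.Agent.H3.DSQAut

set_option autoImplicit false
open Cfsg

namespace Cfsg.Agent.S5215

/-- Let S be a finite 2-group of 2-rank 2 (an elementary abelian subgroup of order 4, none of order 8) and F a simple saturated fusion system over S. Then S is dihedral, semidihedral or wreathed, and F is the fusion system of the projective special linear group PSL₂(q) for some odd prime power q ≡ ±1 (mod 8) or of PSL₃(q) for some odd prime power q: it is realized by an injective homomorphism of S into that group whose image is a Sylow 2-subgroup. -/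
theorem result {Ω : Type*} [Group Ω] {S : Subgroup Ω} [Finite S] (hS : IsPGroup 2 S) (F : Cfsg.FusionSystem S) (hF : F.IsSaturated 2) (hr : Cfsg.PRankAtLeast 2 2 ↥S ∧ ¬ Cfsg.PRankAtLeast 2 3 ↥S) (hsimple : F.IsSimple 2) : ((∃ m : ℕ, Nonempty (↥S ≃* DihedralGroup m)) ∨ Cfsg.IsQuasiDihedral ↥S ∨ Cfsg.IsWreathed ↥S) ∧ ∃ (K : Type) (_ : Field K) (_ : Fintype K) (q : ℕ), Fintype.card K = q ∧ Odd q ∧ (((q % 8 = 1 ∨ q % 8 = 7) ∧ ∃ ι : ↥S →* Matrix.ProjectiveSpecialLinearGroup (Fin 2) K, F.IsRealizedBy ι ∧ ∃ T : Sylow 2 (Matrix.ProjectiveSpecialLinearGroup (Fin 2) K), (T : Subgroup (Matrix.ProjectiveSpecialLinearGroup (Fin 2) K)) = ι.range) ∨ (∃ ι : ↥S →* Matrix.ProjectiveSpecialLinearGroup (Fin 3) K, F.IsRealizedBy ι ∧ ∃ T : Sylow 2 (Matrix.ProjectiveSpecialLinearGroup (Fin 3) K), (T : Subgroup (Matrix.ProjectiveSpecialLinearGroup (Fin 3) K)) = ι.range)) := by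
  open H9 in
  obtain ⟨h1, h2⟩ := simple_facts hS hsimple fun e => by
    obtain ⟨A, -, -, hA⟩ := hr.1
    have := hA.trans (Subgroup.card_le_card_group A)
    omega
  have key : ∀ {m : ℕ} {a b : S}, H3.DSQ m a b →
      ∀ α : MulAut S, (orderOf α).Coprime 2 → α = 1 := fun h => by
    by_contra h3
    exact hsimple.2.1 (h1 S (H92.isNormal_top_of_no_essential hS hF fun P hP =>
      h3 (DS.aut_eq_one h (good_of_essential hS hF hP))))
  rcases rank_two_cases hS hF hr (h1 _ (H93.isNormal_of_isCentral (H93.isCentral_center F))) with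
    h | ⟨h0, m, a, b, h, e1, e2⟩ | h0 | h0
  · exact absurd (h1 S h) hsimple.2.1
  · obtain ⟨K, _, _, hK⟩ := exists_field_sub (m + 1)
    obtain ⟨a', b', D, h3, h4⟩ := exists_psl2 hK
    obtain ⟨h5, h6⟩ := DS.fus_of_hyp h hF (key h) h2
    refine ⟨Or.inl h0, K, inferInstance, inferInstance, _, rfl, hK.odd, Or.inl ⟨Or.inl ?_,
      DS.realized h hF (key h) D (by simpa) (by simpa) (iff_of_true h5 h3) (iff_of_true h6 h4)⟩⟩
    have h7 : 2 ^ 3 ∣ _ := (pow_dvd_pow 2 (by have := h.one_le; omega)).trans hK.dvd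
    have := hK.odd.pos
    omega
  · obtain ⟨m, a, b, h, hm, e1, e2⟩ := H3.exists_dsq_of_isQuasiDihedral h0
    obtain ⟨m, rfl⟩ := Nat.exists_eq_add_of_le' hm
    obtain ⟨K, _, _, hK⟩ := exists_field_add (m + 1)
    obtain ⟨a', b', D, h3, h4⟩ := exists_psl3_sd hK
    obtain ⟨h5, h6⟩ := DS.fus_of_hyp h hF (key h) h2
    refine ⟨Or.inr (Or.inl h0), K, inferInstance, inferInstance, _, rfl, ?_, Or.inr
      (DS.realized h hF (key h) D (DS.rel_sd h e2) (by simpa) (iff_of_true h5 h3)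
        (iff_of_true h6 h4))⟩
    have := hK.four_dvd le_add_self
    exact Nat.odd_iff.mpr (by omega)
  · obtain ⟨k, x, y, z, h⟩ := exists_wr h0
    obtain ⟨K, _, _, hK, h3⟩ := WS.realized_psl h hF
      (by_contra fun e => h.u0_ne_one (Subgroup.mem_bot.mp
        (h1 _ (WS.isNormal_of_not_fus h hF e) ▸ h.u_mem_U _ _)))
      (by_contra fun e => h.u0_ne_one (Subgroup.mem_bot.mp
        (h1 _ (WS.isNormal_of_not_good h hF e) ▸ (h.u_mem_Z _ _).mpr (by simp))))
    exact ⟨Or.inr (Or.inr h0), K, inferInstance, inferInstance, _, rfl, hK, Or.inr h3⟩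

end Cfsg.Agent.S5215
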