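import Cfsg.Statements.S5228
import Cfsg.Agent.H11.T3Asm
import Cfsg.Agent.H11.T3Th
import Cfsg.Agent.H99.T3L0
import Cfsg.Agent.H18.T3L1
import Cfsg.Agent.H31.T3NN
import Cfsg.Agent.H38.T3L2
import Cfsg.Agent.H99.T3W2
import Cfsg.Agent.H39.T3Pc
import Cfsg.Agent.H38.T3Cj
import Cfsg.Agent.H90.T3AS
import Cfsg.Agent.H18.T3L43
import Cfsg.Agent.H35.T3C
import Cfsg.Agent.H92.T3X
import Cfsg.Agent.H89.T3B
import Cfsg.Agent.H31.T3W1
import Cfsg.Agent.H44.T3a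
import Cfsg.Agent.H99.T3K0
import Cfsg.Agent.H99.T3Mod
import Cfsg.Agent.H35.T3TS

set_option autoImplicit false
open Cfsg

namespace Cfsg.Agent.S5228

/-- Let S be a finite 3-group isomorphic to a Sylow 3-subgroup of the Thompson sporadic group and F a saturated fusion system over S with no nontrivial normal subgroup (O₃(F) = 1). Then F is a simple fusion system. -/
theorem result {Ω : Type*} [Group Ω] {S : Subgroup Ω} [Finite S] (hS : IsPGroup 3 S) (F : Cfsg.FusionSystem S) (hF : F.IsSaturated 3) [Fact (Nat.Prime 3)] (T : Sylow 3 Cfsg.Spor.Th) (e : ↥S ≃* ↥(T : Subgroup Cfsg.Spor.Th)) (hcore : F.core = ⊥) : F.IsSimple 3 := by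
  obtain ⟨e'⟩ := H99.T3M.jobMod H39.T3Pc.jobPc H11.T3.jobTh T
  exact H11.T3.Jobs.main ⟨H38.T3Cj.jobCj, H44.T3.jobO3, H18.T3L43.jobL43, H38.T3L2.jobL2, H18.T3L1.jobL1,
    H99.T3.jobL0, H92.T3X.jobXa, H92.T3X.jobXb, H92.T3X.jobXc, H31.T3.jobNN, H35.T3.jobC6, H35.T3.jobCE,
    H90.T3AS.jobAS, H89.T3B.jobB1, H89.T3B.jobB2, H31.T3.jobW1, H99.T3W.jobW2, H44.T3.jobGZ, H44.T3.jobCZ,
    H99.T3K.jobK0, H35.T3.jobTS⟩ F hF (e.trans e') hcore

end Cfsg.Agent.S5228
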