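import Cfsg.Statements.S5234
import Cfsg.Agent.H9.EssMeta

set_option autoImplicit false
open Cfsg

namespace Cfsg.Agent.S5234

/-- Let p be an odd prime, F a saturated fusion system over a finite p-group S and P a metacyclic subgroup of S strongly closed in F. Then P is normal in F. -/
theorem result {Ω : Type*} [Group Ω] {S : Subgroup Ω} [Finite S] (p : ℕ) [Fact p.Prime] (hS : IsPGroup p S) (F : Cfsg.FusionSystem S) (hF : F.IsSaturated p) (P : Subgroup Ω) (hP : F.StronglyClosed P) (hp : p ≠ 2) (hm : Cfsg.IsMetacyclic ↥P) : F.IsNormal P := by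
  open H9 H92 Cfsg.FusionSystem in
  refine isNormal_of_stronglyClosed hS hF hP fun E hE => ?_
  by_contra hPE
  obtain ⟨x, hxP, hx, hxE, hxp⟩ := exists_normalizes_pow_mem hS hE.1.1 hP.1
    (fun y hy q hq => conj_mem_of_stronglyClosed hP (hE.1.1 hy) hq) hPE
  have hQS : P ⊓ E ≤ S := inf_le_left.trans hP.1
  have := finite_of_le hQS
  have hQp := hS.to_le hQS
  have h1 : ∀ α ∈ F.autGroup E, ∀ y ∈ P ⊓ E, af α y ∈ P ⊓ E :=
    fun α hα y hy => af_mem_inf_of_stronglyClosed hP hE.1.1 hα hy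
  obtain ⟨π, D⟩ := exists_sl2_phi hS (centralizerIn_le_of_centric hE.1) (essential_radical hS hF hE)
    inf_le_right h1 (index_frattini_le_of_isMetacyclic hQp
      (H19.isMetacyclic_of_injective hm _ (Subgroup.inclusion_injective inf_le_left))) hx hxE
    fun y hy => inv_mul_conj_mem_inf hP hE.1.1 hxP hx hy
  have hB := D.pow_mem hS hF hp hP hE.1 (fun α hα y _ hy => af_mem_phi inf_le_right (h1 α hα) hy)
    (fun b hb n hn => conj_mem_modFix (fun y _ hy => h1 b hb y hy) hn) hxP hx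
    (fun y hy => by rw [af_cAut hx.2 hy]; exact inv_mul_conj_mem_inf hP hE.1.1 hxP hx hy) hxp
  have hz : ∀ y ∈ P ⊓ E, x * y * x⁻¹ ∈ P ⊓ E := fun y hy =>
    ⟨P.mul_mem (P.mul_mem hxP hy.1) (P.inv_mem hxP), conj_mem_of_normalizerIn hx hy.2⟩
  have hxn := mem_normalizer_of_finite hz
  have hT : (P ⊓ E) ⊔ Subgroup.zpowers x ≤ P := sup_le inf_le_left (Subgroup.zpowers_le.2 hxP)
  have hp0 := (Fact.out : p.Prime)
  have h5 : ((p.choose 2 : ℕ) : ZMod p) = 0 := (ZMod.natCast_eq_zero_iff _ _).mpr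
    (hp0.dvd_choose_self two_ne_zero (lt_of_le_of_ne hp0.two_le hp.symm))
  have h2 := relIndex_le_of_isMetacyclic hm hT (B := phi (P ⊓ E)) (fun t ht b hb => conj_mem_phi
    (sup_le Subgroup.le_normalizer (Subgroup.zpowers_le.2 hxn) ht) hb) hp0.pos fun t ht => by
      obtain ⟨q, hq, k, rfl⟩ := exists_mul_pow_of_mem_sup (isOfFinOrder_of_mem hx.1) hxn ht
      have h3 := conj_pow_coord hz D.conj k
      obtain ⟨h4, h6⟩ := D.coord.mul_pow (fun y hy => (h3 y hy).1) (fun y hy => (h3 y hy).2) hq p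
      have h7 := (D.coord.ker _ h4).mp (by rw [h6]; ext i; fin_cases i <;> simp [h5])
      have h8 := Subgroup.mul_mem _ h7 (Subgroup.pow_mem _ hB k)
      rwa [← pow_mul, ← pow_mul, mul_comm p k, inv_mul_cancel_right] at h8
  have := finite_of_le (hT.trans hP.1)
  rw [← Subgroup.relIndex_mul_relIndex _ _ _ (phi_le _) le_sup_left, D.coord.relIndex,
    H27.card_fin_zmod, ← pow_two] at h2
  have h3 : (P ⊓ E).relIndex ((P ⊓ E) ⊔ Subgroup.zpowers x) = 1 :=
    le_antisymm (Nat.le_of_mul_le_mul_left (by rwa [mul_one]) (pow_pos hp0.pos 2))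
      (Nat.pos_of_ne_zero Subgroup.FiniteIndex.index_ne_zero)
  exact hxE (Subgroup.relIndex_eq_one.mp h3 (Subgroup.mem_sup_right (Subgroup.mem_zpowers x))).2

end Cfsg.Agent.S5234
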