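import Cfsg.Statements.S5242
import Cfsg.Agent.H24.CxFin
import Cfsg.Agent.H11.CxB2U
import Cfsg.Agent.H18.CxAV
import Cfsg.Agent.H18.CxExt
import Cfsg.Agent.H18.CxMB
import Cfsg.Agent.H37.CxST
import Cfsg.Agent.H9.CxFB
import Cfsg.Agent.H9.CxNC
import Cfsg.Agent.H92.CxCh
import Cfsg.Agent.H92.CxFusC
import Cfsg.Agent.H92.CxFusK
import Cfsg.Agent.H95.CxO
import Cfsg.Agent.H95.CxPL
import Cfsg.Agent.H6.CxSat
import Cfsg.Agent.H1.CxH1
import Cfsg.Agent.H87.CxThmO
import Cfsg.Agent.H7.CxLocO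
import Cfsg.Agent.H61.CXSec
import Cfsg.Agent.H74.CxStep
import Cfsg.Agent.H77.CxChC

set_option autoImplicit false
open Cfsg

namespace Cfsg.Agent.S5242

/-- Let F be a saturated fusion system over a finite p-group S and A a subgroup of S central in F (every map of F extends to a map fixing A elementwise). Then, for every factor system E of F by A, F is exotic (saturated, but not the fusion system of a finite group on one of its Sylow p-subgroups) if and only if E is exotic. -/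
theorem result {Ω : Type*} [Group Ω] {S : Subgroup Ω} [Finite S] (p : ℕ) [Fact p.Prime] (hS : IsPGroup p S) (F : Cfsg.FusionSystem S) (hF : F.IsSaturated p) (A : Subgroup Ω) (hA : F.IsCentral A) {Ω' : Type*} [Group Ω'] {S' : Subgroup Ω'} [Finite S'] (θ : ↥S →* Ω') (E : Cfsg.FusionSystem S') (hE : F.IsFactorSystem A θ E) : F.IsExotic p ↔ E.IsExotic p :=
  H24.Cx.final H9.CxFB.jobFwd H9.CxFB.jobBack H18.CxExt.jobExt H92.CxF.jobFusC H92.CxF.fusK
    (H24.Cx.vanHK_of H18.CxAV.jobAV H9.CxNC.jobNC H74.Cx.jobStep H74.Cx.jobN H18.CxMB.jobM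
      H95.CxO.jobO H95.CxO.jobKC H95.CxPL.jobPL H37.Cx.jobST H11.CxB.jobB2U H18.CxMB.jobB2
      H6.Cx.jobSat H61.CXS.secK H61.CXS.jobSecL H7.CxLocO.jobLocO H87.CxO.jobThmO H1.CxH1.jobH1
      H92.CxCh.jobChA H92.CxCh.jobChB H77.CxChC.jobChC)
    p hS F hF A hA θ E hE

end Cfsg.Agent.S5242
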