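import Cfsg.Statements.S5248
import Cfsg.Agent.H9.R2Top

set_option autoImplicit false
open Cfsg

namespace Cfsg.Agent.S5248

/-- Let S be a finite 2-group that is dihedral of order at least 8, generalized quaternion of order at least 8, semidihedral, or wreathed, and let F be a saturated fusion system over S. Then F has at most two F-conjugacy classes of F-essential subgroups (among any three essential subgroups two are joined by a map of F), and F is realizable: it is the fusion system of a finite group on a Sylow 2-subgroup. -/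
theorem result {Ω : Type*} [Group Ω] {S : Subgroup Ω} [Finite S] (hS : IsPGroup 2 S) (F : Cfsg.FusionSystem S) (hF : F.IsSaturated 2) (hshape : ((∃ m : ℕ, 4 ≤ m ∧ Nonempty (↥S ≃* DihedralGroup m)) ∨ (∃ m : ℕ, 2 ≤ m ∧ Nonempty (↥S ≃* QuaternionGroup m)) ∨ Cfsg.IsQuasiDihedral ↥S ∨ Cfsg.IsWreathed ↥S)) : (∀ E₁ E₂ E₃ : Subgroup Ω, F.IsEssential 2 E₁ → F.IsEssential 2 E₂ → F.IsEssential 2 E₃ → (∃ φ ∈ F.Hom E₁, φ.range = E₂) ∨ (∃ φ ∈ F.Hom E₁, φ.range = E₃) ∨ (∃ φ ∈ F.Hom E₂, φ.range = E₃)) ∧ F.IsRealizable 2 := by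
  open H9 in
  have key : (∃ (m : ℕ) (a b : S), H3.DSQ m a b) ∨ ∃ k x y z, H86.Wr S k x y z := by
    rcases hshape with ⟨m, hm, ⟨e⟩⟩ | ⟨m, hm, ⟨e⟩⟩ | h | h
    · obtain ⟨n, a, b, h, -⟩ := (exists_dsq_of_dihedral hS e).resolve_left fun h => by omega
      exact Or.inl ⟨n, a, b, h⟩
    · exact Or.inl (exists_dsq_of_quaternion hS hm e)
    · obtain ⟨n, a, b, h, -⟩ := H3.exists_dsq_of_isQuasiDihedral h
      exact Or.inl ⟨n, a, b, h⟩
    · exact Or.inr (exists_wr h)
  rcases key with ⟨m, a, b, h⟩ | ⟨k, x, y, z, h⟩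
  · exact ⟨fun _ _ _ h1 h2 h3 => DS.two_classes h (good_of_essential hS hF h1)
      (good_of_essential hS hF h2) (good_of_essential hS hF h3), DS.isRealizable h hF⟩
  · exact ⟨fun _ _ _ h1 h2 h3 => WS.two_classes h (good_of_essential hS hF h1)
      (good_of_essential hS hF h2) (good_of_essential hS hF h3), WS.isRealizable h hF⟩

end Cfsg.Agent.S5248
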