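import Cfsg.Statements.S5258
import Cfsg.Agent.H90.U5Asm
import Cfsg.Agent.H90.U5Q
import Cfsg.Agent.H90.U5D
import Cfsg.Agent.H5.U5L
import Cfsg.Agent.H90.U5A
import Cfsg.Agent.H96.U5A2
import Cfsg.Agent.H90.U5Tri
import Cfsg.Agent.H90.U5Oa
import Cfsg.Agent.H90.U5Ob
import Cfsg.Agent.H75.U5Oc
import Cfsg.Agent.H79.U5G1
import Cfsg.Agent.H90.U5Hall
import Cfsg.Agent.H30.U5N12
import Cfsg.Agent.H72.U5Real
import Cfsg.Agent.H54.U5Model

set_option autoImplicit false
open Cfsg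

namespace Cfsg.Agent.S5258

/-- Let p be a prime, K a finite field with q² elements where q = pⁿ (n ≥ 1), and S a finite p-group isomorphic to a Sylow p-subgroup of the projective special unitary group PSU₅(q) realised over K. Then every saturated fusion system over S is realizable: it is the fusion system of a finite group on a Sylow p-subgroup. -/
theorem result {Ω : Type*} [Group Ω] {S : Subgroup Ω} [Finite S] (p : ℕ) [Fact p.Prime] (hS : IsPGroup p S) (F : Cfsg.FusionSystem S) (hF : F.IsSaturated p) {K : Type*} [Field K] [Fintype K] [CharP K p] (n : ℕ) (hn : 1 ≤ n) (hK : Fintype.card K = (p ^ n) ^ 2) (T : Sylow p (Cfsg.PSU 5 K (p ^ n))) (e : ↥S ≃* ↥(T : Subgroup (Cfsg.PSU 5 K (p ^ n)))) : F.IsRealizable p := by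
  exact H90.U5.main ⟨H90.U5.jobQ, H90.U5.jobD, H5.UL.jobL0, H5.UL.jobL1, H90.U5.jobA1,
    H96.U5A2.jobA2, H96.U5A2.jobAS, H90.U5.jobTri, H90.U5.jobOa, H90.U5.jobOb, H75.U5Oc.jobOc,
    H79.U5G.jobG1, H90.U5.jobG2, H90.U5.jobHall, H30.U5.jobN1, H30.U5.jobN2, H72.U5.jobReal,
    H54.U5.jobModel⟩ p F hF n hn hK T e

end Cfsg.Agent.S5258
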