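import Cfsg.Statements.S5261
import Cfsg.Agent.H90.D3Asm
import Cfsg.Agent.H18.D3L0
import Cfsg.Agent.H17.D3L1
import Cfsg.Agent.H89.D3L2
import Cfsg.Agent.H99.D3A
import Cfsg.Agent.H7.D3AS
import Cfsg.Agent.H52.D3X2
import Cfsg.Agent.H29.D3Oa
import Cfsg.Agent.H74.D3Oe
import Cfsg.Agent.H74.D3Om
import Cfsg.Agent.H60.D3Ga
import Cfsg.Agent.H60.D3V
import Cfsg.Agent.H79.D3Gb
import Cfsg.Agent.H61.D3N12
import Cfsg.Agent.H72.D3Real
import Cfsg.Agent.H17.D3E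

set_option autoImplicit false
open Cfsg

namespace Cfsg.Agent.S5261

/-- Let p be a prime, q = pⁿ (n ≥ 1), K a finite field with q³ elements, and S a finite p-group isomorphic to a Sylow p-subgroup of the twisted group ³D₄(q) realised over K. Then every saturated fusion system over S is realizable: it is the fusion system of a finite group on a Sylow p-subgroup. -/
theorem result {Ω : Type*} [Group Ω] {S : Subgroup Ω} [Finite S] (p : ℕ) [Fact p.Prime] (hS : IsPGroup p S) (F : Cfsg.FusionSystem S) (hF : F.IsSaturated p) {K : Type*} [Field K] [Fintype K] [CharP K p] (n : ℕ) (hn : 1 ≤ n) (hK : Fintype.card K = (p ^ n) ^ 3) (T : Sylow p ↥(Cfsg.Lie.twistedD4 K (p ^ n))) (e : ↥S ≃* ↥(T : Subgroup ↥(Cfsg.Lie.twistedD4 K (p ^ n)))) : F.IsRealizable p := by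
  exact H90.D3.main ⟨H18.D3L0.jobL0, H17.D3L1.jobL1, H89.D3L2.jobL2, H99.D3.jobA1, H99.D3.jobA2,
    H7.D3AS.jobCH, H7.D3AS.jobAS0, H7.D3AS.jobAS1, H52.D3X2.jobX2, H29.D3Oa.jobOa, H74.D3O.jobOe,
    H74.D3O.jobOm, H74.D3O.jobOc, H60.D3.jobGa, H79.D3G.jobGb, H60.D3.jobGc, H99.D3.jobG2,
    H61.D3N.jobN1, H61.D3N.jobN2, H72.D3R.jobReal H17.D3E.jobEmb, H17.D3E.jobModel⟩ p F hF n hn hK T e

end Cfsg.Agent.S5261
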