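import Cfsg.Statements.S5262
import Cfsg.Agent.H90.RFD
import Cfsg.Agent.H90.RFTri
import Cfsg.Agent.H90.RFHall
import Cfsg.Agent.H5.RFL0
import Cfsg.Agent.H5.RFL1
import Cfsg.Agent.H72.RFA8
import Cfsg.Agent.H54.RFB8
import Cfsg.Agent.H96.RFA1
import Cfsg.Agent.H5.RFAS
import Cfsg.Agent.H77.RFG8
import Cfsg.Agent.H30.RfG1N1
import Cfsg.Agent.H9.RFN8
import Cfsg.Agent.H5.RFQa
import Cfsg.Agent.H5.RFQb
import Cfsg.Agent.H5.RFReal
import Cfsg.Agent.H32.RfSE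

set_option autoImplicit false
open Cfsg

namespace Cfsg.Agent.S5262

/-- Let m ≥ 0, K a finite field with 2^(2m+1) elements, and S a finite 2-group isomorphic to a Sylow 2-subgroup of the Ree group ²F₄(2^(2m+1)) realised over K (its defining field endomorphism being t ↦ t^(2^m); m = 0 gives ²F₄(2)). Then every saturated fusion system over S is realizable: it is the fusion system of a finite group on a Sylow 2-subgroup. -/
theorem result {Ω : Type*} [Group Ω] {S : Subgroup Ω} [Finite S] (hS : IsPGroup 2 S) (F : Cfsg.FusionSystem S) (hF : F.IsSaturated 2) {K : Type*} [Field K] [Fintype K] (m : ℕ) (hK : Fintype.card K = 2 ^ (2 * m + 1)) (T : Sylow 2 ↥(Cfsg.Lie.twistedF4 K (2 ^ m))) (e : ↥S ≃* ↥(T : Subgroup ↥(Cfsg.Lie.twistedF4 K (2 ^ m)))) : F.IsRealizable 2 := by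
  exact H90.RF.main ⟨H32.RF.jobSE, H90.RF.jobD, H5.RL.jobL0a, H5.RL.jobL0b, H5.RL.jobL1a, H5.RL.jobL1b, H5.RL.jobL2,
    H5.RL.jobL3, H72.RF.jobA8, H54.RF.jobB8, H96.RFA1.jobA1, H5.RL.jobAS, H90.RF.jobTri, H72.RF.jobCj,
    H77.RFG8.jobG8, H30.RF.jobG1, H90.RF.jobHall, H9.RF.jobN8, H30.RF.jobN1, H5.QA.jobQa, H5.QA.jobQb,
    H5.RE.jobReal⟩ F hF m hK T e

end Cfsg.Agent.S5262
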