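import Cfsg.Statements.S5270
import Cfsg.Agent.H11.Pearl
import Cfsg.Agent.H92.Alperin
-- import your own Cfsg.Agent.* helpers here

set_option autoImplicit false
open Cfsg

namespace Cfsg.Agent.S5270

open Subgroup H92 H11 in
theorem max_cen {G : Type*} [Group G] [Finite G] {p n : ℕ} [hp : Fact p.Prime]
    (hn : Nat.card G = p ^ n) (hcl : Group.nilpotencyClass G = n - 1) (h4 : 4 ≤ n) {Q : Subgroup G}
    (h : centralizer (Subgroup.upperCentralSeries G 2 : Set G) < Q) : Q = ⊤ := by
  have m := maxCl_mcs hn hcl h4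
  have hz := m.center_eq (by omega)
  have h1 : Subgroup.upperCentralSeries G 2 ≤ mcs G (n - 2) := by
    by_cases e : Subgroup.upperCentralSeries G 2 = ⊥
    · rw [e]; exact bot_le
    have c : ⁅Subgroup.upperCentralSeries G 2, ⊤⁆ ≤ mcs G (n - 1) := by
      rw [← hz, commutator_le]
      intro x hx y _
      rw [← Subgroup.upperCentralSeries_one]
      exact Subgroup.mem_upperCentralSeries_succ_iff.1 hx y
    obtain ⟨i, a, b⟩ := m.exists_level e
    have k : ∀ j, mcs G j ≤ Subgroup.upperCentralSeries G 2 → 1 ≤ j → n - 2 ≤ j := fun j hj h1 => by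
      by_contra r
      exact m.not_le (i := j + 1) (by omega) (((m.comm j h1).ge.trans
        ((commutator_mono hj le_rfl).trans c)).trans (m.anti (by omega)))
    rcases Nat.eq_zero_or_pos i with rfl | hi
    · exfalso
      obtain ⟨s, hs, hs'⟩ := SetLike.not_le_iff_exists.1 b
      obtain ⟨w, hw, hw'⟩ := m.exists_gen (i := 1) (by omega)
      refine m.comm_notMem hw hw' (s := s) (by rwa [m.K_one (by omega)]) (m.anti (by omega : 1 + 2 ≤ n - 1)
        (comm_mem_symm (c (commutator_mem_commutator hs (mem_top w)))))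
    · have := m.eq_of_normal (by omega) hi a b
      exact a.trans (m.anti (k i this.ge hi))
  have h2 : MaxCl.K (mcs G) (n - 2) ≤ centralizer (Subgroup.upperCentralSeries G 2 : Set G) := by
    intro x hx
    refine mem_centralizer_iff.2 fun y hy => ?_
    have := mem_secCent.1 hx y (h1 hy)
    rw [m.eq_bot (by omega), mem_bot] at this
    exact commutatorElement_eq_one_iff_mul_comm.1 this
  have h3 := index_dvd_of_le (h2.trans h.le)
  rw [m.index_K (by omega) (by omega)] at h3
  rcases (Nat.dvd_prime hp.out).1 h3 with e | e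
  · exact index_eq_one.1 e
  · exfalso
    have := (h2.trans_lt h)
    have e1 := (MaxCl.K (mcs G) (n - 2)).index_mul_card
    have e2 := Q.index_mul_card
    rw [m.index_K (by omega) (by omega)] at e1
    rw [e, ← e1] at e2
    exact this.ne (eq_of_le_of_card_ge this.le (Nat.eq_of_mul_eq_mul_left hp.out.pos e2).le)

open Subgroup H92 Cfsg.FusionSystem in
/-- Let p ≥ 5 be a prime, S a finite p-group of maximal class of order p^n with n ≥ 4, and F a saturated fusion system over S. If some map of F defined on the second centre Z₂(S) with image Z₂(S) does not carry Z(S) into itself, then the centralizer C_S(Z₂(S)) is an F-essential subgroup. -/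
theorem result {Ω : Type*} [Group Ω] {S : Subgroup Ω} [Finite S] (p : ℕ) [Fact p.Prime] (hS : IsPGroup p ↥S) (n : ℕ) (hn : Nat.card S = p ^ n) (h4 : 4 ≤ n) (hmax : Subgroup.lowerCentralSeries S (n - 2) ≠ ⊥) (F : Cfsg.FusionSystem S) (hF : F.IsSaturated p) (hp : 5 ≤ p) (φ : ↥((Subgroup.upperCentralSeries ↥S 2).map S.subtype) →* Ω) (hφ : φ ∈ F.Hom ((Subgroup.upperCentralSeries ↥S 2).map S.subtype)) (hφZ : φ.range = ((Subgroup.upperCentralSeries ↥S 2).map S.subtype)) (hmove : ∃ (z : Ω) (hz : z ∈ ((Subgroup.upperCentralSeries ↥S 2).map S.subtype)), z ∈ ((Subgroup.center ↥S).map S.subtype) ∧ φ ⟨z, hz⟩ ∉ ((Subgroup.center ↥S).map S.subtype)) : F.IsEssential p (S ⊓ Subgroup.centralizer (((Subgroup.upperCentralSeries ↥S 2).map S.subtype) : Set Ω)) := by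
  have hcl := H11.class_of_lcs_ne_bot hn (by omega) hmax
  obtain ⟨z, hz, z1, z2⟩ := hmove
  have mz : ∀ {x : Ω}, x ∈ (center S).map S.subtype ↔ x ∈ S ∧ ∀ s ∈ S, s * x = x * s := fun {x} =>
    ⟨by rintro ⟨y, hy, rfl⟩; exact ⟨y.2, fun s hs => congrArg Subtype.val (mem_center_iff.1 hy ⟨s, hs⟩)⟩,
      fun ⟨a, b⟩ => ⟨⟨x, a⟩, mem_center_iff.2 fun s => Subtype.ext (b s s.2), rfl⟩⟩
  have mx : ∀ Q ≤ S, S ⊓ centralizer (((Subgroup.upperCentralSeries S 2).map S.subtype : Subgroup Ω) : Set Ω) < Q →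
      Q = S := fun Q hQ h => by
    have : Q.subgroupOf S = ⊤ := max_cen hn hcl h4 (lt_of_le_of_ne (fun x hx => h.le ⟨x.2, by
        rintro _ ⟨y, hy, rfl⟩; exact congrArg Subtype.val (hx y hy)⟩) fun e => h.not_ge fun x hx =>
      ⟨hQ hx, by
        rintro _ ⟨y, hy, rfl⟩
        exact congrArg Subtype.val ((e.ge (show (⟨x, hQ hx⟩ : S) ∈ Q.subgroupOf S from hx)) y hy)⟩)
    exact le_antisymm hQ (subgroupOf_eq_top.1 this)
  have nZ : ∀ s ∈ S, ∀ x ∈ (Subgroup.upperCentralSeries S 2).map S.subtype,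
      s * x * s⁻¹ ∈ (Subgroup.upperCentralSeries S 2).map S.subtype := by
    rintro s hs _ ⟨y, hy, rfl⟩
    exact ⟨_, (inferInstance : (Subgroup.upperCentralSeries S 2).Normal).conj_mem y hy ⟨s, hs⟩, rfl⟩
  generalize (Subgroup.upperCentralSeries S 2).map S.subtype = Z at *
  have hf := mor_ext1 hφ
  have hi : img Z (ext1 φ) = Z := (range_eq_img φ fun x => (ext1_coe φ x).symm).symm.trans hφZ
  have fc : F.IsFullyCentralized Z := fc_of_fn hS hF (fullyNormalized_of_normal F hf.le nZ)
  obtain ⟨g, hg, e⟩ := exists_ext_sup_centralizer hS hF hf (hi.symm ▸ fc)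
  have hR : img (centralizerIn S Z) g = centralizerIn S Z := by
    rw [img_centralizerIn_eq fc hg le_sup_left le_sup_right, img_congr e, hi]
  obtain ⟨α, hα, eα⟩ := (hg.mono le_sup_right).exists_aut hR
  have zR : ∀ {x}, x ∈ (center S).map S.subtype → x ∈ centralizerIn S Z := fun hx =>
    ⟨(mz.1 hx).1, fun y hy => (mz.1 hx).2 y (hf.le hy)⟩
  have lt : centralizerIn S Z < S := lt_of_le_of_ne inf_le_left fun r => z2 (mz.2
    ⟨hf.le (hφZ.le ⟨_, rfl⟩), fun s hs => ((r.ge hs).2 _ (hφZ.le ⟨_, rfl⟩)).symm⟩)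
  refine (isEssential_iff (P := centralizerIn S Z) hS hF).2 ⟨lt, fullyNormalized_of_normal F inf_le_left
    fun s hs x hx => ⟨mul_mem (mul_mem hs hx.1) (S.inv_mem hs), fun y hy => ?_⟩, fun h => z2 ?_⟩
  · have := hx.2 _ (nZ _ (S.inv_mem hs) y hy)
    calc _ = s * (s⁻¹ * y * s⁻¹⁻¹ * x) * s⁻¹ := by group
      _ = _ := by rw [this]; group
  · have key : ∀ β ∈ extSub F (centralizerIn S Z), ∀ x, x ∈ (center S).map S.subtype ↔
        af β x ∈ (center S).map S.subtype := by
      intro β hβ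
      induction hβ using closure_induction with
      | mem β hβ =>
        obtain ⟨Q, hQ, k, hk, ek⟩ := hβ
        obtain rfl := mx Q hk.le hQ
        have sj := hk.img_eq_of_le hk.img_le
        intro x
        by_cases hx : x ∈ centralizerIn Q Z
        · rw [← ek x hx, mz, mz]
          refine ⟨fun ⟨a, b⟩ => ⟨hk.mem a, fun s hs => ?_⟩, fun ⟨_, b⟩ => ⟨hx.1, fun s hs => ?_⟩⟩
          · obtain ⟨t, ht, rfl⟩ := hk.mem_img.1 (sj.ge hs)
            rw [← hk.map_mul ht a, b t ht, hk.map_mul a ht]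
          · refine hk.inj (mul_mem hs hx.1) (mul_mem hx.1 hs) ?_
            rw [hk.map_mul hs hx.1, hk.map_mul hx.1 hs, b _ (hk.mem hs)]
        · rw [af_of_not_mem β hx]
      | one => intro x; rw [af_one_apply]
      | mul a b _ _ ha hb => intro x; rw [af_mul_apply, ← ha, ← hb]
      | inv a _ ha => intro x; rw [ha (af a⁻¹ x), af_af_inv]
    have := (key α (h hα) z).1 z1
    rwa [eα z (zR z1), e z hz, ext1_of_mem φ hz] at this

end Cfsg.Agent.S5270
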