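import Cfsg.Statements.S5296
import Cfsg.Agent.H6.FusB

set_option autoImplicit false
universe u
open Cfsg

namespace Cfsg.Agent.S5296
open H92 H93 Cfsg.FusionSystem

/-- Small-exponent abelian subgroups of the hyperfocal subgroup control fusion. Let E and F be saturated fusion systems over the same finite p-group S with E contained in F. Suppose that E and F have the same maps between A and B for all subgroups A, B of the hyperfocal subgroup of F that are elementary abelian when p is odd, respectively abelian of exponent dividing 4 when p = 2. Then E = F. -/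
theorem result {Ω : Type u} [Group Ω] {S : Subgroup Ω} [Finite S] (p : ℕ) [Fact p.Prime] (hS : IsPGroup p S)
    (E F : Cfsg.FusionSystem S) (hE : E.IsSaturated p) (hF : F.IsSaturated p) (hEF : E.IsSubsystemOf F)
    (hodd : p ≠ 2 → ∀ A B : Subgroup Ω, A ≤ (F.hyperfocalSubgroup p) → B ≤ (F.hyperfocalSubgroup p) →
      Cfsg.IsElementaryAbelian p A → Cfsg.IsElementaryAbelian p B → E.homSet A B = F.homSet A B)
    (htwo : p = 2 → ∀ A B : Subgroup Ω, A ≤ (F.hyperfocalSubgroup p) → B ≤ (F.hyperfocalSubgroup p) →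
      IsMulCommutative ↥A → IsMulCommutative ↥B → (∀ a ∈ A, a ^ 4 = 1) → (∀ b ∈ B, b ^ 4 = 1) → E.homSet A B = F.homSet A B) :
    ∀ P : Subgroup Ω, E.Hom P = F.Hom P := by
  intro P
  refine Set.Subset.antisymm (hEF P) (H6.sub_of_small hS hF hE hEF (fun A f h1 h2 h3 hf => ?_) P)
  have hB : img A f ≤ F.hyperfocalSubgroup p := img_le_iff.2 fun x hx =>
    hf.mem_of_stronglyClosed (H95.stronglyClosed_hyp hS hF) hx (h1 hx)
  have cA : IsMulCommutative A := H9.isMulCommutative_iff_forall.2 fun x hx y hy => h2 hy x hx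
  have cB : IsMulCommutative (img A f) := H9.isMulCommutative_iff_forall.2 fun x hx y hy => by
    obtain ⟨u, hu, rfl⟩ := hf.mem_img.1 hx
    obtain ⟨v, hv, rfl⟩ := hf.mem_img.1 hy
    rw [← hf.mulOn _ hu _ hv, ← hf.mulOn _ hv _ hu, h2 hu v hv]
  have sB : ∀ x ∈ img A f, H6.Sm p x := fun x hx => by
    obtain ⟨u, hu, rfl⟩ := hf.mem_img.1 hx
    exact (show H6.Sm p (⟨u, hu⟩ : A) from
      (h3 u hu).imp Subtype.ext fun h => ⟨h.1, Subtype.ext h.2⟩).map hf.mulOn.hom
  have key : E.homSet A (img A f) = F.homSet A (img A f) := by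
    by_cases h : p = 2
    · subst h
      exact htwo rfl _ _ h1 hB cA cB (fun x hx => (h3 x hx).pow_four) fun x hx => (sB x hx).pow_four
    · exact hodd h _ _ h1 hB ⟨cA, fun x hx => (h3 x hx).resolve_right fun k => h k.1⟩
        ⟨cB, fun x hx => (sB x hx).resolve_right fun k => h k.1⟩
  have : hf.mulOn.hom ∈ F.homSet A (img A f) := ⟨hf.hom_mem, fun x => mem_img_of_mem f x.2⟩
  rw [← key] at this
  exact mor_of_mem this.1 fun _ => rfl

end Cfsg.Agent.S5296
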