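import Cfsg.Statements.S5275
import Cfsg.Agent.H94.Sparse
import Cfsg.Agent.S3082

set_option autoImplicit false
open Cfsg

namespace Cfsg.Agent.S5275

/-- A Glauberman–Thompson nilpotency criterion for fusion systems relative to a strongly closed subgroup. Let p be an odd prime, F a saturated fusion system over a finite p-group S, and D a subgroup of S that is strongly closed in F. Let Z(J(D)) be the centre of the subgroup of D generated by the abelian subgroups of D of largest order. Then F is the inner fusion system of S if and only if the normalizer fusion system of Z(J(D)) in F is the inner fusion system of N_S(Z(J(D))) = S. -/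
theorem result {Ω : Type*} [Group Ω] {S : Subgroup Ω} [Finite S] (p : ℕ) [Fact p.Prime] (hS : IsPGroup p ↥S) (F : Cfsg.FusionSystem S) (hF : F.IsSaturated p) (hp : p ≠ 2) (D : Subgroup Ω) (hD : F.StronglyClosed D) : (∀ P : Subgroup Ω, F.Hom P = (Cfsg.innerFusionSystem S).Hom P) ↔ ∀ N : Cfsg.FusionSystem (Cfsg.FusionSystem.normalizerIn S (Cfsg.centerThompsonAOf D)), F.IsNormalizerSystem (Cfsg.centerThompsonAOf D) N → ∀ P : Subgroup Ω, N.Hom P = (Cfsg.innerFusionSystem (Cfsg.FusionSystem.normalizerIn S (Cfsg.centerThompsonAOf D))).Hom P := by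
  have hw := H94.isFun_ZJ p
  haveI : Finite D := H92.finite_of_le hD.1
  rw [← H94.inner_iff, ← H94.nsub_inner_iff ((hw.le Ω D).trans hD.1)]
  refine ⟨fun h => H94.nsub_of_sub' h _, fun hN => ?_⟩
  by_contra hne
  obtain ⟨E, h1, h2, -, h4, -⟩ := H94.exists_sparse hS hF (Or.inl hp) hne
  obtain ⟨G, _, _, T, a, b, h, hc⟩ := H94.exists_tr_model hS h2
  have hD' := h.stronglyClosed (H92.stronglyClosed_of_sub h1 hD hD.1)
  refine h4 (h.symm.inner (H94.inner_of_hasNPC T (Cfsg.Agent.S3082.result hp T (H92.img D a)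
    ⟨hD'.1, fun x hx g hg => ?_⟩ (Or.inl ?_))))
  · have h5 : H92.Mor (groupFusionSystem (T : Subgroup G)) (Subgroup.zpowers x)
        (fun y => g * y * g⁻¹) := by
      refine H92.mor_group_iff.2 ⟨(Subgroup.zpowers_le).2 (hD'.1 hx), ?_, g, fun _ _ => rfl⟩
      rintro _ ⟨n, rfl⟩
      simp only [← conj_zpow]
      exact zpow_mem hg n
    exact h5.mem_of_stronglyClosed hD' (Subgroup.mem_zpowers x) hx
  · have := h.nsub (H94.tr_inner h.iso) ((hw.le Ω D).trans hD.1) (hN.of_sub h1)
    rw [hw.iso (hS.to_le hD.1) (h.iso.restrict hD.1)] at this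
    refine H94.hasNPC_normalizer_of_nsub T ((hw.le G _).trans hD'.1) ?_ this
    exact le_trans (fun s hs => H92.mem_normalizerIn_of hD'.1 hs fun y hy =>
      H92.conj_mem_of_stronglyClosed hD' hs hy)
      (H94.normalizerIn_le_of_char hD'.1 (hw.le G _) (hw.char (T.isPGroup'.to_le hD'.1)))

end Cfsg.Agent.S5275
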