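import Cfsg.Statements.S5277
import Cfsg.Agent.Base
import Cfsg.Agent.H98.FfThm

set_option autoImplicit false
open Cfsg

namespace Cfsg.Agent.S5277

open Subgroup H98
open scoped commutatorElement


/-- Let p be an odd prime, F a saturated fusion system over a finite p-group S, and α an automorphism of S that fixes no non-identity element of S and preserves F (every map of F, transported along α, is again a map of F). Suppose the order of α is a prime r that does not divide the order of Aut_F(R) for any F-centric F-radical subgroup R of S. Then S is normal in F (F is the normalizer fusion system of S). -/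
theorem result {Ω : Type*} [Group Ω] {S : Subgroup Ω} [Finite S] (p : ℕ) [Fact p.Prime] (hS : IsPGroup p ↥S) (F : Cfsg.FusionSystem S) (hF : F.IsSaturated p) (hp : p ≠ 2) (α : ↥S ≃* ↥S) (hfix : ∀ x : ↥S, α x = x → x = 1) (hmor : F.IsMorphism F (S.subtype.comp α.toMonoidHom)) (r : ℕ) (hr : r.Prime) (hord : orderOf α = r) (hcr : ∀ R : Subgroup Ω, F.IsCentric R → F.IsRadical p R → ¬ r ∣ Nat.card ↥(F.autGroup R)) : F.IsNormal S := by
  have h1 : (α : MulAut S) ^ r = 1 := hord ▸ pow_orderOf_eq_one α
  by_cases h0 : S = ⊥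
  · subst h0; exact H93.isNormal_bot _
  have e : ∀ x ∈ S, H92.ext1 (S.subtype.comp α.toMonoidHom) x = H92.af α x := fun x hx => by
    rw [H92.ext1_of_mem _ hx, H92.af_of_mem _ hx]; rfl
  refine H98.Ff.mainThm p r Ω S F α hS hF hp hr h1 hfix (fun P f hf => ?_)
    (H92.Ff.jobN p r Ω S F hS hF hr ?_ hcr)
  · obtain ⟨g, hg, e'⟩ := (H94.isMorphism_iff.1 hmor).2 P f hf
    rw [H92.img_congr fun x hx => e x (hf.le hx)] at hg
    exact ⟨g, hg, fun x hx => by rw [← e x (hf.le hx), e' x hx, e _ (hf.mem hx)]⟩
  · rintro rfl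
    exact H98.Ff.not_dvd_of_fpf hr h1 hfix
      (hS.card_eq_or_dvd.resolve_left fun k => h0 (Subgroup.card_eq_one.1 k))

end Cfsg.Agent.S5277
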