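import Cfsg.Statements.S5278
import Cfsg.Agent.Base
import Cfsg.Agent.H98.WCF

set_option autoImplicit false
open Cfsg

namespace Cfsg.Agent.S5278

open Subgroup H98
open scoped commutatorElement


/-- Let p be an odd prime, F a saturated fusion system over a finite p-group S, and T a subgroup of Z(S) such that the normalizer fusion system of J(S) in F is contained in the normalizer fusion system of T, J(S) being the subgroup generated by the abelian subgroups of S of largest order. Then either T is weakly closed in F, or Aut_F(T) has a nontrivial cyclic subgroup X of order prime to p that permutes transitively the non-identity elements of the commutator [T, X] (the subgroup of T generated by the elements ψ(t)·t⁻¹ with ψ in X and t in T). -/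
theorem result {Ω : Type*} [Group Ω] {S : Subgroup Ω} [Finite S] (p : ℕ) [Fact p.Prime] (hS : IsPGroup p ↥S) (F : Cfsg.FusionSystem S) (hF : F.IsSaturated p) (hp : p ≠ 2) (T : Subgroup Ω) (hT : T ≤ S ⊓ Subgroup.centralizer (S : Set Ω)) (hJT : ∀ NJ : Cfsg.FusionSystem (Cfsg.FusionSystem.normalizerIn S (Cfsg.thompsonSubgroupAOf S)), F.IsNormalizerSystem (Cfsg.thompsonSubgroupAOf S) NJ → ∀ NT : Cfsg.FusionSystem (Cfsg.FusionSystem.normalizerIn S T), F.IsNormalizerSystem T NT → NJ.IsSubsystemOf NT) : F.WeaklyClosed T ∨ ∃ X : Subgroup (MulAut ↥T), X ≤ F.autGroup T ∧ X ≠ ⊥ ∧ IsCyclic ↥X ∧ (Nat.card ↥X).Coprime p ∧ ∀ a b : ↥T, a ∈ Subgroup.closure {y : ↥T | ∃ ψ ∈ X, ∃ t : ↥T, y = ψ t * t⁻¹} → b ∈ Subgroup.closure {y : ↥T | ∃ ψ ∈ X, ∃ t : ↥T, y = ψ t * t⁻¹} → a ≠ 1 → b ≠ 1 → ∃ ψ ∈ X, ψ a = b := by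
  refine (em (GoodX p (F.autGroup T))).symm.imp_left fun hX => ?_
  have hTS : T ≤ S := hT.trans inf_le_left
  have hJS := (H94.isFun_J p).le Ω S
  refine H92.weaklyClosed_iff.2 ⟨hTS, fun f hf => hf.img_eq_of_maps
    (wc_or_goodX hp hS hF hT (fun f hf e x hx => ?_) hX f hf)⟩
  have h1 := H93.isNormalizerSystem_normSys F _ hJS
  have h2 := H93.isNormalizerSystem_normSys F _ hTS
  obtain ⟨-, g, -, e1, e2⟩ := (H92.mor_normalizerSystem_iff h2).1
    ((H94.mor_norm_of h1 hf le_rfl e le_rfl (H92.le_normalizerIn hJS)).of_sub (hJT _ h1 _ h2))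
  rw [← e1 x (H94.center_le_thompsonA' S hS (hT hx)), ← e2]
  exact H92.mem_img_of_mem g hx

end Cfsg.Agent.S5278
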