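import Cfsg.Statements.S5287
import Cfsg.Agent.H9.MetaAut
import Cfsg.Agent.H9.R2Top
import Cfsg.Agent.S5234
import Cfsg.Agent.S5235

set_option autoImplicit false
open Cfsg

namespace Cfsg.Agent.S5287

/-- Let S be a finite metacyclic p-group (an extension of a cyclic group by a cyclic group). Every saturated fusion system over S is supersoluble (S has a chain of F-strongly closed subgroups from 1 to S with cyclic steps) if and only if S is not homocyclic of rank two (isomorphic to Z/p^n × Z/p^n with n ≥ 1) and, when p = 2, S is not dihedral of order at least 4, not quasi-dihedral (semidihedral) and not generalized quaternion of order at least 8. -/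
theorem result {Ω : Type*} [Group Ω] {S : Subgroup Ω} [Finite S] (p : ℕ) [Fact p.Prime] (hS : IsPGroup p ↥S) (hm : Cfsg.IsMetacyclic ↥S) : (∀ F : Cfsg.FusionSystem S, F.IsSaturated p → (∃ (m : ℕ) (c : Fin (m + 1) → Subgroup Ω), c 0 = ⊥ ∧ c (Fin.last m) = S ∧ (∀ i : Fin (m + 1), F.StronglyClosed (c i)) ∧ ∀ i : Fin m, c i.castSucc ≤ c i.succ ∧ ∃ x ∈ S, c i.succ = c i.castSucc ⊔ Subgroup.zpowers x)) ↔ ¬ ((∃ n : ℕ, 0 < n ∧ Nonempty (↥S ≃* Multiplicative (ZMod (p ^ n)) × Multiplicative (ZMod (p ^ n)))) ∨ (p = 2 ∧ ((∃ n : ℕ, 2 ≤ n ∧ Nonempty (↥S ≃* DihedralGroup n)) ∨ Cfsg.IsQuasiDihedral ↥S ∨ (∃ n : ℕ, 2 ≤ n ∧ Nonempty (↥S ≃* QuaternionGroup n))))) := by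
  open H9 H92 Subgroup in
  have key : ∀ a b : S, a ≠ 1 → Commute a b → orderOf a = orderOf b → zpowers a ⊓ zpowers b = ⊥ →
      zpowers a ⊔ zpowers b = ⊤ → ∃ n : ℕ, 0 < n ∧
      Nonempty (S ≃* Multiplicative (ZMod (p ^ n)) × Multiplicative (ZMod (p ^ n))) :=
    fun a b h0 h1 h2 h3 h4 => by
      obtain ⟨k, hk⟩ := IsPGroup.iff_orderOf.mp hS a
      obtain ⟨e⟩ := nonempty_equiv_zmod_prod h1 h3 h4 hk (h2 ▸ hk)
      exact ⟨k, Nat.pos_of_ne_zero (by rintro rfl; exact h0 (orderOf_eq_one_iff.mp hk)),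
        ⟨e.trans (MulEquiv.prodMultiplicative _ _)⟩⟩
  refine ⟨fun h => ?_, fun h => (forall_ssol_iff hS).mpr ⟨fun F hF => ?_, ?_⟩⟩
  · have h1 : ¬ ∃ n : ℕ, 0 < n ∧
        Nonempty (S ≃* Multiplicative (ZMod (p ^ n)) × Multiplicative (ZMod (p ^ n))) := by
      rintro ⟨n, hn, ⟨e⟩⟩
      have : NeZero (p ^ n) := ⟨pow_ne_zero _ (Fact.out : p.Prime).ne_zero⟩
      exact not_autAb_prod (H := PUnit.{1}) (g := Multiplicative.ofAdd (1 : ZMod (p ^ n))) hn
        (by rw [orderOf_ofAdd_eq_addOrderOf, ZMod.addOrderOf_one])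
        (((forall_ssol_iff hS).mp h).2.of_equiv (e.trans MulEquiv.prodUnique.symm))
    rintro (h' | ⟨rfl, h'⟩)
    · exact h1 h'
    have h2 : ∀ (m : ℕ) (a b : S), ¬ H3.DSQ m a b := fun m a b hd => by
      obtain ⟨E, hE, hE'⟩ := DS.exists_not_ssol hd
      exact hE' (h E hE)
    rcases h' with ⟨n, hn, ⟨e⟩⟩ | h' | ⟨n, hn, ⟨e⟩⟩
    · rcases exists_dsq_of_dihedral hS e with ⟨-, h3⟩ | ⟨m, a, b, hd, -⟩
      · obtain rfl : n = 2 := by omega
        obtain ⟨e'⟩ := IsKleinFour.nonempty_mulEquiv (G₁ := DihedralGroup 2)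
          (G₂ := Multiplicative (ZMod 2 × ZMod 2))
        exact h1 ⟨1, one_pos, ⟨e.trans (e'.trans (MulEquiv.prodMultiplicative _ _))⟩⟩
      · exact h2 m a b hd
    · obtain ⟨m, a, b, hd, -⟩ := H3.exists_dsq_of_isQuasiDihedral h'
      exact h2 m a b hd
    · obtain ⟨m, a, b, hd⟩ := exists_dsq_of_quaternion hS hn e
      exact h2 m a b hd
  · by_cases hp2 : p = 2
    swap
    · exact Cfsg.Agent.S5234.result p hS F hF S (stronglyClosed_top F) hp2 hm
    by_cases hab : IsMulCommutative S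
    · exact isNormal_top_of_comm hS hab hF
    refine Cfsg.Agent.S5235.result p hS F hF S (stronglyClosed_top F) hp2 hm ?_ ?_
      fun h' => h (Or.inr ⟨hp2, Or.inr (Or.inl h')⟩)
    · rintro ⟨_ | _ | n, ⟨e⟩⟩
      · exact not_finite_iff_infinite.mpr (e.toEquiv.infinite_iff.mpr inferInstance) inferInstance
      · have := (isCyclic_of_surjective e.symm e.symm.surjective
          (hH := DihedralGroup.isCyclic_iff.mpr rfl))
        exact hab inferInstance
      · exact h (Or.inr ⟨hp2, Or.inl ⟨_, by omega, ⟨e⟩⟩⟩)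
    · rintro ⟨_ | _ | n, ⟨e⟩⟩
      · exact not_finite_iff_infinite.mpr ((e.trans
          QuaternionGroup.quaternionGroupZeroEquivDihedralGroupZero).toEquiv.infinite_iff.mpr
          inferInstance) inferInstance
      · have := (isCyclic_of_surjective e.symm e.symm.surjective
          (hH := QuaternionGroup.quaternionGroup_one_isCyclic))
        exact hab inferInstance
      · exact h (Or.inr ⟨hp2, Or.inr (Or.inr ⟨_, by omega, ⟨e⟩⟩)⟩)
  · by_cases hp2 : p = 2
    swap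
    · exact (autAb_or_homocyclic hp2 hS hm).resolve_right fun ⟨a, b, h0, h1, h2, h3, h4⟩ =>
        h (Or.inl (key a b h0 h1 h2 h3 h4))
    subst hp2
    intro H hH
    have : ∀ α ∈ H, α = 1 := fun α hα => by_contra fun h1 => by
      rcases homocyclic_or_quaternion hS hm (hH.coprime_dvd_left (orderOf_dvd_natCard H hα)) h1
        with ⟨a, b, h2, h3, h4, h5⟩ | ⟨a, b, hd, -⟩
      · refine h (Or.inl (key a b (fun e => h1 ?_) h2 h3 h4 h5))
        obtain rfl : b = 1 := orderOf_eq_one_iff.mp (h3 ▸ orderOf_eq_one_iff.mpr e)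
        rw [e, sup_idem, zpowers_one_eq_bot] at h5
        ext y
        rw [mem_bot.mp (h5.ge (mem_top y)), map_one, map_one]
      · rcases hd.three_cases' with h' | h' | h'
        exacts [h (Or.inr ⟨rfl, Or.inl ⟨_, by norm_num, h'⟩⟩),
          h (Or.inr ⟨rfl, Or.inr (Or.inr ⟨_, by norm_num, h'⟩)⟩), h (Or.inr ⟨rfl, Or.inr (Or.inl h')⟩)]
    exact ⟨isMulCommutative_iff_forall.mpr fun α hα β hβ => by rw [this α hα, this β hβ],
      fun α hα => by rw [this α hα, one_pow]⟩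

end Cfsg.Agent.S5287
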