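import Cfsg.Statements.S5289
import Cfsg.Agent.H9.Rk2Ess

set_option autoImplicit false
open Cfsg

namespace Cfsg.Agent.S5289

/-- Let p ≥ 5 be a prime and S a finite p-group of p-rank two (it has an elementary abelian subgroup of order p² and none of order p³) which is not the extraspecial group of order p³ and exponent p. Then S is resistant: for every saturated fusion system F over S, S is normal in F, that is, every map of F extends to an F-automorphism of S. -/
theorem result {Ω : Type*} [Group Ω] {S : Subgroup Ω} [Finite S] (p : ℕ) [Fact p.Prime] (hS : IsPGroup p S)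
    (F : Cfsg.FusionSystem S) (hF : F.IsSaturated p)
    (hp : 5 ≤ p)
    (hrank2 : ∃ E : Subgroup Ω, E ≤ S ∧ Cfsg.IsElementaryAbelian p E ∧ Nat.card E = p ^ 2)
    (hrank3 : ∀ E : Subgroup Ω, E ≤ S → Cfsg.IsElementaryAbelian p E → Nat.card E ≤ p ^ 2)
    (hnotE : ¬ (Nat.card S = p ^ 3 ∧ Monoid.exponent ↥S = p)) : F.IsNormal S := by
  open H9 H92 in
  obtain ⟨P, h⟩ := exists_rk2 hS hF hp hrank3
  refine isNormal_top_of_no_essential hS hF fun E hE => hnotE ?_
  obtain ⟨h1, h2⟩ := h.le_of_essential hE
  obtain rfl := le_antisymm h.le h1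
  have : Nontrivial P := Finite.one_lt_card_iff_nontrivial.mp
    (h2 ▸ Nat.one_lt_pow three_ne_zero (Fact.out : p.Prime).one_lt)
  exact ⟨h2, (Monoid.exponent_eq_prime_iff Fact.out).mpr fun g hg =>
    orderOf_eq_prime (Subtype.ext (h.pow g.2)) hg⟩

end Cfsg.Agent.S5289
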