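import Cfsg.Statements.S5295
import Cfsg.Agent.H94.WeakClosed

set_option autoImplicit false
universe u
open Cfsg

namespace Cfsg.Agent.S5295

/-- Let F be a saturated fusion system over a finite p-group S with p odd. Then the centre Z(F) of F is a direct factor of Z(S): there is a subgroup K of Z(S) with Z(F) ∩ K = 1 and Z(F)K = Z(S). (At the prime 2 this can fail.) -/
theorem result {Ω : Type u} [Group Ω] {S : Subgroup Ω} [Finite S] (p : ℕ) [Fact p.Prime] (hp : p ≠ 2) (hS : IsPGroup p S)
    (F : Cfsg.FusionSystem S) (hF : F.IsSaturated p) :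
    ∃ K : Subgroup Ω, K ≤ (S ⊓ Subgroup.centralizer (S : Set Ω)) ∧ F.center ⊓ K = ⊥ ∧ F.center ⊔ K = (S ⊓ Subgroup.centralizer (S : Set Ω)) := by
  have hw := H94.isFun_J p
  have hn := hw.le_normalizerIn hS
  set E := H94.nSys F _ (hw.le Ω S) hn with hE
  have hEs : E.IsSaturated p := H94.isSaturated_nSys hS hF
  have h1 : E.center = F.center := by
    refine le_antisymm (fun z hz => ?_) (H94.center_le_center_of_sub hS H94.nSys_sub hEs le_rfl)
    have h2 := H94.mem_centralizerIn_of_central (H93.isCentral_center E) hz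
    exact H94.mem_center_of_sub_fixSys hS hF h2.1 (H94.center_ctrl_thompsonA hS hF (Or.inl hp) h2
      (H94.nsub_of_sub_nSys (H94.sub_fixSys_of_mem_center hz)))
  have h2 : E.IsConstrained p := ⟨hEs, _, H94.isNormal_nSys, H92.isCentric_of_fullyCentralized
    (H92.fc_of_fn hS hEs (H92.fn_of_normal H94.isNormal_nSys)) (H94.centralizerIn_thompsonA_le hS)⟩
  obtain ⟨G, _, _, T, a, b, h, hc⟩ := H94.exists_tr_model hS h2
  obtain ⟨K, k1, k2, k3⟩ := H94.exists_compl_center T hc
  have k4 : K ≤ T := k1.trans inf_le_left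
  have k5 : Subgroup.center G ≤ T := (le_sup_left.trans k3.le).trans inf_le_left
  have e1 : H92.img (Subgroup.center G) b = F.center := by
    rw [← H94.center_group_eq T hc, h.symm.img_center, h1]
  have e2 := (H94.isFun_Z p).iso T.isPGroup' h.iso.symm
  refine ⟨H92.img K b, (H92.img_mono b k1).trans e2.le, ?_, ?_⟩
  · rw [← e1, ← h.iso.symm.img_inf k5 k4, k2, h.iso.symm.img_bot]
  · rw [← e1, ← h.iso.symm.img_sup k5 k4, k3]; exact e2

end Cfsg.Agent.S5295
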