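import Cfsg.Statements.S5312
import Cfsg.Agent.H92.Layer

set_option autoImplicit false
open Cfsg

namespace Cfsg.Agent.S5312
open H92 H93 Cfsg.FusionSystem

/-- Let F be a saturated fusion system over a finite p-group S. Every component C of F is a normal subsystem of every generalized Fitting subsystem of F. -/
theorem result {Ω : Type*} [Group Ω] {S : Subgroup Ω} [Finite S] (p : ℕ) [Fact p.Prime] (hS : IsPGroup p S) (F : Cfsg.FusionSystem S) (hF : F.IsSaturated p)
    {T : Subgroup Ω} (C : Cfsg.FusionSystem T) (hC : C.IsComponentIn F p)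
    {U : Subgroup Ω} (D : Cfsg.FusionSystem U) (hD : D.IsGeneralizedFittingOf F p) : C.IsNormalIn D p := by
  obtain ⟨a, b, S', F', h, hA⟩ := exists_satA hS hF
  have hU : U ≤ S := by
    obtain ⟨T, E, hE, h1⟩ := hD
    have := finite_of_le (isNormal_core F).1
    have := finite_of_le (H94.le_of_isNormalIn hE.1)
    exact (cp_of h1).sup ▸ sup_le (isNormal_core F).1 (H94.le_of_isNormalIn hE.1)
  obtain ⟨D', k⟩ := exists_tr_sub h hU D
  obtain ⟨C', k'⟩ := exists_tr_sub h (comp_le hC) C
  exact k.symm.isNormalIn k'.symm (nrA_comp_fitting hA (h.isComponentIn k' hC)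
    (h.isGeneralizedFittingOf k hD)).isNormalIn

end Cfsg.Agent.S5312
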