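import Cfsg.Statements.S5343
import Cfsg.Agent.S5118
import Cfsg.Agent.S5135
import Cfsg.Agent.H94.Tr4

set_option autoImplicit false
universe u
open Cfsg

namespace Cfsg.Agent.S5343

/-- Let F be a simple saturated fusion system over a finite p-group S that is realized by some finite group on a Sylow p-subgroup. Then F is realized by a finite simple group on a Sylow p-subgroup. -/
theorem result {Ω : Type u} [Group Ω] {S : Subgroup Ω} [Finite S] (p : ℕ) [Fact p.Prime] (hS : IsPGroup p S) (F : Cfsg.FusionSystem S) (hsimple : F.IsSimple p) (hreal : F.IsRealizable p) : ∃ (G : Type u) (_ : Group G) (_ : Finite G) (_ : IsSimpleGroup G) (ι : ↥S →* G), F.IsRealizedBy ι ∧ ∃ T : Sylow p G, (T : Subgroup G) = ι.range := by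
  obtain ⟨G, _, _, ι, h, T, hT⟩ := hreal
  induction hn : Nat.card G using Nat.strong_induction_on generalizing G with
  | _ n ih =>
  by_cases hG : IsSimpleGroup G
  · exact ⟨G, inferInstance, inferInstance, hG, ι, h, T, hT⟩
  obtain ⟨b, hb⟩ := H94.exists_tr_of_realized h hT
  have hs := hb.isSimple hsimple
  obtain ⟨N, hN, h1, h2⟩ : ∃ N : Subgroup G, N.Normal ∧ N ≠ ⊥ ∧ N ≠ ⊤ := by
    by_contra h'
    push Not at h'
    obtain ⟨x, -, hx⟩ := (Subgroup.nontrivial_iff_exists_ne_one _).mp
      ((Subgroup.nontrivial_iff_ne_bot _).mpr hs.2.1)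
    have : Nontrivial G := ⟨x, 1, hx⟩
    exact hG ⟨fun N hN => or_iff_not_imp_left.mpr (h' N hN)⟩
  rcases hs.2.2 _ _ (Cfsg.Agent.S5118.result p T N) with e | ⟨e, e'⟩
  · obtain ⟨c, hc⟩ := H94.exists_tr_of_factor_bot (e ▸ Cfsg.Agent.S5135.result p T N)
    obtain ⟨ι', h3, T', h4⟩ := H94.Tr.isRealizable
      (T := T.mapSurjective (QuotientGroup.mk'_surjective N)) (hb.trans hc)
    refine ih _ ?_ _ inferInstance inferInstance ι' h3 T' h4 rfl
    rw [← hn, Subgroup.card_eq_card_quotient_mul_card_subgroup N]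
    exact lt_mul_of_one_lt_right Nat.card_pos ((Subgroup.one_lt_card_iff_ne_bot N).mpr h1)
  · have h3 := inf_eq_left.mp e
    rw [show groupFusionSystem (T : Subgroup G) = fusionSystemOfSubgroup N T h3 from
      H94.fs_ext fun P => (e' P).symm.trans (by simp only [fusionSystemOfSubgroup, e])] at hb
    obtain ⟨ι', h3, T', h4⟩ := H94.Tr.isRealizable (T := T.subtype h3)
      (hb.trans (H94.tr_subgroupOf h3).symm)
    exact ih _ (hn ▸ (Subgroup.card_le_card_group N).lt_of_ne
      (mt (Subgroup.card_eq_iff_eq_top N).mp h2)) _ inferInstance inferInstance ι' h3 T' h4 rfl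

end Cfsg.Agent.S5343
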