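import Cfsg.Agent.Base
import Cfsg.Agent.H89.Prim
import Cfsg.Agent.H89.MultiTrans
import Cfsg.Agent.H89.KBase
import Cfsg.Statements.S5713

set_option autoImplicit false
open Cfsg

namespace Cfsg.Agent.S5713

open MulAction

variable {G Ω : Type*} [Group G] [MulAction G Ω]

/-- the points whose stabiliser does not move `u` to `v` -/
def D (G : Type*) [Group G] [MulAction G Ω] (u v : Ω) : Set Ω :=
  {z | ¬ ∃ g : G, g • z = z ∧ g • u = v}

theorem D_comm (u v : Ω) : D G u v ⊆ D G v u := fun z hz ⟨g, h1, h2⟩ =>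
  hz ⟨g⁻¹, by rw [inv_smul_eq_iff, h1], by rw [inv_smul_eq_iff, h2]⟩

theorem D_tri (u v w : Ω) : D G u w ⊆ D G u v ∪ D G v w := fun z hz => by
  by_contra hc
  simp only [D, Set.mem_union, Set.mem_ofPred_eq, not_or, not_not] at hc
  obtain ⟨⟨g, h1, h2⟩, k, h3, h4⟩ := hc
  exact hz ⟨k * g, by rw [mul_smul, h1, h3], by rw [mul_smul, h2, h4]⟩

theorem D_self (u : Ω) : D G u u = ∅ :=
  Set.eq_empty_of_forall_notMem fun z hz => hz ⟨1, one_smul _ _, one_smul _ _⟩

theorem D_smul [Finite Ω] (g : G) (u v : Ω) : (D G (g • u) (g • v)).ncard ≤ (D G u v).ncard :=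
  Set.ncard_le_ncard_of_injOn (g⁻¹ • ·) (fun z hz ⟨k, h1, h2⟩ => hz ⟨g * k * g⁻¹, by
    rw [mul_smul, mul_smul, h1, smul_inv_smul], by rw [mul_smul, mul_smul, inv_smul_smul, h2]⟩)
    (MulAction.injective g⁻¹).injOn

theorem ncard_cover {α β : Type*} [Finite α] [Finite β] (A : Set α) (f : α → Set β) (c : ℕ)
    (h : ∀ a ∈ A, (f a).ncard ≤ c) {T : Set β} (hT : ∀ b ∈ T, ∃ a ∈ A, b ∈ f a) :
    T.ncard ≤ A.ncard * c := by
  classical
  have := Finset.card_biUnion_le_card_mul A.toFinite.toFinset (fun a => (f a).toFinite.toFinset) c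
    fun a ha => by rw [← Set.ncard_eq_toFinset_card]; exact h a (by simpa using ha)
  rw [← Set.ncard_eq_toFinset_card] at this
  refine le_trans ?_ this
  rw [← Set.ncard_coe_finset]
  exact Set.ncard_le_ncard fun b hb => by simpa using hT b hb

theorem closed [IsPreprimitive G Ω] (r : Ω → Ω → Prop) (hs : ∀ u v, r u v → r v u)
    (hi : ∀ (g : G) u v, r u v → r (g • u) (g • v)) {a b : Ω} (hab : r a b) (hne : a ≠ b)
    (O : Set Ω) (hO : ∀ u ∈ O, ∀ v, r u v → v ∈ O) {x : Ω} (hx : x ∈ O) (y : Ω) : y ∈ O := by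
  rcases H89.rel_trivial_of_primitive (G := G) (Relation.ReflTransGen r)
    ⟨fun _ => .refl, fun h => by
      induction h with
      | refl => exact .refl
      | tail _ k ih => exact .head (hs _ _ k) ih, .trans⟩
    (fun g u v h => by
      induction h with
      | refl => exact .refl
      | tail _ k ih => exact .tail ih (hi g _ _ k)) with h | h
  · exact absurd (h a b (.single hab)) hne
  · induction h x y with
    | refl => exact hx
    | tail _ k ih => exact hO _ ih _ k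

theorem exists_big [Finite G] [Finite Ω] [IsPreprimitive G Ω] [Nonempty Ω]
    (h2 : ¬ IsMultiplyPretransitive G Ω 2) :
    ∃ u v : Ω, Nat.card Ω ≤ ((D G u v).ncard + 1) ^ 2 := by
  classical
  have := Fintype.ofFinite Ω
  obtain ⟨⟨z, u⟩, -, hmax⟩ := Finset.exists_max_image (Finset.univ : Finset (Ω × Ω))
    (fun p => (orbit (stabilizer G p.1) p.2).ncard) Finset.univ_nonempty
  obtain ⟨s, hs⟩ : ∃ s, Nat.card Ω = (orbit (stabilizer G z) u).ncard + s :=
    Nat.exists_eq_add_of_le (Set.ncard_le_card _)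
  obtain ⟨v, hv⟩ : ∃ v, s ≤ (D G u v).ncard := by
    by_contra! hc
    have e1 : ∑ v, (D G u v).ncard = ∑ w : Ω, (orbit (stabilizer G w) u)ᶜ.ncard := by
      simp only [Set.ncard_eq_toFinset_card', Finset.card_eq_sum_ones]
      rw [Finset.sum_comm' (t' := Finset.univ) (s' := fun w => (orbit (stabilizer G w) u)ᶜ.toFinset)]
      intro v w
      rw [Set.mem_toFinset]
      simp [D, mem_orbit_iff, Subgroup.smul_def]
    have e2 := Finset.sum_lt_sum_of_nonempty Finset.univ_nonempty fun v _ => hc v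
    refine absurd (e1 ▸ e2) (not_lt.2 (Finset.sum_le_sum fun w _ => ?_))
    have := hmax (w, u) (Finset.mem_univ _)
    have := Set.ncard_add_ncard_compl (orbit (stabilizer G w) u)
    dsimp only at *
    omega
  refine ⟨u, v, le_trans ?_ (Nat.pow_le_pow_left (Nat.succ_le_succ hv) 2)⟩
  by_cases hzu : u = z
  · have : orbit (stabilizer G z) u = {z} := by
      rw [hzu]; exact Set.eq_singleton_iff_unique_mem.2 ⟨mem_orbit_self _, by rintro _ ⟨g, rfl⟩; exact g.2⟩
    rw [hs, this, Set.ncard_singleton]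
    nlinarith
  let Y : Ω → Ω → Prop := fun p q => ¬ ∃ g : G, g • z = p ∧ g • u = q
  have hY : ∀ (g : G) p q, Y p q → Y (g • p) (g • q) := fun g p q h ⟨k, h1, h2⟩ =>
    h ⟨g⁻¹ * k, by rw [mul_smul, h1, inv_smul_smul], by rw [mul_smul, h2, inv_smul_smul]⟩
  have cY : ∀ p, {q | Y p q}.ncard ≤ s := fun p => by
    obtain ⟨g, rfl⟩ := exists_smul_eq G z p
    have := Set.ncard_add_ncard_compl (orbit (stabilizer G z) u)
    refine (Set.ncard_le_ncard_of_injOn (g⁻¹ • ·) (t := (orbit (stabilizer G z) u)ᶜ)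
      (fun q hq ⟨k, hk⟩ => ?_) (MulAction.injective g⁻¹).injOn).trans (by omega)
    have := hY g⁻¹ _ _ hq
    rw [inv_smul_smul] at this
    exact this ⟨k, k.2, hk⟩
  by_cases hw : ∃ w, Y z w ∧ Y w u
  · obtain ⟨w, h1, h3⟩ := hw
    have := ncard_cover {q | Y z q} (fun q => {q' | Y q q'}) s (fun q _ => cY q)
      (T := orbit (stabilizer G z) u) (by
        rintro _ ⟨g, rfl⟩
        have := hY g _ _ h1
        rw [show (g : G) • z = z from g.2] at this
        exact ⟨(g : G) • w, this, hY g _ _ h3⟩)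
    have := Nat.mul_le_mul_right s (cY z)
    nlinarith
  have tr : ∀ {p q w}, Y p q → Y q w → Y p w := fun {p q w} h1 h3 ⟨g, e1, e2⟩ => hw ⟨g⁻¹ • q, by
    simpa [← e1] using hY g⁻¹ _ _ h1, by simpa [← e2] using hY g⁻¹ _ _ h3⟩
  have rf : ∀ p, Y p p := fun p ⟨g, e1, e2⟩ => hzu (smul_left_cancel g (e2.trans e1.symm))
  exfalso
  have sy : ∀ {p q}, Y p q → Y q p := fun {p q} h => by
    obtain ⟨g, rfl⟩ := exists_smul_eq G p q
    have key : ∀ k : ℕ, Y (g • p) (g ^ (k + 1) • p) := fun k => by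
      induction k with
      | zero => simpa using rf _
      | succ k ih => exact tr ih (by rw [pow_succ g (k + 1), mul_smul]; exact hY _ _ _ h)
    have := key (orderOf g - 1)
    rwa [Nat.sub_add_cancel (orderOf_pos g), pow_orderOf_eq_one, one_smul] at this
  rcases H89.rel_trivial_of_primitive (G := G) Y ⟨rf, sy, tr⟩ hY with h | h
  · refine h2 (is_two_pretransitive_iff.2 fun {p q p' q'} h1 h3 => ?_)
    obtain ⟨g, e1, e2⟩ := not_not.1 (mt (h p q) h1)
    obtain ⟨k, e3, e4⟩ := not_not.1 (mt (h p' q') h3)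
    exact ⟨k * g⁻¹, by rw [mul_smul, ← e1, inv_smul_smul, e3], by rw [mul_smul, ← e2, inv_smul_smul, e4]⟩
  · exact h z u ⟨1, one_smul _ _, one_smul _ _⟩

theorem uni [Finite G] [Finite Ω] [IsPreprimitive G Ω] (h2 : ¬ IsMultiplyPretransitive G Ω 2)
    {a b : Ω} (hab : a ≠ b) : Nat.card Ω ≤ (2 * (D G a b).ncard + 1) ^ 2 := by
  have : Nonempty Ω := ⟨a⟩
  let r : Ω → Ω → Prop := fun u v => ∃ g : G, g • a = u ∧ g • b = v ∨ g • a = v ∧ g • b = u
  have hs : ∀ u v, r u v → r v u := fun u v ⟨g, h⟩ => ⟨g, h.symm⟩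
  have hi : ∀ (g : G) u v, r u v → r (g • u) (g • v) := fun g u v ⟨k, h⟩ => ⟨g * k, by
    rw [mul_smul, mul_smul]
    exact h.imp (fun h => by rw [h.1, h.2]; exact ⟨rfl, rfl⟩) fun h => by rw [h.1, h.2]; exact ⟨rfl, rfl⟩⟩
  have r0 : r a b := ⟨1, Or.inl ⟨one_smul _ _, one_smul _ _⟩⟩
  have h1 : ∀ u v, r u v → (D G u v).ncard ≤ (D G a b).ncard := by
    rintro u v ⟨g, ⟨rfl, rfl⟩ | ⟨rfl, rfl⟩⟩
    · exact D_smul g a b
    · exact (Set.ncard_le_ncard (D_comm _ _)).trans (D_smul g a b)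
  have h3 : ∀ u v w : Ω, (D G u w).ncard ≤ (D G u v).ncard + (D G v w).ncard := fun u v w =>
    (Set.ncard_le_ncard (D_tri u v w)).trans (Set.ncard_union_le _ _)
  let T : Ω → Ω → Prop := fun u v => u = v ∨ r u v ∨ ∃ w, r u w ∧ r w v
  have hT : ∀ u v, T u v → (D G u v).ncard ≤ 2 * (D G a b).ncard := by
    rintro u v (rfl | h | ⟨w, h, h'⟩)
    · simp [D_self]
    · have := h1 _ _ h; omega
    · have := h1 _ _ h; have := h1 _ _ h'; have := h3 u w v; omega
  by_cases hd : ∀ x y w, T x y → r y w → T x w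
  · obtain ⟨u, v, h⟩ := exists_big h2
    have := hT u v (closed r hs hi r0 hab {v | T u v} (fun y hy w => hd u y w hy) (Or.inl rfl) v)
    exact h.trans (Nat.pow_le_pow_left (by omega) 2)
  push Not at hd
  obtain ⟨x, y, w, e1, e2, e3⟩ := hd
  have k1 : {z | r x z}.ncard ≤ 3 * (D G a b).ncard := by
    have := hT _ _ e1; have := h1 _ _ e2; have := h3 x y w
    refine (Set.ncard_le_ncard (t := D G x w) fun z hz ⟨g, f1, f2⟩ => e3 ?_).trans (by omega)
    exact Or.inr (Or.inr ⟨z, hz, hs _ _ (f1 ▸ f2 ▸ hi g _ _ hz)⟩)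
  have k2 := ncard_cover {z | r x z} (D G x) _ (h1 x) (T := {x}ᶜ) fun z hz => by
    by_contra! hc
    obtain ⟨g, hg⟩ := closed r hs hi r0 hab (orbit (stabilizer G z) x) (by
      rintro _ ⟨g, rfl⟩ v hv
      have := hi (g : G)⁻¹ _ _ hv
      rw [show (g : G)⁻¹ • g • x = x from inv_smul_smul (g : G) x] at this
      obtain ⟨k, f1, f2⟩ := not_not.1 (hc _ this)
      exact ⟨g * ⟨k, f1⟩, show ((g : G) * k) • x = v by rw [mul_smul, f2, smul_inv_smul]⟩)
      (mem_orbit_self x) z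
    exact hz (smul_left_cancel (g : G) (Eq.trans g.2 hg.symm))
  have := Set.ncard_add_ncard_compl ({x} : Set Ω)
  rw [Set.ncard_singleton] at this
  have := Nat.mul_le_mul_right (D G a b).ncard k1
  nlinarith

theorem two [Finite G] [Fintype Ω] [DecidableEq Ω] [IsPreprimitive G Ω] (h : H89.K.T2 G Ω)
    (hA : ¬ alternatingGroup Ω ≤ (toPermHom G Ω).range) {x : G} {a : Ω} (ha : x • a ≠ a) :
    Nat.card Ω ≤ (2 * {z : Ω | x • z ≠ z}.ncard + 1) ^ 2 := by
  have k := ncard_cover (({z : Ω | x • z ≠ z} \ {a}) ×ˢ ({z : Ω | x • z ≠ z} \ {a}))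
    (fun p => {g : G | g • a = a ∧ g • p.1 = p.2}) (Nat.card (H89.K.St G a (x • a)))
    (fun p hp => by
      obtain ⟨k, e1, e2⟩ := h.two (Ne.symm hp.1.2) (Ne.symm hp.2.2)
      rw [h.card_St_eq ha.symm (Ne.symm hp.1.2), ← SetLike.coe_sort_coe, Nat.card_coe_set_eq]
      exact Set.ncard_le_ncard_of_injOn (k⁻¹ * ·) (fun g hg => H89.K.mem_St.2
        ⟨by rw [mul_smul, hg.1, inv_smul_eq_iff, e1], by rw [mul_smul, hg.2, inv_smul_eq_iff, e2]⟩)
        (mul_right_injective _).injOn) (T := stabilizer G a) fun g hg => by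
      by_contra! hc
      refine hA (H89.alternatingGroup_le_range_of_one_overlap (y := g * x * g⁻¹) ha
        (fun e => ha (H89.K.conj_smul_eq.1 (show _ = g • a by rwa [show g • a = a from hg])))
        fun b hb => by_contra fun e => ?_)
      rw [not_or] at e
      refine hc (g⁻¹ • b, b) ⟨⟨fun e' => e.2 ?_, fun e' => hb ?_⟩, e.1, hb⟩ ⟨hg, smul_inv_smul _ _⟩
      · rw [mul_smul, mul_smul, e', smul_inv_smul]
      · exact (inv_smul_eq_iff.1 e').trans hg
  rw [← Nat.card_coe_set_eq, SetLike.coe_sort_coe, h.card_stab ha.symm, Set.ncard_prod] at k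
  have k1 := Nat.le_of_mul_le_mul_right k Nat.card_pos
  have k2 := Set.ncard_le_ncard (Set.sdiff_subset (s := {z : Ω | x • z ≠ z}) (t := {a}))
  have := Nat.mul_le_mul k2 k2
  have := h.two_lt
  have : Nat.card Ω = Nat.card Ω - 1 + 1 := by omega
  nlinarith

/-- A classification-free minimal-degree bound. Let G be a finite group acting faithfully and primitively on a finite set Ω with n elements, and suppose that the image of G in the symmetric group on Ω does not contain the alternating group on Ω. Then every non-identity element of G moves at least (√n − 1)/2 points of Ω, that is, it fixes at most n − (√n − 1)/2 points. -/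
theorem result {G Ω : Type*} [Group G] [Finite G] [MulAction G Ω] [FaithfulSMul G Ω] [Fintype Ω] [DecidableEq Ω]
    (hprim : MulAction.IsPreprimitive G Ω)
    (hA : ¬ alternatingGroup Ω ≤ (MulAction.toPermHom G Ω).range)
    (g : G) (hg : g ≠ 1) :
    (Real.sqrt (Fintype.card Ω) - 1) / 2 ≤ (Fintype.card Ω : ℝ) - Nat.card (MulAction.fixedBy Ω g) := by
  obtain ⟨a, ha⟩ : ∃ a : Ω, g • a ≠ a := by
    by_contra! hc
    exact hg (eq_of_smul_eq_smul (α := Ω) fun x => by rw [hc, one_smul])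
  have key : Nat.card Ω ≤ (2 * {z : Ω | g • z ≠ z}.ncard + 1) ^ 2 := by
    by_cases h2 : IsMultiplyPretransitive G Ω 2
    · by_cases h3 : 2 < Nat.card Ω
      · exact two (H89.K.T2.of_mult h2 h3) hA ha
      · have := (Set.ncard_pos (s := {z : Ω | g • z ≠ z})).2 ⟨a, ha⟩
        nlinarith
    · exact (uni h2 ha.symm).trans (Nat.pow_le_pow_left (by
        have := Set.ncard_le_ncard (s := D G a (g • a)) (t := {z : Ω | g • z ≠ z})
          fun z hz e => hz ⟨g, e, rfl⟩
        omega) 2)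
  have e : {z : Ω | g • z ≠ z}.ncard + Nat.card (fixedBy Ω g) = Fintype.card Ω := by
    rw [← Nat.card_eq_fintype_card, ← Set.ncard_add_ncard_compl (fixedBy Ω g), add_comm]
    rfl
  rw [Nat.card_eq_fintype_card] at key
  have k : Real.sqrt (Fintype.card Ω) ≤ 2 * ({z : Ω | g • z ≠ z}.ncard : ℝ) + 1 :=
    Real.sqrt_le_iff.2 ⟨by positivity, by exact_mod_cast key⟩
  rw [← e] at k ⊢
  push_cast at k ⊢
  linarith

end Cfsg.Agent.S5713
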