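import Cfsg.Agent.Base
import Cfsg.Agent.S5726
import Cfsg.Statements.S5727

set_option autoImplicit false
open Cfsg

namespace Cfsg.Agent.S5727

open MulAction in

/-- If a finite group acts faithfully and transitively on a set with m·p elements, where p is a prime and 1 ≤ m ≤ p, then some element of order p fixes no point. -/
theorem result {G Ω : Type*} [Group G] [Finite G] [MulAction G Ω] [FaithfulSMul G Ω] [Fintype Ω] (htr : MulAction.IsPretransitive G Ω)
    (p m : ℕ) (hp : p.Prime) (hm : 1 ≤ m) (hmp : m ≤ p) (hΩ : Fintype.card Ω = m * p) :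
    ∃ g : G, orderOf g = p ∧ ∀ ω : Ω, g • ω ≠ ω := by
  classical
  rcases hmp.eq_or_lt with rfl | hlt
  · exact Cfsg.Agent.S5726.result htr m 2 hp (by omega) (by rw [hΩ, pow_two])
  haveI : Fact p.Prime := ⟨hp⟩
  obtain ⟨Q⟩ : Nonempty (Sylow p G) := inferInstance
  have hQ := fun ω : Ω => Cfsg.Agent.S5726.dvd_index_sylow (k := 1)
    (by rw [Nat.card_eq_fintype_card, hΩ, pow_one]; exact dvd_mul_left p m) Q ω
  have hP := Q.isPGroup'
  change ∀ ω : Ω, _ ∣ (stabilizer (Q : Subgroup G) ω).index at hQ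
  generalize (Q : Subgroup G) = P at hQ hP
  haveI := Fintype.ofFinite P
  have h2 : ∀ ω : Ω, (stabilizer P ω).index = p := fun ω => by
    have h := hQ ω
    obtain ⟨n, hn⟩ := hP.index (stabilizer P ω)
    have h3 : (stabilizer P ω).index < p ^ 2 := by
      rw [index_stabilizer]
      refine (Set.ncard_le_card _).trans_lt ?_
      rw [Nat.card_eq_fintype_card, hΩ, pow_two]
      exact Nat.mul_lt_mul_of_pos_right hlt hp.pos
    rw [hn] at h h3 ⊢
    have := (Nat.pow_dvd_pow_iff_le_right hp.one_lt).1 h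
    have := (Nat.pow_lt_pow_iff_right hp.one_lt).1 h3
    rw [show n = 1 by omega, pow_one]
  have h3 : ∀ ω : Ω, (stabilizer P ω).Normal := fun ω => by
    obtain ⟨n, hn⟩ := hP.exists_card_eq
    have := h2 ω ▸ hn ▸ Subgroup.index_dvd_card (stabilizer P ω)
    refine Subgroup.normal_of_index_eq_minFac_card ?_
    rw [h2, hn, hp.pow_minFac fun e => hp.one_lt.ne' (by simpa [e] using this)]
  obtain ⟨g, hg⟩ : ∃ g : P, ∀ ω : Ω, g • ω ≠ ω := by
    by_contra hc
    push Not at hc
    obtain ⟨α⟩ : Nonempty Ω := Fintype.card_pos_iff.1 (hΩ ▸ Nat.mul_pos hm hp.pos)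
    have h4 := fun ω : Ω => h2 ω ▸ (stabilizer P ω).index_mul_card
    have := Finset.card_mul_le_card_mul (s := Finset.univ) (t := Finset.univ)
      (fun (g : P) (ω : Ω) => g • ω = ω) (m := p) (n := Nat.card (stabilizer P α)) (fun g _ => by
        obtain ⟨ω, e⟩ := hc g
        rw [← h2 ω, index_stabilizer, ← Set.ncard_coe_finset]
        refine Set.ncard_le_ncard ?_
        rintro _ ⟨h, rfl⟩
        have := (h3 ω).conj_mem' g e h
        rw [mem_stabilizer_iff, mul_smul, mul_smul, inv_smul_eq_iff] at this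
        simpa [Finset.bipartiteAbove] using this)
      fun ω _ => by
        rw [← Nat.eq_of_mul_eq_mul_left hp.pos ((h4 ω).trans (h4 α).symm), ← Set.ncard_coe_finset]
        refine Set.ncard_le_ncard (t := (stabilizer P ω : Set P)) fun g hg => ?_
        exact (Finset.mem_filter.1 hg).2
    rw [Finset.card_univ, Finset.card_univ, ← Nat.card_eq_fintype_card, ← h4 α, hΩ] at this
    have h5 : 0 < p * Nat.card (stabilizer P α) := Nat.mul_pos hp.pos Nat.card_pos
    nlinarith
  obtain ⟨α⟩ : Nonempty Ω := Fintype.card_pos_iff.1 (hΩ ▸ Nat.mul_pos hm hp.pos)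
  refine ⟨g, orderOf_eq_prime (eq_of_smul_eq_smul (α := Ω) fun ω => ?_)
    fun e => hg α (by rw [Subgroup.smul_def, e, one_smul]), hg⟩
  haveI := h3 ω
  have := Subgroup.pow_index_mem (stabilizer P ω) g
  rw [h2] at this
  rw [one_smul]
  exact this

end Cfsg.Agent.S5727
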