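import Cfsg.Statements.S5728
import Cfsg.Agent.Base

set_option autoImplicit false
open Cfsg

namespace Cfsg.Agent.S5728

/-- An elusive transitive action. Let p = 2^s − 1 be a prime and let F be the field with p² elements. Inside the group of affine maps x ↦ a·x + b of F (a ≠ 0), consider the subgroup of maps with both coefficients in the prime field. Then every element of prime order of the affine group is conjugate, within the affine group, to an element of that subgroup; equivalently, in the transitive action of the affine group on the cosets of that subgroup (of degree p(p + 1)) every element of prime order fixes a point. -/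
theorem result (p s : ℕ) [Fact p.Prime] (hs : p = 2 ^ s - 1)
    (g : Equiv.Perm (GaloisField p 2)) (hg : g ∈ Cfsg.affineGroup (GaloisField p 2)) (hord : (orderOf g).Prime) :
    ∃ x ∈ Cfsg.affineGroup (GaloisField p 2), ∃ a b : ZMod p, a ≠ 0 ∧
      ∀ y : GaloisField p 2, (x * g * x⁻¹) y = algebraMap (ZMod p) (GaloisField p 2) a * y + algebraMap (ZMod p) (GaloisField p 2) b := by
  obtain ⟨a, b, hab⟩ := hg
  have hp := (Fact.out : p.Prime)
  by_cases ha : (a : GaloisField p 2) = 1
  · have hb : b ≠ 0 := by
      rintro rfl
      have : g = 1 := by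
        ext x; rw [hab, ha]; simp
      rw [this, orderOf_one] at hord
      exact Nat.not_prime_one hord
    refine ⟨Equiv.mulLeft₀ b⁻¹ (inv_ne_zero hb), ⟨Units.mk0 b⁻¹ (inv_ne_zero hb), 0, fun x => by simp⟩,
      1, 1, one_ne_zero, fun y => ?_⟩
    simp only [Equiv.Perm.coe_mul, Function.comp_apply, hab, ha, Equiv.Perm.inv_def,
      Equiv.mulLeft₀_apply, Equiv.mulLeft₀_symm_apply, map_one]
    field_simp
  · have ha' : (a : GaloisField p 2) - 1 ≠ 0 := sub_ne_zero.2 ha
    set c := b / ((a : GaloisField p 2) - 1) with hc
    have hx : ∀ y, (Equiv.addRight c * g * (Equiv.addRight c)⁻¹) y = a * y := by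
      intro y
      simp only [Equiv.Perm.coe_mul, Function.comp_apply, hab, Equiv.Perm.inv_def,
        Equiv.addRight_symm, Equiv.coe_addRight, hc]
      field_simp
      ring
    have hpow : ∀ k : ℕ, ∀ y, ((Equiv.addRight c * g * (Equiv.addRight c)⁻¹) ^ k) y = a ^ k * y := by
      intro k
      induction k with
      | zero => simp
      | succ k ih => intro y; rw [pow_succ', Equiv.Perm.mul_apply, ih, hx]; ring
    have hr : (a : GaloisField p 2) ^ orderOf g = 1 := by
      have := hpow (orderOf g) 1
      rw [conj_pow, pow_orderOf_eq_one] at this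
      simpa using this.symm
    have hord' : orderOf a = orderOf g := by
      haveI := Fact.mk hord
      apply orderOf_eq_prime
      · ext; simpa using hr
      · intro h; apply ha; rw [h]; rfl
    have hdvd : orderOf g ∣ p ^ 2 - 1 := by
      rw [← hord', ← GaloisField.card p 2 (by norm_num), ← Nat.card_units]
      exact orderOf_dvd_natCard a
    have hs1 : p + 1 = 2 ^ s := by
      have := Nat.one_le_two_pow (n := s)
      omega
    have hfac : p ^ 2 - 1 = (p + 1) * (p - 1) := by
      have := Nat.sq_sub_sq p 1
      simpa using this
    have hd2 : orderOf g ∣ p - 1 := by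
      rw [hfac] at hdvd
      rcases (Nat.Prime.dvd_mul hord).1 hdvd with h | h
      · rw [hs1] at h
        have h2 := (Nat.prime_dvd_prime_iff_eq hord Nat.prime_two).1 (hord.dvd_of_dvd_pow h)
        rw [h2]
        rcases hp.eq_two_or_odd' with h3 | h3
        · exfalso
          subst h3
          rcases s with _ | _ | s
          · omega
          · omega
          · rw [pow_succ, pow_succ] at hs1; omega
        · obtain ⟨k, hk⟩ := h3
          exact ⟨k, by omega⟩
      · exact h
    have hap : (a : GaloisField p 2) ^ p = a := by
      obtain ⟨k, hk⟩ := hd2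
      have : p = orderOf g * k + 1 := by have := hp.one_le; omega
      calc (a : GaloisField p 2) ^ p = (a : GaloisField p 2) ^ (orderOf g * k + 1) := congrArg _ this
        _ = a := by rw [pow_succ, pow_mul, hr, one_pow, one_mul]
    have hmem : ∃ a0 : ZMod p, algebraMap (ZMod p) (GaloisField p 2) a0 = a := by
      have := (Subfield.mem_bot_iff_pow_eq_self (F := GaloisField p 2) (p := p)).2 hap
      rw [← ZMod.fieldRange_castHom_eq_bot p] at this
      obtain ⟨y, hy⟩ := this
      exact ⟨y, by rw [← hy]; exact RingHom.congr_fun (Subsingleton.elim _ _) y⟩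
    obtain ⟨a0, ha0⟩ := hmem
    refine ⟨Equiv.addRight c, ⟨1, c, fun x => by simp⟩, a0, 0, ?_, fun y => ?_⟩
    · rintro rfl
      exact a.ne_zero (by rw [← ha0, map_zero])
    · rw [hx, ha0, map_zero, add_zero]

end Cfsg.Agent.S5728
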