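import Cfsg.Statements.S5740
import Cfsg.Agent.H40.T6Main
import Cfsg.Agent.H92.T6Rep
import Cfsg.Agent.S1066

set_option autoImplicit false
open Cfsg

namespace Cfsg.Agent.S5740

/-- In the simple group ²E₆(2) (the twisted group of type E₆ over the field with 4 elements), for every prime p > 5 no p-local subgroup is maximal: the normaliser of a non-trivial p-subgroup is never a maximal subgroup. -/
theorem result {K : Type*} [Field K] [Fintype K] (hK : Fintype.card K = 4) (p : ℕ) (hp : p.Prime) (h5 : 5 < p)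
    (P : Subgroup (Cfsg.Lie.twistedE6 K 2)) (hP : IsPGroup p P) (hP1 : P ≠ ⊥) :
    ¬ IsCoatom (Subgroup.normalizer (P : Set (Cfsg.Lie.twistedE6 K 2))) := by
  intro hc
  obtain ⟨_, ω, hω, h⟩ := H40.T6.exists_om hK
  obtain ⟨π, h1, h2⟩ := H92.T6Rep.jobRep K hK
  have := Fact.mk hp
  have h3 : Nat.card (Cfsg.Lie.twistedE6 K 2) = 76532479683774853939200 := by
    have := Cfsg.Agent.S1066.result Nat.prime_two.isPrimePow hK
    norm_num at this; omega
  have h4 : ∀ g, π g = 1 → g ∈ Subgroup.center _ ∧ g ^ 3 = 1 := fun g hg => by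
    obtain ⟨c, hc⟩ := h2 g hg
    refine ⟨Subgroup.mem_center_iff.2 fun y => Subtype.ext (Units.ext (by simp [hc])),
      Subtype.ext (Units.ext ?_)⟩
    have h5 : c ≠ 0 := by rintro rfl; exact g.1.ne_zero (hc.trans (zero_smul _ _))
    have h6 := FiniteField.pow_card_sub_one_eq_one c h5
    rw [hK] at h6
    simp [hc, smul_pow, h6]
  have h6 : π.ker.index = 76532479683774853939200 := by
    rw [Subgroup.index_ker, MonoidHom.range_eq_top.2 h1, Subgroup.card_top, h3]
  obtain ⟨m, hm⟩ := (IsPGroup.iff_card (p := 3) (G := π.ker)).1 fun g =>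
    ⟨1, Subtype.ext (by simpa using (h4 g g.2).2)⟩
  have h7 : ∀ k, ¬ p ^ k ∣ 76532479683774853939200 → ¬ p ^ k ∣ Nat.card (H40.T6.Gam K) :=
    fun k a b => a (by
      rw [← π.ker.index_mul_card, h6, hm] at b
      exact Nat.Coprime.dvd_of_dvd_mul_right (Nat.Coprime.pow _ _
        ((Nat.coprime_primes hp Nat.prime_three).2 (by omega))) b)
  obtain ⟨Q, a1, a2, a3⟩ := H30.T6Red.jobRed _ _ π h1 h4 p hp (by omega) P hP hP1 hc
  have : Finite (Cfsg.Lie.twistedE6 K 2) := Nat.finite_of_card_ne_zero (by omega)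
  have h8 : p ∣ 76532479683774853939200 := h3 ▸ ((hP.card_eq_or_dvd.resolve_left
    fun e => hP1 (Subgroup.card_eq_one.1 e)).trans P.card_subgroup_dvd_card)
  rw [show 76532479683774853939200 = 2 ^ 36 * 3 ^ 9 * 5 ^ 2 * 7 ^ 2 * 11 * 13 * 17 * 19 by norm_num] at h8
  simp only [hp.dvd_mul, hp.prime.dvd_pow_iff_dvd (by decide : 36 ≠ 0),
    hp.prime.dvd_pow_iff_dvd (by decide : 9 ≠ 0), hp.prime.dvd_pow_iff_dvd (by decide : 2 ≠ 0)] at h8
  have h9 : ∀ {q : ℕ}, q.Prime → p ∣ q → p = q := fun hq => (Nat.prime_dvd_prime_iff_eq hp hq).1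
  rcases h8 with ((((((e | e) | e) | e) | e) | e) | e) | e <;> obtain rfl := h9 (by norm_num) e
  any_goals omega
  · exact H40.T6.seven hω (h7 3 (by norm_num)) a1 a2 a3
  · exact H40.T6.cyc hω hp H40.T6.fix11 (by decide +kernel) (h7 2 (by norm_num)) a1 a2 a3
  · exact H40.T6.cyc hω hp H40.T6.fix13 (by decide +kernel) (h7 2 (by norm_num)) a1 a2 a3
  · exact H40.T6.cyc hω hp H40.T6.fix17 (by decide +kernel) (h7 2 (by norm_num)) a1 a2 a3
  · exact H40.T6.nineteen hω hK h π.ker h2 h6 (h7 2 (by norm_num)) a1 a2 a3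

end Cfsg.Agent.S5740
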