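import Cfsg.Agent.Base
import Cfsg.Statements.S5791
import Cfsg.Agent.H61.Sp4Main
import Cfsg.Agent.H19.L3Tr
import Cfsg.Agent.H19.AschAsm

set_option autoImplicit false
open Cfsg

namespace Cfsg.Agent.S5791

open H61.S4 H54 Matrix Cfsg.Geo


/-- The maximal subgroups of Sp_4(q), q ≥ 4 even, in the residual class. Let F be a finite field of even order q ≥ 4 and H a maximal subgroup of Sp_4(F) (isometries of the standard alternating form on F^4) lying in the residual class of the symplectic case. Then q = 2^(2m+1) with m ≥ 1 and the perfect socle preimage P of H is, modulo scalars, isomorphic to the Suzuki group over F (the subgroup Sz(F, θ) of the four-dimensional symplectic group with θ(x) = x^(2^(m+1))). -/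
theorem result {F : Type*} [Field F] [Fintype F] (heven : ¬ Odd (Fintype.card F)) (h4 : 4 ≤ Fintype.card F) (H : Subgroup (Matrix.GeneralLinearGroup (Fin 2 ⊕ Fin 2) F)) (hH : Cfsg.Geo.IsMaximalIn (Cfsg.spGL 2 F) H) (hS : Cfsg.Geo.InSymplecticResidualClass H) :
    ∃ (P : Subgroup (Matrix.GeneralLinearGroup (Fin 2 ⊕ Fin 2) F)) (m : ℕ), Cfsg.Geo.IsResidualCore H P ∧ 1 ≤ m ∧ Fintype.card F = 2 ^ (2 * m + 1) ∧
    Nonempty ((P ⧸ (Cfsg.Geo.scalars (Fin 2 ⊕ Fin 2) F).subgroupOf P) ≃* Cfsg.Lie.Sz F (2 ^ (m + 1))) := by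
  obtain ⟨P, hP, hQ, -⟩ := hS
  have : CharP F 2 := ringChar.of_eq (FiniteField.even_card_iff_char_two.2
    (Nat.even_iff.1 (Nat.not_odd_iff_even.1 heven)))
  let ι : Sp F →* GL (Fin 2 ⊕ Fin 2) F := (spGL 2 F).subtype.comp (spEquivSpGL 2 F).toMonoidHom
  have i1 : Function.Injective ι := (spGL 2 F).subtype_injective.comp (spEquivSpGL 2 F).injective
  have i2 : ∀ g ∈ P, ∃ x, ι x = g := fun g hg => ⟨⟨g, mem_spGL_iff.1 (hH.1.le (hP.le hg))⟩, Units.ext rfl⟩
  have i3 : ∀ s ∈ matrixSet P, ∃ x ∈ P.comap ι, x.1 = s := by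
    rintro _ ⟨g, hg, rfl⟩
    obtain ⟨x, rfl⟩ := i2 g hg
    exact ⟨x, hg, rfl⟩
  have e1 : P.comap ι ≃* P := MulEquiv.ofBijective (ι.subgroupComap P)
    ⟨fun a b e => Subtype.ext (i1 (congrArg (Subtype.val (p := (· ∈ P))) e)), fun g => by
      obtain ⟨x, hx⟩ := i2 g g.2
      exact ⟨⟨x, by simp [hx]⟩, Subtype.ext hx⟩⟩
  have e2 : (scalars (Fin 2 ⊕ Fin 2) F).subgroupOf P = ⊥ := eq_bot_iff.2 fun g hg => by
    obtain ⟨c, hc⟩ := (mem_scalars_iff g.1).1 hg
    have h := mem_sp_iff.1 (mem_spGL_iff.1 (hH.1.le (hP.le g.2))) (Pi.single (.inr 0) 1)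
      (Pi.single (.inl 0) 1)
    simp only [hc, smul_mulVec, one_mulVec, map_smul, LinearMap.smul_apply, spB_single_inr_left,
      Pi.single_eq_same, smul_eq_mul, mul_one] at h
    have : (c : F) = 1 := sq_inj (by rw [sq, h, one_pow])
    exact Subtype.ext (Units.ext (by simp [hc, this]))
  have e3 : (P ⧸ (scalars (Fin 2 ⊕ Fin 2) F).subgroupOf P) ≃* P.comap ι :=
    ((QuotientGroup.quotientMulEquivOfEq e2).trans QuotientGroup.quotientBot).trans e1.symm
  obtain ⟨d, d0, d1⟩ : ∃ d : F, d ≠ 0 ∧ d ≠ 1 := by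
    classical
    obtain ⟨d, -, hd⟩ := Finset.exists_mem_notMem_of_card_lt_card (s := ({0, 1} : Finset F))
      (t := Finset.univ) (Finset.card_le_two.trans_lt (by rw [Finset.card_univ]; omega))
    exact ⟨d, by simpa using hd⟩
  have := hP.simple
  obtain ⟨m, hm, hF, ⟨e⟩⟩ := suzuki (P := P.comap ι) e3.symm.isSimpleGroup
    (fun h => hP.nonabelian ⟨⟨fun a b => e3.injective (by rw [map_mul, map_mul]; exact h.1.1 _ _)⟩⟩)
    (fun W hW => hP.absIrred.1 W fun s hs => by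
      obtain ⟨x, hx, rfl⟩ := i3 s hs
      rintro _ ⟨v, hv, rfl⟩
      exact hW x hx v hv)
    (fun M hM => hP.absIrred.2 M fun s hs => by
      obtain ⟨x, hx, rfl⟩ := i3 s hs
      exact hM x hx)
    (fun K hK ⟨B, hB⟩ => hP.no_subfield K hK ⟨ι B⁻¹, fun s hs => by
      obtain ⟨x, hx, rfl⟩ := i3 s hs
      rw [← map_inv, inv_inv]
      exact hB x hx⟩)
    (fun σ hσ x => by
      by_contra hx
      refine hP.no_subfield (H19.fixField σ) (fun h => hx (H19.mem_fixField.1 (h ▸ Subfield.mem_top x)))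
        (H19.realisable_of_trace_fixed σ (H19.gspan_eq_top_of_absIrr hP.absIrred) fun g hg => ?_)
      obtain ⟨x, rfl⟩ := i2 g hg
      exact hσ x hg)
    (fun Q q1 q2 => by
      have h : QuadraticMap.polar Q = fun x y => spB (Fin 2) F x y := by
        ext x y
        rw [QuadraticMap.polar, q1.add]
        ring
      refine hQ ⟨Q, ⟨q1.smul, h ▸ ⟨by simp, by simp, by simp, by simp⟩, h ▸ fun v hv => ?_⟩,
        fun s hs => ?_⟩
      · obtain ⟨x, hx⟩ := exists_spB_eq hv 1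
        exact ⟨⟨x, by simp [f_comm x, hx]⟩, x, by simp [hx]⟩
      · obtain ⟨x, hx, rfl⟩ := i3 s hs
        exact q2 x hx)
    (fun h => hH.1.not_ge fun g hg => hP.le (by
      have : (⟨g, mem_spGL_iff.1 hg⟩ : Sp F) ∈ P.comap ι := h ▸ Subgroup.mem_top _
      exact (Units.ext rfl : ι ⟨g, mem_spGL_iff.1 hg⟩ = g) ▸ this)) d0 d1
  exact ⟨P, m, hP, hm, hF, ⟨e3.trans e⟩⟩

end Cfsg.Agent.S5791
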