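import Cfsg.Statements.S5815
import Cfsg.Agent.H31.O7M
import Cfsg.Agent.H96.O7MU
import Cfsg.Agent.H96.O7SP
import Cfsg.Agent.H72.O7L28
import Cfsg.Agent.H72.O7MPm
import Cfsg.Agent.H72.O7W4
import Cfsg.Agent.H58.O7L2
import Cfsg.Agent.H58.O7WT
import Cfsg.Agent.H19.O7O4s
import Cfsg.Agent.H20.O7JR
import Cfsg.Agent.H13.O7SR4
import Cfsg.Agent.H29.O7TL0
import Cfsg.Agent.H29.O7MU4
import Cfsg.Agent.H61.O7Mac
import Cfsg.Agent.H61.O7KC
import Cfsg.Agent.H10.O7H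
import Cfsg.Agent.H10.O7TL
import Cfsg.Agent.H17.O7MEv
import Cfsg.Agent.H17.O7LF
import Cfsg.Agent.H17.O7SC
import Cfsg.Agent.H4.O7MG2
import Cfsg.Agent.H4.O7MD4
import Cfsg.Agent.H1.O7AN
import Cfsg.Agent.H1.O7MU3
import Cfsg.Agent.H54.O7MS4
import Cfsg.Agent.H56.O7L2D
import Cfsg.Agent.H56.O4n
import Cfsg.Agent.H57.O7L3
import Cfsg.Agent.H57.O7L4
import Cfsg.Agent.H46.O7SK
import Cfsg.Agent.H44.O7CL
import Cfsg.Agent.H73.O7G23

set_option autoImplicit false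
open Cfsg

namespace Cfsg.Agent.S5815

/-- The maximal subgroups of Ω_7(q), q odd, in the residual class. Let F be a finite field of odd order q, Q the standard quadratic form x₀² + Σ x_i y_i on F^7, Ω the commutator subgroup of its isometry group, and H a maximal subgroup of Ω lying in the residual class of the orthogonal case. Then the perfect socle preimage P of H satisfies one of: P modulo scalars is isomorphic to A_9 and q = 3; or to the symplectic group Sp_6(2) and q is prime; or to the group G_2(F) of automorphisms of the split octonion algebra over F (no condition on q). -/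
theorem result {F : Type*} [Field F] [Fintype F] (hodd : Odd (Fintype.card F)) (H : Subgroup (Matrix.GeneralLinearGroup (Unit ⊕ (Fin 3 ⊕ Fin 3)) F)) (hH : Cfsg.Geo.IsMaximalIn (Cfsg.Geo.omegaGL (Cfsg.quadFormOdd 3 F)) H) (hS : Cfsg.Geo.InOrthogonalResidualClass H) :
    ∃ P : Subgroup (Matrix.GeneralLinearGroup (Unit ⊕ (Fin 3 ⊕ Fin 3)) F), Cfsg.Geo.IsResidualCore H P ∧
    ((Nonempty ((P ⧸ (Cfsg.Geo.scalars (Unit ⊕ (Fin 3 ⊕ Fin 3)) F).subgroupOf P) ≃* alternatingGroup (Fin 9)) ∧ Fintype.card F = 3) ∨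
     (Nonempty ((P ⧸ (Cfsg.Geo.scalars (Unit ⊕ (Fin 3 ⊕ Fin 3)) F).subgroupOf P) ≃* Cfsg.PSp 3 (ZMod 2)) ∧ (Fintype.card F).Prime) ∨
     Nonempty ((P ⧸ (Cfsg.Geo.scalars (Unit ⊕ (Fin 3 ⊕ Fin 3)) F).subgroupOf P) ≃* Cfsg.Lie.G2 F)) := by
  obtain ⟨P, hP, -⟩ := hS
  exact ⟨P, hP, H31.O7.main
    ⟨H46.O7.jobSK, H17.O7.jobLF, H96.O7SP.jobDG, H96.O7SP.jobSP, H17.O7.jobSct, H17.O7.jobSC,
      H72.W4.jobW4, H44.O7CL.jobCL, H58.O7W.jobWT, H29.O7.jobC7, H29.O7.jobTL0, H13.O7S.jobSR4,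
      H1.O7N.jobAN, H72.L28.jobL28, H10.O7H.jobH28, H10.O7H.jobH, H61.O7.jobMac,
      H56.O7L2D.jobL2D, H19.O7.jobO4s, H56.O4n.jobO4n, H10.O7TL.jobTL, H61.O7KC.jobKC,
      H17.O7.jobMSyl, H17.O7.jobMW, H58.O7L.jobML2, H58.O7L.jobML28, H17.O7.jobMEv,
      H72.MPm.jobMPm, H72.MPm.jobMJ1, H57.O7L.jobML3, H1.O7U.jobMU3, H96.O7MU.jobMU33,
      H4.O7MG2.jobMG2, H73.O7G.jobMG23, H4.O7MD4.jobMD4, H20.O7.jobMJR, H54.O7MS4.jobMS4,
      H96.O7MU.jobMS43, H57.O7L.jobML4, H29.O7U.jobMU4⟩ hodd hH hP⟩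

end Cfsg.Agent.S5815
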