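import Cfsg.Statements.S5825
import Cfsg.Agent.H91.OFMat
import Cfsg.Agent.H91.ND4
import Cfsg.Agent.H60.SubfMat

set_option autoImplicit false
open Cfsg

namespace Cfsg.Agent.S5825

/-- Maximal subgroups of Ω_8^-(q) of geometric type (any q). Let F be a finite field with q elements, Q a non-degenerate quadratic form on F^8 (non-degenerate polar form) of minus type (Witt index 3: no totally singular 4-space), and Ω = Ω_8^-(q) the commutator subgroup of the isometry group of Q, inside GL_8(F). Each of the following, intersected with Ω, is a maximal subgroup of Ω: (1) the stabiliser of any non-zero subspace on which Q vanishes identically (totally singular 1-, 2- and 3-spaces); (2) for q odd, the stabiliser of any proper subspace of odd dimension (1, 3, 5 or 7) on which the polar form of Q is non-degenerate; (3) the stabiliser of any non-degenerate 2-space of minus type (containing no non-zero singular vector); (4) for q ≥ 4, the stabiliser of any non-degenerate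 2-space of plus type (containing a non-zero singular vector); (5) the stabiliser of any non-degenerate 4-space (its orthogonal complement is then a non-degenerate 4-space of the opposite type); (6) for q even, the stabiliser of the 1-space spanned by any non-singular vector v (Q(v) ≠ 0); (7) for q odd, the normaliser of any degree-2 subfield K of the matrix algebra whose elements are self-adjoint for the polar form of Q (Q is then the trace of a quadratic form over K); (8) every subfield group for a subfield F₀ of odd prime index r in F whose F₀-structure carries a non-zero scalar multiple of Q. -/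
theorem result {F : Type*} [Field F] [Fintype F] (Q : (Fin 8 → F) → F) (hQ : Cfsg.Geo.IsNondegenerateQuadraticForm Q) (hminus : ¬ Cfsg.Geo.IsPlusTypeOn Q ⊤) :
    (∀ W : Submodule F (Fin 8 → F), W ≠ ⊥ → Cfsg.Geo.IsTotallySingularQuad Q W → Cfsg.Geo.IsMaximalIn (Cfsg.Geo.omegaGL Q) (Cfsg.Geo.subspaceStabilizer W ⊓ Cfsg.Geo.omegaGL Q)) ∧
    (Odd (Fintype.card F) → ∀ W : Submodule F (Fin 8 → F), W ≠ ⊥ → W ≠ ⊤ → Odd (Module.finrank F W) → Cfsg.Geo.IsNondegenerateOn (QuadraticMap.polar Q) W → Cfsg.Geo.IsMaximalIn (Cfsg.Geo.omegaGL Q) (Cfsg.Geo.subspaceStabilizer W ⊓ Cfsg.Geo.omegaGL Q)) ∧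
    (∀ W : Submodule F (Fin 8 → F), Module.finrank F W = 2 → Cfsg.Geo.IsNondegenerateOn (QuadraticMap.polar Q) W → ¬ Cfsg.Geo.IsPlusTypeOn Q W → Cfsg.Geo.IsMaximalIn (Cfsg.Geo.omegaGL Q) (Cfsg.Geo.subspaceStabilizer W ⊓ Cfsg.Geo.omegaGL Q)) ∧
    (4 ≤ Fintype.card F → ∀ W : Submodule F (Fin 8 → F), Module.finrank F W = 2 → Cfsg.Geo.IsNondegenerateOn (QuadraticMap.polar Q) W → Cfsg.Geo.IsPlusTypeOn Q W → Cfsg.Geo.IsMaximalIn (Cfsg.Geo.omegaGL Q) (Cfsg.Geo.subspaceStabilizer W ⊓ Cfsg.Geo.omegaGL Q)) ∧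
    (∀ W : Submodule F (Fin 8 → F), Module.finrank F W = 4 → Cfsg.Geo.IsNondegenerateOn (QuadraticMap.polar Q) W → Cfsg.Geo.IsMaximalIn (Cfsg.Geo.omegaGL Q) (Cfsg.Geo.subspaceStabilizer W ⊓ Cfsg.Geo.omegaGL Q)) ∧
    (¬ Odd (Fintype.card F) → ∀ v : (Fin 8 → F), Q v ≠ 0 → Cfsg.Geo.IsMaximalIn (Cfsg.Geo.omegaGL Q) (Cfsg.Geo.subspaceStabilizer (Submodule.span F {v}) ⊓ Cfsg.Geo.omegaGL Q)) ∧
    (Odd (Fintype.card F) → ∀ K : Subalgebra F (Matrix (Fin 8) (Fin 8) F), Cfsg.Geo.IsFieldSubalgebra 2 K → Cfsg.Geo.IsSelfAdjointFor (QuadraticMap.polar Q) K → Cfsg.Geo.IsMaximalIn (Cfsg.Geo.omegaGL Q) (Cfsg.Geo.subalgebraNormalizer K ⊓ Cfsg.Geo.omegaGL Q)) ∧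
    (∀ (F₀ : Subfield F) (r : ℕ) (P : Matrix.GeneralLinearGroup (Fin 8) F) (ζ : F), r.Prime → Odd r → Fintype.card F = Nat.card F₀ ^ r → ζ ≠ 0 → Cfsg.Geo.IsQuadFormRationalStructure (fun v : Fin 8 → F => ζ * Q v) F₀ P → Cfsg.Geo.IsMaximalIn (Cfsg.Geo.omegaGL Q) (Cfsg.Geo.subfieldSubgroup F₀ P ⊓ Cfsg.Geo.omegaGL Q)) := by
  obtain ⟨Q, rfl, hQ'⟩ := H60.exists_quadraticForm hQ
  have hn : Module.finrank F (Fin 8 → F) = 8 := by simp
  have nd : ∀ W : Submodule F (Fin 8 → F), W ≠ ⊥ → W ≠ ⊤ → Module.finrank F W ≠ 4 →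
      Module.finrank F W ≠ 6 → ¬ H60.SmallHyp Q W →
      Cfsg.Geo.IsNondegenerateOn (QuadraticMap.polar Q) W → Cfsg.Geo.IsMaximalIn (Cfsg.Geo.omegaGL Q)
        (Cfsg.Geo.subspaceStabilizer W ⊓ Cfsg.Geo.omegaGL Q) := fun W h0 h1 h4 h6 hex hW => by
    apply H60.isMaximalIn_GL
    rw [H60.comap_subspaceStabilizer]
    have hd := H56.finrank_perp hQ' W
    exact H91.nondeg_maximal_ne hQ' (H60.nondeg_of_on hW) h0 h1 hex
      (fun h => by have := h.2.1; omega) (by omega) (by omega)
  refine ⟨fun W hW0 hW => ?_, fun hodd W h0 h1 ⟨k, hk⟩ hW => ?_, fun W h2 hW hp => ?_,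
    fun h4 W h2 hW hp => ?_, fun W h4 hW => ?_, fun _ v hv => ?_, fun hodd K hK hsa => ?_,
    fun F₀ r P ζ hr _ hc hζ hP => ?_⟩
  · apply H60.isMaximalIn_GL
    rw [H60.comap_subspaceStabilizer]
    exact H60.parabolic_maximal hQ' (by omega) hW0 hW
      (Or.inr fun U hU h => hminus ⟨U, le_top, hU, by simpa using h⟩)
  · exact nd W h0 h1 (by omega) (by omega) (fun h => by have := h.2.1; omega) hW
  · exact nd W (by rintro rfl; simp at h2) (by rintro rfl; simp at h2) (by omega) (by omega)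
      (fun h => hp h.isPlusTypeOn) hW
  · exact nd W (by rintro rfl; simp at h2) (by rintro rfl; simp at h2) (by omega) (by omega)
      (fun h => by have := h.1; rw [Nat.card_eq_fintype_card] at this; omega) hW
  · apply H60.isMaximalIn_GL
    rw [H60.comap_subspaceStabilizer]
    exact H91.nondeg_four_eight hQ' hn (fun U hU h => hminus ⟨U, le_top, hU, by simp [h]⟩)
      (H60.nondeg_of_on hW) h4
  · apply H60.isMaximalIn_GL
    rw [H60.comap_subspaceStabilizer]
    exact H60.point_maximal hQ' (by omega) hv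
  · exact H91.isMaximalIn_o_field hQ' (H58.two_ne_zero_of_odd_card hodd) Nat.prime_two (by simp) hK hsa
  · exact H60.subfield_maximal_GL hQ' (by simp) hr hc hζ hP

end Cfsg.Agent.S5825
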