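import Cfsg.Statements.S5847
import Cfsg.Agent.H19.ORowRed

set_option autoImplicit false
open Cfsg

namespace Cfsg.Agent.S5847

/-- Every maximal subgroup of Ω_10^+(q) is of one of the listed geometric types or lies in the residual class. Let F be a finite field with q elements (characteristic p), Q a non-degenerate quadratic form on F^10 of plus type (Witt index 5: some totally singular 5-space), Ω the commutator subgroup of its isometry group, and H a maximal subgroup of Ω (inside GL_10(F)). Then H is the intersection with Ω of one of: the stabiliser of a non-zero totally singular subspace of dimension ≠ 4; for q odd, the stabiliser of a non-degenerate subspace of odd dimension ≠ 5; the stabiliser of a non-degenerate 2-space of minus type; for q ≥ 4, the stabiliser of a non-degenerate 2-space of plus type; the stabiliser of a non-degenerate 4-space; for q even, the stabiliser of the span of a non-singular vector;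 for q = p prime with p ≡ 1 mod 4, the stabiliser of a decomposition into 10 pairwise orthogonal, pairwise isometric non-degenerate 1-spaces; for q ≥ 7, the stabiliser of a decomposition into 5 pairwise orthogonal, pairwise isometric non-degenerate 2-spaces; for q ≡ 1 mod 4, the stabiliser of a decomposition into 2 pairwise orthogonal, pairwise isometric non-degenerate 5-spaces; for q ≡ 3 mod 4, the stabiliser of a decomposition into two orthogonal, non-isometric non-degenerate 5-spaces; for q odd, the normaliser of a degree-2 subfield of the matrix algebra, self-adjoint for the polar form; a subfield group (|F| = |F₀|^r, r prime) whose F₀-structure carries a non-zero multiple of Q — or else H lies in the residual class of the orthogonal case (modulo scalars H is almost simple, with absolutely irreducible perfect socle preimage realisable over no proper subfield and fixing no non-degenerate unitary form). -/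
theorem result {F : Type*} [Field F] [Fintype F] (Q : (Fin 10 → F) → F) (hQ : Cfsg.Geo.IsNondegenerateQuadraticForm Q) (hplus : Cfsg.Geo.IsPlusTypeOn Q ⊤) (H : Subgroup (Matrix.GeneralLinearGroup (Fin 10) F)) (hH : Cfsg.Geo.IsMaximalIn (Cfsg.Geo.omegaGL Q) H) :
    (∃ W : Submodule F (Fin 10 → F), W ≠ ⊥ ∧ Cfsg.Geo.IsTotallySingularQuad Q W ∧ Module.finrank F W ≠ 4 ∧ H = Cfsg.Geo.subspaceStabilizer W ⊓ Cfsg.Geo.omegaGL Q) ∨
    (Odd (Fintype.card F) ∧ ∃ W : Submodule F (Fin 10 → F), W ≠ ⊥ ∧ W ≠ ⊤ ∧ Odd (Module.finrank F W) ∧ 2 * Module.finrank F W ≠ 10 ∧ Cfsg.Geo.IsNondegenerateOn (QuadraticMap.polar Q) W ∧ H = Cfsg.Geo.subspaceStabilizer W ⊓ Cfsg.Geo.omegaGL Q) ∨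
    (∃ W : Submodule F (Fin 10 → F), Module.finrank F W = 2 ∧ Cfsg.Geo.IsNondegenerateOn (QuadraticMap.polar Q) W ∧ ¬ Cfsg.Geo.IsPlusTypeOn Q W ∧ H = Cfsg.Geo.subspaceStabilizer W ⊓ Cfsg.Geo.omegaGL Q) ∨
    (4 ≤ Fintype.card F ∧ ∃ W : Submodule F (Fin 10 → F), Module.finrank F W = 2 ∧ Cfsg.Geo.IsNondegenerateOn (QuadraticMap.polar Q) W ∧ Cfsg.Geo.IsPlusTypeOn Q W ∧ H = Cfsg.Geo.subspaceStabilizer W ⊓ Cfsg.Geo.omegaGL Q) ∨
    (∃ W : Submodule F (Fin 10 → F), Module.finrank F W = 4 ∧ Cfsg.Geo.IsNondegenerateOn (QuadraticMap.polar Q) W ∧ H = Cfsg.Geo.subspaceStabilizer W ⊓ Cfsg.Geo.omegaGL Q) ∨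
    (¬ Odd (Fintype.card F) ∧ ∃ v : (Fin 10 → F), Q v ≠ 0 ∧ H = Cfsg.Geo.subspaceStabilizer (Submodule.span F {v}) ⊓ Cfsg.Geo.omegaGL Q) ∨
    ((∃ p : ℕ, p.Prime ∧ Fintype.card F = p ∧ (p % 4 = 1)) ∧ ∃ D : Fin 10 → Submodule F (Fin 10 → F), Cfsg.Geo.IsOrthogonalMDecomposition Q 1 D ∧ H = Cfsg.Geo.decompositionStabilizer D ⊓ Cfsg.Geo.omegaGL Q) ∨
    (7 ≤ Fintype.card F ∧ ∃ D : Fin 5 → Submodule F (Fin 10 → F), Cfsg.Geo.IsOrthogonalMDecomposition Q 2 D ∧ H = Cfsg.Geo.decompositionStabilizer D ⊓ Cfsg.Geo.omegaGL Q) ∨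
    (Fintype.card F % 4 = 1 ∧ ∃ D : Fin 2 → Submodule F (Fin 10 → F), Cfsg.Geo.IsOrthogonalMDecomposition Q 5 D ∧ H = Cfsg.Geo.decompositionStabilizer D ⊓ Cfsg.Geo.omegaGL Q) ∨
    (Fintype.card F % 4 = 3 ∧ ∃ D : Fin 2 → Submodule F (Fin 10 → F), Cfsg.Geo.IsNondegenerateMDecomposition (QuadraticMap.polar Q) 5 D ∧ ¬ Cfsg.Geo.AreIsometricFor Q (D 0) (D 1) ∧ H = Cfsg.Geo.decompositionStabilizer D ⊓ Cfsg.Geo.omegaGL Q) ∨
    (Odd (Fintype.card F) ∧ ∃ K : Subalgebra F (Matrix (Fin 10) (Fin 10) F), Cfsg.Geo.IsFieldSubalgebra 2 K ∧ Cfsg.Geo.IsSelfAdjointFor (QuadraticMap.polar Q) K ∧ H = Cfsg.Geo.subalgebraNormalizer K ⊓ Cfsg.Geo.omegaGL Q) ∨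
    (∃ (F₀ : Subfield F) (r : ℕ) (P : Matrix.GeneralLinearGroup (Fin 10) F) (ζ : F), r.Prime ∧ Fintype.card F = Nat.card F₀ ^ r ∧ ζ ≠ 0 ∧ Cfsg.Geo.IsQuadFormRationalStructure (fun v : Fin 10 → F => ζ * Q v) F₀ P ∧ H = Cfsg.Geo.subfieldSubgroup F₀ P ⊓ Cfsg.Geo.omegaGL Q) ∨
    Cfsg.Geo.InOrthogonalResidualClass H := by
  obtain ⟨Q, rfl, hQ'⟩ := H60.exists_quadraticForm hQ
  have hc : Fintype.card (Fin 10) = 10 := Fintype.card_fin _
  have he : Even (Fintype.card (Fin 10)) := by rw [hc]; decide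
  rcases H19.orth_reduce hQ' (by omega) (by omega) hH (by omega) with ⟨M, hM, hH⟩ | h
  swap
  · exact .inr (.inr (.inr (.inr (.inr (.inr (.inr (.inr (.inr (.inr (.inr (.inr h)))))))))))
  rcases hM with ⟨W, a1, a2, a3, rfl⟩ | ⟨W, a1, a2, a3, a4, a5, -, a6, rfl⟩ | ⟨a1, v, a2, rfl⟩ |
    ⟨t, k, D, a1, a2, a3, a4, a5, a6, a7, a8, b1, b2, b3, rfl⟩ |
    ⟨k, D, a1, a2, a3, a4, a5, a6, rfl⟩ | ⟨k, D, a1, a2, a3, a4, a5, rfl⟩ |
    ⟨r, K, a1, a2, a3, a4, a5, a6, a7, rfl⟩ | ⟨K, -, a1, a2, a3, a4, a5, rfl⟩ |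
    ⟨a1, a2, a3, e, P, f₁, f₂, a4, a5, a6, a7, rfl⟩ | ⟨a1, a2, e, P, f₁, f₂, a3, a4, a5, a6, rfl⟩ |
    ⟨F₀, r, P, ζ, a1, a2, a3, a4, a5, rfl⟩ | ⟨-, -, e, -⟩
  · exact .inl ⟨W, a1, a2, fun h => a3 ⟨hplus, by omega⟩, hH⟩
  · have h1 := a6 he
    have h2 := (Submodule.one_le_finrank_iff (R := F)).2 a1
    rcases Nat.even_or_odd' (Module.finrank F W) with ⟨m, hm | hm⟩
    swap
    · exact .inr (.inl ⟨a4 ⟨m, hm⟩, W, a1, a2, ⟨m, hm⟩, by
        rcases h1 with h | ⟨-, ⟨m', h⟩, -⟩ <;> omega, a3, hH⟩)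
    by_cases h3 : Module.finrank F W = 2
    · by_cases h4 : Cfsg.Geo.IsPlusTypeOn Q W
      · exact .inr (.inr (.inr (.inl ⟨by_contra fun h => a5 ⟨by omega, h3, h4⟩, W, h3, a3, h4, hH⟩)))
      · exact .inr (.inr (.inl ⟨W, h3, a3, h4, hH⟩))
    · exact .inr (.inr (.inr (.inr (.inl ⟨W, by omega, a3, hH⟩))))
  · exact .inr (.inr (.inr (.inr (.inr (.inl ⟨a1, v, a2, hH⟩)))))
  · have h1 : k < 7 := by nlinarith
    obtain ⟨rfl, rfl⟩ | ⟨rfl, rfl⟩ | ⟨rfl, rfl⟩ :
        k = 1 ∧ t = 10 ∨ k = 2 ∧ t = 5 ∨ k = 5 ∧ t = 2 := by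
      interval_cases k <;> omega
    · have h2 := (b3 odd_one 5 rfl).1 hplus
      obtain ⟨m, hm⟩ := a5 odd_one
      exact .inr (.inr (.inr (.inr (.inr (.inr (.inl ⟨⟨_, a4 rfl, rfl, by_contra fun h => h2 ⟨by omega, by decide⟩⟩, D, a1, hH⟩))))))
    · exact .inr (.inr (.inr (.inr (.inr (.inr (.inr (.inl ⟨((a6 rfl).resolve_right fun h => h.1 0 ((b2 even_two (by decide) 0).1 hplus)).2, D, a1, hH⟩)))))))
    · have h2 := (b3 (by decide) 1 rfl).1 hplus
      obtain ⟨m, hm⟩ := a5 (by decide)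
      exact .inr (.inr (.inr (.inr (.inr (.inr (.inr (.inr (.inl ⟨by_contra fun h => h2 ⟨by omega, odd_one⟩, D, a1, hH⟩))))))))
  · obtain rfl : k = 5 := by omega
    exact .inr (.inr (.inr (.inr (.inr (.inr (.inr (.inr (.inr (.inl ⟨a6.1 hplus, D, a4, a5, hH⟩)))))))))
  · obtain ⟨m, hm⟩ := a1
    omega
  · have h1 := Nat.le_of_dvd (by omega) a2
    rw [hc] at h1 a2 a3 a4 a5
    obtain rfl : r = 2 := by
      interval_cases r <;> simp_all (decide := true)
    · exact .inr (.inr (.inr (.inr (.inr (.inr (.inr (.inr (.inr (.inr (.inl ⟨by_contra fun h => absurd (a4 h) (by decide), K, a6, a7, hH⟩))))))))))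
  · have := a1 hplus
    omega
  · have := Fintype.card_congr e
    simp at this
  · have := Fintype.card_congr e
    simp at this
  · exact .inr (.inr (.inr (.inr (.inr (.inr (.inr (.inr (.inr (.inr (.inr (.inl ⟨F₀, r, P, ζ, a1, a3, a4, a5, hH⟩)))))))))))
  · have := Fintype.card_congr e
    simp at this

end Cfsg.Agent.S5847
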