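import Cfsg.Statements.S5919
import Cfsg.Agent.H40.E8GHub
import Cfsg.Agent.H40.E8GGrp
import Cfsg.Agent.H40.E8GSpA
import Cfsg.Agent.H72.E8GTwZ
import Cfsg.Agent.H81.E8GU
import Cfsg.Agent.H87.E8Part
import Cfsg.Agent.H87.E8Sz
import Cfsg.Agent.H72.E8GO8
import Cfsg.Agent.H20.E8GE
import Cfsg.Agent.H29.E8L4
import Cfsg.Agent.H29.E8SpC
import Cfsg.Agent.H55.E8GLin
import Cfsg.Agent.H73.E8Hk
import Cfsg.Agent.H99.E8GInd
import Cfsg.Agent.H43.E8GDim

set_option autoImplicit false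
open Cfsg

namespace Cfsg.Agent.S5919

/-- Let G be the Chevalley group of type E₈ over the field with three elements (generated by its root elements in the 248-dimensional adjoint representation; it is the simple group E₈(3)), and let H be a subgroup of G whose generalized Fitting subgroup F*(H) is isomorphic to one of: the Suzuki group Sz(8), the orthogonal group Ω⁺₈(2) (commutator subgroup of the isometry group of the hyperbolic quadratic form in dimension 8 over the field with two elements), PSL₂(13), or the symplectic group Sp₆(2). Then H is not a maximal subgroup of G. Here F₈ and F₁₃ denote fields with 8 and 13 elements. -/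
theorem result
    {F₈ F₁₃ : Type*} [Field F₈] [Fintype F₈] (h8 : Fintype.card F₈ = 8) [Field F₁₃] [Fintype F₁₃] (h13 : Fintype.card F₁₃ = 13)
    (H : Subgroup ↥(Cfsg.Lie.chevE8.group (ZMod 3)))
    (hH : Nonempty (↥(Cfsg.generalizedFittingSubgroup ↥H) ≃* ↥(Cfsg.Lie.Sz F₈ 4)) ∨ Nonempty (↥(Cfsg.generalizedFittingSubgroup ↥H) ≃* Cfsg.Omega (ZMod 2) (Cfsg.quadFormPlus 4 (ZMod 2))) ∨
      Nonempty (↥(Cfsg.generalizedFittingSubgroup ↥H) ≃* Matrix.ProjectiveSpecialLinearGroup (Fin 2) F₁₃) ∨ Nonempty (↥(Cfsg.generalizedFittingSubgroup ↥H) ≃* Matrix.symplecticGroup (Fin 3) (ZMod 2))) :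
    ¬ IsCoatom H := by
  exact H40.E8G.main (H40.E8G.jobHub2 H72.E8G.jobTwZ H81.E8GU.jobU)
    (H87.E8Sz.jobSz H87.E8Part.jobPart H43.E8GD.jobDim2)
    (H72.E8O.jobO8 H20.E8G.jobE10 (H29.E8L.jobL4 H20.E8G.jobQ3 H43.E8GD.jobRat7))
    (H20.E8G.jobL13 (H20.E8G.jobM13 H55.E8GLin.jobLin H73.E8Hk.jobHk
      (H99.E8GInd.jobInd H55.E8GLin.jobLin H73.E8Hk.jobHk H73.E8Hk.jobSim)) H43.E8GD.jobDim2)
    H40.E8G.SpA.jobSpA H29.E8C.jobSpC h8 h13 H hH

end Cfsg.Agent.S5919
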