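import Cfsg.Statements.S5934
import Cfsg.Agent.H36.E7MKit
import Cfsg.Agent.H45.E7TFin
import Cfsg.Agent.H9.E7FD6
import Cfsg.Agent.H9.E7FA7
import Cfsg.Agent.H9.E7FU8
import Cfsg.Agent.H9.E7FA5
import Cfsg.Agent.H9.E7FU6
import Cfsg.Agent.H9.E7FD4
import Cfsg.Agent.H9.E7F3D4
import Cfsg.Agent.H9.E7FG2
import Cfsg.Agent.H9.E7FNT
import Cfsg.Agent.H9.E7FL2

set_option autoImplicit false
open Cfsg

namespace Cfsg.Agent.S5934

/-- The Chevalley group of type E₇ over the field with two elements (generated by its root elements in the adjoint representation; the simple group E₇(2)) has at least 19 conjugacy classes of maximal subgroups: there are 19 maximal subgroups, no two of which are conjugate. -/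
theorem result :
    ∃ M : Fin 19 → Subgroup ↥(Cfsg.Lie.chevE7.group (ZMod 2)), (∀ i, IsCoatom (M i)) ∧
      ∀ i j, (∃ g : ↥(Cfsg.Lie.chevE7.group (ZMod 2)), (M i).map (MulAut.conj g).toMonoidHom = M j) → i = j := by
  have k := H36.E7M.kit
  exact H36.E7M.fin2 (H9.E7T.DD6.tD6 k) (H45.E7TF.tE6 k) (H45.E7TF.t2E6 k) (H9.E7T.DA7.tA7 k)
    (H9.E7T.DU8.tU8 k) (H9.E7T.DA5.tA5 k) (H9.E7T.DU6.tU6 k) (H9.E7T.DD4.tD4 k)
    (H9.E7T.D3D4.t3D4 k) (H9.E7T.DG2.tG2 k) (H9.E7T.DNT.tNT k) H9.E7T.DL2.tL2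

end Cfsg.Agent.S5934
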