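import Cfsg.Statements.S5935
import Cfsg.Agent.H40.E7TFin
import Cfsg.Agent.H55.E7Rep
import Cfsg.Agent.H61.E7W
import Cfsg.Agent.H61.E7Mod
import Cfsg.Agent.H58.E7Lin
import Cfsg.Agent.H23.E7TLin
import Cfsg.Agent.H17.E7TM
import Cfsg.Agent.H57.E7TSum
import Cfsg.Agent.H72.E7TMO
import Cfsg.Agent.H52.E7CL4
import Cfsg.Agent.H96.E7TC
import Cfsg.Agent.H36.E7TCA
import Cfsg.Agent.H54.E7TCJ
import Cfsg.Agent.H3.E7TC
import Cfsg.Agent.H44.E7M27
import Cfsg.Agent.H48.E7TMU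
import Cfsg.Agent.H81.E7TU
import Cfsg.Agent.H54.E7TRep9
import Cfsg.Agent.H56.E7W9
import Cfsg.Agent.H44.E7MG8
import Cfsg.Agent.H45.E7G8

set_option autoImplicit false
open Cfsg

namespace Cfsg.Agent.S5935

/-- The Chevalley group of type E₇ over the field with two elements (generated by its root elements in the adjoint representation; the simple group E₇(2)) has no maximal subgroup H whose generalized Fitting subgroup F*(H) is isomorphic to any of: PSL₂(19), PSL₂(27), PSL₄(3), PSU₄(3), Ω₇(3) (commutator subgroup of the isometry group of a non-degenerate quadratic form in dimension 7 over the field with three elements), the Chevalley group G₂(3), the alternating group of degree 13, the Hall–Janko sporadic group J₂, or the Chevalley group G₂(8). Here F₁₉, F₂₇, F₉, F₈ denote fields with 19, 27, 9 and 8 elements (PSU₄(3) is realised over F₉). -/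
theorem result
    {F₁₉ F₂₇ F₉ F₈ : Type*} [Field F₁₉] [Fintype F₁₉] (h19 : Fintype.card F₁₉ = 19) [Field F₂₇] [Fintype F₂₇] (h27 : Fintype.card F₂₇ = 27)
    [Field F₉] [Fintype F₉] (h9 : Fintype.card F₉ = 9) [Field F₈] [Fintype F₈] (h8 : Fintype.card F₈ = 8) (H : Subgroup ↥(Cfsg.Lie.chevE7.group (ZMod 2))) (hH : IsCoatom H) :
    IsEmpty (↥(Cfsg.generalizedFittingSubgroup ↥H) ≃* Matrix.ProjectiveSpecialLinearGroup (Fin 2) F₁₉) ∧ IsEmpty (↥(Cfsg.generalizedFittingSubgroup ↥H) ≃* Matrix.ProjectiveSpecialLinearGroup (Fin 2) F₂₇) ∧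
    IsEmpty (↥(Cfsg.generalizedFittingSubgroup ↥H) ≃* Matrix.ProjectiveSpecialLinearGroup (Fin 4) (ZMod 3)) ∧ IsEmpty (↥(Cfsg.generalizedFittingSubgroup ↥H) ≃* Cfsg.PSU 4 F₉ 3) ∧
    IsEmpty (↥(Cfsg.generalizedFittingSubgroup ↥H) ≃* ↥(Cfsg.Omega (ZMod 3) (Cfsg.quadFormOdd 3 (ZMod 3)))) ∧ IsEmpty (↥(Cfsg.generalizedFittingSubgroup ↥H) ≃* ↥(Cfsg.Lie.chevG2.group (ZMod 3))) ∧
    IsEmpty (↥(Cfsg.generalizedFittingSubgroup ↥H) ≃* ↥(alternatingGroup (Fin 13))) ∧ ¬ Cfsg.Spor.IsoJ2 ↥(Cfsg.generalizedFittingSubgroup ↥H) ∧ IsEmpty (↥(Cfsg.generalizedFittingSubgroup ↥H) ≃* ↥(Cfsg.Lie.chevG2.group F₈)) := by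
  have hR := H55.E7S.jobRep H61.E7W.jobW
  have hC := H23.E7T.jobCong
  have hX := H23.E7T.jobSplit
  open H40.E7T H58.E7 H61.E7M in
  obtain ⟨h1, h2, h3, h4, h5⟩ := main hR (jobModU jobPart jobTri jobPar jobFrob jobScott)
    (H17.E7T.jobMA H57.E7T.jobSum hC) (H72.E7T.jobMO hX) (H17.E7T.jobMG3 H57.E7T.jobSum)
    H72.E7T.jobMJ H52.E7CL4.jobCL4 H96.E7TC.jobCO H96.E7TC.jobCG3 H36.E7CA.jobCA H54.E7T.jobCJ hH
  open H40.E7T H58.E7 H61.E7M in
  exact ⟨case19 hR (jobModU jobPart jobTri jobPar jobFrob jobScott) H3.E7T.jobC19 h19 hH,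
    case27 hR (H44.E7T.jobM27 H57.E7T.jobSum hC) H3.E7T.jobC27 h27 hH, h1,
    caseU4 hR (H48.E7T.jobMU H57.E7T.jobSum) H81.E7U.jobCU4 h9, h2, h3, h4, h5,
    caseG8 (H54.E7T.jobRep9 H61.E7W.jobW H56.E7W9.jobW9) (H44.E7T.jobMG8 hC hX) H45.G8.jobCG8 h8⟩

end Cfsg.Agent.S5935
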